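import Mathlib

/-!
Cardinality lemmas for subgroups of finite groups (helper15's shared library).
-/

set_option autoImplicit false

namespace Cfsg.Agent.Lib.H15

open scoped Pointwise

variable {G : Type*} [Group G]

@[to_additive add_card_mul_relIndex]
theorem card_mul_relIndex {H K : Subgroup G} (h : H ≤ K) :
    Nat.card H * H.relIndex K = Nat.card K := by
  have := Subgroup.relIndex_mul_relIndex ⊥ H K bot_le h
  rwa [Subgroup.relIndex_bot_left, Subgroup.relIndex_bot_left] at this

@[to_additive add_relIndex_pos_of_finite]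
theorem relIndex_pos_of_finite [Finite G] (H K : Subgroup G) : 0 < H.relIndex K := by
  unfold Subgroup.relIndex
  exact Nat.pos_of_ne_zero Subgroup.index_ne_zero_of_finite

theorem card_pos_of_finite [Finite G] (H : Subgroup G) : 0 < Nat.card H := Nat.card_pos

/-- `|H| |K| ≤ |H ∩ K| |⟨H, K⟩|`. -/
@[to_additive add_card_mul_card_le]
theorem card_mul_card_le [Finite G] (H K : Subgroup G) :
    Nat.card H * Nat.card K ≤ Nat.card (H ⊓ K : Subgroup G) * Nat.card (H ⊔ K : Subgroup G) := by
  have h1 : K.relIndex H ≤ K.relIndex (H ⊔ K) :=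
    Subgroup.relIndex_le_of_le_right le_sup_left (relIndex_pos_of_finite _ _).ne'
  have h2 : Nat.card (H ⊓ K : Subgroup G) * K.relIndex H = Nat.card H := by
    rw [← Subgroup.inf_relIndex_left]
    exact card_mul_relIndex inf_le_left
  have h3 : Nat.card K * K.relIndex (H ⊔ K) = Nat.card (H ⊔ K : Subgroup G) :=
    card_mul_relIndex le_sup_right
  calc Nat.card H * Nat.card K
      = Nat.card (H ⊓ K : Subgroup G) * K.relIndex H * Nat.card K := by rw [h2]
    _ ≤ Nat.card (H ⊓ K : Subgroup G) * K.relIndex (H ⊔ K) * Nat.card K := by gcongr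
    _ = Nat.card (H ⊓ K : Subgroup G) * (Nat.card K * K.relIndex (H ⊔ K)) := by ring
    _ = Nat.card (H ⊓ K : Subgroup G) * Nat.card (H ⊔ K : Subgroup G) := by rw [h3]

/-- If `|H| |K| = |H ∩ K| |⟨H, K⟩|` then `⟨H, K⟩ = HK` as sets. -/
theorem coe_sup_eq_mul_of_card_eq [Finite G] (H K : Subgroup G)
    (h : Nat.card H * Nat.card K = Nat.card (H ⊓ K : Subgroup G) * Nat.card (H ⊔ K : Subgroup G)) :
    ((H ⊔ K : Subgroup G) : Set G) = (H : Set G) * (K : Set G) := by
  have h2 : Nat.card (H ⊓ K : Subgroup G) * K.relIndex H = Nat.card H := by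
    rw [← Subgroup.inf_relIndex_left]
    exact card_mul_relIndex inf_le_left
  have h3 : Nat.card K * K.relIndex (H ⊔ K) = Nat.card (H ⊔ K : Subgroup G) :=
    card_mul_relIndex le_sup_right
  have heq : K.relIndex H = K.relIndex (H ⊔ K) := by
    have hpos1 : 0 < Nat.card (H ⊓ K : Subgroup G) := Nat.card_pos
    have hpos2 : 0 < Nat.card K := Nat.card_pos
    have : Nat.card (H ⊓ K : Subgroup G) * Nat.card K * K.relIndex H
        = Nat.card (H ⊓ K : Subgroup G) * Nat.card K * K.relIndex (H ⊔ K) := by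
      calc Nat.card (H ⊓ K : Subgroup G) * Nat.card K * K.relIndex H
          = (Nat.card (H ⊓ K : Subgroup G) * K.relIndex H) * Nat.card K := by ring
        _ = Nat.card H * Nat.card K := by rw [h2]
        _ = Nat.card (H ⊓ K : Subgroup G) * Nat.card (H ⊔ K : Subgroup G) := h
        _ = Nat.card (H ⊓ K : Subgroup G) * (Nat.card K * K.relIndex (H ⊔ K)) := by rw [h3]
        _ = Nat.card (H ⊓ K : Subgroup G) * Nat.card K * K.relIndex (H ⊔ K) := by ring
    exact Nat.eq_of_mul_eq_mul_left (Nat.mul_pos hpos1 hpos2) this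
  -- the embedding of coset spaces is a bijection
  have hinj := (Subgroup.quotientSubgroupOfEmbeddingOfLE K (le_sup_left : H ≤ H ⊔ K)).injective
  have hbij : Function.Bijective (Subgroup.quotientSubgroupOfEmbeddingOfLE K (le_sup_left : H ≤ H ⊔ K)) := by
    apply hinj.bijective_of_nat_card_le
    show K.relIndex (H ⊔ K) ≤ K.relIndex H
    exact heq.ge
  apply le_antisymm
  · intro x hx
    obtain ⟨q, hq⟩ := hbij.2 (QuotientGroup.mk (⟨x, hx⟩ : ↥(H ⊔ K)))
    obtain ⟨a, rfl⟩ := QuotientGroup.mk_surjective q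
    rw [Subgroup.quotientSubgroupOfEmbeddingOfLE_apply_mk, QuotientGroup.eq] at hq
    rw [Subgroup.mem_subgroupOf] at hq
    refine Set.mem_mul.mpr ⟨(a : G), a.2, (a : G)⁻¹ * x, ?_, by group⟩
    simpa using hq
  · rintro _ ⟨a, ha, b, hb, rfl⟩
    exact (H ⊔ K).mul_mem ((le_sup_left : H ≤ H ⊔ K) ha) ((le_sup_right : K ≤ H ⊔ K) hb)

end Cfsg.Agent.Lib.H15
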