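import Mathlib

/-!
Conjugates of subgroups, written `H.map (MulAut.conj g).toMonoidHom` as in the statements
(helper15's shared library).
-/

set_option autoImplicit false

namespace Cfsg.Agent.Lib.H15

variable {G : Type*} [Group G]

/-- Abbreviation for the conjugate `g H g⁻¹`, in the form used by the statements. -/
abbrev cj (g : G) (H : Subgroup G) : Subgroup G := H.map (MulAut.conj g).toMonoidHom

theorem mem_cj_iff {g x : G} {H : Subgroup G} : x ∈ cj g H ↔ g⁻¹ * x * g ∈ H := by
  constructor
  · rintro ⟨y, hy, rfl⟩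
    simpa [mul_assoc] using hy
  · intro h
    exact ⟨g⁻¹ * x * g, h, by simp [mul_assoc]⟩

theorem conj_mem_cj {g x : G} {H : Subgroup G} (hx : x ∈ H) : g * x * g⁻¹ ∈ cj g H :=
  ⟨x, hx, by simp⟩

theorem cj_cj (H : Subgroup G) (g h : G) : cj g (cj h H) = cj (g * h) H := by
  unfold cj
  rw [Subgroup.map_map]
  congr 1
  ext x
  simp [mul_assoc]

theorem cj_one (H : Subgroup G) : cj 1 H = H := by
  ext x
  rw [mem_cj_iff]
  simp

theorem cj_inv_cj (H : Subgroup G) (g : G) : cj g⁻¹ (cj g H) = H := by
  rw [cj_cj, inv_mul_cancel, cj_one]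

theorem cj_cj_inv (H : Subgroup G) (g : G) : cj g (cj g⁻¹ H) = H := by
  rw [cj_cj, mul_inv_cancel, cj_one]

theorem cj_mono {H K : Subgroup G} (g : G) (h : H ≤ K) : cj g H ≤ cj g K := Subgroup.map_mono h

theorem cj_le_iff {H K : Subgroup G} (g : G) : cj g H ≤ K ↔ H ≤ cj g⁻¹ K := by
  constructor
  · intro h
    have := cj_mono g⁻¹ h
    rwa [cj_inv_cj] at this
  · intro h
    have := cj_mono g h
    rwa [cj_cj_inv] at this

theorem card_cj (g : G) (H : Subgroup G) : Nat.card (cj g H) = Nat.card H :=
  Subgroup.card_map_of_injective (MulAut.conj g).injective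

theorem cj_eq_self_of_mem {g : G} {H : Subgroup G} (hg : g ∈ H) : cj g H = H := by
  ext x
  rw [mem_cj_iff]
  constructor
  · intro h
    have := H.mul_mem (H.mul_mem hg h) (H.inv_mem hg)
    simpa [mul_assoc] using this
  · intro h
    exact H.mul_mem (H.mul_mem (H.inv_mem hg) h) hg

theorem mem_normalizer_iff_cj_eq {g : G} {H : Subgroup G} :
    g ∈ Subgroup.normalizer (H : Set G) ↔ cj g H = H := by
  rw [Subgroup.mem_normalizer_iff_map_conj_eq]
  rfl

theorem cj_le_of_mem_normalizer {g : G} {H : Subgroup G}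
    (hg : g ∈ Subgroup.normalizer (H : Set G)) : cj g H = H :=
  mem_normalizer_iff_cj_eq.mp hg

theorem eq_of_le_of_card_le' [Finite G] {H K : Subgroup G} (h : H ≤ K)
    (hc : Nat.card K ≤ Nat.card H) : H = K := by
  have hbij : Function.Bijective (Subgroup.inclusion h) :=
    (Subgroup.inclusion_injective h).bijective_of_nat_card_le hc
  apply le_antisymm h
  intro x hx
  obtain ⟨y, hy⟩ := hbij.2 ⟨x, hx⟩
  have : (y : G) = x := congrArg Subtype.val hy
  rw [← this]
  exact y.2

/-- In a finite group, `g H g⁻¹ ≤ H` implies equality. -/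
theorem cj_eq_of_cj_le [Finite G] {g : G} {H : Subgroup G} (h : cj g H ≤ H) : cj g H = H :=
  eq_of_le_of_card_le' h (card_cj g H).ge

theorem mem_normalizer_of_cj_le [Finite G] {g : G} {H : Subgroup G} (h : cj g H ≤ H) :
    g ∈ Subgroup.normalizer (H : Set G) :=
  mem_normalizer_iff_cj_eq.mpr (cj_eq_of_cj_le h)

/-- Centralizers commute with isomorphisms. -/
theorem centralizer_map_equiv {G' : Type*} [Group G'] (e : G ≃* G') (H : Subgroup G) :
    Subgroup.centralizer ((H.map e.toMonoidHom : Subgroup G') : Set G')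
      = (Subgroup.centralizer (H : Set G)).map e.toMonoidHom := by
  ext x
  constructor
  · intro hx
    refine ⟨e.symm x, ?_, by simp⟩
    show e.symm x ∈ Subgroup.centralizer (H : Set G)
    rw [Subgroup.mem_centralizer_iff]
    intro y hy
    have := (Subgroup.mem_centralizer_iff.mp hx) (e y) ⟨y, hy, rfl⟩
    apply e.injective
    simpa using this
  · rintro ⟨z, hz, rfl⟩
    rw [Subgroup.mem_centralizer_iff]
    rintro _ ⟨y, hy, rfl⟩
    have := (Subgroup.mem_centralizer_iff.mp hz) y hy
    simp only [MulEquiv.coe_toMonoidHom]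
    rw [← map_mul, ← map_mul, this]

theorem centralizer_cj (g : G) (H : Subgroup G) :
    Subgroup.centralizer ((cj g H : Subgroup G) : Set G) = cj g (Subgroup.centralizer (H : Set G)) :=
  centralizer_map_equiv (MulAut.conj g) H

/-- Normalizers commute with conjugation. -/
theorem normalizer_cj (g : G) (H : Subgroup G) :
    Subgroup.normalizer ((cj g H : Subgroup G) : Set G) = cj g (Subgroup.normalizer (H : Set G)) := by
  ext x
  rw [mem_cj_iff, mem_normalizer_iff_cj_eq, mem_normalizer_iff_cj_eq, cj_cj]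
  constructor
  · intro h
    have := congrArg (cj g⁻¹) h
    rw [cj_cj, cj_inv_cj] at this
    rw [← this]
    congr 1
    group
  · intro h
    have := congrArg (cj g) h
    rw [cj_cj] at this
    rw [← this]
    congr 1
    group

end Cfsg.Agent.Lib.H15
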