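import Mathlib
import Cfsg.Prelude.Def_Characters

/-!
# S4467 (Dixon / Winter): definitions and arithmetic (helper15)

`Good p n`: `n` is divisible by a prime power `q` with `q ≡ -1, 0, 1 (mod p)`.
`Faithful χ`: `χ g = χ 1 → g = 1`.
`Ctx p G χ n`: the data of a minimal counterexample.
-/

set_option autoImplicit false

namespace Cfsg.Agent.Lib.H15.DX

universe u

/-- `n` has a prime power divisor congruent to `-1`, `0` or `1` modulo `p`. -/
def Good (p n : ℕ) : Prop :=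
  ∃ q : ℕ, IsPrimePow q ∧ q ∣ n ∧
    ((q : ℤ) ≡ -1 [ZMOD p] ∨ (q : ℤ) ≡ 0 [ZMOD p] ∨ (q : ℤ) ≡ 1 [ZMOD p])

/-- A complex function on a group is faithful when only the identity takes the value at `1`. -/
def Faithful {G : Type*} [Group G] (χ : G → ℂ) : Prop := ∀ g : G, χ g = χ 1 → g = 1

theorem Good.of_dvd {p m n : ℕ} (h : Good p m) (hmn : m ∣ n) : Good p n := by
  obtain ⟨q, hq, hqm, hc⟩ := h
  exact ⟨q, hq, hqm.trans hmn, hc⟩

theorem good_of_prime_dvd {p n : ℕ} (hp : p.Prime) (h : p ∣ n) : Good p n := by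
  refine ⟨p, hp.isPrimePow, h, Or.inr (Or.inl ?_)⟩
  exact (Int.modEq_zero_iff_dvd).mpr (dvd_refl _)

theorem good_of_pow {p n r j : ℕ} (hr : r.Prime) (hj : 1 ≤ j) (hdvd : r ^ j ∣ n)
    (h : p ∣ r ^ j - 1 ∨ p ∣ r ^ j + 1) : Good p n := by
  have hpos : 1 ≤ r ^ j := Nat.one_le_pow _ _ hr.pos
  refine ⟨r ^ j, ⟨r, j, hr.prime, by omega, rfl⟩, hdvd, ?_⟩
  rcases h with h | h
  · right; right
    have h1 : ((p : ℕ) : ℤ) ∣ ((r ^ j - 1 : ℕ) : ℤ) := Int.natCast_dvd_natCast.mpr h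
    rw [Nat.cast_sub hpos] at h1
    have h2 : (1 : ℤ) ≡ ((r ^ j : ℕ) : ℤ) [ZMOD p] := (Int.modEq_iff_dvd).mpr (by simpa using h1)
    exact h2.symm
  · left
    have h1 : ((p : ℕ) : ℤ) ∣ ((r ^ j + 1 : ℕ) : ℤ) := Int.natCast_dvd_natCast.mpr h
    have h2 : (-1 : ℤ) ≡ ((r ^ j : ℕ) : ℤ) [ZMOD p] := by
      refine (Int.modEq_iff_dvd).mpr ?_
      have : ((r ^ j : ℕ) : ℤ) - (-1) = ((r ^ j + 1 : ℕ) : ℤ) := by push_cast; ring
      rw [this]; exact h1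
    exact h2.symm

/-- the data of a minimal counterexample to S4467 (for the prime `p`). -/
structure Ctx (p : ℕ) (G : Type u) [Group G] [Finite G] (χ : G → ℂ) (n : ℕ) : Prop where
  solv : Group.IsSolvable G
  irr : Cfsg.IsIrrCharacter G χ
  faith : Faithful χ
  deg : χ 1 = (n : ℂ)
  bad : ¬ Good p n
  ih : ∀ (H : Type u) [Group H] [Finite H], Nat.card H < Nat.card G → Group.IsSolvable H →
    ∀ ψ : H → ℂ, Cfsg.IsIrrCharacter H ψ → Faithful ψ → ∀ m : ℕ, ψ 1 = (m : ℂ) → ¬ Good p m →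
      ∀ Q : Sylow p H, (Q : Subgroup H).Normal
  nonnormal : ∃ P : Sylow p G, ¬ (P : Subgroup G).Normal

end Cfsg.Agent.Lib.H15.DX
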