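import Mathlib

/-!
# S4467 piece SUBDIRECT (helper15)
If `⨅ K i = ⊥` and every quotient `M ⧸ K i` has normal Sylow `p`-subgroups then so has `M`.
-/

set_option autoImplicit false

namespace Cfsg.Agent.Lib.H15.DX

theorem sylow_normal_of_iInf_eq_bot {M : Type*} [Group M] [Finite M] (p : ℕ) [Fact p.Prime]
    {ι : Type*} (K : ι → Subgroup M) [∀ i, (K i).Normal] (hK : ⨅ i, K i = ⊥)
    (h : ∀ i, ∀ Q : Sylow p (M ⧸ K i), (Q : Subgroup (M ⧸ K i)).Normal) (S : Sylow p M) :
    (S : Subgroup M).Normal := by
  classical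
  -- the candidate normal p-subgroup
  set L : Subgroup M := ⨅ i, ⨅ Q : Sylow p (M ⧸ K i),
    (Q : Subgroup (M ⧸ K i)).comap (QuotientGroup.mk' (K i)) with hL
  have hLn : L.Normal := by
    rw [hL]
    refine Subgroup.normal_iInf_normal fun i => Subgroup.normal_iInf_normal fun Q => ?_
    haveI := h i Q
    exact Subgroup.Normal.comap inferInstance _
  set k : ℕ := (Nat.card M).factorization p with hk
  have hLp : IsPGroup p L := by
    intro g
    refine ⟨k, ?_⟩
    apply Subtype.ext
    rw [Subgroup.coe_pow, Subgroup.coe_one]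
    have hmem : ((g : M) ^ p ^ k) ∈ ⨅ i, K i := by
      rw [Subgroup.mem_iInf]
      intro i
      obtain ⟨Q⟩ : Nonempty (Sylow p (M ⧸ K i)) := inferInstance
      have hgQ : (QuotientGroup.mk' (K i)) (g : M) ∈ (Q : Subgroup (M ⧸ K i)) := by
        have h1 : (g : M) ∈ ⨅ i, ⨅ Q : Sylow p (M ⧸ K i),
            (Q : Subgroup (M ⧸ K i)).comap (QuotientGroup.mk' (K i)) := g.2
        rw [Subgroup.mem_iInf] at h1
        have h2 := h1 i
        rw [Subgroup.mem_iInf] at h2
        exact h2 Q
      -- order of Q divides p^k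
      have hQcard : Nat.card (Q : Subgroup (M ⧸ K i)) ∣ p ^ k := by
        obtain ⟨a, ha⟩ := Q.2.exists_card_eq
        rw [ha]
        apply Nat.pow_dvd_pow
        have hdvd : p ^ a ∣ Nat.card M := by
          rw [← ha]
          have h1 : Nat.card (Q : Subgroup (M ⧸ K i)) ∣ Nat.card (M ⧸ K i) :=
            Subgroup.card_subgroup_dvd_card _
          have h2 : Nat.card (M ⧸ K i) ∣ Nat.card M := by
            rw [← Subgroup.index_eq_card]
            exact Subgroup.index_dvd_card _
          exact h1.trans h2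
        have hpos : Nat.card M ≠ 0 := Nat.card_pos.ne'
        exact (Nat.Prime.pow_dvd_iff_le_factorization (Fact.out) hpos).mp hdvd
      have hpow : (⟨_, hgQ⟩ : (Q : Subgroup (M ⧸ K i))) ^ p ^ k = 1 := by
        obtain ⟨c, hc⟩ := hQcard
        rw [hc, pow_mul, pow_card_eq_one', one_pow]
      have h3 : ((QuotientGroup.mk' (K i)) (g : M)) ^ p ^ k = 1 := by
        have := congrArg (Subtype.val) hpow
        simpa using this
      rw [← map_pow] at h3
      exact (QuotientGroup.eq_one_iff _).mp h3
    rw [hK] at hmem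
    exact (Subgroup.mem_bot.mp hmem)
  have hSL : (S : Subgroup M) ≤ L := by
    intro s hs
    rw [hL, Subgroup.mem_iInf]
    intro i
    rw [Subgroup.mem_iInf]
    intro Q
    rw [Subgroup.mem_comap]
    -- the image of S is a p-subgroup, inside some Sylow, which equals Q
    have hmap : IsPGroup p ((S : Subgroup M).map (QuotientGroup.mk' (K i))) := S.2.map _
    obtain ⟨Q', hQ'⟩ := hmap.exists_le_sylow
    haveI := h i Q
    haveI : Subsingleton (Sylow p (M ⧸ K i)) := by
      haveI := Sylow.unique_of_normal Q (h i Q)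
      infer_instance
    have : Q' = Q := Subsingleton.elim _ _
    rw [← this]
    exact hQ' (Subgroup.mem_map_of_mem _ hs)
  have hEq : L = (S : Subgroup M) := S.is_maximal' hLp hSL
  rw [← hEq]
  exact hLn

end Cfsg.Agent.Lib.H15.DX
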