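import Cfsg.Agent.Lib.H1.FG19.Defs

/-!
# S4404 piece BAS3 (helper15): coprime action, `A = C_A(X) × [A, X]`
-/

set_option autoImplicit false

namespace Cfsg.Agent.Lib.H15.FG19

open Cfsg.Agent.Lib.H1.FG19

variable {A : Type*} [CommGroup A]

/-- the norm map of `X` of order dividing `n` -/
def nrm (X : MulAut A) (n : ℕ) (a : A) : A := ∏ i ∈ Finset.range n, (X ^ i) a

theorem nrm_mul (X : MulAut A) (n : ℕ) (a b : A) : nrm X n (a * b) = nrm X n a * nrm X n b := by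
  unfold nrm
  rw [← Finset.prod_mul_distrib]
  exact Finset.prod_congr rfl (fun i _ => map_mul _ a b)

theorem nrm_inv (X : MulAut A) (n : ℕ) (a : A) : nrm X n a⁻¹ = (nrm X n a)⁻¹ := by
  unfold nrm
  rw [← Finset.prod_inv_distrib]
  exact Finset.prod_congr rfl (fun i _ => map_inv _ a)

theorem nrm_apply (X : MulAut A) {n : ℕ} (hX : X ^ n = 1) (a : A) : nrm X n (X a) = nrm X n a := by
  unfold nrm
  have h1 : ∀ i : ℕ, (X ^ i) (X a) = (X ^ (i + 1)) a := by
    intro i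
    rw [pow_succ]; rfl
  have h2 : ∏ i ∈ Finset.range n, (X ^ i) (X a) = ∏ i ∈ Finset.range n, (X ^ (i + 1)) a :=
    Finset.prod_congr rfl (fun i _ => h1 i)
  rw [h2]
  have h3 := Finset.prod_range_succ' (fun i => (X ^ i) a) n
  have h4 := Finset.prod_range_succ (fun i => (X ^ i) a) n
  rw [h4] at h3
  simp only [hX, pow_zero] at h3
  exact (mul_right_cancel h3).symm

theorem apply_nrm (X : MulAut A) {n : ℕ} (hX : X ^ n = 1) (a : A) : X (nrm X n a) = nrm X n a := by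
  have : X (nrm X n a) = nrm X n (X a) := by
    unfold nrm
    rw [map_prod]
    refine Finset.prod_congr rfl (fun i _ => ?_)
    change (X * X ^ i) a = (X ^ i * X) a
    rw [(Commute.self_pow X i).eq]
  rw [this, nrm_apply X hX]

theorem nrm_cm (X : MulAut A) {n : ℕ} (hX : X ^ n = 1) {a : A} (ha : a ∈ cm X) : nrm X n a = 1 := by
  obtain ⟨m, rfl⟩ := mem_cm.mp ha
  rw [nrm_mul, nrm_inv, nrm_apply X hX, mul_inv_cancel]

theorem pow_apply_of_mem_fx (X : MulAut A) {a : A} (ha : a ∈ fx X) (i : ℕ) : (X ^ i) a = a := by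
  induction i with
  | zero => rfl
  | succ i ih =>
    rw [pow_succ]
    change (X ^ i) (X a) = a
    rw [mem_fx.mp ha, ih]

theorem pow_odd_of_sq (h2 : ∀ a : A, a * a = 1) {n : ℕ} (hn : Odd n) (a : A) : a ^ n = a := by
  obtain ⟨k, rfl⟩ := hn
  rw [pow_succ, pow_mul, pow_two, h2, one_pow, one_mul]

theorem nrm_fx (h2 : ∀ a : A, a * a = 1) (X : MulAut A) {n : ℕ} (hn : Odd n) {a : A}
    (ha : a ∈ fx X) : nrm X n a = a := by
  unfold nrm
  rw [Finset.prod_congr rfl (fun i _ => pow_apply_of_mem_fx X ha i), Finset.prod_const,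
    Finset.card_range, pow_odd_of_sq h2 hn]

theorem pow_apply_mul_inv_mem_cm (X : MulAut A) (a : A) (i : ℕ) : (X ^ i) a * a⁻¹ ∈ cm X := by
  induction i with
  | zero => simp [(cm X).one_mem]
  | succ i ih =>
    have e : (X ^ (i + 1)) a * a⁻¹ = (X ((X ^ i) a) * ((X ^ i) a)⁻¹) * ((X ^ i) a * a⁻¹) := by
      have : (X ^ (i + 1)) a = X ((X ^ i) a) := by
        rw [pow_succ']; rfl
      rw [this]; group
    rw [e]
    exact (cm X).mul_mem (mem_cm.mpr ⟨_, rfl⟩) ih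

theorem mul_nrm_mem_cm (h2 : ∀ a : A, a * a = 1) (X : MulAut A) {n : ℕ} (hn : Odd n) (a : A) :
    a * nrm X n a ∈ cm X := by
  have h1 : nrm X n a = (∏ i ∈ Finset.range n, ((X ^ i) a * a⁻¹)) * a := by
    unfold nrm
    rw [Finset.prod_mul_distrib, Finset.prod_const, Finset.card_range, inv_pow, pow_odd_of_sq h2 hn,
      inv_mul_cancel_right]
  have h3 : a * nrm X n a = ∏ i ∈ Finset.range n, ((X ^ i) a * a⁻¹) := by
    rw [h1, mul_comm a, mul_assoc, h2, mul_one]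
  rw [h3]
  exact Subgroup.prod_mem _ (fun i _ => pow_apply_mul_inv_mem_cm X a i)

/-- BAS3 (M), first half. -/
theorem cm_inf_fx [Finite A] (h2 : ∀ a : A, a * a = 1) (X : MulAut A) {n : ℕ} (hn : Odd n)
    (hX : X ^ n = 1) : cm X ⊓ fx X = ⊥ := by
  rw [eq_bot_iff]
  rintro a ⟨h1, h3⟩
  rw [Subgroup.mem_bot, ← nrm_fx h2 X hn h3]
  exact nrm_cm X hX h1

/-- BAS3 (M), second half. -/
theorem cm_sup_fx [Finite A] (h2 : ∀ a : A, a * a = 1) (X : MulAut A) {n : ℕ} (hn : Odd n)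
    (hX : X ^ n = 1) : cm X ⊔ fx X = ⊤ := by
  rw [eq_top_iff]
  intro a _
  have h1 : a = (a * nrm X n a) * nrm X n a := by
    rw [mul_assoc, h2, mul_one]
  rw [h1]
  exact Subgroup.mul_mem_sup (mul_nrm_mem_cm h2 X hn a) (mem_fx.mpr (apply_nrm X hX a))

end Cfsg.Agent.Lib.H15.FG19
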