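import Cfsg.Agent.Lib.H1.FG19.Defs
import Cfsg.Agent.Lib.H15.FG19BAS3

/-!
# S4404 piece BAS4 (helper15): `|[A, X]| ≡ 1 mod q` for `X` of odd prime order `q`
-/

set_option autoImplicit false

namespace Cfsg.Agent.Lib.H15.FG19

open Cfsg.Agent.Lib.H1.FG19

variable {A : Type*} [CommGroup A]

theorem apply_mem_cm (X : MulAut A) {a : A} (ha : a ∈ cm X) : X a ∈ cm X := by
  obtain ⟨m, rfl⟩ := mem_cm.mp ha
  exact mem_cm.mpr ⟨X m, by rw [map_mul, map_inv]⟩

/-- `X` restricted to `[A, X]`, as an element of `Function.End` -/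
def resCm (X : MulAut A) : Function.End (cm X) := fun a => ⟨X a.1, apply_mem_cm X a.2⟩

theorem resCm_pow_coe (X : MulAut A) (i : ℕ) (a : cm X) : (((resCm X) ^ i) a : A) = (X ^ i) a.1 := by
  induction i generalizing a with
  | zero => rfl
  | succ i ih =>
    rw [pow_succ, pow_succ]
    change ((resCm X ^ i) (resCm X a) : A) = (X ^ i) (X a.1)
    rw [ih]
    rfl

/-- BAS4 (M): an automorphism of odd prime order `q` permutes `[A, X] ∖ 1` in orbits of length `q`. -/
theorem card_cm_modEq [Finite A] (h2 : ∀ a : A, a * a = 1) (X : MulAut A) {q : ℕ} (hq : q.Prime)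
    (hq2 : q ≠ 2) (hX : X ^ q = 1) : Nat.card (cm X) ≡ 1 [MOD q] := by
  classical
  have : Fact q.Prime := ⟨hq⟩
  have hodd : Odd q := hq.odd_of_ne_two hq2
  have : Fintype (cm X) := Fintype.ofFinite _
  have hpow : (resCm X) ^ q ^ 1 = 1 := by
    rw [pow_one]
    funext a
    apply Subtype.ext
    rw [resCm_pow_coe, hX]
    rfl
  have h1 := Equiv.Perm.card_fixedPoints_modEq (f := resCm X) (p := q) (n := 1) hpow
  have h3 : Nat.card (Function.fixedPoints (resCm X)) = 1 := by
    rw [Nat.card_eq_one_iff_unique]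
    refine ⟨⟨?_⟩, ⟨⟨1, ?_⟩⟩⟩
    swap
    · change resCm X 1 = 1
      apply Subtype.ext
      change X ((1 : cm X) : A) = ((1 : cm X) : A)
      rw [Subgroup.coe_one, map_one]
    · rintro ⟨a, ha⟩ ⟨b, hb⟩
      have key : ∀ (c : cm X), resCm X c = c → c = 1 := by
        intro a ha'
        have h4 : X a.1 = a.1 := congrArg Subtype.val ha'
        have h5 : a.1 ∈ cm X ⊓ fx X := ⟨a.2, mem_fx.mpr h4⟩
        rw [cm_inf_fx h2 X hodd hX, Subgroup.mem_bot] at h5
        exact Subtype.ext h5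
      apply Subtype.ext
      change a = b
      rw [key a ha, key b hb]
  simp only [Fintype.card_eq_nat_card] at h1
  rw [h3] at h1
  exact h1

end Cfsg.Agent.Lib.H15.FG19
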