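import Cfsg.Agent.Lib.H1.FG19.Defs
import Cfsg.Agent.Lib.H15.FG19BAS4

/-!
# S4404 piece F8 (helper15): `X` normalising but not centralising `⟨B⟩` has `[A, X] ≤ [A, B]`
-/

set_option autoImplicit false

namespace Cfsg.Agent.Lib.H15.FG19

open Cfsg.Agent.Lib.H1.FG19

variable {A : Type*} [CommGroup A]

/-- if `X B X⁻¹` is a power of `B`, then `[A, B]` is `X`-stable. -/
theorem apply_mem_cm_of_conj_mem_powers (X B : MulAut A) {k : ℕ} (hk : B ^ k = X * B * X⁻¹) {a : A}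
    (ha : a ∈ cm B) : X a ∈ cm B := by
  obtain ⟨m, rfl⟩ := mem_cm.mp ha
  have h1 : X (B m) = (B ^ k) (X m) := by
    rw [hk]
    change X (B m) = X (B (X⁻¹ (X m)))
    rw [MulAut.inv_apply_self]
  rw [map_mul, map_inv, h1]
  exact pow_apply_mul_inv_mem_cm B (X m) k

theorem exists_pow_of_mem_zpowers {B Y : MulAut A} {n : ℕ} (hn : 0 < n) (hB : B ^ n = 1)
    (hY : Y ∈ Subgroup.zpowers B) : ∃ k : ℕ, B ^ k = Y := by
  have hfin : IsOfFinOrder B := isOfFinOrder_iff_pow_eq_one.mpr ⟨n, hn, hB⟩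
  rw [← hfin.mem_powers_iff_mem_zpowers] at hY
  exact hY

/-- F8 (M). -/
theorem cm_le_cm_of_normalizes [Finite A] (h2 : ∀ a : A, a * a = 1) (X B : MulAut A) (hX : X ^ 3 = 1)
    (hB : B ^ 7 = 1) (hXB : X * B * X⁻¹ ∈ Subgroup.zpowers B) (hne : X * B * X⁻¹ ≠ B)
    (hcX : Nat.card (cm X) = 4) : cm X ≤ cm B := by
  classical
  obtain ⟨k, hk⟩ := exists_pow_of_mem_zpowers (by norm_num) hB hXB
  have hstab : ∀ a ∈ cm B, X a ∈ cm B := fun a ha => apply_mem_cm_of_conj_mem_powers X B hk ha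
  have hsup : cm B ⊔ fx B = ⊤ := cm_sup_fx h2 B (by decide : Odd 7) hB
  -- `X` is non-trivial on `[A, B]`
  have hnt : ∃ a ∈ cm B, X a ≠ a := by
    by_contra hcon
    have hfix : ∀ a ∈ cm B, X a = a := by
      intro a ha
      by_contra h
      exact hcon ⟨a, ha, h⟩
    apply hne
    ext a
    have ha : a ∈ cm B ⊔ fx B := by rw [hsup]; trivial
    obtain ⟨c, hc, f, hf, rfl⟩ := Subgroup.mem_sup.mp ha
    have e1 : (X * B * X⁻¹) f = f := by
      rw [← hk]; exact pow_apply_of_mem_fx B hf k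
    have e2 : (X * B * X⁻¹) c = B c := by
      change X (B (X⁻¹ c)) = B c
      have : X⁻¹ c = c := by
        have h0 : X⁻¹ (X c) = c := MulAut.inv_apply_self A X c
        rwa [hfix c hc] at h0
      rw [this]
      exact hfix _ (apply_mem_cm B hc)
    rw [map_mul, map_mul, e1, e2, mem_fx.mp hf]
  obtain ⟨a, ha, hXa⟩ := hnt
  obtain ⟨w, hwdef⟩ : ∃ w : A, w = X a * a⁻¹ := ⟨_, rfl⟩
  have hw1 : w ≠ 1 := by
    rw [hwdef]
    intro h
    exact hXa (mul_inv_eq_one.mp h)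
  have hwX : w ∈ cm X := by rw [hwdef]; exact mem_cm.mpr ⟨a, rfl⟩
  have hwB : w ∈ cm B := by
    rw [hwdef]; exact (cm B).mul_mem (hstab a ha) ((cm B).inv_mem ha)
  have hinf : cm X ⊓ fx X = ⊥ := cm_inf_fx h2 X (by decide : Odd 3) hX
  have hXw : X w ≠ w := by
    intro h
    have : w ∈ cm X ⊓ fx X := ⟨hwX, mem_fx.mpr h⟩
    rw [hinf, Subgroup.mem_bot] at this
    exact hw1 this
  have hXw1 : X w ≠ 1 := by
    intro h
    apply hw1
    have : X w = X 1 := by rw [h, map_one]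
    exact X.injective this
  have hXwX : X w ∈ cm X := apply_mem_cm X hwX
  have hXwB : X w ∈ cm B := hstab w hwB
  -- count
  have hle : cm X ⊓ cm B ≤ cm X := inf_le_left
  have hdvd : Nat.card ↥(cm X ⊓ cm B) ∣ 4 := by
    rw [← hcX]; exact Subgroup.card_dvd_of_le hle
  have : Fintype ↥(cm X ⊓ cm B) := Fintype.ofFinite _
  have h3 : 3 ≤ Nat.card ↥(cm X ⊓ cm B) := by
    rw [Nat.card_eq_fintype_card]
    let e1 : ↥(cm X ⊓ cm B) := 1
    let e2 : ↥(cm X ⊓ cm B) := ⟨w, hwX, hwB⟩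
    let e3 : ↥(cm X ⊓ cm B) := ⟨X w, hXwX, hXwB⟩
    have h12 : e1 ≠ e2 := fun h => hw1 (congrArg Subtype.val h).symm
    have h13 : e1 ≠ e3 := fun h => hXw1 (congrArg Subtype.val h).symm
    have h23 : e2 ≠ e3 := fun h => hXw (congrArg Subtype.val h).symm
    have hc : ({e1, e2, e3} : Finset ↥(cm X ⊓ cm B)).card = 3 := by
      rw [Finset.card_insert_of_notMem, Finset.card_insert_of_notMem, Finset.card_singleton]
      · simpa using h23
      · simp only [Finset.mem_insert, Finset.mem_singleton, not_or]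
        exact ⟨h12, h13⟩
    rw [← hc]
    exact Finset.card_le_univ _
  have h4 : Nat.card ↥(cm X ⊓ cm B) = 4 := by
    have hle4 : Nat.card ↥(cm X ⊓ cm B) ≤ 4 := Nat.le_of_dvd (by norm_num) hdvd
    interval_cases h : Nat.card ↥(cm X ⊓ cm B)
    · omega
    · rfl
  have heq : cm X ⊓ cm B = cm X :=
    Subgroup.eq_of_le_of_card_ge hle (by rw [h4, hcX])
  rw [← heq]
  exact inf_le_right

end Cfsg.Agent.Lib.H15.FG19
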