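import Cfsg.Agent.Lib.H1.FG19.Defs
import Cfsg.Agent.Lib.H15.FG19BAS4

/-!
# S4404 piece Q2 (helper15): commuting `F_8`-elements have equal or independent blocks
-/

set_option autoImplicit false

namespace Cfsg.Agent.Lib.H15.FG19

open Cfsg.Agent.Lib.H1.FG19

variable {A : Type*} [CommGroup A]

/-- `Y` restricted to a `Y`-stable subgroup, as an element of `Function.End` -/
def resSub (Y : MulAut A) (U : Subgroup A) (hU : ∀ a ∈ U, Y a ∈ U) : Function.End U :=
  fun a => ⟨Y a.1, hU a.1 a.2⟩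

theorem resSub_pow_coe (Y : MulAut A) (U : Subgroup A) (hU : ∀ a ∈ U, Y a ∈ U) (i : ℕ) (a : U) :
    (((resSub Y U hU) ^ i) a : A) = (Y ^ i) a.1 := by
  induction i generalizing a with
  | zero => rfl
  | succ i ih =>
    rw [pow_succ, pow_succ]
    change ((resSub Y U hU ^ i) (resSub Y U hU a) : A) = (Y ^ i) (Y a.1)
    rw [ih]
    rfl

/-- fixed-point congruence for an automorphism of prime order on a stable subgroup -/
theorem card_modEq_card_inf_fx [Finite A] (Y : MulAut A) (U : Subgroup A) (hU : ∀ a ∈ U, Y a ∈ U)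
    {q : ℕ} (hq : q.Prime) (hY : Y ^ q = 1) : Nat.card U ≡ Nat.card ↥(U ⊓ fx Y) [MOD q] := by
  classical
  have : Fact q.Prime := ⟨hq⟩
  have : Fintype U := Fintype.ofFinite _
  have hpow : (resSub Y U hU) ^ q ^ 1 = 1 := by
    rw [pow_one]
    funext a
    apply Subtype.ext
    rw [resSub_pow_coe, hY]
    rfl
  have h1 := Equiv.Perm.card_fixedPoints_modEq (f := resSub Y U hU) (p := q) (n := 1) hpow
  simp only [Fintype.card_eq_nat_card] at h1
  have e : Function.fixedPoints (resSub Y U hU) ≃ ↥(U ⊓ fx Y) :=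
    { toFun := fun a => ⟨a.1.1, a.1.2, mem_fx.mpr (congrArg Subtype.val a.2)⟩
      invFun := fun a => ⟨⟨a.1, a.2.1⟩, Subtype.ext (mem_fx.mp a.2.2)⟩
      left_inv := fun a => rfl
      right_inv := fun a => rfl }
  rw [Nat.card_congr e] at h1
  exact h1

/-- if `Y` (of order 7) commutes with `B`, `|[A,B]| = 8` and `Y` is non-trivial on `[A,B]`, then
`[A,B] ≤ [A,Y]`. -/
theorem cm_le_cm_of_commute [Finite A] (h2 : ∀ a : A, a * a = 1) (B Y : MulAut A) (hY : Y ^ 7 = 1)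
    (hc : B * Y = Y * B) (h1 : Nat.card (cm B) = 8) (hn : ¬ cm B ≤ fx Y) : cm B ≤ cm Y := by
  have hstab : ∀ a ∈ cm B, Y a ∈ cm B := by
    intro a ha
    obtain ⟨m, rfl⟩ := mem_cm.mp ha
    have : Y (B m) = B (Y m) := by
      change (Y * B) m = (B * Y) m
      rw [hc]
    rw [map_mul, map_inv, this]
    exact mem_cm.mpr ⟨Y m, rfl⟩
  have hmod := card_modEq_card_inf_fx Y (cm B) hstab (by norm_num : Nat.Prime 7) hY
  have hle : cm B ⊓ fx Y ≤ cm B := inf_le_left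
  have hdvd : Nat.card ↥(cm B ⊓ fx Y) ∣ 8 := by
    rw [← h1]; exact Subgroup.card_dvd_of_le hle
  rw [h1] at hmod
  have hF : Nat.card ↥(cm B ⊓ fx Y) = 1 := by
    have hle8 : Nat.card ↥(cm B ⊓ fx Y) ≤ 8 := Nat.le_of_dvd (by norm_num) hdvd
    have hne8 : Nat.card ↥(cm B ⊓ fx Y) ≠ 8 := by
      intro h8
      apply hn
      have heq : cm B ⊓ fx Y = cm B := Subgroup.eq_of_le_of_card_ge hle (by rw [h8, h1])
      rw [← heq]
      exact inf_le_right
    unfold Nat.ModEq at hmod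
    interval_cases h : Nat.card ↥(cm B ⊓ fx Y) <;> simp_all
  have hbot : cm B ⊓ fx Y = ⊥ := Subgroup.eq_bot_of_card_eq _ hF
  intro a ha
  have hN : nrm Y 7 a ∈ cm B ⊓ fx Y := by
    refine ⟨?_, mem_fx.mpr (apply_nrm Y hY a)⟩
    unfold nrm
    have hpow : ∀ i : ℕ, (Y ^ i) a ∈ cm B := by
      intro i
      induction i with
      | zero => exact ha
      | succ i ih =>
        rw [pow_succ']
        exact hstab _ ih
    exact Subgroup.prod_mem _ (fun i _ => hpow i)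
  rw [hbot, Subgroup.mem_bot] at hN
  have h3 := mul_nrm_mem_cm h2 Y (by decide : Odd 7) a
  rwa [hN, mul_one] at h3

/-- Q2 (M): commuting `F_8`-elements have equal or independent blocks. -/
theorem cm_eq_or_le_fx [Finite A] (h2 : ∀ a : A, a * a = 1) (B₁ B₂ : MulAut A) (hB₁ : B₁ ^ 7 = 1)
    (hB₂ : B₂ ^ 7 = 1) (hc : B₁ * B₂ = B₂ * B₁) (h1 : Nat.card (cm B₁) = 8)
    (h2' : Nat.card (cm B₂) = 8) : cm B₁ = cm B₂ ∨ (cm B₁ ≤ fx B₂ ∧ cm B₂ ≤ fx B₁) := by
  by_cases ha : cm B₁ ≤ fx B₂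
  · by_cases hb : cm B₂ ≤ fx B₁
    · exact Or.inr ⟨ha, hb⟩
    · left
      have hle := cm_le_cm_of_commute h2 B₂ B₁ hB₁ hc.symm h2' hb
      exact (Subgroup.eq_of_le_of_card_ge hle (by rw [h1, h2'])).symm
  · left
    have hle := cm_le_cm_of_commute h2 B₁ B₂ hB₂ hc h1 ha
    exact Subgroup.eq_of_le_of_card_ge hle (by rw [h1, h2'])

end Cfsg.Agent.Lib.H15.FG19
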