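import Cfsg.Agent.Lib.H15.B60Irr
import Cfsg.Agent.Lib.H9.B60EIG
import Cfsg.Agent.Lib.H23.DefectZero
import Cfsg.Agent.Lib.H24.CharKer
import Cfsg.Agent.Lib.L0.CharOps
import Cfsg.Agent.Lib.L0.CharBasic

/-!
S4429 piece (F7) `cent5_of_degree5` (helper15): in a simple group of order 7920 with an irreducible character of degree 5,
an element of order 5 is self-centralising.

* `newton5`: five numbers whose first four power sums vanish have equal fifth powers (`= ` their product).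
* `norm_pow_five_of_vanish`: a character value list: `χ (g^j) = 0` for `j = 1..4`, degree 5, gives `‖χ (g^5)‖ = 5`.
-/

set_option autoImplicit false

namespace Cfsg.Agent.Lib.H15.M7920

open Cfsg Cfsg.Agent.Lib.L0 Cfsg.Agent.Lib.H24
open scoped BigOperators ComplexConjugate
universe u

/-- Newton's identities for five numbers: vanishing power sums `p₁ = p₂ = p₃ = p₄ = 0` give `a⁵ = abcde`. -/
theorem newton5 (a b c d e : ℂ) (h1 : a + b + c + d + e = 0)
    (h2 : a ^ 2 + b ^ 2 + c ^ 2 + d ^ 2 + e ^ 2 = 0) (h3 : a ^ 3 + b ^ 3 + c ^ 3 + d ^ 3 + e ^ 3 = 0)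
    (h4 : a ^ 4 + b ^ 4 + c ^ 4 + d ^ 4 + e ^ 4 = 0) : a ^ 5 = a * b * c * d * e := by
  linear_combination
    (a ^ 4 - ((a + b + c + d + e) / 2) * a ^ 3 +
      ((a + b + c + d + e) ^ 2 / 6 - (a ^ 2 + b ^ 2 + c ^ 2 + d ^ 2 + e ^ 2) / 2) * a ^ 2 -
      ((a + b + c + d + e) ^ 3 / 24 - (a + b + c + d + e) * (a ^ 2 + b ^ 2 + c ^ 2 + d ^ 2 + e ^ 2) / 4 +
        (a ^ 3 + b ^ 3 + c ^ 3 + d ^ 3 + e ^ 3) / 3) * a) * h1 +
    ((1 / 2) * a ^ 3 - ((a ^ 2 + b ^ 2 + c ^ 2 + d ^ 2 + e ^ 2) / 8) * a) * h2 +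
    ((1 / 3) * a ^ 2) * h3 + ((1 / 4) * a) * h4

/-- Five numbers of norm one with vanishing first four power sums: the fifth power sum has norm 5. -/
theorem norm_sum_pow_five (a : Fin 5 → ℂ) (hn : ∀ k, ‖a k‖ = 1)
    (hp : ∀ j : ℕ, 1 ≤ j → j ≤ 4 → ∑ k, a k ^ j = 0) : ‖∑ k, a k ^ 5‖ = 5 := by
  have h1 := hp 1 le_rfl (by norm_num)
  have h2 := hp 2 (by norm_num) (by norm_num)
  have h3 := hp 3 (by norm_num) (by norm_num)
  have h4 := hp 4 (by norm_num) le_rfl
  simp only [Fin.sum_univ_five, pow_one] at h1 h2 h3 h4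
  have e0 := newton5 (a 0) (a 1) (a 2) (a 3) (a 4) h1 h2 h3 h4
  have e1 := newton5 (a 1) (a 0) (a 2) (a 3) (a 4) (by linear_combination h1) (by linear_combination h2)
    (by linear_combination h3) (by linear_combination h4)
  have e2 := newton5 (a 2) (a 0) (a 1) (a 3) (a 4) (by linear_combination h1) (by linear_combination h2)
    (by linear_combination h3) (by linear_combination h4)
  have e3 := newton5 (a 3) (a 0) (a 1) (a 2) (a 4) (by linear_combination h1) (by linear_combination h2)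
    (by linear_combination h3) (by linear_combination h4)
  have e4 := newton5 (a 4) (a 0) (a 1) (a 2) (a 3) (by linear_combination h1) (by linear_combination h2)
    (by linear_combination h3) (by linear_combination h4)
  have hs : ∑ k, a k ^ 5 = 5 * (a 0 * a 1 * a 2 * a 3 * a 4) := by
    rw [Fin.sum_univ_five, e0, e1, e2, e3, e4]; ring
  rw [hs]
  simp [hn]

theorem cent5_of_degree5 {G : Type u} [Group G] [Fintype G] [IsSimpleGroup G] (hG : Nat.card G = 7920)
    (χ : IrrCharacter G) (h5 : (χ : G → ℂ) 1 = 5) (y : G) (hy : orderOf y = 5) :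
    Nat.card (Subgroup.centralizer ({y} : Set G)) = 5 := by
  classical
  by_contra hne
  set C := Subgroup.centralizer ({y} : Set G) with hC
  have hyC : y ∈ C := by
    rw [hC, Subgroup.mem_centralizer_iff]
    intro h hh
    rw [Set.mem_singleton_iff.mp hh]
  -- `5 ∣ |C| ∣ 7920`
  have h5C : 5 ∣ Nat.card C := by
    have h1 := orderOf_dvd_natCard (⟨y, hyC⟩ : C)
    rwa [Subgroup.orderOf_mk, hy] at h1
  have hC7920 : Nat.card C ∣ 7920 := by
    rw [← hG]; exact Subgroup.card_subgroup_dvd_card C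
  obtain ⟨h, hh⟩ := h5C
  have hh1 : h ≠ 1 := by
    intro h1; rw [h1] at hh; exact hne (by rw [hh])
  have hh1584 : h ∣ 1584 := by
    rw [hh] at hC7920
    exact (Nat.mul_dvd_mul_iff_left (by norm_num : 0 < 5)).mp (by simpa using hC7920)
  obtain ⟨q, hq, hqh⟩ := Nat.exists_prime_and_dvd hh1
  have hq5 : q ≠ 5 := by
    rintro rfl
    have := hqh.trans hh1584
    norm_num at this
  haveI : Fact q.Prime := ⟨hq⟩
  obtain ⟨w, hw⟩ := exists_prime_orderOf_dvd_card' q (G := C)
    (by rw [hh]; exact Dvd.dvd.mul_left hqh 5)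
  have hw' : orderOf (w : G) = q := by rw [Subgroup.orderOf_coe]; exact hw
  have hcomm : Commute y (w : G) := by
    have h1 : (w : G) ∈ Subgroup.centralizer ({y} : Set G) := w.2
    exact Subgroup.mem_centralizer_iff.mp h1 y rfl
  set g : G := y * (w : G) with hg
  have hgpow : ∀ j : ℕ, g ^ j = y ^ j * (w : G) ^ j := fun j => hcomm.mul_pow j
  have hwq : (w : G) ^ q = 1 := by rw [← hw']; exact pow_orderOf_eq_one _
  -- `5 ∣ orderOf (g ^ j)` for `j = 1, .., 4`
  have hsing : ∀ j : ℕ, 1 ≤ j → j ≤ 4 → 5 ∣ orderOf (g ^ j) := by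
    intro j hj1 hj4
    set n := orderOf (g ^ j) with hn
    have h1 : (g ^ j) ^ (n * q) = 1 := by rw [pow_mul, hn, pow_orderOf_eq_one, one_pow]
    rw [← pow_mul, hgpow] at h1
    have h2 : (w : G) ^ (j * (n * q)) = 1 := by
      rw [show j * (n * q) = q * (j * n) by ring, pow_mul, hwq, one_pow]
    rw [h2, mul_one] at h1
    have h3 : 5 ∣ j * (n * q) := by
      rw [← hy]; exact orderOf_dvd_of_pow_eq_one h1
    rcases (Nat.Prime.dvd_mul (by norm_num : Nat.Prime 5)).mp h3 with h4 | h4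
    · exfalso
      have := Nat.le_of_dvd (by omega) h4
      omega
    · rcases (Nat.Prime.dvd_mul (by norm_num : Nat.Prime 5)).mp h4 with h6 | h6
      · exact h6
      · exfalso
        exact hq5 ((Nat.prime_dvd_prime_iff_eq (by norm_num : Nat.Prime 5) hq).mp h6).symm
  -- `g ^ 5 = w ^ 5 ≠ 1`
  have hg5 : g ^ 5 ≠ 1 := by
    have hy5 : y ^ 5 = 1 := by rw [← hy]; exact pow_orderOf_eq_one y
    rw [hgpow, hy5, one_mul]
    intro h1
    have h2 : q ∣ 5 := by rw [← hw']; exact orderOf_dvd_of_pow_eq_one h1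
    exact hq5 ((Nat.prime_dvd_prime_iff_eq hq (by norm_num : Nat.Prime 5)).mp h2)
  -- the representation: vanishing on `5`-singular elements
  obtain ⟨n, ρ, hρ, hρχ⟩ := χ.2
  haveI := hρ
  have hn5 : n = 5 := by
    have h1 : ρ.character 1 = (n : ℂ) := by
      rw [Representation.char_one]; simp
    rw [hρχ, h5] at h1
    exact_mod_cast h1.symm
  have hvan : ∀ j : ℕ, 1 ≤ j → j ≤ 4 → (χ : G → ℂ) (g ^ j) = 0 := by
    intro j hj1 hj4
    rw [← hρχ]
    apply Cfsg.Agent.Lib.H23.char_eq_zero_of_defect_zero ρ 5 1 (by norm_num)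
    · rw [hG]; norm_num
    · rw [Module.finrank_fin_fun, hn5]; norm_num
    · exact hsing j hj1 hj4
  -- eigenvalue list
  obtain ⟨d, R, htr, -, -, hd, -⟩ := Cfsg.Agent.Lib.H15.B60.exists_isometric_model (χ : G → ℂ) χ.2
  have hd5 : d = 5 := by
    rw [h5] at hd; exact_mod_cast hd.symm
  subst hd5
  obtain ⟨a, hpow, -, hnorm, -⟩ := Cfsg.Agent.Lib.H9.B60.exists_eigen_list_rep R (χ : G → ℂ) htr
    (finrank_euclideanSpace_fin) g
  have hnorm5 : ‖(χ : G → ℂ) (g ^ 5)‖ = 5 := by
    rw [hpow 5]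
    apply norm_sum_pow_five a hnorm
    intro j hj1 hj4
    rw [← hpow j]
    exact hvan j hj1 hj4
  -- `θ = χ conj χ`
  have hχc : IsCharacter G (χ : G → ℂ) := isCharacter_of_irr χ.2
  have hθ : IsCharacter G ((χ : G → ℂ) * fun g => conj ((χ : G → ℂ) g)) :=
    isCharacter_mul hχc (isCharacter_conj hχc)
  have hc5 : (starRingEnd ℂ) (5 : ℂ) = 5 := by
    rw [show (5 : ℂ) = ((5 : ℝ) : ℂ) by norm_num, Complex.conj_ofReal]
  have hmem : g ^ 5 ∈ charKer _ hθ := by
    rw [mem_charKer]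
    simp only [Pi.mul_apply]
    rw [h5, Complex.mul_conj, Complex.normSq_eq_norm_sq, hnorm5, hc5]
    norm_num
  have htop : charKer _ hθ = ⊤ := by
    rcases (charKer_normal _ hθ).eq_bot_or_eq_top with h1 | h1
    · rw [h1, Subgroup.mem_bot] at hmem
      exact absurd hmem hg5
    · exact h1
  have hall : ∀ k : G, (χ : G → ℂ) k * conj ((χ : G → ℂ) k) = 25 := by
    intro k
    have h1 : k ∈ charKer _ hθ := by rw [htop]; exact Subgroup.mem_top k
    rw [mem_charKer] at h1
    simp only [Pi.mul_apply] at h1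
    rw [h1, h5, hc5]
    norm_num
  have hinner := irr_classInner_self χ.2
  unfold Cfsg.classInner at hinner
  rw [Finset.sum_congr rfl (fun k _ => hall k), Finset.sum_const, Finset.card_univ, ← Nat.card_eq_fintype_card,
    hG] at hinner
  norm_num at hinner

end Cfsg.Agent.Lib.H15.M7920
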