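import Cfsg.Prelude.Def_BaumannBlocks
import Cfsg.Agent.Lib.H15.Card

/-!
The Chermak–Delgado lattice of a finite group (helper15's shared library):
subgroups `H` maximizing `|H| * |C_G(H)|`.
-/

set_option autoImplicit false

namespace Cfsg.Agent.Lib.H15

open scoped Pointwise

variable {G : Type*} [Group G]

/-- The Chermak–Delgado measure. -/
noncomputable def meas (H : Subgroup G) : ℕ :=
  Nat.card H * Nat.card (Subgroup.centralizer (H : Set G))

theorem centralizer_sup (H K : Subgroup G) :
    Subgroup.centralizer ((H ⊔ K : Subgroup G) : Set G)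
      = Subgroup.centralizer (H : Set G) ⊓ Subgroup.centralizer (K : Set G) := by
  apply le_antisymm
  · exact le_inf (Subgroup.centralizer_le (show (H : Set G) ⊆ (H ⊔ K : Subgroup G) from
        fun x hx => (le_sup_left : H ≤ H ⊔ K) hx))
      (Subgroup.centralizer_le (show (K : Set G) ⊆ (H ⊔ K : Subgroup G) from
        fun x hx => (le_sup_right : K ≤ H ⊔ K) hx))
  · rw [Subgroup.le_centralizer_iff]
    refine sup_le ?_ ?_
    · rw [Subgroup.le_centralizer_iff]; exact inf_le_left
    · rw [Subgroup.le_centralizer_iff]; exact inf_le_right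

theorem centralizer_sup_le_centralizer_inf (H K : Subgroup G) :
    Subgroup.centralizer (H : Set G) ⊔ Subgroup.centralizer (K : Set G)
      ≤ Subgroup.centralizer ((H ⊓ K : Subgroup G) : Set G) :=
  sup_le (Subgroup.centralizer_le (fun x hx => (inf_le_left : H ⊓ K ≤ H) hx))
    (Subgroup.centralizer_le (fun x hx => (inf_le_right : H ⊓ K ≤ K) hx))

theorem le_centralizer_centralizer (H : Subgroup G) :
    H ≤ Subgroup.centralizer ((Subgroup.centralizer (H : Set G) : Subgroup G) : Set G) := by
  rw [Subgroup.le_centralizer_iff]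

theorem card_le_card_of_le [Finite G] {H K : Subgroup G} (h : H ≤ K) : Nat.card H ≤ Nat.card K :=
  Nat.card_le_card_of_injective (Subgroup.inclusion h) (Subgroup.inclusion_injective h)

theorem eq_of_le_of_card_le [Finite G] {H K : Subgroup G} (h : H ≤ K) (hc : Nat.card K ≤ Nat.card H) :
    H = K := by
  have hbij : Function.Bijective (Subgroup.inclusion h) :=
    (Subgroup.inclusion_injective h).bijective_of_nat_card_le hc
  apply le_antisymm h
  intro x hx
  obtain ⟨y, hy⟩ := hbij.2 ⟨x, hx⟩
  have : (y : G) = x := congrArg Subtype.val hy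
  rw [← this]
  exact y.2

section Finite

variable [Finite G]

theorem meas_pos (H : Subgroup G) : 0 < meas H := Nat.mul_pos Nat.card_pos Nat.card_pos

theorem meas_le_card_sq (H : Subgroup G) : meas H ≤ Nat.card G * Nat.card G :=
  Nat.mul_le_mul (Subgroup.card_le_card_group _) (Subgroup.card_le_card_group _)

theorem bddAbove_meas : BddAbove {k : ℕ | ∃ R : Subgroup G,
    Nat.card ↥R * Nat.card ↥(Subgroup.centralizer (R : Set G)) = k} :=
  ⟨Nat.card G * Nat.card G, by rintro _ ⟨R, rfl⟩; exact meas_le_card_sq R⟩

theorem meas_le_max (H : Subgroup G) : meas H ≤ Cfsg.maxCentralizerProduct G :=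
  le_csSup bddAbove_meas ⟨H, rfl⟩

theorem exists_meas_eq_max : ∃ H : Subgroup G, meas H = Cfsg.maxCentralizerProduct G := by
  have hne : {k : ℕ | ∃ R : Subgroup G,
      Nat.card ↥R * Nat.card ↥(Subgroup.centralizer (R : Set G)) = k}.Nonempty := ⟨_, ⊥, rfl⟩
  obtain ⟨R, hR⟩ := Nat.sSup_mem hne bddAbove_meas
  exact ⟨R, hR⟩

theorem isCentralizerLarge_iff {H : Subgroup G} :
    Cfsg.IsCentralizerLarge H ↔ ∀ K : Subgroup G, meas K ≤ meas H := by
  constructor
  · intro h K
    have : meas H = Cfsg.maxCentralizerProduct G := h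
    rw [this]
    exact meas_le_max K
  · intro h
    obtain ⟨K, hK⟩ := exists_meas_eq_max (G := G)
    show meas H = Cfsg.maxCentralizerProduct G
    exact le_antisymm (meas_le_max H) (hK ▸ h K)

theorem IsCentralizerLarge.meas_eq {H : Subgroup G} (h : Cfsg.IsCentralizerLarge H) :
    meas H = Cfsg.maxCentralizerProduct G := h

/-- The basic inequality. -/
theorem meas_mul_meas_le (H K : Subgroup G) :
    meas H * meas K ≤ meas (H ⊔ K) * meas (H ⊓ K) := by
  have h1 := card_mul_card_le H K
  have h2 := card_mul_card_le (Subgroup.centralizer (H : Set G)) (Subgroup.centralizer (K : Set G))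
  have h3 : Nat.card (Subgroup.centralizer (H : Set G) ⊔ Subgroup.centralizer (K : Set G) : Subgroup G)
      ≤ Nat.card (Subgroup.centralizer ((H ⊓ K : Subgroup G) : Set G)) :=
    card_le_card_of_le (centralizer_sup_le_centralizer_inf H K)
  unfold meas
  rw [centralizer_sup]
  calc Nat.card H * Nat.card (Subgroup.centralizer (H : Set G))
        * (Nat.card K * Nat.card (Subgroup.centralizer (K : Set G)))
      = (Nat.card H * Nat.card K) * (Nat.card (Subgroup.centralizer (H : Set G))
          * Nat.card (Subgroup.centralizer (K : Set G))) := by ring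
    _ ≤ (Nat.card (H ⊓ K : Subgroup G) * Nat.card (H ⊔ K : Subgroup G))
          * (Nat.card (Subgroup.centralizer (H : Set G) ⊓ Subgroup.centralizer (K : Set G) : Subgroup G)
            * Nat.card (Subgroup.centralizer (H : Set G) ⊔ Subgroup.centralizer (K : Set G) : Subgroup G)) :=
        Nat.mul_le_mul h1 h2
    _ ≤ (Nat.card (H ⊓ K : Subgroup G) * Nat.card (H ⊔ K : Subgroup G))
          * (Nat.card (Subgroup.centralizer (H : Set G) ⊓ Subgroup.centralizer (K : Set G) : Subgroup G)
            * Nat.card (Subgroup.centralizer ((H ⊓ K : Subgroup G) : Set G))) := by gcongr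
    _ = _ := by ring

/-- Everything that follows from two subgroups having maximal measure. -/
theorem cd_main {H K : Subgroup G} (hH : Cfsg.IsCentralizerLarge H) (hK : Cfsg.IsCentralizerLarge K) :
    Cfsg.IsCentralizerLarge (H ⊔ K) ∧ Cfsg.IsCentralizerLarge (H ⊓ K) ∧
    ((H ⊔ K : Subgroup G) : Set G) = (H : Set G) * (K : Set G) ∧
    Subgroup.centralizer ((H ⊓ K : Subgroup G) : Set G)
      = Subgroup.centralizer (H : Set G) ⊔ Subgroup.centralizer (K : Set G) ∧
    ((Subgroup.centralizer (H : Set G) ⊔ Subgroup.centralizer (K : Set G) : Subgroup G) : Set G)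
      = (Subgroup.centralizer (H : Set G) : Set G) * (Subgroup.centralizer (K : Set G) : Set G) := by
  set m := Cfsg.maxCentralizerProduct G with hm
  have hmH : meas H = m := hH
  have hmK : meas K = m := hK
  have hmpos : 0 < m := hmH ▸ meas_pos H
  have hle := meas_mul_meas_le H K
  rw [hmH, hmK] at hle
  have hs : meas (H ⊔ K) ≤ m := meas_le_max _
  have hi : meas (H ⊓ K) ≤ m := meas_le_max _
  have hs' : meas (H ⊔ K) = m := by
    by_contra hne
    have hlt : meas (H ⊔ K) < m := lt_of_le_of_ne hs hne
    have : meas (H ⊔ K) * meas (H ⊓ K) < m * m :=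
      calc meas (H ⊔ K) * meas (H ⊓ K) ≤ meas (H ⊔ K) * m := Nat.mul_le_mul_left _ hi
        _ < m * m := Nat.mul_lt_mul_of_pos_right hlt hmpos
    omega
  have hi' : meas (H ⊓ K) = m := by
    by_contra hne
    have hlt : meas (H ⊓ K) < m := lt_of_le_of_ne hi hne
    have : meas (H ⊔ K) * meas (H ⊓ K) < m * m := by
      rw [hs']
      exact Nat.mul_lt_mul_of_pos_left hlt hmpos
    omega
  refine ⟨hs', hi', ?_⟩
  -- now the equalities
  have h1 := card_mul_card_le H K
  have h2 := card_mul_card_le (Subgroup.centralizer (H : Set G)) (Subgroup.centralizer (K : Set G))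
  have h3 : Nat.card (Subgroup.centralizer (H : Set G) ⊔ Subgroup.centralizer (K : Set G) : Subgroup G)
      ≤ Nat.card (Subgroup.centralizer ((H ⊓ K : Subgroup G) : Set G)) :=
    card_le_card_of_le (centralizer_sup_le_centralizer_inf H K)
  -- abbreviations
  set a := Nat.card H * Nat.card K with ha
  set a' := Nat.card (H ⊓ K : Subgroup G) * Nat.card (H ⊔ K : Subgroup G) with ha'
  set b := Nat.card (Subgroup.centralizer (H : Set G)) * Nat.card (Subgroup.centralizer (K : Set G)) with hb
  set c := Nat.card (Subgroup.centralizer (H : Set G) ⊓ Subgroup.centralizer (K : Set G) : Subgroup G) with hc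
  set d := Nat.card (Subgroup.centralizer (H : Set G) ⊔ Subgroup.centralizer (K : Set G) : Subgroup G) with hd
  set e := Nat.card (Subgroup.centralizer ((H ⊓ K : Subgroup G) : Set G)) with he
  have hab : a * b = m * m := by
    calc a * b = meas H * meas K := by unfold meas; rw [ha, hb]; ring
      _ = m * m := by rw [hmH, hmK]
  have ha'e : a' * (c * e) = m * m := by
    have : meas (H ⊔ K) * meas (H ⊓ K) = m * m := by rw [hs', hi']
    rw [← this]; unfold meas; rw [centralizer_sup, ha', hc, he]; ring
  have hapos : 0 < a := Nat.mul_pos Nat.card_pos Nat.card_pos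
  have hbpos : 0 < b := Nat.mul_pos Nat.card_pos Nat.card_pos
  have hcpos : 0 < c := Nat.card_pos
  have hdpos : 0 < d := Nat.card_pos
  -- a ≤ a', b ≤ c*d, d ≤ e, and a*b = a'*(c*e)
  have haa' : a = a' := by
    by_contra hne
    have hlt : a < a' := lt_of_le_of_ne h1 hne
    have : a * b < a' * (c * e) :=
      calc a * b < a' * b := Nat.mul_lt_mul_of_pos_right hlt hbpos
        _ ≤ a' * (c * d) := Nat.mul_le_mul_left _ h2
        _ ≤ a' * (c * e) := Nat.mul_le_mul_left _ (Nat.mul_le_mul_left _ h3)
    omega
  have ha'pos : 0 < a' := haa' ▸ hapos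
  have hbce : b = c * e := by
    have : a' * b = a' * (c * e) := by rw [ha'e, ← haa', hab]
    exact Nat.eq_of_mul_eq_mul_left ha'pos this
  have hde : d = e := by
    by_contra hne
    have hlt : d < e := lt_of_le_of_ne h3 hne
    have : c * d < c * e := Nat.mul_lt_mul_of_pos_left hlt hcpos
    omega
  have hbcd : b = c * d := by rw [hde]; exact hbce
  refine ⟨coe_sup_eq_mul_of_card_eq H K haa', ?_, coe_sup_eq_mul_of_card_eq _ _ hbcd⟩
  exact (eq_of_le_of_card_le (centralizer_sup_le_centralizer_inf H K) hde.ge).symm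

theorem meas_le_meas_centralizer (H : Subgroup G) :
    meas H ≤ meas (Subgroup.centralizer (H : Set G)) := by
  unfold meas
  rw [mul_comm]
  exact Nat.mul_le_mul_left _ (card_le_card_of_le (le_centralizer_centralizer H))

theorem cd_centralizer {H : Subgroup G} (hH : Cfsg.IsCentralizerLarge H) :
    Cfsg.IsCentralizerLarge (Subgroup.centralizer (H : Set G)) ∧
    H = Subgroup.centralizer ((Subgroup.centralizer (H : Set G) : Subgroup G) : Set G) := by
  have hmH : meas H = Cfsg.maxCentralizerProduct G := hH
  have h1 := meas_le_meas_centralizer H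
  have h2 : meas (Subgroup.centralizer (H : Set G)) ≤ Cfsg.maxCentralizerProduct G := meas_le_max _
  have h3 : meas (Subgroup.centralizer (H : Set G)) = Cfsg.maxCentralizerProduct G :=
    le_antisymm h2 (hmH ▸ h1)
  refine ⟨h3, ?_⟩
  apply eq_of_le_of_card_le (le_centralizer_centralizer H)
  have h4 : meas (Subgroup.centralizer (H : Set G)) = meas H := by rw [h3, hmH]
  unfold meas at h4
  have hpos : 0 < Nat.card (Subgroup.centralizer (H : Set G)) := Nat.card_pos
  rw [mul_comm (Nat.card H)] at h4
  exact (Nat.eq_of_mul_eq_mul_left hpos h4).le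

end Finite

end Cfsg.Agent.Lib.H15
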