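import Cfsg.Prelude.Def_BaumannBlocks
import Cfsg.Agent.Lib.H15.CD

/-!
Centrally large subgroups of a finite group (helper15's shared library):
subgroups `R` maximizing `|R| * |Z(R)|`, and their relation with the Chermak–Delgado lattice.
-/

set_option autoImplicit false

namespace Cfsg.Agent.Lib.H15

open scoped Pointwise

variable {G : Type*} [Group G]

/-- `Z(R)` viewed in the ambient group is `R ⊓ C(R)`. -/
theorem center_map_subtype (R : Subgroup G) :
    (Subgroup.center ↥R).map R.subtype = R ⊓ Subgroup.centralizer (R : Set G) := by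
  ext x
  rw [Subgroup.mem_map, Subgroup.mem_inf]
  constructor
  · rintro ⟨y, hy, rfl⟩
    refine ⟨y.2, ?_⟩
    show (y : G) ∈ Subgroup.centralizer (R : Set G)
    rw [Subgroup.mem_centralizer_iff]
    intro z hz
    have := (Subgroup.mem_center_iff.mp hy) ⟨z, hz⟩
    exact congrArg Subtype.val this
  · rintro ⟨hx, hc⟩
    refine ⟨⟨x, hx⟩, ?_, rfl⟩
    rw [Subgroup.mem_center_iff]
    intro z
    apply Subtype.ext
    exact (Subgroup.mem_centralizer_iff.mp hc) z z.2

theorem card_center_eq (R : Subgroup G) :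
    Nat.card (Subgroup.center ↥R) = Nat.card (R ⊓ Subgroup.centralizer (R : Set G) : Subgroup G) := by
  rw [← center_map_subtype]
  exact (Subgroup.card_map_of_injective R.subtype_injective).symm

/-- The measure `|R| * |Z(R)|`. -/
noncomputable def fz (R : Subgroup G) : ℕ := Nat.card R * Nat.card (Subgroup.center ↥R)

theorem fz_eq (R : Subgroup G) :
    fz R = Nat.card R * Nat.card (R ⊓ Subgroup.centralizer (R : Set G) : Subgroup G) := by
  unfold fz; rw [card_center_eq]

theorem fz_eq_of_comm (B : Subgroup G) (hB : IsMulCommutative ↥B) : fz B = Nat.card B * Nat.card B := by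
  unfold fz
  rw [Subgroup.center_eq_top_iff.mpr hB, Subgroup.card_top]

/-- General fact: a nonempty family of subgroups of a finite group with a property closed under
binary joins has its supremum satisfy the property. -/
theorem sSup_of_sup_closed [Finite G] (P : Subgroup G → Prop)
    (hsup : ∀ H K : Subgroup G, P H → P K → P (H ⊔ K)) (S : Set (Subgroup G)) (hne : S.Nonempty)
    (hS : ∀ H ∈ S, P H) : P (sSup S) := by
  obtain ⟨H0, hH0⟩ := hne
  have hne' : Nonempty {X : Subgroup G // P X ∧ X ≤ sSup S} := ⟨⟨H0, hS H0 hH0, le_sSup hH0⟩⟩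
  obtain ⟨⟨M, hM, hMle⟩, hmax⟩ := Finite.exists_max
    (fun X : {X : Subgroup G // P X ∧ X ≤ sSup S} => Nat.card (X : Subgroup G))
  have hle : sSup S ≤ M := by
    apply sSup_le
    intro R hR
    have h1 := hmax ⟨M ⊔ R, hsup M R hM (hS R hR), sup_le hMle (le_sSup hR)⟩
    simp only at h1
    have h2 : M = M ⊔ R := eq_of_le_of_card_le le_sup_left h1
    exact sup_eq_left.mp h2.symm
  have : sSup S = M := le_antisymm hle hMle
  rw [this]; exact hM

section Finite

variable [Finite G]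

theorem fz_le_meas (R : Subgroup G) : fz R ≤ meas R := by
  rw [fz_eq]
  unfold meas
  exact Nat.mul_le_mul_left _ (card_le_card_of_le inf_le_right)

theorem fz_pos (R : Subgroup G) : 0 < fz R := Nat.mul_pos Nat.card_pos Nat.card_pos

theorem bddAbove_fz : BddAbove {k : ℕ | ∃ R : Subgroup G,
    Nat.card ↥R * Nat.card ↥(Subgroup.center ↥R) = k} :=
  ⟨Nat.card G * Nat.card G, by
    rintro _ ⟨R, rfl⟩
    exact (fz_le_meas R).trans (meas_le_card_sq R)⟩

theorem fz_le_max (R : Subgroup G) : fz R ≤ Cfsg.maxCentralProduct G :=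
  le_csSup bddAbove_fz ⟨R, rfl⟩

theorem exists_fz_eq_max : ∃ R : Subgroup G, fz R = Cfsg.maxCentralProduct G := by
  have hne : {k : ℕ | ∃ R : Subgroup G,
      Nat.card ↥R * Nat.card ↥(Subgroup.center ↥R) = k}.Nonempty := ⟨_, ⊥, rfl⟩
  obtain ⟨R, hR⟩ := Nat.sSup_mem hne bddAbove_fz
  exact ⟨R, hR⟩

theorem isCentrallyLarge_iff {R : Subgroup G} :
    Cfsg.IsCentrallyLarge R ↔ ∀ K : Subgroup G, fz K ≤ fz R := by
  constructor
  · intro h K
    have : fz R = Cfsg.maxCentralProduct G := h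
    rw [this]
    exact fz_le_max K
  · intro h
    obtain ⟨K, hK⟩ := exists_fz_eq_max (G := G)
    show fz R = Cfsg.maxCentralProduct G
    exact le_antisymm (fz_le_max R) (hK ▸ h K)

/-- The top of the Chermak–Delgado lattice contains its centralizer. -/
theorem exists_large_centralizer_le :
    ∃ T : Subgroup G, Cfsg.IsCentralizerLarge T ∧ Subgroup.centralizer (T : Set G) ≤ T := by
  obtain ⟨H0, hH0⟩ := exists_meas_eq_max (G := G)
  have : Nonempty {H : Subgroup G // Cfsg.IsCentralizerLarge H} := ⟨⟨H0, hH0⟩⟩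
  obtain ⟨⟨T, hT⟩, hmax⟩ := Finite.exists_max
    (fun H : {H : Subgroup G // Cfsg.IsCentralizerLarge H} => Nat.card (H : Subgroup G))
  refine ⟨T, hT, ?_⟩
  have hC := (cd_centralizer hT).1
  have hl := (cd_main hT hC).1
  have h1 := hmax ⟨T ⊔ Subgroup.centralizer (T : Set G), hl⟩
  simp only at h1
  have h2 : T = T ⊔ Subgroup.centralizer (T : Set G) := eq_of_le_of_card_le le_sup_left h1
  exact sup_eq_left.mp h2.symm

theorem fz_eq_meas_of_centralizer_le {T : Subgroup G} (h : Subgroup.centralizer (T : Set G) ≤ T) :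
    fz T = meas T := by
  rw [fz_eq]; unfold meas
  rw [inf_eq_right.mpr h]

theorem maxCentralProduct_eq : Cfsg.maxCentralProduct G = Cfsg.maxCentralizerProduct G := by
  apply le_antisymm
  · obtain ⟨R, hR⟩ := exists_fz_eq_max (G := G)
    rw [← hR]
    exact (fz_le_meas R).trans (meas_le_max R)
  · obtain ⟨T, hT, hCT⟩ := exists_large_centralizer_le (G := G)
    have : meas T = Cfsg.maxCentralizerProduct G := hT
    rw [← this, ← fz_eq_meas_of_centralizer_le hCT]
    exact fz_le_max T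

/-- A centrally large subgroup is measure-largest, and `C(Q) = Z(Q)`. -/
theorem cl_large {Q : Subgroup G} (hQ : Cfsg.IsCentrallyLarge Q) :
    Cfsg.IsCentralizerLarge Q ∧
      Subgroup.centralizer (Q : Set G) = Q ⊓ Subgroup.centralizer (Q : Set G) := by
  have h1 : fz Q = Cfsg.maxCentralProduct G := hQ
  rw [maxCentralProduct_eq] at h1
  have h2 := fz_le_meas Q
  have h3 := meas_le_max Q
  have h4 : meas Q = Cfsg.maxCentralizerProduct G := le_antisymm h3 (h1 ▸ h2)
  refine ⟨h4, ?_⟩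
  have h5 : fz Q = meas Q := by rw [h1, h4]
  rw [fz_eq] at h5
  unfold meas at h5
  have hpos : 0 < Nat.card Q := Nat.card_pos
  have h6 := Nat.eq_of_mul_eq_mul_left hpos h5
  exact (eq_of_le_of_card_le (inf_le_right : Q ⊓ Subgroup.centralizer (Q : Set G) ≤ _) h6.ge).symm

theorem cl_centralizer_le {Q : Subgroup G} (hQ : Cfsg.IsCentrallyLarge Q) :
    Subgroup.centralizer (Q : Set G) ≤ Q := by
  have := (cl_large hQ).2
  rw [this]; exact inf_le_left

theorem cl_of_large_of_centralizer_le {Q : Subgroup G} (hQ : Cfsg.IsCentralizerLarge Q)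
    (h : Subgroup.centralizer (Q : Set G) ≤ Q) : Cfsg.IsCentrallyLarge Q := by
  show fz Q = Cfsg.maxCentralProduct G
  rw [maxCentralProduct_eq, fz_eq_meas_of_centralizer_le h]
  exact hQ

theorem cl_iff_of_large {Q : Subgroup G} (hQ : Cfsg.IsCentralizerLarge Q) :
    Cfsg.IsCentrallyLarge Q ↔ Subgroup.centralizer (Q : Set G) ≤ Q :=
  ⟨cl_centralizer_le, cl_of_large_of_centralizer_le hQ⟩

theorem cl_sup {Q R : Subgroup G} (hQ : Cfsg.IsCentrallyLarge Q) (hR : Cfsg.IsCentrallyLarge R) :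
    ((Q ⊔ R : Subgroup G) : Set G) = (Q : Set G) * (R : Set G) ∧ Cfsg.IsCentrallyLarge (Q ⊔ R) := by
  have hcd := cd_main (cl_large hQ).1 (cl_large hR).1
  refine ⟨hcd.2.2.1, cl_of_large_of_centralizer_le hcd.1 ?_⟩
  rw [centralizer_sup]
  exact inf_le_left.trans ((cl_centralizer_le hQ).trans le_sup_left)

theorem exists_cl : ∃ Q : Subgroup G, Cfsg.IsCentrallyLarge Q := exists_fz_eq_max

theorem exists_min_cl : ∃ Q : Subgroup G, Cfsg.IsMinimalCentrallyLarge Q := by
  obtain ⟨Q0, hQ0⟩ := exists_cl (G := G)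
  have : Nonempty {H : Subgroup G // Cfsg.IsCentrallyLarge H} := ⟨⟨Q0, hQ0⟩⟩
  obtain ⟨⟨Q, hQ⟩, hmin⟩ := Finite.exists_min
    (fun H : {H : Subgroup G // Cfsg.IsCentrallyLarge H} => Nat.card (H : Subgroup G))
  refine ⟨Q, hQ, ?_⟩
  intro R hRQ hR
  have h1 := hmin ⟨R, hR⟩
  simp only at h1
  exact eq_of_le_of_card_le hRQ h1

theorem exists_min_cl_le {Q : Subgroup G} (hQ : Cfsg.IsCentrallyLarge Q) :
    ∃ R : Subgroup G, R ≤ Q ∧ Cfsg.IsMinimalCentrallyLarge R := by
  have : Nonempty {H : Subgroup G // Cfsg.IsCentrallyLarge H ∧ H ≤ Q} := ⟨⟨Q, hQ, le_rfl⟩⟩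
  obtain ⟨⟨R, hR, hRQ⟩, hmin⟩ := Finite.exists_min
    (fun H : {H : Subgroup G // Cfsg.IsCentrallyLarge H ∧ H ≤ Q} => Nat.card (H : Subgroup G))
  refine ⟨R, hRQ, hR, ?_⟩
  intro R' hR'R hR'
  have h1 := hmin ⟨R', hR', hR'R.trans hRQ⟩
  simp only at h1
  exact eq_of_le_of_card_le hR'R h1

theorem cl_join : Cfsg.IsCentrallyLarge (Cfsg.centrallyLargeJoin G) := by
  unfold Cfsg.centrallyLargeJoin
  apply sSup_of_sup_closed (fun H => Cfsg.IsCentrallyLarge H) (fun H K hH hK => (cl_sup hH hK).2)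
  · exact exists_cl
  · intro H hH; exact hH

theorem mcl_join : Cfsg.IsCentrallyLarge (Cfsg.minimalCentrallyLargeJoin G) := by
  unfold Cfsg.minimalCentrallyLargeJoin
  apply sSup_of_sup_closed (fun H => Cfsg.IsCentrallyLarge H) (fun H K hH hK => (cl_sup hH hK).2)
  · exact exists_min_cl
  · intro H hH; exact hH.1

theorem le_cl_join {Q : Subgroup G} (hQ : Cfsg.IsCentrallyLarge Q) : Q ≤ Cfsg.centrallyLargeJoin G :=
  le_sSup hQ

end Finite

end Cfsg.Agent.Lib.H15
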