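import Cfsg.Prelude.Def_BaumannBlocks
import Cfsg.Agent.Lib.H15.CL

/-!
Abelian subgroups of largest order (`Cfsg.maxAbelianSubgroups`) and their interaction with
centrally large subgroups (helper15's shared library).
-/

set_option autoImplicit false

namespace Cfsg.Agent.Lib.H15

open scoped Pointwise

variable {G : Type*} [Group G]

theorem isMulCommutative_sup {A B : Subgroup G} (hA : IsMulCommutative ↥A) (hB : IsMulCommutative ↥B)
    (h : A ≤ Subgroup.centralizer (B : Set G)) : IsMulCommutative ↥(A ⊔ B) := by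
  rw [← Subgroup.le_centralizer_iff_isMulCommutative, centralizer_sup]
  have hA' : A ≤ Subgroup.centralizer (A : Set G) := Subgroup.le_centralizer_iff_isMulCommutative.mpr hA
  have hB' : B ≤ Subgroup.centralizer (B : Set G) := Subgroup.le_centralizer_iff_isMulCommutative.mpr hB
  exact sup_le (le_inf hA' h) (le_inf (Subgroup.le_centralizer_iff.mp h) hB')

theorem isMulCommutative_of_le {A B : Subgroup G} (hB : IsMulCommutative ↥B) (h : A ≤ B) :
    IsMulCommutative ↥A := by
  rw [← Subgroup.le_centralizer_iff_isMulCommutative]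
  have hB' : B ≤ Subgroup.centralizer (B : Set G) := Subgroup.le_centralizer_iff_isMulCommutative.mpr hB
  exact h.trans (hB'.trans (Subgroup.centralizer_le (fun x hx => h hx)))

theorem isMulCommutative_inf_centralizer (Q : Subgroup G) :
    IsMulCommutative ↥(Q ⊓ Subgroup.centralizer (Q : Set G)) := by
  rw [← Subgroup.le_centralizer_iff_isMulCommutative]
  exact inf_le_right.trans (Subgroup.centralizer_le (fun x hx => (inf_le_left : Q ⊓ _ ≤ Q) hx))

section Finite

variable [Finite G]

theorem exists_maxAbelian : ∃ A : Subgroup G, A ∈ Cfsg.maxAbelianSubgroups G := by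
  have hbot : IsMulCommutative ↥(⊥ : Subgroup G) := by
    rw [← Subgroup.le_centralizer_iff_isMulCommutative]; exact bot_le
  have : Nonempty {H : Subgroup G // IsMulCommutative ↥H} := ⟨⟨⊥, hbot⟩⟩
  obtain ⟨⟨A, hA⟩, hmax⟩ := Finite.exists_max
    (fun H : {H : Subgroup G // IsMulCommutative ↥H} => Nat.card (H : Subgroup G))
  exact ⟨A, hA, fun B hB => hmax ⟨B, hB⟩⟩

theorem maxAbelian_eq_of_le {A B : Subgroup G} (hA : A ∈ Cfsg.maxAbelianSubgroups G)
    (hB : IsMulCommutative ↥B) (h : A ≤ B) : A = B :=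
  eq_of_le_of_card_le h (hA.2 B hB)

theorem maxAbelian_centralizer {A : Subgroup G} (hA : A ∈ Cfsg.maxAbelianSubgroups G) :
    Subgroup.centralizer (A : Set G) = A := by
  have hA' : A ≤ Subgroup.centralizer (A : Set G) :=
    Subgroup.le_centralizer_iff_isMulCommutative.mpr hA.1
  apply le_antisymm _ hA'
  intro x hx
  have hz : IsMulCommutative ↥(Subgroup.zpowers x) := inferInstance
  have hle : Subgroup.zpowers x ≤ Subgroup.centralizer (A : Set G) := by
    rw [Subgroup.zpowers_le]; exact hx
  have hcomm : IsMulCommutative ↥(A ⊔ Subgroup.zpowers x) :=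
    isMulCommutative_sup hA.1 hz (Subgroup.le_centralizer_iff.mp hle)
  have := maxAbelian_eq_of_le hA hcomm le_sup_left
  rw [this]
  exact (le_sup_right : Subgroup.zpowers x ≤ _) (Subgroup.mem_zpowers x)

theorem maxAbelian_of_card_le {A Y : Subgroup G} (hA : A ∈ Cfsg.maxAbelianSubgroups G)
    (hY : IsMulCommutative ↥Y) (h : Nat.card A ≤ Nat.card Y) : Y ∈ Cfsg.maxAbelianSubgroups G :=
  ⟨hY, fun B hB => (hA.2 B hB).trans h⟩

theorem maxAbelian_card_eq {A B : Subgroup G} (hA : A ∈ Cfsg.maxAbelianSubgroups G)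
    (hB : B ∈ Cfsg.maxAbelianSubgroups G) : Nat.card A = Nat.card B :=
  le_antisymm (hB.2 A hA.1) (hA.2 B hB.1)

end Finite

end Cfsg.Agent.Lib.H15
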