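import Mathlib
import Cfsg.Prelude
import Cfsg.Agent.Lib.H15.Card
import Cfsg.Agent.Lib.H15.Conj
import Cfsg.Agent.Lib.H15.MaxAb
import Cfsg.Agent.Lib.H22.UniqueOrderP
import Cfsg.Agent.Lib.H22.UniqueInvolution

/-!
`p`-groups of `p`-rank at most one (helper15's shared library):
a `p`-subgroup of a finite group of `p`-rank at most one has at most one subgroup of order `p`,
hence is cyclic for odd `p`.
-/

set_option autoImplicit false

namespace Cfsg.Agent.Lib.H15

variable {G : Type*} [Group G] {p : ℕ} [hp : Fact p.Prime]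

/-- A nontrivial finite `p`-subgroup contains an element of order `p` central in it. -/
theorem exists_central_orderOf_eq_prime [Finite G] {P : Subgroup G} (hP : IsPGroup p ↥P) (hne : P ≠ ⊥) :
    ∃ z ∈ P, orderOf z = p ∧ ∀ s ∈ P, s * z = z * s := by
  haveI : Nontrivial ↥P := (Subgroup.nontrivial_iff_ne_bot P).mpr hne
  have hZne : Nontrivial (Subgroup.center ↥P) := hP.center_nontrivial
  have h2Z : p ∣ Nat.card (Subgroup.center ↥P) := by
    have hZ2 : IsPGroup p (Subgroup.center ↥P) := hP.to_subgroup _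
    obtain ⟨n, hn⟩ := IsPGroup.iff_card.mp hZ2
    have hn0 : n ≠ 0 := by
      rintro rfl
      have : 1 < Nat.card (Subgroup.center ↥P) := Finite.one_lt_card_iff_nontrivial.mpr hZne
      rw [hn, pow_zero] at this
      omega
    rw [hn]
    exact dvd_pow_self p hn0
  obtain ⟨z0, hz0⟩ := exists_prime_orderOf_dvd_card' p h2Z
  refine ⟨((z0 : ↥P) : G), (z0 : ↥P).2, ?_, ?_⟩
  · rw [Subgroup.orderOf_coe, Subgroup.orderOf_coe]; exact hz0
  · intro s hs
    have := (Subgroup.mem_center_iff.mp z0.2) ⟨s, hs⟩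
    exact congrArg Subtype.val this

/-- In a finite group of `p`-rank at most one, two subgroups of order `p` inside a common
`p`-subgroup coincide. -/
theorem eq_of_card_eq_prime_of_pRankLE_one [Finite G] (hrk : Cfsg.PRankLE p 1 G) {P : Subgroup G}
    (hP : IsPGroup p ↥P) {H K : Subgroup G} (hH : H ≤ P) (hK : K ≤ P) (hHc : Nat.card H = p)
    (hKc : Nat.card K = p) : H = K := by
  have hp1 : 1 < p := hp.out.one_lt
  have hPne : P ≠ ⊥ := by
    rintro rfl
    have : H = ⊥ := le_bot_iff.mp hH
    rw [this, Subgroup.card_bot] at hHc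
    omega
  obtain ⟨z, hzP, hzord, hzc⟩ := exists_central_orderOf_eq_prime hP hPne
  have hZc : Nat.card (Subgroup.zpowers z) = p := by rw [Nat.card_zpowers, hzord]
  have key : ∀ H : Subgroup G, H ≤ P → Nat.card H = p → H = Subgroup.zpowers z := by
    intro H hH hHc
    by_contra hne
    set Z := Subgroup.zpowers z with hZdef
    have hinf : H ⊓ Z = ⊥ := by
      have hdvd : Nat.card (H ⊓ Z : Subgroup G) ∣ p := by
        rw [← hHc]; exact Subgroup.card_dvd_of_le inf_le_left
      rcases (Nat.dvd_prime hp.out).mp hdvd with h1 | h1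
      · exact Subgroup.card_eq_one.mp h1
      · exfalso
        have h2 : H ⊓ Z = H := eq_of_le_of_card_le' inf_le_left (by rw [h1, hHc])
        have h3 : H ≤ Z := by rw [← h2]; exact inf_le_right
        exact hne (eq_of_le_of_card_le' h3 (by rw [hZc, hHc]))
    have hHcyc : IsCyclic ↥H := by
      haveI : Fact (Nat.card ↥H).Prime := ⟨by rw [hHc]; exact hp.out⟩
      exact isCyclic_of_prime_card rfl
    have hHcomm : IsMulCommutative ↥H := IsCyclic.isMulCommutative
    have hZcomm : IsMulCommutative ↥Z := by rw [hZdef]; infer_instance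
    have hHZ : H ≤ Subgroup.centralizer (Z : Set G) := by
      intro h hh
      have : Subgroup.centralizer ((Z : Subgroup G) : Set G) = Subgroup.centralizer ({z} : Set G) := by
        rw [hZdef, Subgroup.zpowers_eq_closure, Subgroup.centralizer_closure]
      rw [this, Subgroup.mem_centralizer_iff]
      intro y hy
      rw [Set.mem_singleton_iff] at hy
      rw [hy]
      exact (hzc h (hH hh)).symm
    have hAcomm : IsMulCommutative ↥(H ⊔ Z) := isMulCommutative_sup hHcomm hZcomm hHZ
    have hcm : ∀ a ∈ H ⊔ Z, ∀ b ∈ H ⊔ Z, a * b = b * a := by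
      intro a ha b hb
      have := hAcomm.is_comm.comm (⟨a, ha⟩ : ↥(H ⊔ Z)) ⟨b, hb⟩
      exact congrArg Subtype.val this
    let T : Subgroup G :=
      { carrier := {a | a ∈ H ⊔ Z ∧ a ^ p = 1}
        mul_mem' := by
          rintro a b ⟨ha, ha'⟩ ⟨hb, hb'⟩
          refine ⟨(H ⊔ Z).mul_mem ha hb, ?_⟩
          have hc : Commute a b := hcm a ha b hb
          rw [hc.mul_pow, ha', hb', one_mul]
        one_mem' := ⟨(H ⊔ Z).one_mem, one_pow p⟩
        inv_mem' := by
          rintro a ⟨ha, ha'⟩
          exact ⟨(H ⊔ Z).inv_mem ha, by rw [inv_pow, ha', inv_one]⟩ }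
    have hHT : H ≤ T := by
      intro h hh
      refine ⟨(le_sup_left : H ≤ H ⊔ Z) hh, ?_⟩
      have := pow_card_eq_one' (G := ↥H) (x := ⟨h, hh⟩)
      rw [hHc] at this
      exact congrArg Subtype.val this
    have hZT : Z ≤ T := by
      intro h hh
      refine ⟨(le_sup_right : Z ≤ H ⊔ Z) hh, ?_⟩
      have := pow_card_eq_one' (G := ↥Z) (x := ⟨h, hh⟩)
      rw [hZc] at this
      exact congrArg Subtype.val this
    have hAT : H ⊔ Z ≤ T := sup_le hHT hZT
    have hle := hrk (H ⊔ Z) hAcomm (fun a ha => (hAT ha).2)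
    have hge := card_mul_card_le H Z
    rw [hinf, Subgroup.card_bot, one_mul, hHc, hZc] at hge
    rw [pow_one] at hle
    nlinarith
  rw [key H hH hHc, key K hK hKc]

/-- A `p`-subgroup of a finite group of `p`-rank at most one has at most one subgroup of order `p`. -/
theorem atMostOneOrderP_of_pRankLE_one [Finite G] (hrk : Cfsg.PRankLE p 1 G) {P : Subgroup G}
    (hP : IsPGroup p ↥P) : Cfsg.Agent.Lib.H22.AtMostOneOrderP p ↥P := by
  intro H K hH hK
  apply Subgroup.map_injective P.subtype_injective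
  apply eq_of_card_eq_prime_of_pRankLE_one hrk hP
  · exact Subgroup.map_subtype_le H
  · exact Subgroup.map_subtype_le K
  · rw [Subgroup.card_map_of_injective P.subtype_injective]; exact hH
  · rw [Subgroup.card_map_of_injective P.subtype_injective]; exact hK

/-- For odd `p`, a `p`-subgroup of a finite group of `p`-rank at most one is cyclic. -/
theorem isCyclic_of_pRankLE_one [Finite G] (hp2 : p ≠ 2) (hrk : Cfsg.PRankLE p 1 G) {P : Subgroup G}
    (hP : IsPGroup p ↥P) : IsCyclic ↥P :=
  Cfsg.Agent.Lib.H22.isCyclic_of_atMostOne_of_odd hp2 _ ↥P rfl hP (atMostOneOrderP_of_pRankLE_one hrk hP)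

end Cfsg.Agent.Lib.H15
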