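import Mathlib

/-!
helper15: S4415 GOOD block, pieces G1a (span of simultaneous sign-eigenvectors of an elementary
abelian `2`-group acting on an `F_3`-space) and G1b (generalised eigenvectors of an involution are
eigenvectors).  Mathlib only.
-/

set_option autoImplicit false

namespace Cfsg.Agent.Lib.H15.S4415G1a

/-- In characteristic `3`: `v = 2 • (v + u) + 2 • (v - u)`. -/
theorem split_char3 {E : Type*} [AddCommGroup E] [Module (ZMod 3) E] (v u : E) :
    v = (2 : ZMod 3) • (v + u) + (2 : ZMod 3) • (v - u) := by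
  have h4 : ((2 : ZMod 3) + 2) = 1 := by decide
  calc v = (1 : ZMod 3) • v := (one_smul _ v).symm
    _ = ((2 : ZMod 3) + 2) • v := by rw [h4]
    _ = (2 : ZMod 3) • (v + u) + (2 : ZMod 3) • (v - u) := by
      rw [add_smul, smul_add, smul_sub]; abel

/-- G1a: `W` is spanned by the simultaneous sign-eigenvectors of `A` lying in `W`. -/
theorem span_simEig {S E : Type*} [Group S] [AddCommGroup E] [Module (ZMod 3) E]
    (ρ : Representation (ZMod 3) S E) (A : Subgroup S) [Finite A]
    (hAc : ∀ a ∈ A, ∀ a' ∈ A, a * a' = a' * a) (hA2 : ∀ a ∈ A, a * a = 1)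
    (W : Submodule (ZMod 3) E) (hW : ∀ a ∈ A, ∀ w ∈ W, ρ a w ∈ W) :
    ∀ w ∈ W, w ∈ Submodule.span (ZMod 3)
      {v : E | v ∈ W ∧ ∀ a ∈ A, ρ a v = v ∨ ρ a v = -v} := by
  classical
  have key : ∀ T : Finset S, (∀ t ∈ T, t ∈ A) → ∀ w ∈ W, w ∈ Submodule.span (ZMod 3)
      {v : E | v ∈ W ∧ ∀ a ∈ T, ρ a v = v ∨ ρ a v = -v} := by
    intro T
    induction T using Finset.induction_on with
    | empty =>
      intro _ w hw
      exact Submodule.subset_span ⟨hw, by simp⟩
    | insert t₀ T hnot ih =>
      intro hTA w hw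
      have ht₀ : t₀ ∈ A := hTA t₀ (Finset.mem_insert_self t₀ T)
      have hTA' : ∀ t ∈ T, t ∈ A := fun t ht => hTA t (Finset.mem_insert_of_mem ht)
      have ih' := ih hTA' w hw
      refine (Submodule.span_le.mpr ?_) ih'
      rintro v ⟨hvW, hvT⟩
      have hsq : ρ t₀ (ρ t₀ v) = v := by
        have : ρ t₀ (ρ t₀ v) = ρ (t₀ * t₀) v := by rw [map_mul]; rfl
        rw [this, hA2 t₀ ht₀, map_one]; rfl
      have hcomm : ∀ a ∈ T, ρ a (ρ t₀ v) = ρ t₀ (ρ a v) := by
        intro a ha
        have h1 : ρ a (ρ t₀ v) = ρ (a * t₀) v := by rw [map_mul]; rfl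
        have h2 : ρ t₀ (ρ a v) = ρ (t₀ * a) v := by rw [map_mul]; rfl
        rw [h1, h2, hAc a (hTA' a ha) t₀ ht₀]
      have hv1 : v + ρ t₀ v ∈ {v : E | v ∈ W ∧ ∀ a ∈ insert t₀ T, ρ a v = v ∨ ρ a v = -v} := by
        refine ⟨W.add_mem hvW (hW t₀ ht₀ v hvW), ?_⟩
        intro a ha
        rcases Finset.mem_insert.mp ha with rfl | ha
        · left
          rw [map_add, hsq, add_comm]
        · rcases hvT a ha with h | h
          · left
            rw [map_add, hcomm a ha, h]
          · right
            rw [map_add, hcomm a ha, h, map_neg, neg_add]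
      have hv2 : v - ρ t₀ v ∈ {v : E | v ∈ W ∧ ∀ a ∈ insert t₀ T, ρ a v = v ∨ ρ a v = -v} := by
        refine ⟨W.sub_mem hvW (hW t₀ ht₀ v hvW), ?_⟩
        intro a ha
        rcases Finset.mem_insert.mp ha with rfl | ha
        · right
          rw [map_sub, hsq, neg_sub]
        · rcases hvT a ha with h | h
          · left
            rw [map_sub, hcomm a ha, h]
          · right
            rw [map_sub, hcomm a ha, h, map_neg, neg_sub, sub_eq_add_neg, add_comm]
            rw [sub_eq_add_neg, neg_neg]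
      have hsplit := split_char3 v (ρ t₀ v)
      rw [SetLike.mem_coe, hsplit]
      exact Submodule.add_mem _ (Submodule.smul_mem _ _ (Submodule.subset_span hv1))
        (Submodule.smul_mem _ _ (Submodule.subset_span hv2))
  intro w hw
  have hfin : (A : Set S).Finite := Set.toFinite _
  have h1 := key hfin.toFinset (fun t ht => by simpa using ht) w hw
  refine Submodule.span_mono ?_ h1
  rintro v ⟨hvW, hv⟩
  refine ⟨hvW, fun a ha => hv a ?_⟩
  simpa using ha

/-- G1b: a generalised eigenvector of an involution over `F_3` is an eigenvector. -/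
theorem eig_of_invol {E : Type*} [AddCommGroup E] [Module (ZMod 3) E]
    (g : Module.End (ZMod 3) E) (hg : g * g = 1) (μ : ZMod 3) (v : E)
    (hv : v ∈ g.maxGenEigenspace μ) : g v = μ • v := by
  have hgg : ∀ w : E, g (g w) = w := by
    intro w
    have : (g * g) w = w := by rw [hg]; rfl
    exact this
  have hμ' : ∀ m : ZMod 3, m = 0 ∨ m = 1 ∨ m = 2 := by decide
  have hμ : μ = 0 ∨ μ = 1 ∨ μ = 2 := hμ' μ
  -- the key step: `(g - μ)² w = 0 → (g - μ) w = 0`
  have step : ∀ w : E, (g - μ • 1) ((g - μ • 1) w) = 0 → (g - μ • 1) w = 0 := by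
    intro w hw
    simp only [LinearMap.sub_apply, LinearMap.smul_apply, Module.End.one_apply, map_sub,
      map_smul, hgg] at hw ⊢
    rcases hμ with rfl | rfl | rfl
    · simp only [zero_smul, sub_zero] at hw ⊢
      rw [hw, map_zero]
    · simp only [one_smul] at hw ⊢
      -- hw : w - g w - (g w - w) = 0
      have h2 : (2 : ZMod 3) • (g w - w) = 0 := by
        rw [two_smul]
        have : g w - w + (g w - w) = -(w - g w - (g w - w)) := by abel
        rw [this, hw, neg_zero]
      have h2' : (2 : ZMod 3) • ((2 : ZMod 3) • (g w - w)) = 0 := by rw [h2, smul_zero]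
      rw [smul_smul] at h2'
      have h4 : ((2 : ZMod 3) * 2) = 1 := by decide
      rw [h4, one_smul] at h2'
      exact h2'
    · -- hw : w - 2 • g w - (2 • g w - 2 • 2 • w) = 0
      have e22 : (2 : ZMod 3) • (2 : ZMod 3) • w = w := by
        rw [smul_smul]
        have h4 : ((2 : ZMod 3) * 2) = 1 := by decide
        rw [h4, one_smul]
      rw [smul_sub, e22] at hw
      -- hw : w - 2 • g w - (2 • g w - w) = 0  i.e. 2 w - 4 g w = 0, i.e. 2 w - g w = 0
      have e4 : (2 : ZMod 3) • g w + (2 : ZMod 3) • g w = g w := by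
        rw [← add_smul]
        have h4 : ((2 : ZMod 3) + 2) = 1 := by decide
        rw [h4, one_smul]
      have h3 : w + w - g w = 0 := by
        have : w - (2 : ZMod 3) • g w - ((2 : ZMod 3) • g w - w)
            = w + w - ((2 : ZMod 3) • g w + (2 : ZMod 3) • g w) := by abel
        rw [this, e4] at hw
        exact hw
      have : g w - (2 : ZMod 3) • w = -(w + w - g w) := by
        rw [two_smul]; abel
      rw [this, h3, neg_zero]
  have main : ∀ k : ℕ, ∀ w : E, ((g - μ • 1) ^ k) w = 0 → (g - μ • 1) w = 0 := by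
    intro k
    induction k with
    | zero =>
      intro w hw
      have : w = 0 := by simpa using hw
      rw [this, map_zero]
    | succ k ih =>
      intro w hw
      rw [pow_succ] at hw
      have h1 : ((g - μ • 1) ^ k) ((g - μ • 1) w) = 0 := hw
      exact step w (ih _ h1)
  obtain ⟨k, hk⟩ := (Module.End.mem_maxGenEigenspace g μ v).mp hv
  have := main k v hk
  simp only [LinearMap.sub_apply, LinearMap.smul_apply, Module.End.one_apply] at this
  exact sub_eq_zero.mp this

end Cfsg.Agent.Lib.H15.S4415G1a
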