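import Cfsg.Agent.Lib.H1.S77.Hyp

/-!
S0429 piece (PART): the partition of the 60 block vertices into 15 classes of size 4.
-/

set_option autoImplicit false
set_option linter.unusedSectionVars false
open Cfsg

namespace Cfsg.Agent.Lib.H15.S77

open Cfsg.Agent.Lib.H1.S77 Finset

section
variable {V : Type*} [Fintype V] [DecidableEq V] {G : SimpleGraph V} [DecidableRel G.Adj]
variable {v0 : V}

/-- (PART) -/
theorem hpart (hG : G.IsSRGWith 77 16 0 4) (hc : HCard G v0) (hn : HNadj G v0)
    (he : HClsEq G v0) (ht : HThru G v0) : HPart G v0 := by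
  have hmem : ∀ K ∈ classes G v0, ∃ b ∈ nB G v0, cls G v0 b = K := by
    intro K hK
    rw [classes, Finset.mem_image] at hK
    exact hK
  have hcls_mem : ∀ b ∈ nB G v0, cls G v0 b ∈ classes G v0 := fun b hb =>
    Finset.mem_image_of_mem _ hb
  have hcard_mem : ∀ K ∈ classes G v0, K.card = 4 := by
    intro K hK
    obtain ⟨b, hb, rfl⟩ := hmem K hK
    exact hc b hb
  have heq_cls : ∀ K ∈ classes G v0, ∀ z ∈ K, K = cls G v0 z := by
    intro K hK z hz
    obtain ⟨b, hb, rfl⟩ := hmem K hK
    exact (he b hb z hz).symm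
  have hdisj : ∀ K ∈ classes G v0, ∀ K' ∈ classes G v0, K ≠ K' → Disjoint K K' := by
    intro K hK K' hK' hne
    rw [Finset.disjoint_left]
    intro z hz hz'
    exact hne ((heq_cls K hK z hz).trans (heq_cls K' hK' z hz').symm)
  have hunion : (classes G v0).biUnion id = nB G v0 := by
    apply Finset.Subset.antisymm
    · apply Finset.biUnion_subset.2
      intro K hK
      obtain ⟨b, hb, rfl⟩ := hmem K hK
      exact cls_subset b
    · intro b hb
      exact Finset.mem_biUnion.2 ⟨cls G v0 b, hcls_mem b hb, self_mem_cls hb⟩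
  refine ⟨?_, hcard_mem, hdisj, hunion, hcls_mem, heq_cls, ?_, ?_⟩
  · -- 60 = 4 * number of classes
    have h1 : ((classes G v0).biUnion id).card = ∑ K ∈ classes G v0, (id K).card :=
      Finset.card_biUnion (fun K hK K' hK' hne => hdisj K hK K' hK' hne)
    have h2 : ∑ K ∈ classes G v0, (id K).card = ∑ _K ∈ classes G v0, 4 :=
      Finset.sum_congr rfl (fun K hK => hcard_mem K hK)
    rw [hunion, card_nB hG, h2, Finset.sum_const, smul_eq_mul] at h1
    omega
  · intro K hK
    obtain ⟨b, hb, rfl⟩ := hmem K hK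
    rintro ⟨z, hz, z', hz', hadj⟩
    exact hn b hb z hz z' hz' hadj
  · intro K hK a ha
    obtain ⟨b, hb, rfl⟩ := hmem K hK
    rw [← ht b hb a ha]
    congr 1
    apply Finset.filter_congr
    intro z _
    rw [mem_blk]
    constructor
    · intro h
      exact ⟨h.symm, mem_nA.1 ha⟩
    · intro h
      exact h.1.symm

end

end Cfsg.Agent.Lib.H15.S77
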