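import Cfsg.Agent.Lib.H1.S77.Hyp

/-!
S0429 piece (THRU): the four blocks of a class partition the 16 points.
-/

set_option autoImplicit false
set_option linter.unusedSectionVars false
open Cfsg

namespace Cfsg.Agent.Lib.H15.S77

open Cfsg.Agent.Lib.H1.S77 Finset

section
variable {V : Type*} [Fintype V] [DecidableEq V] {G : SimpleGraph V} [DecidableRel G.Adj]
variable {v0 : V}

/-- (THRU) -/
theorem hthru (hG : G.IsSRGWith 77 16 0 4) (hc : HCard G v0) (hd : HDisj G v0) :
    HThru G v0 := by
  intro b hb a ha
  -- the union of the blocks of the class is the whole point set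
  have hU : (cls G v0 b).biUnion (fun z => blk G v0 z) = nA G v0 := by
    apply Finset.eq_of_subset_of_card_le
    · exact Finset.biUnion_subset.2 (fun z _ => blk_subset z)
    · rw [Finset.card_biUnion (fun z hz w hw hzw => hd b hb z hz w hw hzw)]
      have h4 : ∀ z ∈ cls G v0 b, (blk G v0 z).card = 4 := fun z hz =>
        card_blk hG (cls_subset b hz)
      rw [Finset.sum_congr rfl h4, Finset.sum_const, hc b hb, card_nA hG]
      rfl
  have ha' : a ∈ (cls G v0 b).biUnion (fun z => blk G v0 z) := by rw [hU]; exact ha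
  obtain ⟨z, hz, haz⟩ := Finset.mem_biUnion.1 ha'
  rw [Finset.card_eq_one]
  refine ⟨z, ?_⟩
  ext w
  rw [Finset.mem_filter, Finset.mem_singleton]
  constructor
  · rintro ⟨hw, haw⟩
    by_contra hne
    have hdis := hd b hb z hz w hw (fun h => hne h.symm)
    exact (Finset.disjoint_left.1 hdis) haz haw
  · rintro rfl
    exact ⟨hz, haz⟩

end

end Cfsg.Agent.Lib.H15.S77
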