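import Cfsg.Agent.Lib.H23.ExtGeneral
import Cfsg.Agent.Lib.H28.NT.Defs

/-!
S4892 piece (GLUE): abstract gluing of canonical extensions (port of `H23.ExtGeneral`, lines 204-340, to
functions on `G`).  PURE character theory (Brauer's characterization of characters).
-/

set_option autoImplicit false

namespace Cfsg.Agent.Lib.H15.NT

open Cfsg.Agent.Lib.H21.AD Cfsg.Agent.Lib.H28.NT
open Cfsg.Agent.Lib.L0 Cfsg.Agent.Lib.H24 Cfsg.Agent.Lib.H8 Cfsg.Agent.Lib.H23
open scoped ComplexConjugate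

variable {G : Type*} [Group G] [Finite G]

/-- the sum of `|f|²` over a coset of `N` equals `|N|` for an extension `f` of `θ` to `H ⊇ N` -/
theorem isExt_coset_sum (N : Subgroup G) [N.Normal] [Fintype N] (θ : G → ℂ)
    (hθ : Cfsg.IsIrrCharacter N (fun n : N => θ n)) {H : Subgroup G} (hNH : N ≤ H) {f : G → ℂ}
    (hf : IsExt N θ H f) (g : G) (hg : g ∈ H) :
    ∑ n : N, f ((n : G) * g) * conj (f ((n : G) * g)) = (Nat.card N : ℂ) := by
  classical
  have : Fintype H := Fintype.ofFinite H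
  set N' : Subgroup H := N.subgroupOf H with hN'
  have : Fintype N' := Fintype.ofFinite N'
  set e : N' ≃* N := Subgroup.subgroupOfEquivOfLe hNH with he
  set ψ : H → ℂ := fun y : H => f y with hψ
  have hψN' : Cfsg.IsIrrCharacter N' (fun n' : N' => ψ n') := by
    have h4 : (fun n' : N' => ψ n') = (fun n : N => θ n) ∘ e := by
      funext n'
      exact hf.2 (e n' : G) (e n').2
    rw [h4]
    exact isIrrCharacter_comp_of_surjective e.toMonoidHom e.surjective hθ
  have h1 := (Cfsg.Agent.S0868.result N' ψ hf.1 hψN' ψ hf.1 _ rfl).2.2 rfl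
  have h2 := congrFun h1 ⟨g, hg⟩
  have hcard : Nat.card N' = Nat.card N := Nat.card_congr e.toEquiv
  have hne : (Nat.card N : ℂ) ≠ 0 := Nat.cast_ne_zero.mpr (Nat.card_pos (α := N)).ne'
  rw [hcard, inv_mul_eq_one₀ hne] at h2
  rw [h2]
  symm
  apply Fintype.sum_equiv e.toEquiv
  intro n'
  rfl

/-- (GLUE) -/
theorem glue (N : Subgroup G) [N.Normal] (θ : G → ℂ)
    (hθ : Cfsg.IsIrrCharacter N (fun n : N => θ n))
    (Good : Subgroup G → (G → ℂ) → Prop)
    (hext : ∀ (H : Subgroup G) (f : G → ℂ), N ≤ H → Good H f → IsExt N θ H f)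
    (huniq : ∀ (H : Subgroup G) (f₁ f₂ : G → ℂ), N ≤ H → Good H f₁ → Good H f₂ → ∀ g ∈ H, f₁ g = f₂ g)
    (hex : ∀ E : Subgroup G, Group.IsNilpotent E → ∃ f : G → ℂ, Good (E ⊔ N) f)
    (hres : ∀ (K H : Subgroup G) (f : G → ℂ), N ≤ K → K ≤ H → Good H f → Good K f)
    (hconj : ∀ (H : Subgroup G) (f : G → ℂ) (t : G), N ≤ H → Good H f →
      Good (H.map (MulAut.conj t).toMonoidHom) (fun x => f (t⁻¹ * x * t))) :
    ∃ χ : G → ℂ, Cfsg.IsIrrCharacter G χ ∧ (∀ n ∈ N, χ n = θ n) ∧
      ∀ (H : Subgroup G) (f : G → ℂ), N ≤ H → Good H f → ∀ g ∈ H, χ g = f g := by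
  classical
  have : Fintype G := Fintype.ofFinite G
  have : Fintype N := Fintype.ofFinite N
  have hznil : ∀ g : G, Group.IsNilpotent (Subgroup.zpowers g) := by
    intro g
    let _ : CommGroup (Subgroup.zpowers g) := IsCyclic.commGroup
    exact CommGroup.isNilpotent
  have hcyc : ∀ g : G, ∃ f : G → ℂ, Good (Subgroup.zpowers g ⊔ N) f := fun g =>
    hex (Subgroup.zpowers g) (hznil g)
  choose F hF using hcyc
  have hmemz : ∀ g : G, g ∈ Subgroup.zpowers g ⊔ N := fun g =>
    le_sup_left (a := Subgroup.zpowers g) (Subgroup.mem_zpowers g)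
  set χ : G → ℂ := fun g => F g g with hχdef
  have hχ : ∀ (H : Subgroup G) (f : G → ℂ), N ≤ H → Good H f → ∀ g ∈ H, χ g = f g := by
    intro H f hNH hf g hg
    have hle : Subgroup.zpowers g ⊔ N ≤ H := sup_le ((Subgroup.zpowers_le).mpr hg) hNH
    have h1 := hres (Subgroup.zpowers g ⊔ N) H f le_sup_right hle hf
    exact huniq (Subgroup.zpowers g ⊔ N) (F g) f le_sup_right (hF g) h1 g (hmemz g)
  have hNmap : ∀ (x : G) (H : Subgroup G), N ≤ H → N ≤ H.map (MulAut.conj x).toMonoidHom := by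
    intro x H hNH n hn
    refine ⟨x⁻¹ * n * x, hNH ?_, ?_⟩
    · have := Subgroup.Normal.conj_mem (inferInstance : N.Normal) n hn x⁻¹
      rwa [inv_inv] at this
    · simp [MulAut.conj_apply]
      group
  -- class function
  have hcf : Cfsg.IsClassFunction G χ := by
    intro g x
    have h2 := hconj (Subgroup.zpowers g ⊔ N) (F g) x le_sup_right (hF g)
    have hmem : x * g * x⁻¹ ∈ (Subgroup.zpowers g ⊔ N).map (MulAut.conj x).toMonoidHom :=
      ⟨g, hmemz g, rfl⟩
    have h3 := hχ _ _ (hNmap x _ le_sup_right) h2 (x * g * x⁻¹) hmem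
    rw [h3]
    show F g (x⁻¹ * (x * g * x⁻¹) * x) = F g g
    congr 1
    group
  -- restriction to `N`
  have hresN : ∀ n ∈ N, χ n = θ n := fun n hn =>
    (hext _ _ le_sup_right (hF n)).2 n hn
  -- elementary subgroups
  have hel : ∀ (E : Subgroup G) (p : ℕ), p.Prime → Cfsg.IsElementary p E →
      Cfsg.IsGeneralizedCharacter E (fun e : E => χ e) := by
    intro E p hp hE
    have hnil : Group.IsNilpotent E := isNilpotent_of_isElementary hp hE
    obtain ⟨f, hf⟩ := hex E hnil
    apply isGeneralizedCharacter_of_isCharacter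
    have h1 : (fun e : E => χ e) =
        (fun y : (E ⊔ N : Subgroup G) => f y) ∘ (Subgroup.inclusion (le_sup_left : E ≤ E ⊔ N)) := by
      funext e
      rw [hχ _ _ le_sup_right hf (e : G) (le_sup_left (a := E) e.2)]
      rfl
    rw [h1]
    exact isCharacter_comp _ (isCharacter_of_irr (hext _ _ le_sup_right hf).1)
  have hgen : Cfsg.IsGeneralizedCharacter G χ := brauer_characterization hcf hel
  -- norm one
  have hnorm : Cfsg.classInner χ χ = 1 := by
    have hcoset : ∀ g : G, ∑ n : N, χ ((n : G) * g) * conj (χ ((n : G) * g)) = (Nat.card N : ℂ) := by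
      intro g
      have hfe := hext _ _ le_sup_right (hF g)
      rw [← isExt_coset_sum N θ hθ le_sup_right hfe g (hmemz g)]
      refine Finset.sum_congr rfl fun n _ => ?_
      rw [hχ _ _ le_sup_right (hF g) ((n : G) * g)
        ((Subgroup.zpowers g ⊔ N).mul_mem (le_sup_right (a := Subgroup.zpowers g) n.2) (hmemz g))]
    have hshift : ∀ n : N, ∑ g : G, χ ((n : G) * g) * conj (χ ((n : G) * g)) =
        ∑ g : G, χ g * conj (χ g) := by
      intro n
      exact Fintype.sum_equiv (Equiv.mulLeft (n : G)) _ _ (fun g => rfl)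
    have hNne : (Nat.card N : ℂ) ≠ 0 := Nat.cast_ne_zero.mpr (Nat.card_pos (α := N)).ne'
    have hGne : (Nat.card G : ℂ) ≠ 0 := Nat.cast_ne_zero.mpr (Nat.card_pos (α := G)).ne'
    have h1 : (Nat.card N : ℂ) * ∑ g : G, χ g * conj (χ g) =
        (Nat.card N : ℂ) * (Nat.card G : ℂ) := by
      have h2 : ∑ n : N, ∑ g : G, χ ((n : G) * g) * conj (χ ((n : G) * g)) =
          (Nat.card N : ℂ) * ∑ g : G, χ g * conj (χ g) := by
        rw [Finset.sum_congr rfl (fun n _ => hshift n), Finset.sum_const, Finset.card_univ,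
          nsmul_eq_mul, Nat.card_eq_fintype_card]
      rw [← h2, Finset.sum_comm, Finset.sum_congr rfl (fun g _ => hcoset g), Finset.sum_const,
        Finset.card_univ, nsmul_eq_mul, Nat.card_eq_fintype_card (α := G), mul_comm]
    have h3 : ∑ g : G, χ g * conj (χ g) = (Nat.card G : ℂ) := mul_left_cancel₀ hNne h1
    unfold Cfsg.classInner
    rw [h3, inv_mul_cancel₀ hGne]
  rcases genChar_norm_one hgen hnorm with h | h
  · exact ⟨χ, h, hresN, hχ⟩
  · exfalso
    obtain ⟨m, hm, hm1⟩ := Cfsg.Agent.Lib.H24.irr_one_eq ⟨-χ, h⟩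
    obtain ⟨d, hd, hd1⟩ := Cfsg.Agent.Lib.H24.irr_one_eq ⟨fun n : N => θ n, hθ⟩
    have h1 : χ 1 = d := by
      rw [hresN 1 N.one_mem]
      exact hd1
    simp only [Pi.neg_apply] at hm1
    rw [h1] at hm1
    have h2 : ((d + m : ℕ) : ℂ) = 0 := by
      push_cast
      rw [← hm1]
      ring
    have h3 : d + m = 0 := by exact_mod_cast h2
    omega

end Cfsg.Agent.Lib.H15.NT
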