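import Mathlib
import Cfsg.Prelude.Def_Blocks
import Cfsg.Agent.Lib.H21.AD.Defs

/-!
S4937 piece (LC3): on a nilpotent subgroup `E` the function `L` (characterised by good twists) is a linear
character.  `lamFun_nilpotent_core` takes the pieces (SOL) and (POWHOM) as hypotheses.
-/

set_option autoImplicit false
open Cfsg.Agent.Lib.H21.AD
namespace Cfsg.Agent.Lib.H15.AD

variable {G : Type*} [Group G] [Finite G] {p : ℕ}

theorem lamFun_nilpotent_core (hp : p.Prime) (N : Subgroup G) [N.Normal] (ψ : G → ℂ) (e : ℕ)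
    (he0 : ∀ g : G, ¬ p ∣ orderOf (g ^ e))
    (L : G → ℂ)
    (hL : ∀ (J : Subgroup G) (ν : G → ℂ) (g : G), N ≤ J → ¬ p ∣ N.relIndex J →
      Good p ψ N J ν → g ^ e ∈ J → L g = ν (g ^ e))
    (E : Subgroup G) (hE : Group.IsNilpotent E)
    (hsol : ∀ J : Subgroup G, N ≤ J → ¬ p ∣ N.relIndex J →
      Group.IsSolvable (↥J ⧸ N.subgroupOf J) → ∃ ν : G → ℂ, Good p ψ N J ν)
    (hpow : ∀ a b : G, a ∈ E → b ∈ E → (a * b) ^ e = a ^ e * b ^ e) :
    ∃ β : E →* ℂˣ, ∀ u : E, L u = (β u : ℂ) := by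
  classical
  -- the `p'`-part homomorphism on `E`
  let φ : E →* G :=
    { toFun := fun u => (u : G) ^ e
      map_one' := by simp
      map_mul' := fun a b => by simpa using hpow a b a.2 b.2 }
  have hφ : ∀ u : E, φ u = (u : G) ^ e := fun _ => rfl
  let K : Subgroup G := φ.range
  have hKmem : ∀ u : E, (u : G) ^ e ∈ K := fun u => ⟨u, rfl⟩
  have hKreg : ∀ k ∈ K, ¬ p ∣ orderOf k := by
    rintro k ⟨u, rfl⟩
    exact he0 (u : G)
  have hKcard : ¬ p ∣ Nat.card K := by
    intro hdvd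
    have : Fact p.Prime := ⟨hp⟩
    obtain ⟨k, hk⟩ := exists_prime_orderOf_dvd_card' p hdvd
    have h1 := hKreg (k : G) k.2
    rw [Subgroup.orderOf_coe, hk] at h1
    exact h1 dvd_rfl
  -- `K` is nilpotent, hence solvable
  have hKnil : Group.IsNilpotent K :=
    Group.nilpotent_of_surjective φ.rangeRestrict φ.rangeRestrict_surjective
  have hKsol : Group.IsSolvable K := inferInstance
  -- `J := K ⊔ N`
  have hNJ : N ≤ K ⊔ N := le_sup_right
  have hKJ : K ≤ K ⊔ N := le_sup_left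
  have hidx : ¬ p ∣ N.relIndex (K ⊔ N) := by
    rw [Subgroup.relIndex_sup_right]
    intro h
    exact hKcard (dvd_trans h (Subgroup.relIndex_dvd_card N K))
  have hJsol : Group.IsSolvable (↥(K ⊔ N) ⧸ N.subgroupOf (K ⊔ N)) := by
    have h1 : Group.IsSolvable (↥K ⧸ N.subgroupOf K) := inferInstance
    exact Group.isSolvable_of_surjective
      (f := (QuotientGroup.quotientInfEquivProdNormalQuotient K N).toMonoidHom)
      (QuotientGroup.quotientInfEquivProdNormalQuotient K N).surjective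
  obtain ⟨ν, hν⟩ := hsol (K ⊔ N) hNJ hidx hJsol
  have hmul := hν.1.1
  have hone := hν.1.2
  have hLu : ∀ u : E, L u = ν ((u : G) ^ e) := fun u =>
    hL (K ⊔ N) ν (u : G) hNJ hidx hν (hKJ (hKmem u))
  have hν1 : ν 1 = 1 := hone 1 N.one_mem
  -- the monoid hom `E →* ℂ`
  let f : E →* ℂ :=
    { toFun := fun u => ν ((u : G) ^ e)
      map_one' := by simp [hν1]
      map_mul' := fun a b => by
        have h := hpow a b a.2 b.2
        show ν (((a * b : E) : G) ^ e) = _
        rw [Subgroup.coe_mul, h]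
        exact hmul _ (hKJ (hKmem a)) _ (hKJ (hKmem b)) }
  refine ⟨f.toHomUnits, fun u => ?_⟩
  rw [hLu u]
  rfl

end Cfsg.Agent.Lib.H15.AD
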