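import Mathlib
import Cfsg.Agent.Lib.H15.Conj
import Cfsg.Agent.Lib.H5.SylowIn
import Cfsg.Agent.Lib.H26.Basic

/-!
Sylow subgroups, normal subgroups and quotients, phrased with `IsSylowIn` (helper15's shared library).
-/

set_option autoImplicit false

namespace Cfsg.Agent.Lib.H15

open Cfsg.Agent.Lib.H5

variable {G : Type*} [Group G] [Finite G] {p : ℕ} [Fact p.Prime]

theorem card_le_card_of_le' {H K : Subgroup G} (h : H ≤ K) : Nat.card H ≤ Nat.card K :=
  Nat.card_le_card_of_injective (Subgroup.inclusion h) (Subgroup.inclusion_injective h)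

/-- `P ∩ N` is a Sylow `p`-subgroup of the normal subgroup `N`. -/
theorem isSylowIn_inf_normal (P : Sylow p G) (N : Subgroup G) [hN : N.Normal] :
    IsSylowIn p ((P : Subgroup G) ⊓ N) N := by
  refine ⟨inf_le_right, P.isPGroup'.to_le inf_le_left, ?_⟩
  intro Q hQ hPQ hQN
  obtain ⟨u, hu⟩ := Cfsg.Agent.Lib.H26.exists_conj_mem_sylow P Q hQ
  have h1 : cj u Q ≤ (P : Subgroup G) ⊓ N := by
    rintro _ ⟨y, hy, rfl⟩
    refine ⟨?_, ?_⟩
    · simpa using hu y hy
    · simpa using hN.conj_mem y (hQN hy) u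
  have h2 : Nat.card Q ≤ Nat.card ((P : Subgroup G) ⊓ N : Subgroup G) := by
    rw [← card_cj u Q]; exact card_le_card_of_le' h1
  exact (eq_of_le_of_card_le' hPQ h2).symm

theorem isSylowIn_cj {P H : Subgroup G} (h : IsSylowIn p P H) (a : G) :
    IsSylowIn p (cj a P) (cj a H) := h.conj a

/-- Sylow subgroups of a subgroup `H` are conjugate under `H`. -/
theorem IsSylowIn.exists_cj_eq {P Q H : Subgroup G} (hP : IsSylowIn p P H) (hQ : IsSylowIn p Q H) :
    ∃ z ∈ H, Q = cj z P := hP.exists_conj hQ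

/-- The preimage in `P` of a subgroup `Rbar` of the image of `P` in `G ⧸ N` is a Sylow `p`-subgroup
of the full preimage of `Rbar`. -/
theorem isSylowIn_preimage (P : Sylow p G) (N : Subgroup G) [hN : N.Normal]
    (Rbar : Subgroup (G ⧸ N)) (hR : Rbar ≤ (P : Subgroup G).map (QuotientGroup.mk' N)) :
    IsSylowIn p ((P : Subgroup G) ⊓ Rbar.comap (QuotientGroup.mk' N)) (Rbar.comap (QuotientGroup.mk' N)) := by
  refine ⟨inf_le_right, P.isPGroup'.to_le inf_le_left, ?_⟩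
  intro Q hQ hR1Q hQL
  apply le_antisymm _ hR1Q
  intro s hs
  have hsL : QuotientGroup.mk' N s ∈ Rbar := hQL hs
  obtain ⟨r, hrP, hrs⟩ := hR hsL
  have hrR1 : r ∈ (P : Subgroup G) ⊓ Rbar.comap (QuotientGroup.mk' N) := by
    refine Subgroup.mem_inf.mpr ⟨hrP, ?_⟩
    rw [Subgroup.mem_comap, hrs]; exact hsL
  have hn : r⁻¹ * s ∈ N := by
    rw [← QuotientGroup.eq]
    exact hrs
  have hPN_le : (P : Subgroup G) ⊓ N ≤ (P : Subgroup G) ⊓ Rbar.comap (QuotientGroup.mk' N) := by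
    intro y hy
    refine Subgroup.mem_inf.mpr ⟨hy.1, ?_⟩
    rw [Subgroup.mem_comap]
    have : QuotientGroup.mk' N y = 1 := by
      rw [← MonoidHom.mem_ker, QuotientGroup.ker_mk']; exact hy.2
    rw [this]; exact Rbar.one_mem
  have hQN : Q ⊓ N = (P : Subgroup G) ⊓ N := by
    apply (isSylowIn_inf_normal P N).2.2 (Q ⊓ N) (hQ.to_le inf_le_left) _ inf_le_right
    exact le_inf (hPN_le.trans hR1Q) inf_le_right
  have hnQ : r⁻¹ * s ∈ Q ⊓ N := ⟨Q.mul_mem (Q.inv_mem (hR1Q hrR1)) hs, hn⟩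
  rw [hQN] at hnQ
  have : s = r * (r⁻¹ * s) := by group
  rw [this]
  exact Subgroup.mul_mem _ hrR1 (hPN_le hnQ)

end Cfsg.Agent.Lib.H15
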