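import Mathlib
import Cfsg.Agent.Lib.H15.Conj

/-!
Normalizers of joins and commutators, and a nilpotency criterion (helper15's shared library).
-/

set_option autoImplicit false

namespace Cfsg.Agent.Lib.H15

variable {G : Type*} [Group G]

theorem cj_sup (g : G) (H K : Subgroup G) : cj g (H ⊔ K) = cj g H ⊔ cj g K :=
  Subgroup.map_sup H K _

theorem cj_commutator (g : G) (H K : Subgroup G) : cj g ⁅H, K⁆ = ⁅cj g H, cj g K⁆ :=
  Subgroup.map_commutator H K _

theorem mem_normalizer_sup {g : G} {H K : Subgroup G} (h1 : g ∈ Subgroup.normalizer (H : Set G))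
    (h2 : g ∈ Subgroup.normalizer (K : Set G)) : g ∈ Subgroup.normalizer ((H ⊔ K : Subgroup G) : Set G) := by
  rw [mem_normalizer_iff_cj_eq] at h1 h2 ⊢
  rw [cj_sup, h1, h2]

theorem mem_normalizer_commutator {g : G} {H K : Subgroup G} (h1 : g ∈ Subgroup.normalizer (H : Set G))
    (h2 : g ∈ Subgroup.normalizer (K : Set G)) : g ∈ Subgroup.normalizer ((⁅H, K⁆ : Subgroup G) : Set G) := by
  rw [mem_normalizer_iff_cj_eq] at h1 h2 ⊢
  rw [cj_commutator, h1, h2]

theorem le_normalizer_sup {X H K : Subgroup G} (h1 : X ≤ Subgroup.normalizer (H : Set G))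
    (h2 : X ≤ Subgroup.normalizer (K : Set G)) : X ≤ Subgroup.normalizer ((H ⊔ K : Subgroup G) : Set G) :=
  fun _ hx => mem_normalizer_sup (h1 hx) (h2 hx)

theorem le_normalizer_commutator {X H K : Subgroup G} (h1 : X ≤ Subgroup.normalizer (H : Set G))
    (h2 : X ≤ Subgroup.normalizer (K : Set G)) : X ≤ Subgroup.normalizer ((⁅H, K⁆ : Subgroup G) : Set G) :=
  fun _ hx => mem_normalizer_commutator (h1 hx) (h2 hx)

/-- a subgroup `Q` of a nilpotent subgroup `T` with `Q ≤ [Q, T]` is trivial -/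
theorem eq_bot_of_le_commutator {Q T : Subgroup G} (hT : Group.IsNilpotent ↥T) (hQT : Q ≤ T)
    (h : Q ≤ ⁅Q, T⁆) : Q = ⊥ := by
  obtain ⟨n, hn⟩ := (Subgroup.isNilpotent_iff_lowerCentralSeries T).mp hT
  have key : ∀ k, Q ≤ T.lowerCentralSeries k := by
    intro k
    induction k with
    | zero => exact hQT
    | succ k ih =>
      rw [Subgroup.lowerCentralSeries_succ]
      exact h.trans (Subgroup.commutator_mono ih le_rfl)
  rw [eq_bot_iff, ← hn]
  exact key n

end Cfsg.Agent.Lib.H15
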