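import Mathlib
import Cfsg.Agent.Lib.H15.Conj
import Cfsg.Agent.Lib.H15.NormComm
import Cfsg.Agent.Lib.H1.CoprimeAction
import Cfsg.Agent.Lib.H1.CharSubgroup
import Cfsg.Agent.Lib.H1.PGroupBasic
import Cfsg.Agent.Lib.H7.Coprime
import Cfsg.Agent.Lib.H22.UniqueOrderP

/-!
For odd `p`: a `p'`-element normalizing a `p`-group `Q` and centralizing every element of `Q` of order
dividing `p` centralizes `Q` (helper15's shared library).
-/

set_option autoImplicit false

namespace Cfsg.Agent.Lib.H15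

open scoped commutatorElement

/-- in a group where all commutators and all `p`-th powers are central (`p` odd), the `p`-power map is
multiplicative -/
theorem mul_pow_prime_of_central {Q : Type*} [Group Q] {p : ℕ} [hp : Fact p.Prime] (hp2 : p ≠ 2)
    (hcomm : ∀ u v g : Q, g * (v * u * v⁻¹ * u⁻¹) = (v * u * v⁻¹ * u⁻¹) * g)
    (hpow : ∀ v g : Q, g * v ^ p = v ^ p * g) (u v : Q) : (u * v) ^ p = u ^ p * v ^ p := by
  have hc := hcomm u v
  have h1 := Cfsg.Agent.Lib.H22.pow_mul_comm_of_central hc p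
  have h2 : v ^ p * u = u * v ^ p := (hpow v u).symm
  have hcp : (v * u * v⁻¹ * u⁻¹) ^ p = 1 := by
    have : (v * u * v⁻¹ * u⁻¹) ^ p * (u * v ^ p) = 1 * (u * v ^ p) := by
      rw [one_mul, ← mul_assoc, ← h1, h2]
    exact mul_right_cancel this
  rw [Cfsg.Agent.Lib.H22.mul_pow_of_central hc p]
  have hodd : Odd p := hp.out.eq_two_or_odd'.resolve_left hp2
  obtain ⟨k, hk⟩ := hodd
  have : p * (p - 1) / 2 = p * k := by
    have : p - 1 = 2 * k := by omega
    rw [this, ← mul_assoc, mul_comm p 2, mul_assoc, Nat.mul_div_cancel_left _ two_pos]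
  rw [this, pow_mul, hcp, one_pow, mul_one]

variable {G : Type*} [Group G] [Finite G] {p : ℕ} [hp : Fact p.Prime]

theorem centralizer_zpowers_eq (g : G) :
    Subgroup.centralizer ((Subgroup.zpowers g : Subgroup G) : Set G) = Subgroup.centralizer ({g} : Set G) := by
  rw [Subgroup.zpowers_eq_closure, Subgroup.centralizer_closure]

theorem le_centralizer_zpowers_iff {Q : Subgroup G} {g : G} :
    Q ≤ Subgroup.centralizer ((Subgroup.zpowers g : Subgroup G) : Set G) ↔ ∀ x ∈ Q, g * x = x * g := by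
  rw [centralizer_zpowers_eq]
  constructor
  · intro h x hx
    exact (Subgroup.mem_centralizer_iff.mp (h hx)) g rfl
  · intro h x hx
    rw [Subgroup.mem_centralizer_iff]
    intro y hy
    rw [Set.mem_singleton_iff] at hy
    rw [hy]; exact h x hx

/-- **Odd `p`**: a `p'`-element `g` normalizing the `p`-group `Q` and commuting with every `x ∈ Q`
with `x ^ p = 1` centralizes `Q`. -/
theorem commute_of_commute_omega_aux (hp2 : p ≠ 2) {g : G} (hg : (orderOf g).Coprime p) :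
    ∀ (n : ℕ) (Q : Subgroup G), Nat.card Q = n → IsPGroup p ↥Q →
      g ∈ Subgroup.normalizer (Q : Set G) → (∀ x ∈ Q, x ^ p = 1 → g * x = x * g) →
      ∀ x ∈ Q, g * x = x * g := by
  intro n
  induction n using Nat.strong_induction_on with
  | _ n ih =>
  intro Q hn hQ hgN hΩ
  set Z := Subgroup.zpowers g with hZdef
  have hZN : Z ≤ Subgroup.normalizer (Q : Set G) := by rw [hZdef, Subgroup.zpowers_le]; exact hgN
  have hcopQ : ∀ R : Subgroup G, R ≤ Q → (orderOf g).Coprime (Nat.card R) := by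
    intro R hR
    obtain ⟨k, hk⟩ := IsPGroup.iff_card.mp (hQ.to_le hR)
    rw [hk]; exact Nat.Coprime.pow_right k hg
  have hA : Cfsg.Agent.Lib.H1.CoprimeAction Z Q := by
    refine ⟨hZN, ?_, Or.inr ?_⟩
    · rw [hZdef, Nat.card_zpowers]; exact hcopQ Q le_rfl
    · haveI : Group.IsNilpotent ↥Q := hQ.isNilpotent
      infer_instance
  by_cases hQbot : Q = ⊥
  · intro x hx
    rw [hQbot, Subgroup.mem_bot] at hx
    rw [hx, mul_one, one_mul]
  -- the Frattini subgroup
  set Φ := (frattini ↥Q).map Q.subtype with hΦdef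
  have hΦQ : Φ ≤ Q := Subgroup.map_subtype_le _
  have hΦne : Φ ≠ Q := by
    intro h
    have h1 : frattini ↥Q = ⊤ := by
      rw [eq_top_iff]
      intro x _
      have hx : (x : G) ∈ Φ := by rw [h]; exact x.2
      obtain ⟨y, hy, hyx⟩ := hx
      have : y = x := Subtype.ext hyx
      rw [← this]; exact hy
    have h2 : (⊥ : Subgroup ↥Q) ⊔ frattini ↥Q = ⊤ := by rw [h1, bot_sup_eq]
    have h3 := frattini_nongenerating h2
    apply hQbot
    rw [eq_bot_iff]
    intro x hx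
    have : (⟨x, hx⟩ : ↥Q) ∈ (⊥ : Subgroup ↥Q) := by rw [h3]; exact Subgroup.mem_top _
    rw [Subgroup.mem_bot] at this
    rw [Subgroup.mem_bot]
    exact congrArg Subtype.val this
  have hcard_lt : ∀ R : Subgroup G, R ≤ Q → R ≠ Q → Nat.card R < n := by
    intro R hR hne
    rw [← hn]
    by_contra hlt
    push Not at hlt
    exact hne (eq_of_le_of_card_le' hR hlt)
  have hΦN : Subgroup.normalizer (Q : Set G) ≤ Subgroup.normalizer (Φ : Set G) :=
    Cfsg.Agent.Lib.H1.normalizer_le_normalizer_map_of_characteristic (frattini ↥Q)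
  have hgΦ : ∀ x ∈ Φ, g * x = x * g :=
    ih _ (hcard_lt Φ hΦQ hΦne) Φ rfl (hQ.to_le hΦQ) (hΦN hgN) (fun x hx hxp => hΩ x (hΦQ hx) hxp)
  set Q₁ := ⁅Q, Z⁆ with hQ₁def
  have hQ₁Q : Q₁ ≤ Q := hA.commutator_le
  have hZQ₁ : Z ≤ Subgroup.normalizer (Q₁ : Set G) := Subgroup.normalizer_commutator_ge_right Q Z
  by_cases hQ₁ : Q₁ = Q
  · -- `Φ` is central in `Q`
    have h1 : ⁅Φ, Z⁆ = ⊥ := by
      rw [Subgroup.commutator_eq_bot_iff_le_centralizer, le_centralizer_zpowers_iff]; exact hgΦ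
    have hQΦ : Q ≤ Subgroup.normalizer (Φ : Set G) := Subgroup.le_normalizer.trans hΦN
    have h2 : ⁅⁅Q, Φ⁆, Z⁆ = ⊥ := by
      have : ⁅Q, Φ⁆ ≤ Φ := by
        rw [Subgroup.commutator_comm]
        exact Subgroup.le_normalizer_iff_commutator_le_left.mp hQΦ
      rw [eq_bot_iff, ← h1]
      exact Subgroup.commutator_mono this le_rfl
    have h3 : ⁅⁅Φ, Z⁆, Q⁆ = ⊥ := by rw [h1, Subgroup.commutator_bot_left]
    have h4 : ⁅⁅Z, Q⁆, Φ⁆ = ⊥ := Subgroup.commutator_commutator_eq_bot_of_rotate h2 h3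
    rw [Subgroup.commutator_comm Z Q, ← hQ₁def, hQ₁] at h4
    have hΦc : ∀ f ∈ Φ, ∀ q ∈ Q, q * f = f * q := by
      intro f hf q hq
      have := Subgroup.commutator_eq_bot_iff_le_centralizer.mp h4 hq
      exact ((Subgroup.mem_centralizer_iff.mp this) f hf).symm
    -- commutators and p-th powers of `Q` lie in `Φ`
    have hcommΦ : ∀ u v : ↥Q, ((v * u * v⁻¹ * u⁻¹ : ↥Q) : G) ∈ Φ := by
      intro u v
      refine ⟨v * u * v⁻¹ * u⁻¹, ?_, rfl⟩
      apply Cfsg.Agent.Lib.H1.isPGroup_commutator_le_frattini hQ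
      rw [commutator_def]
      exact Subgroup.commutator_mem_commutator (Subgroup.mem_top v) (Subgroup.mem_top u)
    have hpowΦ : ∀ v : ↥Q, ((v ^ p : ↥Q) : G) ∈ Φ :=
      fun v => ⟨v ^ p, Cfsg.Agent.Lib.H1.isPGroup_pow_mem_frattini hQ v, rfl⟩
    have hmulpow : ∀ u v : ↥Q, (u * v) ^ p = u ^ p * v ^ p := by
      apply mul_pow_prime_of_central hp2
      · intro u v w
        apply Subtype.ext
        exact hΦc _ (hcommΦ u v) w w.2
      · intro v w
        apply Subtype.ext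
        exact hΦc _ (hpowΦ v) w w.2
    -- every commutator `[g, x]` has order dividing `p`
    have hconj : ∀ x ∈ Q, g * x * g⁻¹ ∈ Q := fun x hx => (Subgroup.mem_normalizer_iff.mp hgN x).mp hx
    have hstep : ∀ q ∈ Q, g * q * g⁻¹ * q⁻¹ ∈ Q ⊓ Subgroup.centralizer ({g} : Set G) := by
      intro q hq
      have hcQ : g * q * g⁻¹ * q⁻¹ ∈ Q := Q.mul_mem (hconj q hq) (Q.inv_mem hq)
      refine Subgroup.mem_inf.mpr ⟨hcQ, ?_⟩
      have hp1 : (g * q * g⁻¹ * q⁻¹) ^ p = 1 := by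
        have h5 := hmulpow ⟨g * q * g⁻¹, hconj q hq⟩ ⟨q, hq⟩⁻¹
        have h6 := congrArg (Subtype.val) h5
        simp only [Subgroup.coe_pow, Subgroup.coe_mul, Subgroup.coe_inv] at h6
        rw [h6, conj_pow]
        have h7 : g * q ^ p = q ^ p * g := by
          have := hgΦ _ (hpowΦ ⟨q, hq⟩)
          simpa using this
        rw [h7, mul_inv_cancel_right, inv_pow, mul_inv_cancel]
      have := hΩ _ hcQ hp1
      rw [Subgroup.mem_centralizer_iff]
      intro y hy
      rw [Set.mem_singleton_iff] at hy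
      rw [hy]; exact this
    exact Cfsg.Agent.Lib.H7.commute_of_stable_step (hcopQ _ inf_le_left) hstep
      (fun r hr => ((Subgroup.mem_centralizer_iff.mp hr.2) g rfl))
  · -- `[Q, g] < Q`
    have hgQ₁ : ∀ x ∈ Q₁, g * x = x * g :=
      ih _ (hcard_lt Q₁ hQ₁Q hQ₁) Q₁ rfl (hQ.to_le hQ₁Q) (hZQ₁ (Subgroup.mem_zpowers g))
        (fun x hx hxp => hΩ x (hQ₁Q hx) hxp)
    have h1 : ⁅Q₁, Z⁆ = ⊥ := by
      rw [Subgroup.commutator_eq_bot_iff_le_centralizer, le_centralizer_zpowers_iff]; exact hgQ₁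
    have h2 : ⁅⁅Q, Z⁆, Z⁆ = ⁅Q, Z⁆ := Cfsg.Agent.Lib.H1.coprime_commutator_commutator hA
    rw [← hQ₁def, h1] at h2
    have h3 : Q ≤ Subgroup.centralizer ((Z : Subgroup G) : Set G) :=
      Subgroup.commutator_eq_bot_iff_le_centralizer.mp h2.symm
    exact le_centralizer_zpowers_iff.mp h3

theorem commute_of_commute_omega (hp2 : p ≠ 2) {g : G} (hg : (orderOf g).Coprime p) {Q : Subgroup G}
    (hQ : IsPGroup p ↥Q) (hgN : g ∈ Subgroup.normalizer (Q : Set G))
    (hΩ : ∀ x ∈ Q, x ^ p = 1 → g * x = x * g) : ∀ x ∈ Q, g * x = x * g :=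
  commute_of_commute_omega_aux hp2 hg (Nat.card Q) Q rfl hQ hgN hΩ

end Cfsg.Agent.Lib.H15
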