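import Cfsg.Agent.Lib.H15.MaxAb

/-!
A centrally large subgroup `Q` and an abelian subgroup `A` of largest order (helper15's shared library).
-/

set_option autoImplicit false

namespace Cfsg.Agent.Lib.H15

open scoped Pointwise

variable {G : Type*} [Group G] [Finite G]

/-- arithmetic core -/
theorem cl_ab_arith {a z i w w' α h y : ℕ} (ha : 0 < a) (hi : 0 < i) (hw : 0 < w)
    (h3 : z * i ≤ w' * y) (h3' : w' ≤ w) (h3'' : y ≤ α) (h5 : a * α ≤ i * h) (h6 : h * w ≤ a * z) :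
    a * α = i * h ∧ h * w = a * z ∧ y = α ∧ z * i = w' * y := by
  have c1 : a * z * i ≤ a * (w' * y) := by rw [mul_assoc]; exact Nat.mul_le_mul_left _ h3
  have c2 : a * (w' * y) ≤ a * (w * y) := Nat.mul_le_mul_left _ (Nat.mul_le_mul_right _ h3')
  have c3 : a * (w * y) ≤ a * (w * α) := Nat.mul_le_mul_left _ (Nat.mul_le_mul_left _ h3'')
  have c4 : a * (w * α) = w * (a * α) := by ring
  have c5 : w * (a * α) ≤ w * (i * h) := Nat.mul_le_mul_left _ h5
  have c6 : w * (i * h) = i * (h * w) := by ring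
  have c7 : i * (h * w) ≤ i * (a * z) := Nat.mul_le_mul_left _ h6
  have c8 : i * (a * z) = a * z * i := by ring
  have e5 : w * (a * α) = w * (i * h) := by
    apply le_antisymm c5
    calc w * (i * h) = i * (h * w) := c6
      _ ≤ i * (a * z) := c7
      _ = a * z * i := c8
      _ ≤ a * (w' * y) := c1
      _ ≤ a * (w * y) := c2
      _ ≤ a * (w * α) := c3
      _ = w * (a * α) := c4
  have e7 : i * (h * w) = i * (a * z) := by
    apply le_antisymm c7
    calc i * (a * z) = a * z * i := c8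
      _ ≤ a * (w' * y) := c1
      _ ≤ a * (w * y) := c2
      _ ≤ a * (w * α) := c3
      _ = w * (a * α) := c4
      _ ≤ w * (i * h) := c5
      _ = i * (h * w) := c6
  have e3 : a * (w * y) = a * (w * α) := by
    apply le_antisymm c3
    calc a * (w * α) = w * (a * α) := c4
      _ ≤ w * (i * h) := c5
      _ = i * (h * w) := c6
      _ ≤ i * (a * z) := c7
      _ = a * z * i := c8
      _ ≤ a * (w' * y) := c1
      _ ≤ a * (w * y) := c2
  have e1 : a * z * i = a * (w' * y) := by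
    apply le_antisymm c1
    calc a * (w' * y) ≤ a * (w * y) := c2
      _ ≤ a * (w * α) := c3
      _ = w * (a * α) := c4
      _ ≤ w * (i * h) := c5
      _ = i * (h * w) := c6
      _ ≤ i * (a * z) := c7
      _ = a * z * i := c8
  refine ⟨Nat.eq_of_mul_eq_mul_left hw e5, Nat.eq_of_mul_eq_mul_left hi e7, ?_, ?_⟩
  · have := Nat.eq_of_mul_eq_mul_left ha e3
    exact Nat.eq_of_mul_eq_mul_left hw this
  · rw [mul_assoc] at e1
    exact Nat.eq_of_mul_eq_mul_left ha e1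

theorem cl_maxAbelian {Q A : Subgroup G} (hQ : Cfsg.IsCentrallyLarge Q)
    (hA : A ∈ Cfsg.maxAbelianSubgroups G) :
    Nat.card Q * Nat.card A = Nat.card (Q ⊓ A : Subgroup G) * Nat.card (Q ⊔ A : Subgroup G) ∧
    Cfsg.IsCentrallyLarge (Q ⊔ A) ∧
    (Q ⊓ Subgroup.centralizer (Q : Set G)) ⊔ (A ⊓ Q) ∈ Cfsg.maxAbelianSubgroups G ∧
    Nat.card (Q ⊓ Subgroup.centralizer (Q : Set G) : Subgroup G) * Nat.card (A ⊓ Q : Subgroup G)
      = Nat.card ((Q ⊓ Subgroup.centralizer (Q : Set G)) ⊓ (A ⊓ Q) : Subgroup G)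
        * Nat.card ((Q ⊓ Subgroup.centralizer (Q : Set G)) ⊔ (A ⊓ Q) : Subgroup G) ∧
    Subgroup.centralizer ((Q ⊔ A : Subgroup G) : Set G)
      = (Q ⊓ Subgroup.centralizer (Q : Set G)) ⊓ A := by
  set Z := Q ⊓ Subgroup.centralizer (Q : Set G) with hZ
  have hCQ : Subgroup.centralizer (Q : Set G) = Z := (cl_large hQ).2
  have hCA : Subgroup.centralizer (A : Set G) = A := maxAbelian_centralizer hA
  have hZQ : Z ≤ Q := inf_le_left
  have hZC : Z ≤ Subgroup.centralizer (Q : Set G) := inf_le_right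
  -- Y is abelian
  have hZab : IsMulCommutative ↥Z := isMulCommutative_inf_centralizer Q
  have hAQab : IsMulCommutative ↥(A ⊓ Q) := isMulCommutative_of_le hA.1 inf_le_left
  have hZcent : Z ≤ Subgroup.centralizer ((A ⊓ Q : Subgroup G) : Set G) :=
    hZC.trans (Subgroup.centralizer_le (fun x hx => (inf_le_right : A ⊓ Q ≤ Q) hx))
  have hYab : IsMulCommutative ↥(Z ⊔ (A ⊓ Q)) := isMulCommutative_sup hZab hAQab hZcent
  have hYA : Nat.card (Z ⊔ (A ⊓ Q) : Subgroup G) ≤ Nat.card A := hA.2 _ hYab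
  have h3 := card_mul_card_le Z (A ⊓ Q)
  have h3' : Nat.card (Z ⊓ (A ⊓ Q) : Subgroup G) ≤ Nat.card (Z ⊓ A : Subgroup G) :=
    card_le_card_of_le (inf_le_inf_left Z inf_le_left)
  have h5 := card_mul_card_le Q A
  -- centralizer of the join
  have hCH : Subgroup.centralizer ((Q ⊔ A : Subgroup G) : Set G) = Z ⊓ A := by
    rw [centralizer_sup, hCQ, hCA]
  have hZH : (Q ⊔ A) ⊓ Subgroup.centralizer ((Q ⊔ A : Subgroup G) : Set G) = Z ⊓ A := by
    rw [hCH]
    exact inf_eq_right.mpr (inf_le_right.trans le_sup_right)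
  have hfH : fz (Q ⊔ A) = Nat.card (Q ⊔ A : Subgroup G) * Nat.card (Z ⊓ A : Subgroup G) := by
    rw [fz_eq, hZH]
  have hfQ : fz Q = Nat.card Q * Nat.card Z := fz_eq Q
  have h6 : Nat.card (Q ⊔ A : Subgroup G) * Nat.card (Z ⊓ A : Subgroup G) ≤ Nat.card Q * Nat.card Z := by
    rw [← hfH, ← hfQ]
    exact (isCentrallyLarge_iff.mp hQ) _
  have hAQ : Nat.card (A ⊓ Q : Subgroup G) = Nat.card (Q ⊓ A : Subgroup G) := by rw [inf_comm]
  rw [hAQ] at h3
  obtain ⟨e1, e2, e3, e4⟩ := cl_ab_arith (a := Nat.card Q) (z := Nat.card Z)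
    (i := Nat.card (Q ⊓ A : Subgroup G)) (w := Nat.card (Z ⊓ A : Subgroup G))
    (w' := Nat.card (Z ⊓ (A ⊓ Q) : Subgroup G)) (α := Nat.card A)
    (h := Nat.card (Q ⊔ A : Subgroup G)) (y := Nat.card (Z ⊔ (A ⊓ Q) : Subgroup G))
    Nat.card_pos Nat.card_pos Nat.card_pos h3 h3' hYA h5 h6
  refine ⟨e1, ?_, maxAbelian_of_card_le hA hYab e3.ge, ?_, hCH⟩
  · rw [isCentrallyLarge_iff]
    intro K
    rw [hfH, e2, ← hfQ]
    exact (isCentrallyLarge_iff.mp hQ) K
  · rw [hAQ]; exact e4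

end Cfsg.Agent.Lib.H15
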