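import Mathlib.GroupTheory.Commutator.Basic
import Cfsg.Agent.Lib.H15.MaxAb

/-!
Minimal centrally large subgroups (helper15's shared library).
-/

set_option autoImplicit false

namespace Cfsg.Agent.Lib.H15

open scoped Pointwise commutatorElement

variable {G : Type*} [Group G]

/-- Converse of `coe_sup_eq_mul_of_card_eq`. -/
theorem card_mul_card_eq_of_coe_sup_eq_mul [Finite G] (H K : Subgroup G)
    (h : ((H ⊔ K : Subgroup G) : Set G) = (H : Set G) * (K : Set G)) :
    Nat.card H * Nat.card K = Nat.card (H ⊓ K : Subgroup G) * Nat.card (H ⊔ K : Subgroup G) := by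
  have h2 : Nat.card (H ⊓ K : Subgroup G) * K.relIndex H = Nat.card H := by
    rw [← Subgroup.inf_relIndex_left]
    exact card_mul_relIndex inf_le_left
  have h3 : Nat.card K * K.relIndex (H ⊔ K) = Nat.card (H ⊔ K : Subgroup G) :=
    card_mul_relIndex le_sup_right
  have hsurj : Function.Surjective
      (Subgroup.quotientSubgroupOfEmbeddingOfLE K (le_sup_left : H ≤ H ⊔ K)) := by
    intro q
    obtain ⟨⟨x, hx⟩, rfl⟩ := QuotientGroup.mk_surjective q
    have hx' : x ∈ ((H ⊔ K : Subgroup G) : Set G) := hx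
    rw [h] at hx'
    obtain ⟨a, ha, b, hb, hab⟩ := Set.mem_mul.mp hx'
    refine ⟨QuotientGroup.mk (⟨a, ha⟩ : ↥H), ?_⟩
    rw [Subgroup.quotientSubgroupOfEmbeddingOfLE_apply_mk, QuotientGroup.eq]
    rw [Subgroup.mem_subgroupOf]
    have : a⁻¹ * x = b := by rw [← hab]; group
    simpa [this] using hb
  have hle : K.relIndex (H ⊔ K) ≤ K.relIndex H :=
    Nat.card_le_card_of_surjective _ hsurj
  have hge : K.relIndex H ≤ K.relIndex (H ⊔ K) :=
    Subgroup.relIndex_le_of_le_right le_sup_left (relIndex_pos_of_finite _ _).ne'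
  have heq := le_antisymm hle hge
  calc Nat.card H * Nat.card K
      = Nat.card (H ⊓ K : Subgroup G) * K.relIndex H * Nat.card K := by rw [h2]
    _ = Nat.card (H ⊓ K : Subgroup G) * (Nat.card K * K.relIndex (H ⊔ K)) := by rw [← heq]; ring
    _ = Nat.card (H ⊓ K : Subgroup G) * Nat.card (H ⊔ K : Subgroup G) := by rw [h3]

theorem cd_card_eq [Finite G] {H K : Subgroup G} (hH : Cfsg.IsCentralizerLarge H)
    (hK : Cfsg.IsCentralizerLarge K) :
    Nat.card H * Nat.card K = Nat.card (H ⊓ K : Subgroup G) * Nat.card (H ⊔ K : Subgroup G) :=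
  card_mul_card_eq_of_coe_sup_eq_mul H K (cd_main hH hK).2.2.1

theorem commutatorElement_mul_left_of_comm {x y z : G} (h : z * y = y * z) : ⁅x * z, y⁆ = ⁅x, y⁆ := by
  rw [commutatorElement_def, commutatorElement_def]
  have h1 : z * y * z⁻¹ = y := by rw [h]; group
  calc x * z * y * (x * z)⁻¹ * y⁻¹ = x * (z * y * z⁻¹) * x⁻¹ * y⁻¹ := by group
    _ = x * y * x⁻¹ * y⁻¹ := by rw [h1]

theorem commutatorElement_mul_right_of_comm {x y w : G} (h : w * x = x * w) : ⁅x, y * w⁆ = ⁅x, y⁆ := by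
  rw [commutatorElement_def, commutatorElement_def]
  have h1 : w * x⁻¹ * w⁻¹ = x⁻¹ := by
    have hc : Commute w x := h
    have : w * x⁻¹ = x⁻¹ * w := hc.inv_right.eq
    rw [this]; group
  calc x * (y * w) * x⁻¹ * (y * w)⁻¹ = x * y * (w * x⁻¹ * w⁻¹) * y⁻¹ := by group
    _ = x * y * x⁻¹ * y⁻¹ := by rw [h1]

section Finite

variable [Finite G]

/-- `Q = (Q ∩ R) C(Q)` for minimal centrally large `Q`, `R` (here `C(Q) = Z(Q)`). -/
theorem mcl_decomp {Q R : Subgroup G} (hQ : Cfsg.IsMinimalCentrallyLarge Q)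
    (hR : Cfsg.IsMinimalCentrallyLarge R) :
    (Q ⊓ R) ⊔ Subgroup.centralizer (Q : Set G) = Q := by
  have hQl := (cl_large hQ.1).1
  have hRl := (cl_large hR.1).1
  have hcd := cd_main hQl hRl
  have hCQ := cd_centralizer hQl
  have hYl := (cd_main hcd.2.1 hCQ.1).1
  have hCQle : Subgroup.centralizer (Q : Set G) ≤ Q := cl_centralizer_le hQ.1
  have hCRle : Subgroup.centralizer (R : Set G) ≤ R := cl_centralizer_le hR.1
  have hYQ : (Q ⊓ R) ⊔ Subgroup.centralizer (Q : Set G) ≤ Q := sup_le inf_le_left hCQle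
  apply hQ.2 _ hYQ
  apply cl_of_large_of_centralizer_le hYl
  rw [centralizer_sup, ← hCQ.2, hcd.2.2.2.1]
  intro x hx
  have hx1 : x ∈ ((Subgroup.centralizer (Q : Set G) ⊔ Subgroup.centralizer (R : Set G) : Subgroup G) : Set G) := hx.1
  rw [hcd.2.2.2.2] at hx1
  obtain ⟨a, ha, b, hb, rfl⟩ := Set.mem_mul.mp hx1
  have hbQ : b ∈ Q := by
    have := Q.mul_mem (Q.inv_mem (hCQle ha)) hx.2
    simpa using this
  exact Subgroup.mul_mem _ ((le_sup_right : _ ≤ (Q ⊓ R) ⊔ Subgroup.centralizer (Q : Set G)) ha)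
    ((le_sup_left : _ ≤ (Q ⊓ R) ⊔ Subgroup.centralizer (Q : Set G)) ⟨hbQ, hCRle hb⟩)

theorem mcl_decomp_set {Q R : Subgroup G} (hQ : Cfsg.IsMinimalCentrallyLarge Q)
    (hR : Cfsg.IsMinimalCentrallyLarge R) :
    (Q : Set G) = ((Q ⊓ R : Subgroup G) : Set G) * (Subgroup.centralizer (Q : Set G) : Set G) := by
  have hQl := (cl_large hQ.1).1
  have hRl := (cl_large hR.1).1
  have hcd := cd_main hQl hRl
  have hCQ := cd_centralizer hQl
  have := (cd_main hcd.2.1 hCQ.1).2.2.1
  rw [mcl_decomp hQ hR] at this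
  exact this

theorem mcl_commutator {Q R : Subgroup G} (hQ : Cfsg.IsMinimalCentrallyLarge Q)
    (hR : Cfsg.IsMinimalCentrallyLarge R) : ⁅Q, Q⁆ = ⁅Q ⊓ R, Q ⊓ R⁆ := by
  apply le_antisymm
  · rw [Subgroup.commutator_le]
    intro x hx y hy
    have hx' : x ∈ (Q : Set G) := hx
    have hy' : y ∈ (Q : Set G) := hy
    rw [mcl_decomp_set hQ hR] at hx' hy'
    obtain ⟨a, ha, z, hz, rfl⟩ := Set.mem_mul.mp hx'
    obtain ⟨b, hb, w, hw, rfl⟩ := Set.mem_mul.mp hy'
    have haQ : a ∈ Q := ha.1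
    have hbQ : b ∈ Q := hb.1
    have hwQ : w ∈ Q := cl_centralizer_le hQ.1 hw
    have h1 : z * (b * w) = (b * w) * z := ((Subgroup.mem_centralizer_iff.mp hz) (b * w) (Q.mul_mem hbQ hwQ)).symm
    have h2 : w * a = a * w := ((Subgroup.mem_centralizer_iff.mp hw) a haQ).symm
    rw [commutatorElement_mul_left_of_comm h1, commutatorElement_mul_right_of_comm h2]
    exact Subgroup.commutator_mem_commutator ha hb
  · exact Subgroup.commutator_mono inf_le_left inf_le_left

theorem mcl_commutator_eq {Q R : Subgroup G} (hQ : Cfsg.IsMinimalCentrallyLarge Q)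
    (hR : Cfsg.IsMinimalCentrallyLarge R) : ⁅Q, Q⁆ = ⁅R, R⁆ := by
  rw [mcl_commutator hQ hR, mcl_commutator hR hQ, inf_comm]

theorem mcl_inf_centralizer {Q R : Subgroup G} (hQ : Cfsg.IsMinimalCentrallyLarge Q)
    (hR : Cfsg.IsMinimalCentrallyLarge R) :
    (Q ⊓ R) ⊓ Subgroup.centralizer (Q : Set G) ≤ (Q ⊓ R) ⊓ Subgroup.centralizer (R : Set G) := by
  intro x hx
  refine ⟨hx.1, ?_⟩
  have hRl := (cl_large hR.1).1
  have hCR := cd_centralizer hRl
  have h1 : Subgroup.centralizer (R : Set G)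
      = Subgroup.centralizer ((R ⊓ Q : Subgroup G) : Set G) ⊓ R := by
    conv_lhs => rw [← mcl_decomp hR hQ]
    rw [centralizer_sup, ← hCR.2]
  rw [h1]
  refine ⟨?_, hx.1.2⟩
  exact (Subgroup.centralizer_le (fun y hy => (inf_le_right : R ⊓ Q ≤ Q) hy)) hx.2

theorem mcl_inf_centralizer_eq {Q R : Subgroup G} (hQ : Cfsg.IsMinimalCentrallyLarge Q)
    (hR : Cfsg.IsMinimalCentrallyLarge R) :
    (Q ⊓ R) ⊓ Subgroup.centralizer (Q : Set G) = (Q ⊓ R) ⊓ Subgroup.centralizer (R : Set G) := by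
  apply le_antisymm (mcl_inf_centralizer hQ hR)
  have := mcl_inf_centralizer hR hQ
  rwa [inf_comm R Q] at this

theorem mcl_card {Q R : Subgroup G} (hQ : Cfsg.IsMinimalCentrallyLarge Q)
    (hR : Cfsg.IsMinimalCentrallyLarge R) :
    Nat.card Q = Nat.card R ∧
      Nat.card (Subgroup.centralizer (Q : Set G)) = Nat.card (Subgroup.centralizer (R : Set G)) := by
  have hQl := (cl_large hQ.1).1
  have hRl := (cl_large hR.1).1
  have hcd := cd_main hQl hRl
  have e1 := cd_card_eq hcd.2.1 (cd_centralizer hQl).1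
  rw [mcl_decomp hQ hR] at e1
  have hcd' := cd_main hRl hQl
  have e2 := cd_card_eq hcd'.2.1 (cd_centralizer hRl).1
  rw [mcl_decomp hR hQ, inf_comm R Q, ← mcl_inf_centralizer_eq hQ hR] at e2
  have e3 : Nat.card Q * Nat.card (Subgroup.centralizer (Q : Set G))
      = Nat.card R * Nat.card (Subgroup.centralizer (R : Set G)) := by
    have h1 : meas Q = Cfsg.maxCentralizerProduct G := hQl
    have h2 : meas R = Cfsg.maxCentralizerProduct G := hRl
    show meas Q = meas R
    rw [h1, h2]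
  set a := Nat.card Q
  set b := Nat.card R
  set z := Nat.card (Subgroup.centralizer (Q : Set G))
  set y := Nat.card (Subgroup.centralizer (R : Set G))
  set i := Nat.card (Q ⊓ R : Subgroup G)
  set w := Nat.card ((Q ⊓ R) ⊓ Subgroup.centralizer (Q : Set G) : Subgroup G)
  have ha : 0 < a := Nat.card_pos
  have hb : 0 < b := Nat.card_pos
  have hz : 0 < z := Nat.card_pos
  have hy : 0 < y := Nat.card_pos
  have hi : 0 < i := Nat.card_pos
  have hw : 0 < w := Nat.card_pos
  -- i*z = w*a, i*y = w*b, a*z = b*y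
  have e4 : z * b = y * a := by
    have : i * w * (z * b) = i * w * (y * a) := by
      calc i * w * (z * b) = (i * z) * (w * b) := by ring
        _ = (w * a) * (i * y) := by rw [e1, e2]
        _ = i * w * (y * a) := by ring
    exact Nat.eq_of_mul_eq_mul_left (Nat.mul_pos hi hw) this
  have hzy : z = y := by
    rcases lt_trichotomy z y with h | h | h
    · exfalso
      have h1 : b * z < b * y := Nat.mul_lt_mul_of_pos_left h hb
      have h2 : b * z < a * z := by rw [e3]; exact h1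
      have h3 : b < a := Nat.lt_of_mul_lt_mul_right h2
      have h4 : z * a < y * a := Nat.mul_lt_mul_of_pos_right h ha
      have h5 : z * a < z * b := by rw [e4]; exact h4
      have h6 : a < b := Nat.lt_of_mul_lt_mul_left h5
      omega
    · exact h
    · exfalso
      have h1 : b * y < b * z := Nat.mul_lt_mul_of_pos_left h hb
      have h2 : a * z < b * z := by rw [e3]; exact h1
      have h3 : a < b := Nat.lt_of_mul_lt_mul_right h2
      have h4 : y * a < z * a := Nat.mul_lt_mul_of_pos_right h ha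
      have h5 : z * b < z * a := by rw [e4]; exact h4
      have h6 : b < a := Nat.lt_of_mul_lt_mul_left h5
      omega
  refine ⟨?_, hzy⟩
  rw [hzy] at e3
  exact Nat.eq_of_mul_eq_mul_right hy e3

end Finite

end Cfsg.Agent.Lib.H15
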