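import Mathlib

/-!
Basic p-group / nilpotent facts for subgroups of an ambient group (helper15's shared library).
-/

set_option autoImplicit false

namespace Cfsg.Agent.Lib.H15

variable {G : Type*} [Group G]

/-- Normalizers grow in nilpotent subgroups: if `H < T` with `T` nilpotent, some element of
`T ∩ N(H)` lies outside `H`. -/
theorem exists_mem_normalizer_not_mem {H T : Subgroup G} (hT : Group.IsNilpotent ↥T) (hHT : H ≤ T)
    (hne : H ≠ T) : ∃ x ∈ T, x ∈ Subgroup.normalizer (H : Set G) ∧ x ∉ H := by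
  have hnc : NormalizerCondition ↥T := Group.normalizerCondition_of_isNilpotent
  have hlt : H.subgroupOf T < ⊤ := by
    rw [lt_top_iff_ne_top]
    intro h
    apply hne
    apply le_antisymm hHT
    rw [Subgroup.subgroupOf_eq_top] at h
    exact h
  have h2 := hnc _ hlt
  rw [← Subgroup.subgroupOf_normalizer_eq hHT] at h2
  obtain ⟨x, hx1, hx2⟩ := SetLike.exists_of_lt h2
  refine ⟨x, x.2, ?_, ?_⟩
  · exact Subgroup.mem_subgroupOf.mp hx1
  · intro hx
    exact hx2 (Subgroup.mem_subgroupOf.mpr hx)

theorem isNilpotent_of_isPGroup [Finite G] {p : ℕ} [Fact p.Prime] {T : Subgroup G} (hT : IsPGroup p T) :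
    Group.IsNilpotent ↥T :=
  hT.isNilpotent

end Cfsg.Agent.Lib.H15
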