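import Cfsg.Agent.Lib.H15.SCFusion2
import Cfsg.Agent.Lib.H10.SecMain
import Cfsg.Agent.Lib.H10.LocalGlobalGen

/-!
Control of strong fusion by `N(W(E))`, `E` strongly closed in a Sylow subgroup, in all sections of
a group whose sections are `p`-stable in the normalizer form (helper15's shared library):
Glauberman's induction over sections, following helper10's `H10/SecMain`.
-/

set_option autoImplicit false

universe u

namespace Cfsg.Agent.Lib.H15.SCF

open Cfsg.Agent.Lib Cfsg.Agent.Lib.H4.ZJ Cfsg.Agent.Lib.H15.ZJS Cfsg.Agent.Lib.H15.NPCS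
open Cfsg.Agent.Lib.H15

section defs

variable {X : Type u} [Group X]

/-- `N_X(V)` controls strong fusion in `S`. -/
def Ctl (S V : Subgroup X) : Prop :=
  ∀ (A : Set X) (g : X), A ⊆ (S : Set X) → (fun a => g * a * g⁻¹) '' A ⊆ (S : Set X) →
    ∃ x ∈ Subgroup.normalizer (V : Set X), ∀ a ∈ A, x * a * x⁻¹ = g * a * g⁻¹

/-- `N_H(V)` controls strong `H`-fusion in `S`. -/
def CtlIn (H S V : Subgroup X) : Prop :=
  ∀ (A : Set X) (g : X), g ∈ H → A ⊆ (S : Set X) → (fun a => g * a * g⁻¹) '' A ⊆ (S : Set X) →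
    ∃ x ∈ H ⊓ Subgroup.normalizer (V : Set X), ∀ a ∈ A, x * a * x⁻¹ = g * a * g⁻¹

end defs

/-- control by `N(W(E))` for all Sylow subgroups and all strongly closed `E` -/
def CtlAll (p : ℕ) (W : ∀ (X : Type u) [Group X], Subgroup X → Subgroup X)
    (X : Type u) [Group X] : Prop :=
  ∀ (S : Sylow p X) (E : Subgroup X), Cfsg.IsStronglyClosed E (S : Subgroup X) →
    Ctl (S : Subgroup X) (W X E)

section sub

variable {p : ℕ} [hp : Fact p.Prime] {W : ∀ (X : Type u) [Group X], Subgroup X → Subgroup X}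

/-- from the type `↥H` to the subgroup `H` -/
theorem ctlIn_of_ctlAll (hW : MapFun W) {G : Type u} [Group G]
    [Finite G] (H T₁ E : Subgroup G) (hT₁H : T₁ ≤ H) (hT₁ : IsPGroup p T₁)
    (hT₁i : ¬ p ∣ T₁.relIndex H) (hE : Cfsg.IsStronglyClosed E T₁)
    (hall : CtlAll p W ↥H) : CtlIn H T₁ (W G E) := by
  intro A h hh hA hAh
  have hT₁' : IsPGroup p (T₁.subgroupOf H) := hT₁.comap_subtype
  obtain ⟨S, hS⟩ := H10.exists_sylow_eq hT₁' hT₁i
  have hE' : Cfsg.IsStronglyClosed (E.subgroupOf H) (S : Subgroup ↥H) := by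
    rw [hS]
    refine ⟨?_, ?_⟩
    · intro x hx
      rw [Subgroup.mem_subgroupOf] at hx ⊢
      exact hE.1 hx
    · intro x hx g hg
      rw [Subgroup.mem_subgroupOf] at hx hg ⊢
      exact hE.2 (x : G) hx (g : G) hg
  have hA' : (H.subtype ⁻¹' A) ⊆ ((S : Subgroup ↥H) : Set ↥H) := by
    intro a ha
    rw [hS]
    exact Subgroup.mem_subgroupOf.mpr (hA ha)
  have hAh' : (fun a => (⟨h, hh⟩ : ↥H) * a * (⟨h, hh⟩ : ↥H)⁻¹) '' (H.subtype ⁻¹' A) ⊆
      ((S : Subgroup ↥H) : Set ↥H) := by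
    rintro _ ⟨a, ha, rfl⟩
    rw [hS]
    exact Subgroup.mem_subgroupOf.mpr (hAh ⟨(a : G), ha, rfl⟩)
  obtain ⟨x, hx, hxa⟩ := hall S (E.subgroupOf H) hE' _ ⟨h, hh⟩ hA' hAh'
  have hEH : E ≤ H := hE.1.trans hT₁H
  have hmap : W G E = (W ↥H (E.subgroupOf H)).map H.subtype := by
    rw [← hW.map H.subtype (E.subgroupOf H) (H.subtype_injective.injOn),
      Subgroup.map_subgroupOf_eq_of_le hEH]
  refine ⟨(x : G), ⟨x.2, ?_⟩, ?_⟩
  · rw [hmap]
    exact Subgroup.le_normalizer_map H.subtype ⟨x, hx, rfl⟩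
  · intro a ha
    have haH : a ∈ H := hT₁H (hA ha)
    have := hxa ⟨a, haH⟩ ha
    exact congrArg Subtype.val this

/-- local-to-global via well-placed subgroups, with an abstract local hypothesis -/
theorem ctl_of_local {G : Type u} [Group G] [Finite G] (hZ : ZFun p (W G)) (P : Sylow p G)
    (D : Subgroup G) (hD : Cfsg.IsStronglyClosed D (P : Subgroup G))
    (hloc : ∀ T : Subgroup G, T ≤ (P : Subgroup G) → T ≠ ⊥ →
      ¬ p ∣ ((P : Subgroup G) ⊓ Subgroup.normalizer (T : Set G)).relIndex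
        (Subgroup.normalizer (T : Set G)) →
      ∀ E : Subgroup G,
        Cfsg.IsStronglyClosed E ((P : Subgroup G) ⊓ Subgroup.normalizer (T : Set G)) →
        CtlIn (Subgroup.normalizer (T : Set G))
          ((P : Subgroup G) ⊓ Subgroup.normalizer (T : Set G)) (W G E)) :
    Ctl (P : Subgroup G) (W G D) := by
  intro A g hA hg
  by_cases hD1 : D = ⊥
  · refine ⟨g, ?_, fun a _ => rfl⟩
    have h1 : W G D = ⊥ := by
      rw [eq_bot_iff]
      exact (hZ.le D).trans (le_of_eq hD1)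
    rw [h1, Subgroup.normalizer_eq_top_iff.mpr inferInstance]
    exact Subgroup.mem_top g
  have hWF := isConjugacyFunctor_WF hZ D
  have hloc' : ∀ T : Subgroup G, T ≠ ⊥ → Cfsg.IsWellPlaced p (WF (W G) D) (P : Subgroup G) T →
      Cfsg.ControlsStrongFusionIn p (WF (W G) D)
        (Subgroup.normalizer ((T : Subgroup G) : Set G)) := by
    intro T hT1 hwp
    have hTP : T ≤ (P : Subgroup G) := hwp.1
    have hi := hwp.2 0
    change ¬ p ∣ ((P : Subgroup G) ⊓ Subgroup.normalizer (T : Set G)).relIndex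
      (Subgroup.normalizer (T : Set G)) at hi
    have hl := hloc T hTP hT1 hi
    set H := Subgroup.normalizer (T : Set G) with hH
    set T₁ := (P : Subgroup G) ⊓ H with hT₁
    have hT₁p : IsPGroup p T₁ := P.2.to_le inf_le_left
    have hT₁P : T₁ ≤ cj 1 (P : Subgroup G) := by
      rw [cj_one]; exact inf_le_left
    have hDof : Dof D T₁ = T₁ ⊓ D := by
      rw [Dof_eq_of_le_cj hD 1 hT₁P, cj_one]
    refine ⟨T₁, inf_le_right, hT₁p, hi, ?_⟩
    intro B h hh hB hBh
    by_cases h0 : Dof D T₁ = ⊥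
    · rw [WF_of_bot h0]
      exact hl T₁ (stronglyClosed_self T₁) B h hh hB hBh
    · rw [WF_of_ne_bot h0]
      have hE : Cfsg.IsStronglyClosed (Dof D T₁) T₁ := by
        rw [hDof]
        refine ⟨inf_le_left, ?_⟩
        intro x hx k hk
        exact ⟨hk, hD.2 x hx.2 k (inf_le_left (a := (P : Subgroup G)) (b := H) hk)⟩
      exact hl (Dof D T₁) hE B h hh hB hBh
  have hctl := H10.controlsStrongFusionIn_top_of_wellPlaced P hWF hloc'
  have hPi : ¬ p ∣ (P : Subgroup G).relIndex ⊤ := by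
    rw [Subgroup.relIndex_top_right]; exact P.not_dvd_index
  obtain ⟨x, hx, hxa⟩ := H10.controlsStrongFusionIn_sylowIn hWF hctl P.2 le_top hPi A g
    (Subgroup.mem_top g) hA hg
  have hPP : (P : Subgroup G) ≤ cj 1 (P : Subgroup G) := by rw [cj_one]
  have hDofP : Dof D (P : Subgroup G) = D := by
    rw [Dof_eq_of_le_cj hD 1 hPP, cj_one, inf_eq_right]
    exact hD.1
  have hWP : WF (W G) D (P : Subgroup G) = W G D := by
    rw [WF_of_ne_bot (by rw [hDofP]; exact hD1), hDofP]
  rw [hWP] at hx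
  exact ⟨x, hx.2, hxa⟩

end sub

section good

variable {X : Type u} [Group X]

/-- right-conjugation form of "some element of `N(V)` acts on `A` as `g` does" -/
def Good (V : Subgroup X) (A : Set X) (g : X) : Prop :=
  ∃ y ∈ Subgroup.normalizer (V : Set X), ∀ a ∈ A, y⁻¹ * a * y = g⁻¹ * a * g

theorem Good.restrict {V : Subgroup X} {A B : Set X} {g : X} (h : Good V A g) (hBA : B ⊆ A) :
    Good V B g := by
  obtain ⟨y, hy, hya⟩ := h
  exact ⟨y, hy, fun a ha => hya a (hBA ha)⟩

theorem Good.trans {V : Subgroup X} {A : Set X} {g h : X} (h1 : Good V A g)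
    (h2 : Good V (H10.rconj g A) h) : Good V A (g * h) := by
  obtain ⟨y₁, hy₁, hya₁⟩ := h1
  obtain ⟨y₂, hy₂, hya₂⟩ := h2
  refine ⟨y₁ * y₂, Subgroup.mul_mem _ hy₁ hy₂, ?_⟩
  intro a ha
  have e1 := hya₁ a ha
  have e2 := hya₂ (g⁻¹ * a * g) ⟨a, ha, rfl⟩
  have e3 : (y₁ * y₂)⁻¹ * a * (y₁ * y₂) = y₂⁻¹ * (y₁⁻¹ * a * y₁) * y₂ := by group
  rw [e3, e1, e2]
  group

theorem Good.symm {V : Subgroup X} {A : Set X} {g : X} (h : Good V A g) :
    Good V (H10.rconj g A) g⁻¹ := by
  obtain ⟨y, hy, hya⟩ := h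
  refine ⟨y⁻¹, Subgroup.inv_mem _ hy, ?_⟩
  rintro _ ⟨a, ha, rfl⟩
  change y⁻¹⁻¹ * (g⁻¹ * a * g) * y⁻¹ = g⁻¹⁻¹ * (g⁻¹ * a * g) * g⁻¹
  calc y⁻¹⁻¹ * (g⁻¹ * a * g) * y⁻¹ = y⁻¹⁻¹ * (y⁻¹ * a * y) * y⁻¹ := by rw [hya a ha]
    _ = a := by group
    _ = g⁻¹⁻¹ * (g⁻¹ * a * g) * g⁻¹ := by group

theorem good_of_mem {V : Subgroup X} (A : Set X) {g : X}
    (hg : g ∈ Subgroup.normalizer (V : Set X)) : Good V A g :=
  ⟨g, hg, fun _ _ => rfl⟩

theorem good_of_centralizes {V : Subgroup X} {A : Set X} {g : X}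
    (h : ∀ a ∈ A, g⁻¹ * a * g = a) : Good V A g := by
  refine ⟨1, Subgroup.one_mem _, ?_⟩
  intro a ha
  rw [h a ha]
  group

/-- `Good` from the left-conjugation form -/
theorem good_of_left {V : Subgroup X} {A : Set X} {g : X}
    (h : ∃ x ∈ Subgroup.normalizer (V : Set X), ∀ a ∈ A, x * a * x⁻¹ = g⁻¹ * a * g) :
    Good V A g := by
  obtain ⟨x, hx, hxa⟩ := h
  refine ⟨x⁻¹, Subgroup.inv_mem _ hx, ?_⟩
  intro a ha
  rw [inv_inv]
  exact hxa a ha

variable [Finite X] {p : ℕ} [hp : Fact p.Prime]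

/-- Alperin–Goldschmidt induction for `Good`. -/
theorem good_all (S : Sylow p X) (V : Subgroup X)
    (hloc : ∀ U ∈ H10.sylNormFamily p (S : Subgroup X),
      (∀ Q' : Subgroup X, Q' ≤ (S : Subgroup X) → Nat.card U < Nat.card Q' → ∀ g' : X,
        Q'.map (MulAut.conj g'⁻¹).toMonoidHom ≤ (S : Subgroup X) → Good V (Q' : Set X) g') →
      ∀ x ∈ Subgroup.normalizer (U : Set X), Good V (U : Set X) x) :
    ∀ Q : Subgroup X, Q ≤ (S : Subgroup X) → ∀ g : X,
      Q.map (MulAut.conj g⁻¹).toMonoidHom ≤ (S : Subgroup X) → Good V (Q : Set X) g := by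
  have main : ∀ (k : ℕ) (Q : Subgroup X), Q ≤ (S : Subgroup X) →
      Nat.card (S : Subgroup X) - Nat.card Q = k → ∀ g : X,
      Q.map (MulAut.conj g⁻¹).toMonoidHom ≤ (S : Subgroup X) → Good V (Q : Set X) g := by
    intro k
    induction k using Nat.strong_induction_on with
    | _ k ih =>
    intro Q hQ hk g hg
    have hbig : ∀ Q' : Subgroup X, Q' ≤ (S : Subgroup X) → Nat.card Q < Nat.card Q' → ∀ g' : X,
        Q'.map (MulAut.conj g'⁻¹).toMonoidHom ≤ (S : Subgroup X) → Good V (Q' : Set X) g' := by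
      intro Q' hQ' hlt g' hg'
      have h1 : Nat.card Q' ≤ Nat.card (S : Subgroup X) := Subgroup.card_le_of_le hQ'
      exact ih (Nat.card (S : Subgroup X) - Nat.card Q') (by omega) Q' hQ' rfl g' hg'
    apply H10.alperin_step S (Good V) (fun h hBA => h.restrict hBA) (fun h1 h2 => h1.trans h2)
      (fun h => h.symm) Q hQ g hg hbig
    intro U hU hUc x hx
    apply hloc U hU _ x hx
    intro Q' hQ' hlt g' hg'
    exact hbig Q' hQ' (by omega) g' hg'
  intro Q hQ g hg
  exact main _ Q hQ rfl g hg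

/-- from `Good` on subgroups to `Ctl` -/
theorem ctl_of_good {S V : Subgroup X}
    (h : ∀ Q : Subgroup X, Q ≤ S → ∀ g : X,
      Q.map (MulAut.conj g⁻¹).toMonoidHom ≤ S → Good V (Q : Set X) g) : Ctl S V := by
  intro A g hA hAg
  have hQ : Subgroup.closure A ≤ S := (Subgroup.closure_le _).mpr hA
  have hQg : (Subgroup.closure A).map (MulAut.conj g⁻¹⁻¹).toMonoidHom ≤ S := by
    rw [MonoidHom.map_closure, Subgroup.closure_le]
    rintro _ ⟨a, ha, rfl⟩
    apply hAg
    exact ⟨a, ha, by simp⟩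
  obtain ⟨y, hy, hya⟩ := h _ hQ g⁻¹ hQg
  refine ⟨y⁻¹, Subgroup.inv_mem _ hy, ?_⟩
  intro a ha
  have := hya a (Subgroup.subset_closure ha)
  rw [inv_inv] at this ⊢
  exact this

end good

section caseB

variable {X : Type u} [Group X] [Finite X] {p : ℕ} [hp : Fact p.Prime]

/-- Case B: control in `N(S ∩ PC)` and in `SC` gives control in `X`. -/
theorem ctl_caseB (S : Sylow p X) (P C : Subgroup X) [hPn : P.Normal] [hCn : C.Normal]
    (hPS : P ≤ (S : Subgroup X)) (V : Subgroup X)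
    (h1 : CtlIn (Subgroup.normalizer (((S : Subgroup X) ⊓ (P ⊔ C) : Subgroup X) : Set X))
      (S : Subgroup X) V)
    (h2 : CtlIn ((S : Subgroup X) ⊔ C) (S : Subgroup X) V) : Ctl (S : Subgroup X) V := by
  intro A g hA hAg
  set K := P ⊔ C with hK
  have hKn : K.Normal := Subgroup.sup_normal P C
  set S₀ := (S : Subgroup X) ⊓ K with hS₀
  have hSX : (S : Subgroup X) ≤ Subgroup.normalizer (S₀ : Set X) := by
    have h1 : Subgroup.normalizer ((S : Subgroup X) : Set X) ⊓ Subgroup.normalizer (K : Set X) ≤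
        Subgroup.normalizer (S₀ : Set X) := Subgroup.inf_normalizer_le_normalizer_inf
    refine le_trans (le_inf Subgroup.le_normalizer ?_) h1
    rw [Subgroup.normalizer_eq_top]
    exact le_top
  -- Frattini
  obtain ⟨n', hn', c, hc, hgnc⟩ : ∃ n' ∈ Subgroup.normalizer (S₀ : Set X), ∃ c ∈ C, g = n' * c := by
    have hS₀p : IsPGroup p (S₀.subgroupOf K) := (S.2.to_le inf_le_left).comap_subtype
    have hS₀i : ¬ p ∣ (S₀.subgroupOf K).index := H19.not_dvd_relIndex_inf_normal S K
    let Q : Sylow p K := hS₀p.toSylow hS₀i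
    have hQ : (Q : Subgroup K) = S₀.subgroupOf K := hS₀p.toSylow_coe hS₀i
    have hfr := Sylow.normalizer_sup_eq_top Q
    rw [hQ, Subgroup.subgroupOf_map_subtype, inf_eq_left.2 (inf_le_right : S₀ ≤ K)] at hfr
    have hg : g ∈ Subgroup.normalizer (S₀ : Set X) ⊔ K := by rw [hfr]; exact Subgroup.mem_top g
    obtain ⟨n, hn, k, hk, rfl⟩ := Subgroup.mem_sup_of_normal_right.1 hg
    obtain ⟨u, hu, c, hc, rfl⟩ := Subgroup.mem_sup_of_normal_right.1 hk
    refine ⟨n * u, Subgroup.mul_mem _ hn ?_, c, hc, by group⟩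
    apply Subgroup.le_normalizer
    exact Subgroup.mem_inf.2 ⟨hPS hu, Subgroup.mem_sup_left hu⟩
  set M : Subgroup X := Subgroup.normalizer (S₀ : Set X) ⊓ ((S : Subgroup X) ⊔ C) with hM
  have hSM : (S : Subgroup X) ≤ M := le_inf hSX le_sup_left
  have hclS : Subgroup.closure A ≤ (S : Subgroup X) := (Subgroup.closure_le _).2 hA
  set B : Subgroup X := (Subgroup.closure A).map (MulAut.conj c).toMonoidHom with hB
  have hBp : IsPGroup p B := (S.2.to_le hclS).map _
  have hBM : B ≤ M := by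
    rw [hB, Subgroup.map_le_iff_le_comap, Subgroup.closure_le]
    intro a ha
    have haS := hA ha
    show (MulAut.conj c) a ∈ M
    rw [MulAut.conj_apply]
    refine Subgroup.mem_inf.2 ⟨?_, ?_⟩
    · have e1 : c * a * c⁻¹ = n'⁻¹ * (g * a * g⁻¹) * n' := by rw [hgnc]; group
      rw [e1]
      exact Subgroup.mul_mem _ (Subgroup.mul_mem _ (Subgroup.inv_mem _ hn')
        (hSX (hAg ⟨a, ha, rfl⟩))) hn'
    · have e1 : c * a * c⁻¹ = a * (a⁻¹ * c * a * c⁻¹) := by group
      rw [e1]
      apply Subgroup.mul_mem _ (Subgroup.mem_sup_left haS)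
      apply Subgroup.mem_sup_right
      have h1 : a⁻¹ * c * a ∈ C := by
        have := hCn.conj_mem c hc a⁻¹
        simpa using this
      exact C.mul_mem h1 (C.inv_mem hc)
  have hSi : ¬ p ∣ (S : Subgroup X).relIndex M := H10.not_dvd_relIndex_of_sylow_le S hSM
  obtain ⟨m, hm, hmB⟩ := H10.exists_mem_map_conj_le_of_sylowIn S.2 hSM hSi hBp hBM
  have hm' := Subgroup.mem_inf.1 hm
  have hmcA : (fun a => (m * c) * a * (m * c)⁻¹) '' A ⊆ ((S : Subgroup X) : Set X) := by
    rintro _ ⟨a, ha, rfl⟩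
    have h1 : m * (c * a * c⁻¹) * m⁻¹ ∈ (S : Subgroup X) :=
      hmB ⟨c * a * c⁻¹, ⟨a, Subgroup.subset_closure ha, by simp⟩, by simp⟩
    have e1 : (m * c) * a * (m * c)⁻¹ = m * (c * a * c⁻¹) * m⁻¹ := by group
    show (m * c) * a * (m * c)⁻¹ ∈ (S : Subgroup X)
    rw [e1]; exact h1
  obtain ⟨x₂, hx₂, hxa₂⟩ := h2 A (m * c)
    (Subgroup.mul_mem _ hm'.2 (Subgroup.mem_sup_right hc)) hA hmcA
  have hg₁A : (fun a => (n' * m⁻¹) * a * (n' * m⁻¹)⁻¹) ''
      ((fun a => (m * c) * a * (m * c)⁻¹) '' A) ⊆ ((S : Subgroup X) : Set X) := by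
    rintro _ ⟨_, ⟨a, ha, rfl⟩, rfl⟩
    have e1 : (n' * m⁻¹) * ((m * c) * a * (m * c)⁻¹) * (n' * m⁻¹)⁻¹ = g * a * g⁻¹ := by
      rw [hgnc]; group
    show (n' * m⁻¹) * ((m * c) * a * (m * c)⁻¹) * (n' * m⁻¹)⁻¹ ∈ (S : Subgroup X)
    rw [e1]
    exact hAg ⟨a, ha, rfl⟩
  obtain ⟨x₁, hx₁, hxa₁⟩ := h1 _ (n' * m⁻¹)
    (Subgroup.mul_mem _ hn' (Subgroup.inv_mem _ hm'.1)) hmcA hg₁A
  refine ⟨x₁ * x₂, Subgroup.mul_mem _ hx₁.2 hx₂.2, ?_⟩
  intro a ha
  have e1 : x₁ * x₂ * a * (x₁ * x₂)⁻¹ = x₁ * (x₂ * a * x₂⁻¹) * x₁⁻¹ := by group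
  rw [e1, hxa₂ a ha, hxa₁ _ ⟨a, ha, rfl⟩, hgnc]
  group

end caseB

section caseC

variable {X : Type u} [Group X] [Finite X] {p : ℕ} [hp : Fact p.Prime]

/-- Case C: `X = S C_X(P)`; control in `X/P` by `N(V̄)` and control in the preimage of `N(V̄)`
by `N(V)` give control in `X` by `N(V)`. -/
theorem ctl_caseC (S : Sylow p X) (P : Subgroup X) [hPn : P.Normal]
    (hPS : P ≤ (S : Subgroup X))
    (hSC : (S : Subgroup X) ⊔ Subgroup.centralizer (P : Set X) = ⊤)
    (V : Subgroup X) (hSV : (S : Subgroup X) ≤ Subgroup.normalizer (V : Set X))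
    (Vb : Subgroup (X ⧸ P))
    (hquot : Ctl ((S : Subgroup X).map (QuotientGroup.mk' P)) Vb)
    (hM : CtlIn ((Subgroup.normalizer (Vb : Set (X ⧸ P))).comap (QuotientGroup.mk' P))
      (S : Subgroup X) V) :
    Ctl (S : Subgroup X) V := by
  have hPp : IsPGroup p P := S.2.to_le hPS
  apply ctl_of_good
  apply good_all S V
  intro U hU hbig x hx
  have hUS : U ≤ (S : Subgroup X) := hU.1
  by_cases hPU : P ≤ U
  · apply good_of_left
    set z := x⁻¹ with hz
    have hzN : z ∈ Subgroup.normalizer (U : Set X) := Subgroup.inv_mem _ hx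
    have hzU : ∀ u ∈ U, z * u * z⁻¹ ∈ U := fun u hu =>
      (Subgroup.mem_normalizer_iff.1 hzN u).1 hu
    have hAb : QuotientGroup.mk' P '' (U : Set X) ⊆
        (((S : Subgroup X).map (QuotientGroup.mk' P) : Subgroup (X ⧸ P)) : Set (X ⧸ P)) := by
      rintro _ ⟨u, hu, rfl⟩
      exact ⟨u, hUS hu, rfl⟩
    have hAgb : (fun a => QuotientGroup.mk' P z * a * (QuotientGroup.mk' P z)⁻¹) ''
        (QuotientGroup.mk' P '' (U : Set X)) ⊆
        (((S : Subgroup X).map (QuotientGroup.mk' P) : Subgroup (X ⧸ P)) : Set (X ⧸ P)) := by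
      rintro _ ⟨_, ⟨u, hu, rfl⟩, rfl⟩
      refine ⟨z * u * z⁻¹, hUS (hzU u hu), ?_⟩
      simp only [map_mul, map_inv]
    obtain ⟨yb, hyb, hyba⟩ := hquot _ _ hAb hAgb
    obtain ⟨n, rfl⟩ := QuotientGroup.mk'_surjective P yb
    have hnM : n ∈ (Subgroup.normalizer (Vb : Set (X ⧸ P))).comap (QuotientGroup.mk' P) := hyb
    have hagree : ∀ u ∈ U, QuotientGroup.mk' P (n * u * n⁻¹) = QuotientGroup.mk' P (z * u * z⁻¹) := by
      intro u hu
      have := hyba (QuotientGroup.mk' P u) ⟨u, hu, rfl⟩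
      simpa only [map_mul, map_inv] using this
    have hnU : ∀ u ∈ U, n * u * n⁻¹ ∈ U := by
      intro u hu
      have h1 : z * u * z⁻¹ ∈ U := hzU u hu
      have h2 : (z * u * z⁻¹)⁻¹ * (n * u * n⁻¹) ∈ P := by
        rw [← QuotientGroup.ker_mk' P, MonoidHom.mem_ker, map_mul, map_inv, hagree u hu,
          inv_mul_cancel]
      have : n * u * n⁻¹ = (z * u * z⁻¹) * ((z * u * z⁻¹)⁻¹ * (n * u * n⁻¹)) := by group
      rw [this]
      exact U.mul_mem h1 (hPU h2)
    have hnN : n ∈ Subgroup.normalizer (U : Set X) := by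
      apply mem_normalizer_of_cj_le
      rintro _ ⟨u, hu, rfl⟩
      exact hnU u hu
    have hnUS : (fun a => n * a * n⁻¹) '' (U : Set X) ⊆ ((S : Subgroup X) : Set X) := by
      rintro _ ⟨u, hu, rfl⟩
      exact hUS (hnU u hu)
    obtain ⟨w₁, hw₁, hwa₁⟩ := hM (U : Set X) n hnM (SetLike.coe_subset_coe.2 hUS) hnUS
    set e := n⁻¹ * z with he
    have heN : e ∈ Subgroup.normalizer (U : Set X) :=
      Subgroup.mul_mem _ (Subgroup.inv_mem _ hnN) hzN
    have heP : ∀ u ∈ U, QuotientGroup.mk' P (e * u * e⁻¹) = QuotientGroup.mk' P u := by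
      intro u hu
      have h1 := hagree u hu
      have e1 : e * u * e⁻¹ = n⁻¹ * (z * u * z⁻¹) * n := by rw [he]; group
      rw [e1, map_mul, map_mul, ← h1]
      simp only [map_mul, map_inv]
      group
    set N := Subgroup.normalizer (U : Set X) with hNdef
    set Ub : Subgroup (X ⧸ P) := U.map (QuotientGroup.mk' P) with hUb
    set E : Subgroup X := N ⊓ (Subgroup.centralizer (Ub : Set (X ⧸ P))).comap (QuotientGroup.mk' P)
      with hE
    have hmemE : ∀ y : X, y ∈ E ↔ y ∈ N ∧ ∀ u ∈ U,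
        QuotientGroup.mk' P u * QuotientGroup.mk' P y =
          QuotientGroup.mk' P y * QuotientGroup.mk' P u := by
      intro y
      rw [hE, Subgroup.mem_inf, Subgroup.mem_comap, Subgroup.mem_centralizer_iff]
      constructor
      · rintro ⟨h1, h2⟩
        exact ⟨h1, fun u hu => h2 _ ⟨u, hu, rfl⟩⟩
      · rintro ⟨h1, h2⟩
        refine ⟨h1, ?_⟩
        rintro _ ⟨u, hu, rfl⟩
        exact h2 u hu
    have heE : e ∈ E := by
      rw [hmemE]
      refine ⟨heN, fun u hu => ?_⟩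
      have := heP u hu
      rw [map_mul, map_mul, map_inv] at this
      calc QuotientGroup.mk' P u * QuotientGroup.mk' P e
          = (QuotientGroup.mk' P e * QuotientGroup.mk' P u * (QuotientGroup.mk' P e)⁻¹) *
              QuotientGroup.mk' P e := by rw [this]
        _ = QuotientGroup.mk' P e * QuotientGroup.mk' P u := by group
    have hEN : E ≤ N := inf_le_left
    have hEnormal : (E.subgroupOf N).Normal := by
      rw [Subgroup.normal_subgroupOf_iff hEN]
      intro y m hy hm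
      rw [hmemE] at hy ⊢
      refine ⟨Subgroup.mul_mem _ (Subgroup.mul_mem _ hm hy.1) (Subgroup.inv_mem _ hm), ?_⟩
      intro u hu
      have hu' : m⁻¹ * u * m ∈ U := by
        have := (Subgroup.mem_normalizer_iff.1 (Subgroup.inv_mem _ hm) u).1 hu
        simpa using this
      have h1 := hy.2 _ hu'
      have e1 : QuotientGroup.mk' P u = QuotientGroup.mk' P m * QuotientGroup.mk' P (m⁻¹ * u * m) *
          (QuotientGroup.mk' P m)⁻¹ := by
        rw [← map_inv, ← map_mul, ← map_mul]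
        congr 1
        group
      have e2 : QuotientGroup.mk' P (m * y * m⁻¹) =
          QuotientGroup.mk' P m * QuotientGroup.mk' P y * (QuotientGroup.mk' P m)⁻¹ := by
        rw [map_mul, map_mul, map_inv]
      rw [e1, e2]
      calc QuotientGroup.mk' P m * QuotientGroup.mk' P (m⁻¹ * u * m) * (QuotientGroup.mk' P m)⁻¹ *
            (QuotientGroup.mk' P m * QuotientGroup.mk' P y * (QuotientGroup.mk' P m)⁻¹)
          = QuotientGroup.mk' P m * (QuotientGroup.mk' P (m⁻¹ * u * m) * QuotientGroup.mk' P y) *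
            (QuotientGroup.mk' P m)⁻¹ := by group
        _ = QuotientGroup.mk' P m * (QuotientGroup.mk' P y * QuotientGroup.mk' P (m⁻¹ * u * m)) *
            (QuotientGroup.mk' P m)⁻¹ := by rw [h1]
        _ = QuotientGroup.mk' P m * QuotientGroup.mk' P y * (QuotientGroup.mk' P m)⁻¹ *
            (QuotientGroup.mk' P m * QuotientGroup.mk' P (m⁻¹ * u * m) * (QuotientGroup.mk' P m)⁻¹) := by
          group
    -- the Sylow subgroup of `E`
    set R := (S : Subgroup X) ⊓ N with hR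
    have hRi : ¬ p ∣ R.relIndex N := hU.2
    have hRp : IsPGroup p (R.subgroupOf N) := (S.2.to_le inf_le_left).comap_subtype
    let RS : Sylow p N := hRp.toSylow hRi
    have hRS : (RS : Subgroup N) = R.subgroupOf N := hRp.toSylow_coe hRi
    have h1 := H19.not_dvd_relIndex_inf_normal RS (E.subgroupOf N)
    rw [hRS] at h1
    have h2 : R.subgroupOf N ⊓ E.subgroupOf N = (R ⊓ E).subgroupOf N := by
      ext y
      simp [Subgroup.mem_subgroupOf, Subgroup.mem_inf]
    rw [h2, Subgroup.relIndex_subgroupOf hEN] at h1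
    obtain ⟨s, hs, c, hc, hsc⟩ :=
      H10.exists_mul_of_sylow_pResidual p ((R ⊓ E).subgroupOf E) h1 ⟨e, heE⟩
    have hsR : (s : X) ∈ R := (Subgroup.mem_inf.1 (Subgroup.mem_subgroupOf.1 hs)).1
    have hsS : (s : X) ∈ (S : Subgroup X) := (Subgroup.mem_inf.1 hsR).1
    have hsN : (s : X) ∈ N := (Subgroup.mem_inf.1 hsR).2
    have hle : Cfsg.pResidual p ↥E ≤ (Subgroup.centralizer (U : Set X)).subgroupOf E := by
      unfold Cfsg.pResidual
      rw [Subgroup.closure_le]
      intro y hy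
      have hyo : (orderOf (y : X)).Coprime p := by
        rw [Subgroup.orderOf_coe]; exact hy
      have hyC : (y : X) ∈ Subgroup.centralizer (P : Set X) :=
        H10.mem_of_coprime_of_sup_eq_top S.2 hSC hyo
      have hyE := (hmemE (y : X)).1 y.2
      obtain ⟨k, hk⟩ := IsPGroup.iff_card.mp hPp
      have hcop : (orderOf (y : X)).Coprime (Nat.card P) := by
        rw [hk]; exact hyo.pow_right k
      have hcomm := H7.commute_of_stable_step (a := (y : X)) (Q := U) (R := P) hcop ?_ ?_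
      · rw [SetLike.mem_coe, Subgroup.mem_subgroupOf, Subgroup.mem_centralizer_iff]
        intro u hu
        exact (hcomm u hu).symm
      · intro q hq
        rw [← QuotientGroup.ker_mk' P, MonoidHom.mem_ker, map_mul, map_mul, map_mul, map_inv, map_inv,
          ← hyE.2 q hq]
        group
      · intro r hr
        exact (Subgroup.mem_centralizer_iff.1 hyC r hr).symm
    have hcC : (c : X) ∈ Subgroup.centralizer (U : Set X) := Subgroup.mem_subgroupOf.1 (hle hc)
    have hesc : e = (s : X) * (c : X) := by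
      have := congrArg Subtype.val hsc
      simpa using this
    have hzeq : z = n * ((s : X) * (c : X)) := by rw [← hesc, he]; group
    refine ⟨w₁ * (s : X), Subgroup.mul_mem _ hw₁.2 (hSV hsS), ?_⟩
    intro u hu
    have hsu : (s : X) * u * (s : X)⁻¹ ∈ U := (Subgroup.mem_normalizer_iff.1 hsN u).1 hu
    have hcu : (c : X) * u * (c : X)⁻¹ = u := by
      have := Subgroup.mem_centralizer_iff.1 hcC u hu
      calc (c : X) * u * (c : X)⁻¹ = (u * (c : X)) * (c : X)⁻¹ := by rw [this]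
        _ = u := by group
    have e1 : w₁ * (s : X) * u * (w₁ * (s : X))⁻¹ = w₁ * ((s : X) * u * (s : X)⁻¹) * w₁⁻¹ := by
      group
    rw [e1, hwa₁ _ hsu]
    have hx' : x = (n * ((s : X) * (c : X)))⁻¹ := by rw [← hzeq, hz, inv_inv]
    have e2 : x⁻¹ * u * x = n * ((s : X) * ((c : X) * u * (c : X)⁻¹) * (s : X)⁻¹) * n⁻¹ := by
      rw [hx']; group
    rw [e2, hcu]
  · set U' := U ⊔ P with hU'
    have hU'S : U' ≤ (S : Subgroup X) := sup_le hUS hPS
    have hlt : U < U' := by
      refine lt_of_le_of_ne le_sup_left ?_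
      intro h
      exact hPU (h ▸ le_sup_right)
    have hxinv : x⁻¹ ∈ Subgroup.normalizer (U : Set X) := Subgroup.inv_mem _ hx
    have hmap : U'.map (MulAut.conj x⁻¹).toMonoidHom = U' := by
      rw [hU', Subgroup.map_sup, H10.mem_normalizer_iff_map_conj.1 hxinv]
      have : x⁻¹ ∈ Subgroup.normalizer (P : Set X) := by
        rw [Subgroup.normalizer_eq_top]; exact Subgroup.mem_top _
      rw [H10.mem_normalizer_iff_map_conj.1 this]
    have := hbig U' hU'S (H10.card_lt_card_of_lt hlt) x (by rw [hmap]; exact hU'S)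
    exact this.restrict (SetLike.coe_subset_coe.2 le_sup_left)

end caseC

section main

variable {p : ℕ} [hp : Fact p.Prime] {W : ∀ (X : Type u) [Group X], Subgroup X → Subgroup X}

/-- Strong closure passes to the quotient by a normal subgroup contained in `T`. -/
theorem stronglyClosed_map_mk_of_le {X : Type u} [Group X] (N : Subgroup X) [N.Normal]
    {T D : Subgroup X} (hNT : N ≤ T) (hD : Cfsg.IsStronglyClosed D T) :
    Cfsg.IsStronglyClosed (D.map (QuotientGroup.mk' N)) (T.map (QuotientGroup.mk' N)) := by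
  refine ⟨Subgroup.map_mono hD.1, ?_⟩
  rintro _ ⟨x, hx, rfl⟩ gb hgb
  obtain ⟨g, rfl⟩ := QuotientGroup.mk'_surjective N gb
  have hy : g * x * g⁻¹ ∈ T := by
    have h1 : (QuotientGroup.mk' N) (g * x * g⁻¹) ∈ T.map (QuotientGroup.mk' N) := by
      rw [map_mul, map_mul, map_inv]; exact hgb
    have h2 : g * x * g⁻¹ ∈ (T.map (QuotientGroup.mk' N)).comap (QuotientGroup.mk' N) := h1
    rw [Subgroup.comap_map_eq, QuotientGroup.ker_mk', sup_eq_left.mpr hNT] at h2
    exact h2
  refine ⟨_, hD.2 x hx g hy, ?_⟩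
  simp only [map_mul, map_inv]

/-- trivial control when `V` is normal -/
theorem ctl_of_normal {X : Type u} [Group X] (S V : Subgroup X) (hV : V.Normal) : Ctl S V := by
  intro A g _ _
  refine ⟨g, ?_, fun _ _ => rfl⟩
  rw [Subgroup.normalizer_eq_top_iff.mpr hV]
  exact Subgroup.mem_top g

/-- **Theorem R.** If all sections of `G₀` are `p`-stable in the normalizer form, then in every
section `X` of `G₀`, for every Sylow `p`-subgroup `S` of `X` and every `E` strongly closed in `S`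
with respect to `X`, `N_X(W(E))` controls strong fusion in `S`. -/
theorem ctlAll_of_sections (hW : MapFun W) (hWn : NormalHyp.{u} p W)
    (hZ : ∀ (X : Type u) [Group X] [Finite X], ZFun p (W X))
    (G₀ : Type u) [Group G₀] [Finite G₀]
    (hHer : ∀ (Y : Type u) [Group Y] [Finite Y], H10.IsSec G₀ Y → Cfsg.IsNormalizerPStable p Y) :
    ∀ (n : ℕ) (X : Type u) [Group X] [Finite X], Nat.card X = n → H10.IsSec G₀ X →
      CtlAll p W X := by
  intro n
  induction n using Nat.strong_induction_on with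
  | _ n ih =>
  intro X _ _ hn hsec S E hE
  have ihsub : ∀ (L : Subgroup X), L ≠ ⊤ → ∀ (T₁ E' : Subgroup X), T₁ ≤ L → IsPGroup p T₁ →
      ¬ p ∣ T₁.relIndex L → Cfsg.IsStronglyClosed E' T₁ → CtlIn L T₁ (W X E') := by
    intro L hL T₁ E' h1 h2 h3 h4
    exact ctlIn_of_ctlAll hW L T₁ E' h1 h2 h3 h4
      (ih _ (by rw [← hn]; exact H10.card_subgroup_lt_of_ne_top hL) ↥L rfl (hsec.subgroup L))
  set P := Cfsg.pCore p X with hPdef
  have hPn : P.Normal := H1.pCore_normal p X
  have hPp : IsPGroup p P := H1.pCore_isPGroup p X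
  have hPS : P ≤ (S : Subgroup X) := H1.pCore_le_sylow S
  have hSV : (S : Subgroup X) ≤ Subgroup.normalizer (W X E : Set X) :=
    (le_normalizer_of_stronglyClosed hE).trans (normalizer_le_normalizer_W hW E)
  by_cases hP1 : P = ⊥
  · apply ctl_of_local (hZ X) S E hE
    intro T hTS hT1 hi E' hE'
    apply ihsub _ ?_ _ E' inf_le_right (S.2.to_le inf_le_left) hi hE'
    intro htop
    apply hT1
    have hTn : T.Normal := Subgroup.normalizer_eq_top_iff.1 htop
    have : T ≤ P := H1.le_pCore hTn (S.2.to_le hTS)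
    rw [hP1] at this
    exact le_bot_iff.1 this
  by_cases hEP : E ≤ P
  · have hEn : E.Normal := by
      constructor
      intro x hx g
      exact hE.2 x hx g (hPS (hPn.conj_mem x (hEP hx) g))
    apply ctl_of_normal
    rw [← Subgroup.normalizer_eq_top_iff, eq_top_iff]
    exact (le_of_eq (Subgroup.normalizer_eq_top_iff.mpr hEn).symm).trans
      (normalizer_le_normalizer_W hW E)
  set C := Subgroup.centralizer (P : Set X) with hCdef
  have hCn : C.Normal := Subgroup.normal_centralizer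
  by_cases hCP : C ≤ P
  · exact ctl_of_normal _ _ (hWn X S E hE (hHer X hsec) hCP)
  by_cases hA : (S : Subgroup X) ⊓ C ≤ P
  · have hZ' : ∀ z ∈ (S : Subgroup X) ⊓ C, ∀ c ∈ C, z * c = c * z := by
      intro z hz c hc
      exact Subgroup.mem_centralizer_iff.1 hc z (hA hz)
    obtain ⟨D, hDn, hDc, hfac⟩ := H10.exists_normal_coprime_complement S C hZ'
    have hcon := H10.constrained_quotient D hDc (by
      intro x hx
      obtain ⟨z, hz, d, hd, rfl⟩ := hfac x hx
      exact ⟨z, hA hz, d, hd, rfl⟩)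
    obtain ⟨hSbp, hSbi⟩ := H10.sylow_map_mk S D
    obtain ⟨Sb, hSb⟩ := H10.exists_sylow_eq hSbp hSbi
    have hEb : Cfsg.IsStronglyClosed (E.map (QuotientGroup.mk' D))
        (Sb : Subgroup (X ⧸ D)) := by
      rw [hSb]
      exact stronglyClosed_map_mk D hDc S.2 hE
    have hnorm := hWn (X ⧸ D) Sb _ hEb (hHer (X ⧸ D) (hsec.quotient D)) hcon
    have hEp : IsPGroup p E := S.2.to_le hE.1
    rw [hW.map _ E (H10.injOn_mk_of_coprime D hDc hEp)] at hnorm
    intro A g hAS hAg
    exact control_of_map_normal D hDc S ((hW.le E).trans hE.1) hSV hnorm A g hAS hAg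
  have hG₁ : Subgroup.normalizer (((S : Subgroup X) ⊓ (P ⊔ C) : Subgroup X) : Set X) ≠ ⊤ := by
    intro htop
    apply hA
    have hn' : ((S : Subgroup X) ⊓ (P ⊔ C)).Normal := Subgroup.normalizer_eq_top_iff.1 htop
    have h1 : (S : Subgroup X) ⊓ (P ⊔ C) ≤ P := H1.le_pCore hn' (S.2.to_le inf_le_left)
    exact le_trans (inf_le_inf_left _ le_sup_right) h1
  have hSX₁ : (S : Subgroup X) ≤
      Subgroup.normalizer (((S : Subgroup X) ⊓ (P ⊔ C) : Subgroup X) : Set X) := by
    have hKn : (P ⊔ C).Normal := Subgroup.sup_normal P C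
    have h1 : Subgroup.normalizer ((S : Subgroup X) : Set X) ⊓
        Subgroup.normalizer ((P ⊔ C : Subgroup X) : Set X) ≤
        Subgroup.normalizer (((S : Subgroup X) ⊓ (P ⊔ C) : Subgroup X) : Set X) :=
      Subgroup.inf_normalizer_le_normalizer_inf
    refine le_trans (le_inf Subgroup.le_normalizer ?_) h1
    rw [Subgroup.normalizer_eq_top]
    exact le_top
  by_cases hX : (S : Subgroup X) ⊔ C = ⊤
  · obtain ⟨hSbp, hSbi⟩ := H10.sylow_map_mk S P
    obtain ⟨Sb, hSb⟩ := H10.exists_sylow_eq hSbp hSbi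
    have hEb : Cfsg.IsStronglyClosed (E.map (QuotientGroup.mk' P))
        (Sb : Subgroup (X ⧸ P)) := by
      rw [hSb]
      exact stronglyClosed_map_mk_of_le P hPS hE
    have hquot : Ctl ((S : Subgroup X).map (QuotientGroup.mk' P))
        (W (X ⧸ P) (E.map (QuotientGroup.mk' P))) := by
      have := ih _ (by rw [← hn]; exact H10.card_quotient_lt_of_ne_bot hP1) (X ⧸ P) rfl
        (hsec.quotient P) Sb _ hEb
      rwa [hSb] at this
    set Vb := W (X ⧸ P) (E.map (QuotientGroup.mk' P)) with hVb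
    set M := (Subgroup.normalizer (Vb : Set (X ⧸ P))).comap (QuotientGroup.mk' P) with hMdef
    have hEb1 : E.map (QuotientGroup.mk' P) ≠ ⊥ := by
      intro h0
      apply hEP
      rw [← QuotientGroup.ker_mk' P]
      exact (Subgroup.map_eq_bot_iff _).1 h0
    have hEbp : IsPGroup p (E.map (QuotientGroup.mk' P)) := (S.2.to_le hE.1).map _
    have hVb1 : Vb ≠ ⊥ := (hZ (X ⧸ P)).ne_bot _ hEbp hEb1
    have hMtop : M ≠ ⊤ := by
      intro htop
      apply hVb1
      have hVbn : Vb.Normal := by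
        rw [← Subgroup.normalizer_eq_top_iff, eq_top_iff]
        intro xb _
        obtain ⟨x, rfl⟩ := QuotientGroup.mk'_surjective P xb
        have : x ∈ M := by rw [htop]; exact Subgroup.mem_top x
        exact this
      have hVbp : IsPGroup p Vb := hEbp.to_le ((hZ (X ⧸ P)).le _)
      have hVn : (Vb.comap (QuotientGroup.mk' P)).Normal := hVbn.comap _
      have hVp : IsPGroup p (Vb.comap (QuotientGroup.mk' P)) := by
        apply hVbp.comap_of_ker_isPGroup
        rw [QuotientGroup.ker_mk']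
        exact hPp
      have hVP : Vb.comap (QuotientGroup.mk' P) ≤ P := H1.le_pCore hVn hVp
      rw [eq_bot_iff]
      intro vb hvb
      obtain ⟨v, rfl⟩ := QuotientGroup.mk'_surjective P vb
      have : v ∈ P := hVP hvb
      rw [Subgroup.mem_bot, ← MonoidHom.mem_ker, QuotientGroup.ker_mk']
      exact this
    have hSM : (S : Subgroup X) ≤ M := by
      intro s hs
      have h1 : (Sb : Subgroup (X ⧸ P)) ≤ Subgroup.normalizer (Vb : Set (X ⧸ P)) :=
        (le_normalizer_of_stronglyClosed hEb).trans (normalizer_le_normalizer_W hW _)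
      rw [hSb] at h1
      exact h1 ⟨s, hs, rfl⟩
    have hM := ihsub M hMtop (S : Subgroup X) E hSM S.2
      (H10.not_dvd_relIndex_of_sylow_le S hSM) hE
    exact ctl_caseC S P hPS hX (W X E) hSV Vb hquot hM
  · exact ctl_caseB S P C hPS (W X E)
      (ihsub _ hG₁ (S : Subgroup X) E hSX₁ S.2 (H10.not_dvd_relIndex_of_sylow_le S hSX₁) hE)
      (ihsub _ hX (S : Subgroup X) E le_sup_left S.2
        (H10.not_dvd_relIndex_of_sylow_le S le_sup_left) hE)

end main

section iso

variable {X Y : Type*} [Group X] [Group Y] {p : ℕ} [hp : Fact p.Prime]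

/-- `p`-stability in the normalizer form is invariant under isomorphism. -/
theorem isNormalizerPStable_of_mulEquiv (e : X ≃* Y) (h : Cfsg.IsNormalizerPStable p X) :
    Cfsg.IsNormalizerPStable p Y := by
  intro P' hP' g' hg' hq
  set P : Subgroup X := P'.map e.symm.toMonoidHom with hP
  have hPp : IsPGroup p P := hP'.map _
  have hmemP : ∀ x : X, x ∈ P ↔ e x ∈ P' := by
    intro x
    rw [hP]
    constructor
    · rintro ⟨y, hy, rfl⟩
      simpa using hy
    · intro hx
      exact ⟨e x, hx, by simp⟩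
  have hnorm : ∀ x : X, x ∈ Subgroup.normalizer (P : Set X) ↔
      e x ∈ Subgroup.normalizer (P' : Set Y) := by
    intro x
    rw [Subgroup.mem_normalizer_iff, Subgroup.mem_normalizer_iff]
    constructor
    · intro hx y
      have := hx (e.symm y)
      rw [hmemP, hmemP] at this
      simpa using this
    · intro hx y
      rw [hmemP, hmemP]
      have := hx (e y)
      simpa using this
  have hcent : ∀ x : X, x ∈ Subgroup.centralizer (P : Set X) ↔
      e x ∈ Subgroup.centralizer (P' : Set Y) := by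
    intro x
    rw [Subgroup.mem_centralizer_iff, Subgroup.mem_centralizer_iff]
    constructor
    · intro hx y hy
      have := hx (e.symm y) ((hmemP _).2 (by simpa using hy))
      have := congrArg e this
      simpa using this
    · intro hx y hy
      have := hx (e y) ((hmemP y).1 hy)
      apply e.injective
      simpa using this
  set g : X := e.symm g' with hg
  have hgN : g ∈ Subgroup.normalizer (P : Set X) := by
    rw [hnorm, hg]; simpa using hg'
  have hquad : ⁅⁅P, Subgroup.zpowers g⁆, Subgroup.zpowers g⁆ = ⊥ := by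
    have h1 : Subgroup.zpowers g = (Subgroup.zpowers g').map e.symm.toMonoidHom := by
      rw [MonoidHom.map_zpowers]; rfl
    rw [h1, hP, ← Subgroup.map_commutator, ← Subgroup.map_commutator, hq, Subgroup.map_bot]
  have h2 := h P hPp g hgN hquad
  -- the induced map on sections
  let ψ : ↥(Subgroup.normalizer (P : Set X)) →* ↥(Subgroup.normalizer (P' : Set Y)) :=
    (e.toMonoidHom.comp (Subgroup.normalizer (P : Set X)).subtype).codRestrict _
      (fun x => (hnorm x).1 x.2)
  have hψC : (Subgroup.centralizer (P : Set X)).subgroupOf (Subgroup.normalizer (P : Set X)) ≤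
      ((Subgroup.centralizer (P' : Set Y)).subgroupOf
        (Subgroup.normalizer (P' : Set Y))).comap ψ := by
    intro x hx
    rw [Subgroup.mem_comap, Subgroup.mem_subgroupOf]
    rw [Subgroup.mem_subgroupOf] at hx
    exact (hcent x).1 hx
  let φ := QuotientGroup.map _ _ ψ hψC
  have hφsurj : Function.Surjective φ := by
    intro y
    obtain ⟨⟨y, hy⟩, rfl⟩ := QuotientGroup.mk_surjective y
    have hy' : e.symm y ∈ Subgroup.normalizer (P : Set X) := by
      rw [hnorm]; simpa using hy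
    refine ⟨QuotientGroup.mk ⟨e.symm y, hy'⟩, ?_⟩
    show QuotientGroup.mk (ψ ⟨e.symm y, hy'⟩) = _
    congr 1
    apply Subtype.ext
    show e (e.symm y) = y
    simp
  have h3 := H4.PStable.pCore_map_le' φ hφsurj ⟨_, h2, rfl⟩
  have h4 : φ (QuotientGroup.mk ⟨g, hgN⟩) = QuotientGroup.mk ⟨g', hg'⟩ := by
    show QuotientGroup.mk (ψ ⟨g, hgN⟩) = _
    congr 1
    apply Subtype.ext
    show e g = g'
    rw [hg]; simp
  rw [h4] at h3
  exact h3

end iso

section final

variable {p : ℕ} [hp : Fact p.Prime]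

/-- the hereditary hypothesis in `IsSec` form from the form over subquotients `K/R` -/
theorem hered_of_subquotients {G : Type u} [Group G]
    (h : ∀ (K R : Subgroup G) [(R.subgroupOf K).Normal],
      Cfsg.IsNormalizerPStable p (↥K ⧸ R.subgroupOf K)) :
    ∀ (Y : Type u) [Group Y] [Finite Y], H10.IsSec G Y → Cfsg.IsNormalizerPStable p Y := by
  intro Y _ _ hY
  obtain ⟨K, R, hn, ⟨e⟩⟩ := hY.exists_equiv
  exact isNormalizerPStable_of_mulEquiv e (h K R)

/-- **S3081 modulo `Qd(p)`-free ⇒ sections `p`-stable.** -/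
theorem control_stronglyClosed_of_sections {G : Type u} [Group G] [Finite G]
    (hp2 : p ≠ 2) (P : Sylow p G) (D : Subgroup G)
    (hD : Cfsg.IsStronglyClosed D (P : Subgroup G))
    (h : ∀ (K R : Subgroup G) [(R.subgroupOf K).Normal],
      Cfsg.IsNormalizerPStable p (↥K ⧸ R.subgroupOf K)) :
    (∀ A : Set G, A ⊆ (P : Subgroup G) → Cfsg.ControlsStrongFusionOf
      (Subgroup.normalizer ((Cfsg.centerThompsonAOf D) : Set G)) (P : Subgroup G) A) ∧
    (∀ A : Set G, A ⊆ (P : Subgroup G) → Cfsg.ControlsStrongFusionOf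
      (Subgroup.normalizer ((Cfsg.omegaOne p (Cfsg.centerThompsonOf p D)) : Set G))
      (P : Subgroup G) A) := by
  have hHer := hered_of_subquotients h
  have hA := ctlAll_of_sections mapFun_WA (normalHyp_WA hp2) (fun X _ _ => zFun_WA) G hHer _ G rfl
    H10.isSec_self P D hD
  have hE := ctlAll_of_sections mapFun_WE (normalHyp_WE hp2) (fun X _ _ => zFun_WE) G hHer _ G rfl
    H10.isSec_self P D hD
  constructor
  · intro A hAP
    refine ⟨hAP, fun g hg => ?_⟩
    obtain ⟨x, hx, hxa⟩ := hA A g hAP hg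
    exact ⟨x, hx, fun a ha => (hxa a ha).symm⟩
  · intro A hAP
    refine ⟨hAP, fun g hg => ?_⟩
    obtain ⟨x, hx, hxa⟩ := hE A g hAP hg
    exact ⟨x, hx, fun a ha => (hxa a ha).symm⟩

end final

/-- **The `⇒` direction of S2794 modulo `Qd(p)`-free ⇒ sections `p`-stable.** -/
theorem controlsStrongFusion_ZJ_of_sections {G : Type u} [Group G] [Finite G] {p : ℕ}
    [hp : Fact p.Prime] (hp2 : p ≠ 2)
    (h : ∀ (K R : Subgroup G) [(R.subgroupOf K).Normal],
      Cfsg.IsNormalizerPStable p (↥K ⧸ R.subgroupOf K))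
    (K R : Subgroup G) [hR : (R.subgroupOf K).Normal] (T : Sylow p (↥K ⧸ R.subgroupOf K)) :
    Cfsg.ControlsStrongFusion p
      (Cfsg.centerThompsonAOf (T : Subgroup (↥K ⧸ R.subgroupOf K))) := by
  have hHer := hered_of_subquotients h
  have hfin : Finite (↥K ⧸ R.subgroupOf K) := inferInstance
  have hA := ctlAll_of_sections mapFun_WA (normalHyp_WA hp2) (fun X _ _ => zFun_WA) G hHer _
    (↥K ⧸ R.subgroupOf K) rfl (H10.isSec_section K R) T (T : Subgroup (↥K ⧸ R.subgroupOf K))
    (stronglyClosed_self _)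
  refine ⟨T, mapFun_WA.le _, ?_⟩
  intro A hAT
  refine ⟨hAT, fun g hg => ?_⟩
  obtain ⟨x, hx, hxa⟩ := hA A g hAT hg
  exact ⟨x, hx, fun a ha => (hxa a ha).symm⟩

end Cfsg.Agent.Lib.H15.SCF
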