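import Cfsg.Agent.Lib.H11.SubspMax2
import Cfsg.Agent.Lib.H11.Subf1
import Cfsg.Prelude.Def_GeometricClasses

/-!
# Subfield subgroups of `Sp_{2m}(F)` (part A): rational vectors, Siegel elements, basis vectors
-/

set_option autoImplicit false
set_option linter.unusedSimpArgs false
set_option linter.unusedSectionVars false
set_option linter.unusedVariables false

namespace Cfsg.Agent.Lib.H15.SpSub

open Matrix
open Cfsg.Agent.Lib.H11.SubspMax
open Cfsg.Agent.Lib.H4 (sympForm_self sympForm_add_left sympForm_add_right sympForm_smul_left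
  sympForm_smul_right sympForm_swap)

variable {F : Type*} [Field F] {m : ℕ}

local notation "VV" => (Fin m ⊕ Fin m → F)
local notation "GG" => GL (Fin m ⊕ Fin m) F
local notation "MM" => Matrix (Fin m ⊕ Fin m) (Fin m ⊕ Fin m) F
local notation "BB" => Cfsg.sympForm m F

/-! ### more bilinearity -/

theorem sympForm_neg_left (u v : VV) : BB (-u) v = - BB u v := by
  rw [← neg_one_smul F u, sympForm_smul_left]; ring

theorem sympForm_neg_right (u v : VV) : BB u (-v) = - BB u v := by
  rw [← neg_one_smul F v, sympForm_smul_right]; ring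

/-- the explicit formula -/
theorem sympForm_eq_sum (u v : VV) :
    BB u v = ∑ k : Fin m, (u (Sum.inr k) * v (Sum.inl k) - u (Sum.inl k) * v (Sum.inr k)) := by
  simp only [Cfsg.sympForm, Matrix.J, dotProduct, Fintype.sum_sum_type, Matrix.mulVec,
    Matrix.fromBlocks_apply₁₁,
    Matrix.fromBlocks_apply₁₂, Matrix.fromBlocks_apply₂₁, Matrix.fromBlocks_apply₂₂,
    Matrix.zero_apply, zero_mul, Finset.sum_const_zero, zero_add, add_zero, Matrix.neg_apply,
    Matrix.one_apply, neg_mul, ite_mul, one_mul, Finset.sum_neg_distrib, Finset.sum_ite_eq,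
    Finset.mem_univ, if_true, mul_neg]
  rw [Finset.sum_sub_distrib]
  ring

/-! ### rational vectors -/

/-- a vector with all coordinates in the subfield -/
def IsRat (F₀ : Subfield F) (v : VV) : Prop := ∀ i, v i ∈ F₀

variable {F₀ : Subfield F}

theorem IsRat.add {u v : VV} (hu : IsRat F₀ u) (hv : IsRat F₀ v) : IsRat F₀ (u + v) :=
  fun i => F₀.add_mem (hu i) (hv i)

theorem IsRat.sub {u v : VV} (hu : IsRat F₀ u) (hv : IsRat F₀ v) : IsRat F₀ (u - v) :=
  fun i => F₀.sub_mem (hu i) (hv i)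

theorem IsRat.neg {u : VV} (hu : IsRat F₀ u) : IsRat F₀ (-u) :=
  fun i => F₀.neg_mem (hu i)

theorem IsRat.smul {u : VV} (hu : IsRat F₀ u) {c : F} (hc : c ∈ F₀) : IsRat F₀ (c • u) :=
  fun i => F₀.mul_mem hc (hu i)

theorem IsRat.zero : IsRat F₀ (0 : VV) := fun _ => F₀.zero_mem

theorem IsRat.symp {u v : VV} (hu : IsRat F₀ u) (hv : IsRat F₀ v) : BB u v ∈ F₀ := by
  rw [sympForm_eq_sum]
  exact F₀.sum_mem fun k _ => F₀.sub_mem (F₀.mul_mem (hu _) (hv _)) (F₀.mul_mem (hu _) (hv _))

/-! ### the standard basis -/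

/-- the standard basis vectors -/
def eb (a : Fin m ⊕ Fin m) : VV := Pi.single a 1

/-- the hyperbolic plane an index belongs to -/
def pl : Fin m ⊕ Fin m → Fin m := Sum.elim id id

/-- the sign of an index -/
def sg : Fin m ⊕ Fin m → F := Sum.elim (fun _ => 1) (fun _ => -1)

theorem pl_swap (a : Fin m ⊕ Fin m) : pl a.swap = pl a := by
  rcases a with a | a <;> rfl

theorem sg_swap (a : Fin m ⊕ Fin m) : (sg a.swap : F) = - sg a := by
  rcases a with a | a <;> simp [sg]

theorem sg_mul_self (a : Fin m ⊕ Fin m) : (sg a : F) * sg a = 1 := by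
  rcases a with a | a <;> simp [sg]

theorem sg_ne_zero (a : Fin m ⊕ Fin m) : (sg a : F) ≠ 0 := by
  rcases a with a | a <;> simp [sg]

theorem sg_mem (a : Fin m ⊕ Fin m) : (sg a : F) ∈ F₀ := by
  rcases a with a | a
  · exact F₀.one_mem
  · exact F₀.neg_mem F₀.one_mem

theorem ne_of_pl_ne {a c : Fin m ⊕ Fin m} (h : pl a ≠ pl c) : a ≠ c := fun e => h (by rw [e])

theorem ne_swap_of_pl_ne {a c : Fin m ⊕ Fin m} (h : pl a ≠ pl c) : a ≠ c.swap :=
  fun e => h (by rw [e, pl_swap])

theorem eb_apply_self (a : Fin m ⊕ Fin m) : (eb a : VV) a = 1 := by simp [eb]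

theorem eb_apply_ne {a d : Fin m ⊕ Fin m} (h : d ≠ a) : (eb a : VV) d = 0 := by
  simp [eb, h]

theorem eb_rat (a : Fin m ⊕ Fin m) : IsRat F₀ (eb a : VV) := by
  intro i
  by_cases h : i = a
  · rw [h, eb_apply_self]; exact F₀.one_mem
  · rw [eb_apply_ne h]; exact F₀.zero_mem

theorem eb_ne_zero (a : Fin m ⊕ Fin m) : (eb a : VV) ≠ 0 := by
  intro h
  have := congrFun h a
  rw [eb_apply_self] at this
  exact one_ne_zero this

/-- the form against a basis vector reads off a coordinate -/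
theorem B_eb (y : VV) (a : Fin m ⊕ Fin m) : BB y (eb a) = sg a * y a.swap := by
  rw [sympForm_eq_sum]
  rcases a with a | a
  · simp [eb, sg, Pi.single_apply]
  · simp [eb, sg, Pi.single_apply]

theorem eb_B (y : VV) (a : Fin m ⊕ Fin m) : BB (eb a) y = - (sg a * y a.swap) := by
  rw [sympForm_swap, B_eb]

theorem B_eb_eb_of_ne {a c : Fin m ⊕ Fin m} (h : c ≠ a.swap) : BB (eb c) (eb a : VV) = 0 := by
  rw [B_eb, eb_apply_ne (Ne.symm h), mul_zero]

theorem B_eb_eb_of_pl {a c : Fin m ⊕ Fin m} (h : pl c ≠ pl a) : BB (eb c) (eb a : VV) = 0 :=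
  B_eb_eb_of_ne (ne_swap_of_pl_ne h)

theorem B_eb_swap (a : Fin m ⊕ Fin m) : BB (eb a.swap) (eb a : VV) = sg a := by
  rw [B_eb, eb_apply_self, mul_one]

theorem B_eb_swap' (a : Fin m ⊕ Fin m) : BB (eb a) (eb a.swap : VV) = - sg a := by
  rw [B_eb, Sum.swap_swap, eb_apply_self, mul_one, sg_swap]

theorem coord_eq (y : VV) (d : Fin m ⊕ Fin m) : y d = - sg d * BB y (eb d.swap) := by
  rw [B_eb, Sum.swap_swap, sg_swap]
  have := sg_mul_self (F := F) d
  linear_combination (-(y d)) * this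

theorem vec_eq_sum (y : VV) : y = ∑ d, y d • (eb d : VV) := by
  funext i
  rw [Finset.sum_apply]
  simp [eb, Pi.single_apply]

/-! ### the standard subfield subgroup -/

/-- the standard subfield subgroup of the symplectic group -/
def M0 (m : ℕ) (F₀ : Subfield F) : Subgroup (GL (Fin m ⊕ Fin m) F) :=
  Cfsg.Geo.subfieldSubgroup F₀ (1 : GL (Fin m ⊕ Fin m) F) ⊓ Cfsg.spGL m F

theorem entry_eq (g : GG) (i j : Fin m ⊕ Fin m) :
    (g : MM) i j = ((g : MM) *ᵥ (eb j : VV)) i := by
  unfold eb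
  rw [Matrix.mulVec_single_one]; rfl

theorem mem_sub_of_rat {g : GG} (h : ∀ x : VV, IsRat F₀ x → IsRat F₀ ((g : MM) *ᵥ x)) :
    g ∈ Cfsg.Geo.subfieldSubgroup F₀ (1 : GG) := by
  rw [Cfsg.Agent.Lib.H11.Subf.mem_subfield_one_iff]
  refine ⟨1, one_ne_zero, fun i j => ?_⟩
  rw [one_mul, entry_eq]
  exact h _ (eb_rat j) i

theorem stv_rat {v : VV} (hv : IsRat F₀ v) {c : F} (hc : c ∈ F₀) {x : VV} (hx : IsRat F₀ x) :
    IsRat F₀ ((stv v c : MM) *ᵥ x) := by
  rw [stv_mulVec]
  exact hx.add (hv.smul (F₀.mul_mem hc (hx.symp hv)))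

theorem stv_mem_M0 {v : VV} (hv : IsRat F₀ v) {c : F} (hc : c ∈ F₀) : stv v c ∈ M0 m F₀ :=
  ⟨mem_sub_of_rat fun x hx => stv_rat hv hc hx, stv_mem_spGL v c⟩

/-! ### transvection calculus -/

theorem stv_add (v : VV) (c d : F) : stv v (c + d) = stv v c * stv v d := by
  apply gl_ext
  intro x
  rw [gl_mul_mulVec, stv_mulVec, stv_mulVec, stv_mulVec]
  simp only [sympForm_add_left, sympForm_smul_left, sympForm_self]
  module

theorem stv_zero (v : VV) : stv v (0 : F) = 1 := by
  apply gl_ext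
  intro x
  rw [stv_mulVec, Units.val_one, Matrix.one_mulVec]
  module

theorem stv_neg (v : VV) (c : F) : stv v (-c) = (stv v c)⁻¹ := by
  rw [eq_inv_iff_mul_eq_one, ← stv_add, neg_add_cancel, stv_zero]

theorem stv_smul (a : F) (v : VV) (c : F) : stv (a • v) c = stv v (a * a * c) := by
  apply gl_ext
  intro x
  rw [stv_mulVec, stv_mulVec, sympForm_smul_right]
  module

theorem stv_fix {v x : VV} (h : BB x v = 0) (c : F) : (stv v c : MM) *ᵥ x = x := by
  rw [stv_mulVec, h]; module

/-! ### Siegel elements -/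

/-- the Siegel element `x ↦ x + t (B(x,u) v + B(x,v) u)` attached to orthogonal `u, v` -/
noncomputable def sr (u v : VV) (t : F) : GG := stv (u + v) t * stv u (-t) * stv v (-t)

theorem sr_mulVec {u v : VV} (h : BB u v = 0) (t : F) (x : VV) :
    (sr u v t : MM) *ᵥ x = x + t • (BB x u • v + BB x v • u) := by
  have h' : BB v u = 0 := sympForm_eq_swap h
  unfold sr
  rw [gl_mul_mulVec, gl_mul_mulVec, stv_mulVec, stv_mulVec, stv_mulVec]
  simp only [sympForm_add_left, sympForm_add_right, sympForm_smul_left, sympForm_self, h, h']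
  module

theorem sr_mem_spGL (u v : VV) (t : F) : sr u v t ∈ Cfsg.spGL m F :=
  (Cfsg.spGL m F).mul_mem ((Cfsg.spGL m F).mul_mem (stv_mem_spGL _ _) (stv_mem_spGL _ _))
    (stv_mem_spGL _ _)

theorem sr_mem_M0 {u v : VV} (hu : IsRat F₀ u) (hv : IsRat F₀ v) {t : F} (ht : t ∈ F₀) :
    sr u v t ∈ M0 m F₀ :=
  (M0 m F₀).mul_mem ((M0 m F₀).mul_mem (stv_mem_M0 (hu.add hv) ht) (stv_mem_M0 hu (F₀.neg_mem ht)))
    (stv_mem_M0 hv (F₀.neg_mem ht))

theorem sr_conj (g : GG) (hg : g ∈ Cfsg.spGL m F) (u v : VV) (t : F) :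
    sr ((g : MM) *ᵥ u) ((g : MM) *ᵥ v) t = g * sr u v t * g⁻¹ := by
  unfold sr
  rw [← Matrix.mulVec_add, conj_stv g hg, conj_stv g hg, conj_stv g hg]
  group

theorem sr_comm {u v : VV} (h : BB u v = 0) (t : F) : sr u v t = sr v u t := by
  apply gl_ext
  intro x
  rw [sr_mulVec h, sr_mulVec (sympForm_eq_swap h)]
  module

theorem sr_add {u v : VV} (h : BB u v = 0) (s t : F) : sr u v (s + t) = sr u v s * sr u v t := by
  have h' : BB v u = 0 := sympForm_eq_swap h
  apply gl_ext
  intro x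
  rw [gl_mul_mulVec, sr_mulVec h, sr_mulVec h, sr_mulVec h]
  simp only [sympForm_add_left, sympForm_smul_left, sympForm_self, h, h']
  module

theorem sr_zero (u v : VV) : sr u v (0 : F) = 1 := by
  unfold sr
  rw [neg_zero, stv_zero, stv_zero, stv_zero, one_mul, one_mul]

theorem sr_neg {u v : VV} (h : BB u v = 0) (t : F) : sr u v (-t) = (sr u v t)⁻¹ := by
  rw [eq_inv_iff_mul_eq_one, ← sr_add h, neg_add_cancel, sr_zero]

theorem sr_smul_right {u v : VV} (h : BB u v = 0) (c t : F) : sr u (c • v) t = sr u v (c * t) := by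
  have h2 : BB u (c • v) = 0 := by rw [sympForm_smul_right, h, mul_zero]
  apply gl_ext
  intro x
  rw [sr_mulVec h, sr_mulVec h2, sympForm_smul_right]
  module

theorem sr_smul_left {u v : VV} (h : BB u v = 0) (c t : F) : sr (c • u) v t = sr u v (c * t) := by
  have h2 : BB (c • u) v = 0 := by rw [sympForm_smul_left, h, mul_zero]
  apply gl_ext
  intro x
  rw [sr_mulVec h, sr_mulVec h2, sympForm_smul_right]
  module

/-- additivity in the second argument, with the correction term -/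
theorem sr_add_right {n v w : VV} (hv : BB n v = 0) (hw : BB n w = 0) (t : F) :
    sr n (v + w) t = sr n w t * stv n (-(t * t * BB v w)) * sr n v t := by
  have hv' : BB v n = 0 := sympForm_eq_swap hv
  have hw' : BB w n = 0 := sympForm_eq_swap hw
  have h2 : BB n (v + w) = 0 := by rw [sympForm_add_right, hv, hw, add_zero]
  apply gl_ext
  intro x
  rw [gl_mul_mulVec, gl_mul_mulVec, sr_mulVec h2, sr_mulVec hv, stv_mulVec, sr_mulVec hw]
  simp only [sympForm_add_left, sympForm_add_right, sympForm_smul_left, sympForm_self, hv, hw,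
    hv', hw']
  module

/-- the transvection of a sum of orthogonal vectors -/
theorem stv_add_vec {u v : VV} (h : BB u v = 0) (s : F) :
    stv (u + v) s = stv u s * stv v s * sr u v s := by
  have h' : BB v u = 0 := sympForm_eq_swap h
  apply gl_ext
  intro x
  rw [gl_mul_mulVec, gl_mul_mulVec, sr_mulVec h, stv_mulVec, stv_mulVec, stv_mulVec]
  simp only [sympForm_add_left, sympForm_add_right, sympForm_smul_left, sympForm_self, h, h']
  module

/-- the commutator formula for Siegel elements -/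
theorem sr_commutator {u z z' v : VV} (huz : BB u z = 0) (huz' : BB u z' = 0) (huv : BB u v = 0)
    (hzv : BB z v = 0) (hz'v : BB z' v = 0) (s t : F) :
    sr u z s * sr z' v t * (sr u z s)⁻¹ * (sr z' v t)⁻¹ = sr u v (-(s * t * BB z z')) := by
  have huz_ : BB z u = 0 := sympForm_eq_swap huz
  have huz'_ : BB z' u = 0 := sympForm_eq_swap huz'
  have huv_ : BB v u = 0 := sympForm_eq_swap huv
  have hzv_ : BB v z = 0 := sympForm_eq_swap hzv
  have hz'v_ : BB v z' = 0 := sympForm_eq_swap hz'v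
  have hsw : BB z' z = - BB z z' := sympForm_swap m z' z
  rw [← sr_neg huz, ← sr_neg hz'v]
  apply gl_ext
  intro x
  rw [gl_mul_mulVec, gl_mul_mulVec, gl_mul_mulVec, sr_mulVec huv, sr_mulVec hz'v, sr_mulVec huz,
    sr_mulVec hz'v, sr_mulVec huz]
  simp only [sympForm_add_left, sympForm_add_right, sympForm_smul_left, sympForm_self,
    huz, huz', huv, hzv, hz'v, huz_, huz'_, huv_, hzv_, hz'v_, hsw]
  module

/-! ### the coefficient set and rational points -/

/-- the coefficients of the short root elements of `H` -/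
def Lam (H : Subgroup GG) : Set F :=
  {t | ∀ a c : Fin m ⊕ Fin m, pl a ≠ pl c → sr (eb a) (eb c) t ∈ H}

/-- scalar multiples of rational vectors -/
def RatPt (F₀ : Subfield F) (y : VV) : Prop := ∃ (l : F) (r : VV), IsRat F₀ r ∧ y = l • r

end Cfsg.Agent.Lib.H15.SpSub
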