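import Cfsg.Agent.Lib.H15.M11MUcore
import Cfsg.Agent.Lib.H9.M11SUB

/-!
# S0420 helper MU (helper15): `mu_const`, in the shape asked for by helper1 (#8807).
-/

set_option autoImplicit false

universe u

namespace Cfsg.Agent.Lib.H15.M11U

open Cfsg.Agent.Lib.H1.M11U

variable {G : Type u} [Group G] [Finite G]

/-- (MU) the number of common neighbours of two distinct non-adjacent Sylow 3-subgroups is constant. -/
theorem mu_const (h : Hyp G) : ∃ μ : ℕ, ∀ x y : Sylow 3 G, x ≠ y → ¬ Adj x y →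
    Nat.card {w : Sylow 3 G // Adj x w ∧ Adj y w} = μ :=
  mu_const_core (fun h1 h1' h2 h2' => Cfsg.Agent.Lib.H9.M11U.nonadj_trans h h1 h1' h2 h2')

end Cfsg.Agent.Lib.H15.M11U
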