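import Mathlib
import Cfsg.Agent.Lib.H26.NGPDefs

/-!
# S1904 piece HC (helper15): facts on `Homo B n` (`B ≅ Z_{2^n} × Z_{2^n}`)
-/

set_option autoImplicit false

open Cfsg.Agent.Lib.H26.NGP

namespace Cfsg.Agent.Lib.H15.NGP

universe u

variable {X : Type u} [Group X] [Finite X]

/-- PIECE HC (1) -/
theorem homo_pow_eq_one {B : Subgroup X} {n : ℕ} (h : Homo B n) : ∀ b ∈ B, b ^ 2 ^ n = 1 := by
  obtain ⟨x, y, hx, hy, hxn, hyn, hind, hgen⟩ := h.gen
  intro b hb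
  obtain ⟨i, j, rfl⟩ := hgen b hb
  have hc : Commute (x ^ i) (y ^ j) := (show Commute x y from h.ab x hx y hy).pow_pow i j
  rw [hc.mul_pow, ← pow_mul, ← pow_mul, mul_comm i, mul_comm j, pow_mul, pow_mul, hxn, hyn,
    one_pow, one_pow, one_mul]

/-- PIECE HC (2).  Elements of order dividing `2^k` are `2^(n-k)`-th powers. -/
theorem homo_exists_root {B : Subgroup X} {n : ℕ} (h : Homo B n) (k : ℕ) (hk : k ≤ n) :
    ∀ b ∈ B, b ^ 2 ^ k = 1 → ∃ c ∈ B, c ^ 2 ^ (n - k) = b := by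
  obtain ⟨x, y, hx, hy, hxn, hyn, hind, hgen⟩ := h.gen
  intro b hb hbk
  obtain ⟨i, j, rfl⟩ := hgen b hb
  have hxy : Commute x y := h.ab x hx y hy
  have hc : Commute (x ^ i) (y ^ j) := hxy.pow_pow i j
  rw [hc.mul_pow, ← pow_mul, ← pow_mul] at hbk
  obtain ⟨hi, hj⟩ := hind _ _ hbk
  have hsplit : 2 ^ n = 2 ^ (n - k) * 2 ^ k := by rw [← pow_add, Nat.sub_add_cancel hk]
  have hpos : 0 < 2 ^ k := by positivity
  have hi' : 2 ^ (n - k) ∣ i := by
    rw [hsplit] at hi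
    exact Nat.dvd_of_mul_dvd_mul_right hpos hi
  have hj' : 2 ^ (n - k) ∣ j := by
    rw [hsplit] at hj
    exact Nat.dvd_of_mul_dvd_mul_right hpos hj
  obtain ⟨i', rfl⟩ := hi'
  obtain ⟨j', rfl⟩ := hj'
  refine ⟨x ^ i' * y ^ j', B.mul_mem (B.pow_mem hx _) (B.pow_mem hy _), ?_⟩
  rw [(hxy.pow_pow i' j').mul_pow, ← pow_mul, ← pow_mul, mul_comm i', mul_comm j']

/-- PIECE HC (3).  `|Ω_k(B)| = 4^k`. -/
theorem homo_card_omega {B : Subgroup X} {n : ℕ} (h : Homo B n) (k : ℕ) (hk : k ≤ n) :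
    Nat.card {b : X // b ∈ B ∧ b ^ 2 ^ k = 1} = 2 ^ k * 2 ^ k := by
  obtain ⟨x, y, hx, hy, hxn, hyn, hind, hgen⟩ := h.gen
  have hxy : Commute x y := h.ab x hx y hy
  set m : ℕ := 2 ^ (n - k) with hm
  have hsplit : 2 ^ n = m * 2 ^ k := by rw [hm, ← pow_add, Nat.sub_add_cancel hk]
  have hpos : 0 < 2 ^ k := by positivity
  have hmpos : 0 < m := by positivity
  -- the parametrisation
  have hmem : ∀ i j : ℕ, x ^ (m * i) * y ^ (m * j) ∈ B ∧ (x ^ (m * i) * y ^ (m * j)) ^ 2 ^ k = 1 := by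
    intro i j
    refine ⟨B.mul_mem (B.pow_mem hx _) (B.pow_mem hy _), ?_⟩
    rw [(hxy.pow_pow _ _).mul_pow, ← pow_mul, ← pow_mul]
    have e1 : m * i * 2 ^ k = 2 ^ n * i := by rw [hsplit]; ring
    have e2 : m * j * 2 ^ k = 2 ^ n * j := by rw [hsplit]; ring
    rw [e1, e2, pow_mul, pow_mul, hxn, hyn, one_pow, one_pow, one_mul]
  let f : Fin (2 ^ k) × Fin (2 ^ k) → {b : X // b ∈ B ∧ b ^ 2 ^ k = 1} :=
    fun ij => ⟨x ^ (m * ij.1.val) * y ^ (m * ij.2.val), hmem _ _⟩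
  have hinj : Function.Injective f := by
    rintro ⟨i1, j1⟩ ⟨i2, j2⟩ h12
    have h1 : x ^ (m * i1.val) * y ^ (m * j1.val) = x ^ (m * i2.val) * y ^ (m * j2.val) :=
      congrArg Subtype.val h12
    have hi2 : m * i2.val ≤ 2 ^ n := by
      rw [hsplit]; exact Nat.mul_le_mul_left _ i2.isLt.le
    have hj2 : m * j2.val ≤ 2 ^ n := by
      rw [hsplit]; exact Nat.mul_le_mul_left _ j2.isLt.le
    have h2 : x ^ (m * i1.val + (2 ^ n - m * i2.val)) * y ^ (m * j1.val + (2 ^ n - m * j2.val)) = 1 := by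
      have e : x ^ (m * i1.val + (2 ^ n - m * i2.val)) * y ^ (m * j1.val + (2 ^ n - m * j2.val)) =
          (x ^ (m * i1.val) * y ^ (m * j1.val)) * (x ^ (2 ^ n - m * i2.val) * y ^ (2 ^ n - m * j2.val)) := by
        rw [pow_add, pow_add]
        have c1 : Commute (x ^ (2 ^ n - m * i2.val)) (y ^ (m * j1.val)) := hxy.pow_pow _ _
        calc x ^ (m * i1.val) * x ^ (2 ^ n - m * i2.val) * (y ^ (m * j1.val) * y ^ (2 ^ n - m * j2.val))
            = x ^ (m * i1.val) * (x ^ (2 ^ n - m * i2.val) * y ^ (m * j1.val)) * y ^ (2 ^ n - m * j2.val) := by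
              simp only [mul_assoc]
          _ = x ^ (m * i1.val) * (y ^ (m * j1.val) * x ^ (2 ^ n - m * i2.val)) * y ^ (2 ^ n - m * j2.val) := by
              rw [c1.eq]
          _ = _ := by simp only [mul_assoc]
      rw [e, h1]
      have c2 : Commute (y ^ (m * j2.val)) (x ^ (2 ^ n - m * i2.val)) := (hxy.pow_pow _ _).symm
      calc x ^ (m * i2.val) * y ^ (m * j2.val) * (x ^ (2 ^ n - m * i2.val) * y ^ (2 ^ n - m * j2.val))
          = x ^ (m * i2.val) * (y ^ (m * j2.val) * x ^ (2 ^ n - m * i2.val)) * y ^ (2 ^ n - m * j2.val) := by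
            simp only [mul_assoc]
        _ = x ^ (m * i2.val) * (x ^ (2 ^ n - m * i2.val) * y ^ (m * j2.val)) * y ^ (2 ^ n - m * j2.val) := by
            rw [c2.eq]
        _ = (x ^ (m * i2.val) * x ^ (2 ^ n - m * i2.val)) * (y ^ (m * j2.val) * y ^ (2 ^ n - m * j2.val)) := by
            simp only [mul_assoc]
        _ = 1 := by
            rw [← pow_add, ← pow_add, Nat.add_sub_cancel' hi2, Nat.add_sub_cancel' hj2, hxn, hyn, one_mul]
    obtain ⟨d1, d2⟩ := hind _ _ h2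
    have key : ∀ (a b : ℕ), a < 2 ^ k → b < 2 ^ k → m * b ≤ 2 ^ n →
        2 ^ n ∣ m * a + (2 ^ n - m * b) → a = b := by
      intro a b ha hb hb2 hd
      obtain ⟨t, ht⟩ := hd
      -- m a + m 2^k - m b = m 2^k t
      have h3 : m * a + m * 2 ^ k = m * (2 ^ k * t + b) := by
        have : m * a + (2 ^ n - m * b) + m * b = 2 ^ n * t + m * b := by rw [ht]
        rw [hsplit] at this hb2
        have h4 : m * a + (m * 2 ^ k - m * b) + m * b = m * a + m * 2 ^ k := by omega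
        rw [h4] at this
        rw [this]; ring
      have h5 : a + 2 ^ k = 2 ^ k * t + b := by
        have : m * (a + 2 ^ k) = m * (2 ^ k * t + b) := by rw [← h3]; ring
        exact Nat.eq_of_mul_eq_mul_left hmpos this
      -- t = 1
      have ht1 : t = 1 := by
        rcases Nat.lt_or_ge t 1 with h | h
        · have : t = 0 := by omega
          rw [this] at h5; omega
        · rcases Nat.lt_or_ge 1 t with h' | h'
          · have : 2 ^ k * 2 ≤ 2 ^ k * t := Nat.mul_le_mul_left _ h'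
            omega
          · omega
      rw [ht1] at h5
      omega
    have e1 := key _ _ i1.isLt i2.isLt hi2 d1
    have e2 := key _ _ j1.isLt j2.isLt hj2 d2
    exact Prod.ext (Fin.ext e1) (Fin.ext e2)
  have hsurj : Function.Surjective f := by
    rintro ⟨b, hb, hbk⟩
    obtain ⟨i, j, rfl⟩ := hgen b hb
    have hc : Commute (x ^ i) (y ^ j) := hxy.pow_pow i j
    have hbk' := hbk
    rw [hc.mul_pow, ← pow_mul, ← pow_mul] at hbk'
    obtain ⟨hi, hj⟩ := hind _ _ hbk'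
    have hi' : m ∣ i := by
      rw [hsplit] at hi
      exact Nat.dvd_of_mul_dvd_mul_right hpos hi
    have hj' : m ∣ j := by
      rw [hsplit] at hj
      exact Nat.dvd_of_mul_dvd_mul_right hpos hj
    obtain ⟨i', rfl⟩ := hi'
    obtain ⟨j', rfl⟩ := hj'
    refine ⟨(⟨i' % 2 ^ k, Nat.mod_lt _ hpos⟩, ⟨j' % 2 ^ k, Nat.mod_lt _ hpos⟩), ?_⟩
    apply Subtype.ext
    show x ^ (m * (i' % 2 ^ k)) * y ^ (m * (j' % 2 ^ k)) = x ^ (m * i') * y ^ (m * j')
    have hred : ∀ (g : X), g ^ 2 ^ n = 1 → ∀ t : ℕ, g ^ (m * (t % 2 ^ k)) = g ^ (m * t) := by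
      intro g hg t
      have e0 : m * t = 2 ^ n * (t / 2 ^ k) + m * (t % 2 ^ k) := by
        have h0 : 2 ^ k * (t / 2 ^ k) + t % 2 ^ k = t := Nat.div_add_mod t (2 ^ k)
        calc m * t = m * (2 ^ k * (t / 2 ^ k) + t % 2 ^ k) := by rw [h0]
          _ = 2 ^ n * (t / 2 ^ k) + m * (t % 2 ^ k) := by rw [hsplit]; ring
      rw [e0, pow_add, pow_mul g (2 ^ n), hg, one_pow, one_mul]
    rw [hred x hxn, hred y hyn]
  have hbij : Function.Bijective f := ⟨hinj, hsurj⟩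
  rw [← Nat.card_eq_of_bijective f hbij, Nat.card_prod, Nat.card_eq_fintype_card, Fintype.card_fin]

end Cfsg.Agent.Lib.H15.NGP
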