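import Mathlib
import Cfsg.Agent.Lib.H26.NGPDefs
import Cfsg.Agent.Lib.H15.NGPHC

/-!
# S1904 piece CSQ (helper15): `[B, X] ≤ B²`
-/

set_option autoImplicit false

open Cfsg.Agent.Lib.H26.NGP

namespace Cfsg.Agent.Lib.H15.NGP

universe u

variable {X : Type u} [Group X] [Finite X]

/-- `cm b g ∈ B` for `b` in a normal subgroup `B`. -/
theorem cm_mem_of_normal {B : Subgroup X} (hBn : B.Normal) {b : X} (hb : b ∈ B) (g : X) :
    cm b g ∈ B := by
  have : cm b g = b * (g * b⁻¹ * g⁻¹) := by rw [cm_def]; group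
  rw [this]
  exact B.mul_mem hb (hBn.conj_mem _ (B.inv_mem hb) g)

/-- `b ↦ cm b g` is multiplicative on an abelian normal subgroup. -/
theorem cm_mul_of_ab {B : Subgroup X} (hBn : B.Normal) (hab : Ab B) {b₁ b₂ : X} (h1 : b₁ ∈ B)
    (h2 : b₂ ∈ B) (g : X) : cm (b₁ * b₂) g = cm b₁ g * cm b₂ g := by
  have hc : g * b₁⁻¹ * g⁻¹ ∈ B := hBn.conj_mem _ (B.inv_mem h1) g
  have e1 : cm (b₁ * b₂) g = b₁ * (cm b₂ g * (g * b₁⁻¹ * g⁻¹)) := by
    simp only [cm_def]; group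
  have e2 : cm b₁ g * cm b₂ g = b₁ * ((g * b₁⁻¹ * g⁻¹) * cm b₂ g) := by
    simp only [cm_def]; group
  rw [e1, e2, hab _ (cm_mem_of_normal hBn h2 g) _ hc]

theorem cm_one_left (g : X) : cm (1 : X) g = 1 := by
  rw [cm_def]; group

/-- `b ↦ cm b g` commutes with powers on an abelian normal subgroup. -/
theorem cm_pow_of_ab {B : Subgroup X} (hBn : B.Normal) (hab : Ab B) {b : X} (hb : b ∈ B)
    (g : X) (k : ℕ) : cm (b ^ k) g = (cm b g) ^ k := by
  induction k with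
  | zero => rw [pow_zero, pow_zero, cm_one_left]
  | succ k ih =>
    rw [pow_succ, pow_succ, cm_mul_of_ab hBn hab (B.pow_mem hb k) hb, ih]

/-- PIECE CSQ.  `[B, X] ≤ B²`. -/
theorem comm_sq {A : Subgroup (MulAut X)} {U B : Subgroup X} {n : ℕ} (hB : BSetup A U B n)
    (hUc : U ≤ Subgroup.center X) : ∀ b ∈ B, ∀ g : X, ∃ c ∈ B, cm b g = c * c := by
  intro b hb g
  have hn : 1 ≤ n := le_trans (by norm_num) hB.two_le
  have hsplit : 2 ^ n = 2 ^ (n - 1) * 2 := by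
    rw [← pow_succ, Nat.sub_add_cancel hn]
  -- `t = b^(2^(n-1))` squares to one
  have ht : (b ^ 2 ^ (n - 1)) * (b ^ 2 ^ (n - 1)) = 1 := by
    rw [← pow_add, ← mul_two, ← hsplit]
    exact homo_pow_eq_one hB.homo b hb
  have htU : b ^ 2 ^ (n - 1) ∈ U := hB.invol _ (B.pow_mem hb _) ht
  have htc : b ^ 2 ^ (n - 1) ∈ Subgroup.center X := hUc htU
  have hcm1 : cm (b ^ 2 ^ (n - 1)) g = 1 := by
    have hcomm : g * b ^ 2 ^ (n - 1) = b ^ 2 ^ (n - 1) * g := Subgroup.mem_center_iff.mp htc g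
    rw [cm_def, ← hcomm]; group
  have hpow : (cm b g) ^ 2 ^ (n - 1) = 1 := by
    rw [← cm_pow_of_ab hB.normal hB.homo.ab hb g, hcm1]
  obtain ⟨c, hc, hcc⟩ := homo_exists_root hB.homo (n - 1) (Nat.sub_le n 1) (cm b g)
    (cm_mem_of_normal hB.normal hb g) hpow
  refine ⟨c, hc, ?_⟩
  have h1 : n - (n - 1) = 1 := by omega
  rw [h1, pow_one, pow_two] at hcc
  exact hcc.symm

end Cfsg.Agent.Lib.H15.NGP
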