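import Mathlib
import Cfsg.Agent.Lib.H26.NGPDefs
import Cfsg.Agent.Lib.H15.NGPCSQ

/-!
# S1904 piece X1 (helper15): elements acting trivially on `B` modulo `U`

NOTE: the blueprint statement of `x1_props` is false without the hypothesis that `U` has
exponent 2 (`B = Z16²`, `x b x⁻¹ = b⁻³`, `U = Ω₂(B)`); the version here has the extra hypothesis
`hU2`, which `usetup_sq_eq_one` provides from a `USetup`.
-/

set_option autoImplicit false

open Cfsg.Agent.Lib.H26.NGP

namespace Cfsg.Agent.Lib.H15.NGP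

universe u

variable {X : Type u} [Group X] [Finite X]

/-- In a `USetup`, `U` has exponent 2. -/
theorem usetup_sq_eq_one {A : Subgroup (MulAut X)} {ρ : MulAut X} {z : X} {U : Subgroup X}
    (hU : USetup A ρ z U) : ∀ u ∈ U, u * u = 1 := by
  intro u hu
  rcases (hU.memU u).mp hu with rfl | rfl | rfl | rfl
  · exact one_mul 1
  · exact hU.zz
  · rw [← map_mul, hU.zz, map_one]
  · rw [← map_mul, ← map_mul, hU.zz, map_one, map_one]

theorem conj_eq_cm_inv_mul (b x : X) : x * b * x⁻¹ = (cm b x)⁻¹ * b := by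
  rw [cm_def]; group

/-- PIECE X1 (corrected: with `hU2`). -/
theorem x1_props {A : Subgroup (MulAut X)} {U B : Subgroup X} {n : ℕ} (hB : BSetup A U B n)
    (hUc : U ≤ Subgroup.center X) (hU2 : ∀ u ∈ U, u * u = 1) (x : X)
    (hx : ∀ b ∈ B, cm b x ∈ U) :
    (∀ g : X, cm g x ∈ B) ∧ x * x ∈ B := by
  have hBn : B.Normal := hB.normal
  have hab : Ab B := hB.homo.ab
  have hcen : ∀ u ∈ U, ∀ g : X, g * u = u * g := fun u hu g =>
    Subgroup.mem_center_iff.mp (hUc hu) g
  -- `θ` kills squares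
  have hsq : ∀ c ∈ B, cm (c * c) x = 1 := by
    intro c hc
    rw [cm_mul_of_ab hBn hab hc hc]
    exact hU2 _ (hx c hc)
  constructor
  · intro g
    apply hB.cent
    -- `g x g⁻¹` acts on `B` like `x`
    have hy : ∀ b ∈ B, g * x * g⁻¹ * b * (g * x * g⁻¹)⁻¹ = x * b * x⁻¹ := by
      intro b hb
      have hb' : g⁻¹ * b * g ∈ B := by
        have := hBn.conj_mem b hb g⁻¹
        rwa [inv_inv] at this
      obtain ⟨b', hb'def⟩ : ∃ b' : X, b' = g⁻¹ * b * g := ⟨_, rfl⟩
      rw [← hb'def] at hb'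
      have e1 : g * x * g⁻¹ * b * (g * x * g⁻¹)⁻¹ = g * (x * b' * x⁻¹) * g⁻¹ := by
        rw [hb'def]; group
      have e3 : g * b' * g⁻¹ = b := by rw [hb'def]; group
      -- `cm b' x = cm b x`
      have e4 : cm b' x = cm b x := by
        obtain ⟨c, hc, hcc⟩ := comm_sq hB hUc b' hb' g
        have e5 : b' = (c * c) * b := by
          rw [← hcc, cm_def, hb'def]; group
        rw [e5, cm_mul_of_ab hBn hab (B.mul_mem hc hc) hb, hsq c hc, one_mul]
      have hu : (cm b' x)⁻¹ ∈ U := U.inv_mem (hx b' hb')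
      rw [e1, conj_eq_cm_inv_mul b' x, conj_eq_cm_inv_mul b x, ← e4]
      calc g * ((cm b' x)⁻¹ * b') * g⁻¹ = (g * (cm b' x)⁻¹) * b' * g⁻¹ := by simp only [mul_assoc]
        _ = ((cm b' x)⁻¹ * g) * b' * g⁻¹ := by rw [hcen _ hu g]
        _ = (cm b' x)⁻¹ * (g * b' * g⁻¹) := by simp only [mul_assoc]
        _ = (cm b' x)⁻¹ * b := by rw [e3]
    intro b' hb'
    have hb : x⁻¹ * b' * x ∈ B := by
      have := hBn.conj_mem b' hb' x⁻¹
      rwa [inv_inv] at this
    have h1 := hy _ hb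
    have h2 : cm g x * b' * (cm g x)⁻¹ = b' := by
      have e6 : cm g x * b' * (cm g x)⁻¹ =
          g * x * g⁻¹ * (x⁻¹ * b' * x) * (g * x * g⁻¹)⁻¹ := by
        rw [cm_def]; group
      rw [e6, h1]; group
    calc cm g x * b' = cm g x * b' * (cm g x)⁻¹ * cm g x := by group
      _ = b' * cm g x := by rw [h2]
  · apply hB.cent
    intro b hb
    have hu : (cm b x)⁻¹ ∈ U := U.inv_mem (hx b hb)
    have huu : (cm b x)⁻¹ * (cm b x)⁻¹ = 1 := hU2 _ hu
    have e1 : x * b = (cm b x)⁻¹ * b * x := by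
      rw [← conj_eq_cm_inv_mul b x]; group
    calc x * x * b = x * (x * b) := by rw [mul_assoc]
      _ = x * ((cm b x)⁻¹ * b * x) := by rw [e1]
      _ = (x * (cm b x)⁻¹) * b * x := by simp only [mul_assoc]
      _ = ((cm b x)⁻¹ * x) * b * x := by rw [hcen _ hu x]
      _ = (cm b x)⁻¹ * (x * b) * x := by simp only [mul_assoc]
      _ = (cm b x)⁻¹ * ((cm b x)⁻¹ * b * x) * x := by rw [e1]
      _ = ((cm b x)⁻¹ * (cm b x)⁻¹) * b * x * x := by simp only [mul_assoc]
      _ = b * (x * x) := by rw [huu, one_mul, mul_assoc]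

end Cfsg.Agent.Lib.H15.NGP
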