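import Cfsg.Agent.Lib.H15.B60Irr
import Cfsg.Agent.Lib.H9.B60EIG
import Cfsg.Agent.Lib.L0.CharBasic

/-!
S0980 piece (A), general form (helper15): values of an irreducible character at an element `x` of order 5 which is
conjugate to its inverse: `ψ x = A + n (ζ + ζ⁴)`, `ψ (x²) = A + n (ζ² + ζ³)` with integers `A`, `n`.
-/

set_option autoImplicit false

namespace Cfsg.Agent.Lib.H15.O5760

open Cfsg Cfsg.Agent.Lib.L0
open scoped ComplexConjugate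

/-! ### algebra of a primitive fifth root of unity -/

section roots

variable {ζ : ℂ}

theorem zeta_pow_five (hζ : IsPrimitiveRoot ζ 5) : ζ ^ 5 = 1 := hζ.pow_eq_one

theorem zeta_sum (hζ : IsPrimitiveRoot ζ 5) : 1 + ζ + ζ ^ 2 + ζ ^ 3 + ζ ^ 4 = 0 := by
  have h := hζ.geom_sum_eq_zero (by norm_num : 1 < 5)
  simp only [Finset.sum_range_succ, Finset.sum_range_zero, pow_zero, pow_one, zero_add] at h
  exact h

theorem al_add_be (hζ : IsPrimitiveRoot ζ 5) : (ζ + ζ ^ 4) + (ζ ^ 2 + ζ ^ 3) = -1 := by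
  have h := zeta_sum hζ
  linear_combination h

theorem al_mul_be (hζ : IsPrimitiveRoot ζ 5) : (ζ + ζ ^ 4) * (ζ ^ 2 + ζ ^ 3) = -1 := by
  have h := zeta_sum hζ
  have h5 := zeta_pow_five hζ
  linear_combination (1 : ℂ) * h + (ζ + ζ ^ 2) * h5

theorem al_sq (hζ : IsPrimitiveRoot ζ 5) : (ζ + ζ ^ 4) ^ 2 + (ζ + ζ ^ 4) - 1 = 0 := by
  have h := zeta_sum hζ
  have h5 := zeta_pow_five hζ
  linear_combination (1 : ℂ) * h + (2 + ζ ^ 3) * h5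

theorem conj_zeta (hζ : IsPrimitiveRoot ζ 5) : conj ζ = ζ ^ 4 := by
  have h5 := zeta_pow_five hζ
  have hn : ‖ζ‖ = 1 := hζ.norm'_eq_one (by norm_num)
  have h0 : ζ ≠ 0 := hζ.ne_zero (by norm_num)
  have h1 : ζ * conj ζ = 1 := by
    rw [Complex.mul_conj, Complex.normSq_eq_norm_sq, hn]; norm_num
  have h2 : ζ * ζ ^ 4 = 1 := by rw [← h5]; ring
  exact mul_left_cancel₀ h0 (h1.trans h2.symm)

theorem conj_al (hζ : IsPrimitiveRoot ζ 5) : conj (ζ + ζ ^ 4) = ζ + ζ ^ 4 := by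
  have h5 := zeta_pow_five hζ
  rw [map_add, map_pow, conj_zeta hζ]
  have : (ζ ^ 4) ^ 4 = ζ := by
    calc (ζ ^ 4) ^ 4 = (ζ ^ 5) ^ 3 * ζ := by ring
      _ = ζ := by rw [h5]; ring
  rw [this]; ring

theorem conj_be (hζ : IsPrimitiveRoot ζ 5) : conj (ζ ^ 2 + ζ ^ 3) = ζ ^ 2 + ζ ^ 3 := by
  have h5 := zeta_pow_five hζ
  rw [map_add, map_pow, map_pow, conj_zeta hζ]
  have h1 : (ζ ^ 4) ^ 2 = ζ ^ 3 := by
    calc (ζ ^ 4) ^ 2 = ζ ^ 5 * ζ ^ 3 := by ring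
      _ = ζ ^ 3 := by rw [h5]; ring
  have h2 : (ζ ^ 4) ^ 3 = ζ ^ 2 := by
    calc (ζ ^ 4) ^ 3 = (ζ ^ 5) ^ 2 * ζ ^ 2 := by ring
      _ = ζ ^ 2 := by rw [h5]; ring
  rw [h1, h2]; ring

/-- `ζ + ζ⁴` is not rational. -/
theorem al_irrational (hζ : IsPrimitiveRoot ζ 5) (q : ℚ) : ζ + ζ ^ 4 ≠ (q : ℂ) := by
  intro h
  have h1 := al_sq hζ
  rw [h] at h1
  have h2 : (q : ℂ) ^ 2 + q - 1 = ((q ^ 2 + q - 1 : ℚ) : ℂ) := by push_cast; ring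
  rw [h2] at h1
  have h3 : q ^ 2 + q - 1 = 0 := by exact_mod_cast h1
  have h4 : (2 * q + 1) ^ 2 = 5 := by linear_combination 4 * h3
  have h5 : Irrational (Real.sqrt 5) := by
    have := Nat.Prime.irrational_sqrt (by norm_num : Nat.Prime 5)
    simpa using this
  apply h5
  refine ⟨|2 * q + 1|, ?_⟩
  have h6 : ((|2 * q + 1| : ℚ) : ℝ) ^ 2 = 5 := by
    rw [Rat.cast_abs, sq_abs]
    exact_mod_cast h4
  have h7 : (0 : ℝ) ≤ ((|2 * q + 1| : ℚ) : ℝ) := by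
    rw [Rat.cast_abs]; exact abs_nonneg _
  rw [← h6, Real.sqrt_sq h7]

/-- integers `u`, `v` with `u (ζ - ζ⁴) + v (ζ² - ζ³) = 0` vanish. -/
theorem uv_zero (hζ : IsPrimitiveRoot ζ 5) (u v : ℤ)
    (h : (u : ℂ) * (ζ - ζ ^ 4) + (v : ℂ) * (ζ ^ 2 - ζ ^ 3) = 0) : u = 0 ∧ v = 0 := by
  have hs := zeta_sum hζ
  have h5 := zeta_pow_five hζ
  -- squares
  have hw : (ζ - ζ ^ 4) ^ 2 = (ζ ^ 2 + ζ ^ 3) - 2 := by
    linear_combination (ζ ^ 3 - 2) * h5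
  have hw' : (ζ ^ 2 - ζ ^ 3) ^ 2 = (ζ + ζ ^ 4) - 2 := by
    linear_combination (ζ - 2) * h5
  have hbe : ζ ^ 2 + ζ ^ 3 = -1 - (ζ + ζ ^ 4) := by linear_combination hs
  have h1 : (u : ℂ) * (ζ - ζ ^ 4) = -((v : ℂ) * (ζ ^ 2 - ζ ^ 3)) := by linear_combination h
  have h2 : (u : ℂ) ^ 2 * (ζ - ζ ^ 4) ^ 2 = (v : ℂ) ^ 2 * (ζ ^ 2 - ζ ^ 3) ^ 2 := by
    have h2' : ((u : ℂ) * (ζ - ζ ^ 4)) ^ 2 = (-((v : ℂ) * (ζ ^ 2 - ζ ^ 3))) ^ 2 := by rw [h1]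
    linear_combination h2'
  rw [hw, hw', hbe] at h2
  -- `α (u² + v²) = 2 v² - 3 u²`
  have h3 : (ζ + ζ ^ 4) * ((u : ℂ) ^ 2 + (v : ℂ) ^ 2) = 2 * (v : ℂ) ^ 2 - 3 * (u : ℂ) ^ 2 := by
    linear_combination -h2
  by_cases hz : u ^ 2 + v ^ 2 = 0
  · have hu : u ^ 2 = 0 := by nlinarith [sq_nonneg u, sq_nonneg v]
    have hv : v ^ 2 = 0 := by nlinarith [sq_nonneg u, sq_nonneg v]
    exact ⟨pow_eq_zero_iff (two_ne_zero) |>.1 hu, pow_eq_zero_iff (two_ne_zero) |>.1 hv⟩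
  · exfalso
    have hzc : ((u : ℂ) ^ 2 + (v : ℂ) ^ 2) ≠ 0 := by
      intro h4
      apply hz
      exact_mod_cast h4
    apply al_irrational hζ (((2 * v ^ 2 - 3 * u ^ 2 : ℤ) : ℚ) / ((u ^ 2 + v ^ 2 : ℤ) : ℚ))
    have h6 : (((((2 * v ^ 2 - 3 * u ^ 2 : ℤ) : ℚ) / ((u ^ 2 + v ^ 2 : ℤ) : ℚ) : ℚ)) : ℂ) =
        (2 * (v : ℂ) ^ 2 - 3 * (u : ℂ) ^ 2) / ((u : ℂ) ^ 2 + (v : ℂ) ^ 2) := by
      push_cast; ring
    rw [h6, eq_div_iff hzc]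
    exact h3

end roots

/-! ### the character values -/

theorem char_values_order5 {G : Type*} [Group G] [Finite G] (ψ : G → ℂ)
    (hψ : Cfsg.IsIrrCharacter G ψ) (x : G) (hx : orderOf x = 5) (hinv : IsConj x x⁻¹) (ζ : ℂ)
    (hζ : IsPrimitiveRoot ζ 5) :
    ∃ A n : ℤ, ψ x = A + n * (ζ + ζ ^ 4) ∧ ψ (x ^ 2) = A + n * (ζ ^ 2 + ζ ^ 3) := by
  classical
  obtain ⟨d, R, htr, -, -, -, -⟩ := Cfsg.Agent.Lib.H15.B60.exists_isometric_model ψ hψ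
  obtain ⟨a, hpow, hroot, -, -⟩ := Cfsg.Agent.Lib.H9.B60.exists_eigen_list_rep R ψ htr
    (finrank_euclideanSpace_fin) x
  rw [hx] at hroot
  have h5 := zeta_pow_five hζ
  have hs := zeta_sum hζ
  -- indices
  have hidx : ∀ k, ∃ i, i < 5 ∧ ζ ^ i = a k := fun k => hζ.eq_pow_of_pow_eq_one (hroot k)
  choose idx hidx5 hidxa using hidx
  -- multiplicities
  set m : ℕ → ℕ := fun i => (Finset.univ.filter (fun k => idx k = i)).card with hm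
  have hval : ∀ j : ℕ, ψ (x ^ j) = ∑ i ∈ Finset.range 5, (m i : ℂ) * ζ ^ (i * j) := by
    intro j
    rw [hpow j]
    have h1 : ∀ k, a k ^ j = ζ ^ (idx k * j) := fun k => by rw [← hidxa k, pow_mul]
    rw [Finset.sum_congr rfl (fun k _ => h1 k)]
    rw [← Finset.sum_fiberwise_of_maps_to (s := Finset.univ) (t := Finset.range 5) (g := idx)
      (fun k _ => Finset.mem_range.2 (hidx5 k))]
    refine Finset.sum_congr rfl fun i _ => ?_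
    rw [Finset.sum_congr rfl (fun k hk => by rw [(Finset.mem_filter.1 hk).2]), Finset.sum_const,
      nsmul_eq_mul]
  have hv1 : ψ x = m 0 + m 1 * ζ + m 2 * ζ ^ 2 + m 3 * ζ ^ 3 + m 4 * ζ ^ 4 := by
    have := hval 1
    simp only [pow_one, Finset.sum_range_succ, Finset.sum_range_zero, mul_one, zero_add, pow_zero]
      at this
    rw [this]
  have hv2 : ψ (x ^ 2) = m 0 + m 1 * ζ ^ 2 + m 2 * ζ ^ 4 + m 3 * ζ + m 4 * ζ ^ 3 := by
    have := hval 2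
    simp only [Finset.sum_range_succ, Finset.sum_range_zero, zero_add, zero_mul, pow_zero, mul_one,
      one_mul] at this
    rw [this]
    have e6 : ζ ^ (3 * 2) = ζ := by
      calc ζ ^ (3 * 2) = ζ ^ 5 * ζ := by ring
        _ = ζ := by rw [h5]; ring
    have e8 : ζ ^ (4 * 2) = ζ ^ 3 := by
      calc ζ ^ (4 * 2) = ζ ^ 5 * ζ ^ 3 := by ring
        _ = ζ ^ 3 := by rw [h5]; ring
    rw [e6, e8]
  have hv4 : ψ (x ^ 4) = m 0 + m 1 * ζ ^ 4 + m 2 * ζ ^ 3 + m 3 * ζ ^ 2 + m 4 * ζ := by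
    have := hval 4
    simp only [Finset.sum_range_succ, Finset.sum_range_zero, zero_add, zero_mul, pow_zero, mul_one,
      one_mul] at this
    rw [this]
    have e8 : ζ ^ (2 * 4) = ζ ^ 3 := by
      calc ζ ^ (2 * 4) = ζ ^ 5 * ζ ^ 3 := by ring
        _ = ζ ^ 3 := by rw [h5]; ring
    have e12 : ζ ^ (3 * 4) = ζ ^ 2 := by
      calc ζ ^ (3 * 4) = (ζ ^ 5) ^ 2 * ζ ^ 2 := by ring
        _ = ζ ^ 2 := by rw [h5]; ring
    have e16 : ζ ^ (4 * 4) = ζ := by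
      calc ζ ^ (4 * 4) = (ζ ^ 5) ^ 3 * ζ := by ring
        _ = ζ := by rw [h5]; ring
    rw [e8, e12, e16]
  -- `x⁻¹ = x⁴` and `ψ x⁻¹ = ψ x`
  have hx4 : x⁻¹ = x ^ 4 := by
    have h1 : x ^ 5 = 1 := by rw [← hx]; exact pow_orderOf_eq_one x
    have h2 : x * x ^ 4 = 1 := by rw [← h1]; exact (pow_succ' x 4).symm
    exact inv_eq_of_mul_eq_one_right h2
  have hcl : ψ (x ^ 4) = ψ x := by
    obtain ⟨c, hc⟩ := isConj_iff.1 hinv
    rw [← hx4, ← hc]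
    exact isClassFunction_of_isCharacter (isCharacter_of_irr hψ) x c
  -- multiplicities are symmetric
  have huv := uv_zero hζ ((m 1 : ℤ) - m 4) ((m 2 : ℤ) - m 3) (by
    push_cast
    have h1 := hcl
    rw [hv1, hv4] at h1
    linear_combination -h1)
  have h14 : (m 1 : ℂ) = m 4 := by
    have : (m 1 : ℤ) = m 4 := by linarith [huv.1]
    exact_mod_cast this
  have h23 : (m 2 : ℂ) = m 3 := by
    have : (m 2 : ℤ) = m 3 := by linarith [huv.2]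
    exact_mod_cast this
  refine ⟨(m 0 : ℤ) - m 2, (m 1 : ℤ) - m 2, ?_, ?_⟩
  · rw [hv1, ← h14, ← h23]
    push_cast
    linear_combination (m 2 : ℂ) * hs
  · rw [hv2, ← h14, ← h23]
    push_cast
    linear_combination (m 2 : ℂ) * hs

end Cfsg.Agent.Lib.H15.O5760
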