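import Mathlib
import Cfsg.Prelude.Def_PLocal
import Cfsg.Agent.Lib.H15.MCL
import Cfsg.Agent.Lib.H15.Conj
import Cfsg.Agent.Lib.H15.PGroup

/-!
Thompson's replacement theorem for abelian subgroups of largest order
(helper15's shared library).
-/

set_option autoImplicit false

namespace Cfsg.Agent.Lib.H15

open scoped Pointwise

variable {G : Type*} [Group G]

/-- If `A` normalizes `B` but `B` does not normalize `A` (in a finite nilpotent group), some
`x ∈ B` does not normalize `A` while `A` and `x A x⁻¹` normalize each other. -/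
theorem exists_conj_mutually_normalizing [Finite G] [Group.IsNilpotent G] {A B : Subgroup G}
    (hAB : A ≤ Subgroup.normalizer (B : Set G)) (hBA : ¬ B ≤ Subgroup.normalizer (A : Set G)) :
    ∃ x ∈ B, x ∉ Subgroup.normalizer (A : Set G) ∧ cj x A ≤ Subgroup.normalizer (A : Set G) ∧
      A ≤ Subgroup.normalizer ((cj x A : Subgroup G) : Set G) := by
  obtain ⟨T, hT⟩ : ∃ T, T = A ⊔ B := ⟨_, rfl⟩
  obtain ⟨H, hH⟩ : ∃ H, H = Subgroup.normalizer (A : Set G) ⊓ T := ⟨_, rfl⟩
  have hAT : A ≤ T := hT ▸ le_sup_left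
  have hBT : B ≤ T := hT ▸ le_sup_right
  have hHT : H ≤ T := hH ▸ inf_le_right
  have hHN : H ≤ Subgroup.normalizer (A : Set G) := hH ▸ inf_le_left
  have hAH : A ≤ H := hH ▸ le_inf Subgroup.le_normalizer hAT
  have hne : H ≠ T := by
    intro h
    apply hBA
    exact hBT.trans (h ▸ hHN)
  have hTnil : Group.IsNilpotent ↥T := inferInstance
  obtain ⟨g, hgT, hgN, hgH⟩ := exists_mem_normalizer_not_mem hTnil hHT hne
  have hgT' : g ∈ ((A ⊔ B : Subgroup G) : Set G) := hT ▸ hgT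
  rw [Subgroup.coe_mul_of_left_le_normalizer_right A B hAB] at hgT'
  obtain ⟨a, ha, x, hx, hax⟩ := Set.mem_mul.mp hgT'
  have haN : a ∈ Subgroup.normalizer (H : Set G) := Subgroup.le_normalizer (hAH ha)
  have hxN : x ∈ Subgroup.normalizer (H : Set G) := by
    have : x = a⁻¹ * g := by rw [← hax]; group
    rw [this]
    exact mul_mem (inv_mem haN) hgN
  have hxA : x ∉ Subgroup.normalizer (A : Set G) := by
    intro h
    apply hgH
    rw [hH]
    refine Subgroup.mem_inf.mpr ⟨?_, hgT⟩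
    rw [← hax]
    exact mul_mem (Subgroup.le_normalizer ha) h
  have hcjH : cj x H = H := mem_normalizer_iff_cj_eq.mp hxN
  refine ⟨x, hx, hxA, ?_, ?_⟩
  · calc cj x A ≤ cj x H := cj_mono x hAH
      _ = H := hcjH
      _ ≤ _ := hHN
  · rw [normalizer_cj]
    calc A ≤ H := hAH
      _ = cj x H := hcjH.symm
      _ ≤ _ := cj_mono x hHN

/-- **Thompson's replacement theorem.** -/
theorem thompson_replacement [Finite G] [Group.IsNilpotent G] {A B : Subgroup G}
    (hA : A ∈ Cfsg.maxAbelianSubgroups G) (hB : IsMulCommutative ↥B)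
    (hAB : A ≤ Subgroup.normalizer (B : Set G)) (hBA : ¬ B ≤ Subgroup.normalizer (A : Set G)) :
    ∃ A' ∈ Cfsg.maxAbelianSubgroups G, A ⊓ B < A' ⊓ B ∧
      A' ≤ Subgroup.normalizer (A : Set G) := by
  obtain ⟨x, hxB, hxA, h1, h2⟩ := exists_conj_mutually_normalizing hAB hBA
  have hAc : IsMulCommutative ↥A := hA.1
  obtain ⟨A₁, hA₁⟩ : ∃ A₁, A₁ = cj x A := ⟨_, rfl⟩
  rw [← hA₁] at h1 h2
  have hA₁c : IsMulCommutative ↥A₁ := by rw [hA₁]; infer_instance
  have hA₁card : Nat.card A₁ = Nat.card A := by rw [hA₁]; exact card_cj x A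
  obtain ⟨M, hM⟩ : ∃ M, M = A ⊔ A₁ := ⟨_, rfl⟩
  obtain ⟨Z, hZ⟩ : ∃ Z, Z = A ⊓ A₁ := ⟨_, rfl⟩
  obtain ⟨D, hD⟩ : ∃ D, D = M ⊓ B := ⟨_, rfl⟩
  have hAM : A ≤ M := hM ▸ le_sup_left
  have hA₁M : A₁ ≤ M := hM ▸ le_sup_right
  have hZA : Z ≤ A := hZ ▸ inf_le_left
  have hZA₁ : Z ≤ A₁ := hZ ▸ inf_le_right
  have hDM : D ≤ M := hD ▸ inf_le_left
  have hDB : D ≤ B := hD ▸ inf_le_right
  -- (a), (b)
  have hMset : ((A ⊔ A₁ : Subgroup G) : Set G) = (A : Set G) * (A₁ : Set G) :=
    Subgroup.coe_mul_of_right_le_normalizer_left A A₁ h1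
  have hcard1 : Nat.card A * Nat.card A₁ = Nat.card Z * Nat.card M := by
    rw [hZ, hM]; exact card_mul_card_eq_of_coe_sup_eq_mul A A₁ hMset
  -- (c)
  have hZc : Z ≤ Subgroup.centralizer (M : Set G) := by
    rw [hM, centralizer_sup]
    exact le_inf (hZA.trans (Subgroup.le_centralizer_iff_isMulCommutative.mpr hAc))
      (hZA₁.trans (Subgroup.le_centralizer_iff_isMulCommutative.mpr hA₁c))
  have hZD : Z ≤ Subgroup.centralizer (D : Set G) :=
    hZc.trans (Subgroup.centralizer_le (fun y hy => hDM hy))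
  -- (d)
  have hA'c : IsMulCommutative ↥(Z ⊔ D) :=
    isMulCommutative_sup (isMulCommutative_of_le hAc hZA) (isMulCommutative_of_le hB hDB) hZD
  -- (e)
  have hABA₁ : A ⊓ B ≤ A₁ := by
    intro y hy
    rw [hA₁, mem_cj_iff]
    have hyB : y ∈ B := hy.2
    have hcomm : y * x = x * y := by
      have := hB.is_comm.comm ⟨y, hyB⟩ ⟨x, hxB⟩
      exact congrArg Subtype.val this
    have : x⁻¹ * y * x = y := by rw [mul_assoc, hcomm]; group
    rw [this]; exact hy.1
  -- decomposition of elements of `A₁`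
  have key : ∀ c ∈ A₁, ∃ a' ∈ A, ∃ d ∈ D, c = a' * d := by
    intro c hc
    have hc' : x⁻¹ * c * x ∈ A := by rw [hA₁, mem_cj_iff] at hc; exact hc
    refine ⟨x⁻¹ * c * x, hc', (x⁻¹ * c * x)⁻¹ * c, ?_, by group⟩
    rw [hD]
    refine Subgroup.mem_inf.mpr ⟨mul_mem (inv_mem (hAM hc')) (hA₁M hc), ?_⟩
    have hnorm := hAB (inv_mem hc')
    rw [Subgroup.mem_normalizer_iff] at hnorm
    have h3 := (hnorm x).mp hxB
    have : (x⁻¹ * c * x)⁻¹ * c = ((x⁻¹ * c * x)⁻¹ * x * ((x⁻¹ * c * x)⁻¹)⁻¹) * x⁻¹ := by group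
    rw [this]
    exact mul_mem h3 (inv_mem hxB)
  -- (f)
  have hMsub : (M : Set G) ⊆ (A : Set G) * (D : Set G) := by
    intro m hm
    have hm' : m ∈ ((A ⊔ A₁ : Subgroup G) : Set G) := hM ▸ hm
    rw [hMset] at hm'
    obtain ⟨a, ha, c, hc, rfl⟩ := Set.mem_mul.mp hm'
    obtain ⟨a', ha', d, hd, rfl⟩ := key c hc
    exact Set.mem_mul.mpr ⟨a * a', mul_mem ha ha', d, hd, by group⟩
  have hADle : A ⊔ D ≤ M := sup_le hAM hDM
  have hADset : ((A ⊔ D : Subgroup G) : Set G) = (A : Set G) * (D : Set G) := by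
    apply Set.Subset.antisymm
    · exact fun y hy => hMsub (hADle hy)
    · rintro _ ⟨a, ha, d, hd, rfl⟩
      exact mul_mem ((le_sup_left : A ≤ A ⊔ D) ha) ((le_sup_right : D ≤ A ⊔ D) hd)
  have hADM : A ⊔ D = M := by
    apply le_antisymm hADle
    intro m hm
    have := hMsub hm
    rw [← hADset] at this
    exact this
  have hAD : A ⊓ D = A ⊓ B := by
    rw [hD]
    apply le_antisymm
    · exact le_inf inf_le_left (inf_le_right.trans inf_le_right)
    · exact le_inf inf_le_left (le_inf (inf_le_left.trans hAM) inf_le_right)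
  have hcard2 : Nat.card A * Nat.card D = Nat.card (A ⊓ B : Subgroup G) * Nat.card M := by
    have := card_mul_card_eq_of_coe_sup_eq_mul A D hADset
    rwa [hAD, hADM] at this
  -- (g)
  have hZDset : ((Z ⊔ D : Subgroup G) : Set G) = (Z : Set G) * (D : Set G) :=
    Subgroup.coe_mul_of_left_le_normalizer_right Z D
      (hZD.trans (Subgroup.centralizer_le_normalizer _))
  have hZDinf : Z ⊓ D = A ⊓ B := by
    rw [hZ, hD]
    apply le_antisymm
    · exact le_inf (inf_le_left.trans inf_le_left) (inf_le_right.trans inf_le_right)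
    · exact le_inf (le_inf inf_le_left hABA₁) (le_inf (inf_le_left.trans hAM) inf_le_right)
  have hcard3 : Nat.card Z * Nat.card D =
      Nat.card (A ⊓ B : Subgroup G) * Nat.card (Z ⊔ D : Subgroup G) := by
    have := card_mul_card_eq_of_coe_sup_eq_mul Z D hZDset
    rwa [hZDinf] at this
  -- (i)
  have hcard : Nat.card (Z ⊔ D : Subgroup G) = Nat.card A := by
    rw [hA₁card] at hcard1
    have hpos1 : 0 < Nat.card (A ⊓ B : Subgroup G) := Nat.card_pos
    have hpos2 : 0 < Nat.card M := Nat.card_pos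
    have : Nat.card (Z ⊔ D : Subgroup G) * (Nat.card (A ⊓ B : Subgroup G) * Nat.card M) =
        Nat.card A * (Nat.card (A ⊓ B : Subgroup G) * Nat.card M) := by
      calc Nat.card (Z ⊔ D : Subgroup G) * (Nat.card (A ⊓ B : Subgroup G) * Nat.card M)
          = (Nat.card (A ⊓ B : Subgroup G) * Nat.card (Z ⊔ D : Subgroup G)) * Nat.card M := by ring
        _ = (Nat.card Z * Nat.card D) * Nat.card M := by rw [hcard3]
        _ = (Nat.card Z * Nat.card M) * Nat.card D := by ring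
        _ = (Nat.card A * Nat.card A) * Nat.card D := by rw [hcard1]
        _ = Nat.card A * (Nat.card A * Nat.card D) := by ring
        _ = Nat.card A * (Nat.card (A ⊓ B : Subgroup G) * Nat.card M) := by rw [hcard2]
    exact Nat.eq_of_mul_eq_mul_right (Nat.mul_pos hpos1 hpos2) this
  refine ⟨Z ⊔ D, maxAbelian_of_card_le hA hA'c hcard.ge, ?_, ?_⟩
  · apply lt_of_le_not_ge
    · exact le_inf ((le_inf inf_le_left hABA₁).trans (hZ ▸ le_sup_left)) inf_le_right
    · intro hle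
      apply hxA
      apply mem_normalizer_of_cj_le
      rw [← hA₁]
      intro c hc
      obtain ⟨a', ha', d, hd, rfl⟩ := key c hc
      have hdA : d ∈ A := by
        have : d ∈ (Z ⊔ D) ⊓ B := Subgroup.mem_inf.mpr ⟨(le_sup_right : D ≤ Z ⊔ D) hd, hDB hd⟩
        exact (hle this).1
      exact mul_mem ha' hdA
  · apply sup_le
    · exact hZA.trans Subgroup.le_normalizer
    · apply hDM.trans
      rw [hM]
      exact sup_le Subgroup.le_normalizer h1

end Cfsg.Agent.Lib.H15
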