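import Mathlib
import Cfsg.Prelude.Def_DStar
import Cfsg.Agent.Lib.H1.NilpotentBasic
import Cfsg.Agent.Lib.H8.PGroup
import Cfsg.Agent.Lib.H15.MaxAb
import Cfsg.Agent.Lib.H15.Replacement

set_option autoImplicit false
open scoped commutatorElement

namespace Cfsg.Agent.Lib.H15

variable {G : Type*} [Group G]

/-- If the commutators of the generators are central in the generated subgroup, so are all
commutators. -/
theorem commutator_closure_le_centralizer (T : Set G)
    (h : ∀ s ∈ T, ∀ t ∈ T, ⁅s, t⁆ ∈ Subgroup.centralizer (Subgroup.closure T : Set G)) :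
    ⁅Subgroup.closure T, Subgroup.closure T⁆ ≤
      Subgroup.centralizer (Subgroup.closure T : Set G) := by
  have conj : ∀ g ∈ Subgroup.closure T, ∀ z ∈ Subgroup.centralizer (Subgroup.closure T : Set G),
      g * z * g⁻¹ = z := by
    intro g hg z hz
    have := (Subgroup.mem_centralizer_iff.mp hz) g hg
    rw [this]; group
  have conj' : ∀ g ∈ Subgroup.closure T, ∀ z ∈ Subgroup.centralizer (Subgroup.closure T : Set G),
      g⁻¹ * z * g = z := by
    intro g hg z hz
    have := conj g⁻¹ (inv_mem hg) z hz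
    simpa using this
  rw [Subgroup.commutator_le]
  intro g hg k hk
  refine Subgroup.closure_induction₂
    (p := fun x y _ _ => ⁅x, y⁆ ∈ Subgroup.centralizer (Subgroup.closure T : Set G))
    ?_ ?_ ?_ ?_ ?_ ?_ ?_ hg hk
  · intro x y hx hy
    exact h x hx y hy
  · intro x _
    rw [commutatorElement_one_left]; exact one_mem _
  · intro x _
    rw [commutatorElement_one_right]; exact one_mem _
  · intro x y z hx _ _ hxz hyz
    have e : ⁅x * y, z⁆ = (x * ⁅y, z⁆ * x⁻¹) * ⁅x, z⁆ := by
      simp only [commutatorElement_def]; group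
    rw [e, conj x hx _ hyz]
    exact mul_mem hyz hxz
  · intro y z x hy _ _ hxy hxz
    have e : ⁅x, y * z⁆ = ⁅x, y⁆ * (y * ⁅x, z⁆ * y⁻¹) := by
      simp only [commutatorElement_def]; group
    rw [e, conj y hy _ hxz]
    exact mul_mem hxy hxz
  · intro x y hx _ hxy
    have e : ⁅x⁻¹, y⁆ = x⁻¹ * ⁅x, y⁆⁻¹ * x := by
      simp only [commutatorElement_def]; group
    rw [e, conj' x hx _ (inv_mem hxy)]
    exact inv_mem hxy
  · intro x y _ hy hxy
    have e : ⁅x, y⁻¹⁆ = y⁻¹ * ⁅x, y⁆⁻¹ * y := by
      simp only [commutatorElement_def]; group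
    rw [e, conj' y hy _ (inv_mem hxy)]
    exact inv_mem hxy

/-- Class at most two from generators. -/
theorem triple_commutator_closure_eq_bot (T : Set G)
    (h : ∀ s ∈ T, ∀ t ∈ T, ⁅s, t⁆ ∈ Subgroup.centralizer (Subgroup.closure T : Set G)) :
    ⁅⁅Subgroup.closure T, Subgroup.closure T⁆, Subgroup.closure T⁆ = ⊥ := by
  rw [Subgroup.commutator_eq_bot_iff_le_centralizer]
  exact commutator_closure_le_centralizer T h

theorem sup_zpowers_eq_closure (A : Subgroup G) (x : G) :
    A ⊔ Subgroup.zpowers x = Subgroup.closure ((A : Set G) ∪ {x}) := by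
  rw [Subgroup.closure_union, Subgroup.closure_eq, Subgroup.zpowers_eq_closure]

/-- If `x` commutes with all its commutators with `A`, and those commutators centralize `A`
(`A` abelian), then `⟨A, x⟩` has class at most two. -/
theorem triple_commutator_sup_zpowers_eq_bot (A : Subgroup G) (hA : IsMulCommutative A) (x : G)
    (h1 : ∀ a ∈ A, ∀ b ∈ A, ⁅x, a⁆ * b = b * ⁅x, a⁆)
    (h2 : ∀ a ∈ A, ⁅x, a⁆ * x = x * ⁅x, a⁆) :
    ⁅⁅A ⊔ Subgroup.zpowers x, A ⊔ Subgroup.zpowers x⁆, A ⊔ Subgroup.zpowers x⁆ = ⊥ := by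
  rw [sup_zpowers_eq_closure]
  apply triple_commutator_closure_eq_bot
  have hc : ∀ a ∈ A, ⁅x, a⁆ ∈
      Subgroup.centralizer (Subgroup.closure ((A : Set G) ∪ {x}) : Set G) := by
    intro a ha
    rw [Subgroup.centralizer_closure, Subgroup.mem_centralizer_iff]
    intro g hg
    rcases hg with hg | hg
    · exact (h1 a ha g hg).symm
    · rw [Set.mem_singleton_iff] at hg; subst hg
      exact (h2 a ha).symm
  rintro s (hs | hs) t (ht | ht)
  · have : ⁅s, t⁆ = 1 := by
      rw [commutatorElement_eq_one_iff_mul_comm]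
      have := hA.is_comm.comm ⟨s, hs⟩ ⟨t, ht⟩
      exact congrArg Subtype.val this
    rw [this]; exact one_mem _
  · rw [Set.mem_singleton_iff] at ht; subst ht
    have : ⁅s, t⁆ = ⁅t, s⁆⁻¹ := (commutatorElement_inv t s).symm
    rw [this]; exact inv_mem (hc s hs)
  · rw [Set.mem_singleton_iff] at hs; subst hs
    exact hc t ht
  · rw [Set.mem_singleton_iff] at hs ht; subst hs; subst ht
    rw [commutatorElement_self]; exact one_mem _

/-- Key lemma: in a nilpotent group, every member of the `D*` family centralizes every normal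
abelian subgroup. -/
theorem dStarFamily_centralizes_normal_abelian [hG : Group.IsNilpotent G] {A : Subgroup G}
    (hA : A ∈ Cfsg.dStarFamily G) (N : Subgroup G) [hNn : N.Normal] (hNc : IsMulCommutative N) :
    N ≤ Subgroup.centralizer (A : Set G) := by
  obtain ⟨m, hm⟩ := Subgroup.nilpotent_iff_lowerCentralSeries.mp hG
  have hbot : Cfsg.Agent.Lib.H1.iterComm N m = ⊥ :=
    le_bot_iff.mp (hm ▸ Cfsg.Agent.Lib.H1.iterComm_le_lcs N m)
  have step : ∀ k, Cfsg.Agent.Lib.H1.iterComm N (k + 1) ≤ Subgroup.centralizer (A : Set G) →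
      Cfsg.Agent.Lib.H1.iterComm N k ≤ Subgroup.centralizer (A : Set G) := by
    intro k hk x hx
    have hxN : x ∈ N := Cfsg.Agent.Lib.H1.iterComm_le N k hx
    have hcomm : ∀ a ∈ A, ⁅x, a⁆ ∈ Cfsg.Agent.Lib.H1.iterComm N (k + 1) := by
      intro a _
      exact Subgroup.commutator_mem_commutator hx (Subgroup.mem_top a)
    have htriple := triple_commutator_sup_zpowers_eq_bot A hA.1 x
      (fun a ha b hb => ((Subgroup.mem_centralizer_iff.mp (hk (hcomm a ha))) b hb).symm)
      (fun a ha => by
        have h1 : ⁅x, a⁆ ∈ N := Cfsg.Agent.Lib.H1.iterComm_le N (k + 1) (hcomm a ha)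
        have := hNc.is_comm.comm ⟨⁅x, a⁆, h1⟩ ⟨x, hxN⟩
        exact congrArg Subtype.val this)
    rw [Subgroup.mem_centralizer_iff]
    intro a ha
    exact hA.2 x htriple a ha
  have main : ∀ j, Cfsg.Agent.Lib.H1.iterComm N (m - j) ≤ Subgroup.centralizer (A : Set G) := by
    intro j
    induction j with
    | zero => simp only [Nat.sub_zero, hbot]; exact bot_le
    | succ j ih =>
      by_cases hj : j < m
      · apply step
        have : m - (j + 1) + 1 = m - j := by omega
        rw [this]; exact ih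
      · have : m - (j + 1) = m - j := by omega
        rw [this]; exact ih
  have := main m
  simpa [Cfsg.Agent.Lib.H1.iterComm] using this

/-- In a nilpotent group, every member of the `D*` family lies in every self-centralizing
normal abelian subgroup. -/
theorem dStarFamily_le_of_selfCentralizing [Group.IsNilpotent G] {A : Subgroup G}
    (hA : A ∈ Cfsg.dStarFamily G) (N : Subgroup G) [N.Normal] (hNc : IsMulCommutative N)
    (hCN : Subgroup.centralizer (N : Set G) = N) : A ≤ N := by
  have := dStarFamily_centralizes_normal_abelian hA N hNc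
  rw [Subgroup.le_centralizer_iff] at this
  rwa [hCN] at this

theorem dStar_le_of_selfCentralizing [Group.IsNilpotent G]
    (N : Subgroup G) [N.Normal] (hNc : IsMulCommutative N)
    (hCN : Subgroup.centralizer (N : Set G) = N) : Cfsg.dStar G ≤ N := by
  unfold Cfsg.dStar
  apply sSup_le
  intro A hA
  exact dStarFamily_le_of_selfCentralizing hA N hNc hCN

/-- `D*` centralizes every normal abelian subgroup of a nilpotent group. -/
theorem dStar_le_centralizer_normal_abelian [Group.IsNilpotent G]
    (N : Subgroup G) [N.Normal] (hNc : IsMulCommutative N) :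
    Cfsg.dStar G ≤ Subgroup.centralizer (N : Set G) := by
  unfold Cfsg.dStar
  apply sSup_le
  intro A hA
  have := dStarFamily_centralizes_normal_abelian hA N hNc
  rwa [Subgroup.le_centralizer_iff] at this

/-- the second half of membership of `D*` in its family, valid in any group. -/
theorem dStar_family_cond (x : G)
    (hx : ⁅⁅Cfsg.dStar G ⊔ Subgroup.zpowers x, Cfsg.dStar G ⊔ Subgroup.zpowers x⁆,
      Cfsg.dStar G ⊔ Subgroup.zpowers x⁆ = ⊥) : ∀ a ∈ Cfsg.dStar G, a * x = x * a := by
  have hle : Cfsg.dStar G ≤ Subgroup.centralizer ({x} : Set G) := by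
    unfold Cfsg.dStar
    apply sSup_le
    intro A hA a ha
    have hAD : A ≤ Cfsg.dStar G := le_sSup hA
    have hsup : A ⊔ Subgroup.zpowers x ≤ Cfsg.dStar G ⊔ Subgroup.zpowers x :=
      sup_le_sup_right hAD _
    have h3 : ⁅⁅A ⊔ Subgroup.zpowers x, A ⊔ Subgroup.zpowers x⁆, A ⊔ Subgroup.zpowers x⁆ = ⊥ := by
      rw [eq_bot_iff, ← hx]
      exact Subgroup.commutator_mono (Subgroup.commutator_mono hsup hsup) hsup
    rw [Subgroup.mem_centralizer_iff]
    intro y hy
    rw [Set.mem_singleton_iff] at hy; subst hy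
    exact (hA.2 y h3 a ha).symm
  intro a ha
  have := (Subgroup.mem_centralizer_iff.mp (hle ha)) x rfl
  exact this.symm

/-- `D*(S)` belongs to its own family when `S` is a finite `p`-group. -/
theorem dStar_mem_family {p : ℕ} [Fact p.Prime] [Finite G] (hG : IsPGroup p G) :
    Cfsg.dStar G ∈ Cfsg.dStarFamily G := by
  haveI : Group.IsNilpotent G := hG.isNilpotent
  obtain ⟨N, _, hNn, hNc, hCN⟩ :=
    Cfsg.Agent.Lib.H8.exists_normal_selfCentralizing hG (⊥ : Subgroup G)
  refine ⟨?_, dStar_family_cond⟩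
  exact isMulCommutative_of_le hNc (dStar_le_of_selfCentralizing N hNc hCN)

/-- The `D*` family is invariant under conjugation. -/
theorem dStarFamily_cj {A : Subgroup G} (hA : A ∈ Cfsg.dStarFamily G) (g : G) :
    cj g A ∈ Cfsg.dStarFamily G := by
  haveI := hA.1
  refine ⟨inferInstance, ?_⟩
  intro x hx b hb
  obtain ⟨x', hx'⟩ : ∃ x', x' = g⁻¹ * x * g := ⟨_, rfl⟩
  have hxx' : x = g * x' * g⁻¹ := by rw [hx']; group
  have hK : cj g A ⊔ Subgroup.zpowers x = cj g (A ⊔ Subgroup.zpowers x') := by
    unfold cj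
    rw [Subgroup.map_sup, MonoidHom.map_zpowers]
    congr 2
  rw [hK] at hx
  unfold cj at hx
  rw [← Subgroup.map_commutator, ← Subgroup.map_commutator,
    Subgroup.map_eq_bot_iff_of_injective _ (MulAut.conj g).injective] at hx
  have hb' : g⁻¹ * b * g ∈ A := mem_cj_iff.mp hb
  have := hA.2 x' hx _ hb'
  rw [hx'] at this
  have e1 : b * x = g * (g⁻¹ * b * g * (g⁻¹ * x * g)) * g⁻¹ := by group
  have e2 : x * b = g * (g⁻¹ * x * g * (g⁻¹ * b * g)) * g⁻¹ := by group
  rw [e1, e2, this]

/-- `D*(G)` is a normal subgroup. -/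
theorem dStar_normal : (Cfsg.dStar G).Normal := by
  have hle : ∀ g : G, cj g (Cfsg.dStar G) ≤ Cfsg.dStar G := by
    intro g
    unfold cj
    rw [Subgroup.map_le_iff_le_comap]
    unfold Cfsg.dStar
    apply sSup_le
    intro A hA
    rw [← Subgroup.map_le_iff_le_comap]
    exact le_sSup (dStarFamily_cj hA g)
  constructor
  intro n hn g
  exact hle g (conj_mem_cj hn)

/-- The centre belongs to the `D*` family. -/
theorem center_mem_dStarFamily : Subgroup.center G ∈ Cfsg.dStarFamily G := by
  refine ⟨inferInstance, ?_⟩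
  intro x _ a ha
  exact (Subgroup.mem_center_iff.mp ha x).symm

theorem center_le_dStar : Subgroup.center G ≤ Cfsg.dStar G :=
  le_sSup center_mem_dStarFamily

/-- In a finite `p`-group, `D*` lies in every abelian subgroup of largest order. -/
theorem dStar_le_maxAbelian {p : ℕ} [Fact p.Prime] [Finite G] (hG : IsPGroup p G)
    {A : Subgroup G} (hA : A ∈ Cfsg.maxAbelianSubgroups G) : Cfsg.dStar G ≤ A := by
  haveI : Group.IsNilpotent G := hG.isNilpotent
  have hDfam := dStar_mem_family hG
  have hDc : IsMulCommutative ↥(Cfsg.dStar G) := hDfam.1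
  haveI hDn : (Cfsg.dStar G).Normal := dStar_normal
  -- the case where `D*` normalizes `A`
  have case1 : ∀ A ∈ Cfsg.maxAbelianSubgroups G,
      Cfsg.dStar G ≤ Subgroup.normalizer (A : Set G) → Cfsg.dStar G ≤ A := by
    intro A hA hDA
    have hAc : IsMulCommutative ↥A := hA.1
    have hcent : A ≤ Subgroup.centralizer (Cfsg.dStar G : Set G) := by
      intro x hx
      have htriple := triple_commutator_sup_zpowers_eq_bot (Cfsg.dStar G) hDc x
        (fun a ha b hb => by
          have h1 : ⁅x, a⁆ ∈ Cfsg.dStar G := by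
            rw [commutatorElement_def]
            have := hDn.conj_mem a ha x
            exact mul_mem this (inv_mem ha)
          have := hDc.is_comm.comm ⟨⁅x, a⁆, h1⟩ ⟨b, hb⟩
          exact congrArg Subtype.val this)
        (fun a ha => by
          have h1 : ⁅x, a⁆ ∈ A := by
            have hn := hDA ha
            rw [Subgroup.mem_normalizer_iff] at hn
            have h2 := (hn x⁻¹).mp (inv_mem hx)
            have : ⁅x, a⁆ = x * (a * x⁻¹ * a⁻¹) := by rw [commutatorElement_def]; group
            rw [this]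
            exact mul_mem hx h2
          have := hAc.is_comm.comm ⟨⁅x, a⁆, h1⟩ ⟨x, hx⟩
          exact congrArg Subtype.val this)
      rw [Subgroup.mem_centralizer_iff]
      intro a ha
      exact hDfam.2 x htriple a ha
    have hcomm : IsMulCommutative ↥(A ⊔ Cfsg.dStar G) := isMulCommutative_sup hAc hDc hcent
    have := maxAbelian_eq_of_le hA hcomm le_sup_left
    calc Cfsg.dStar G ≤ A ⊔ Cfsg.dStar G := le_sup_right
      _ = A := this.symm
  by_contra hcon
  -- choose a counterexample with `|A ∩ D*|` largest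
  have hne : Nonempty {A : Subgroup G // A ∈ Cfsg.maxAbelianSubgroups G ∧ ¬ Cfsg.dStar G ≤ A} :=
    ⟨⟨A, hA, hcon⟩⟩
  obtain ⟨⟨A₀, hA₀, hA₀D⟩, hmax⟩ := Finite.exists_max
    (fun X : {A : Subgroup G // A ∈ Cfsg.maxAbelianSubgroups G ∧ ¬ Cfsg.dStar G ≤ A} =>
      Nat.card ((X : Subgroup G) ⊓ Cfsg.dStar G : Subgroup G))
  by_cases hDA : Cfsg.dStar G ≤ Subgroup.normalizer (A₀ : Set G)
  · exact hA₀D (case1 A₀ hA₀ hDA)
  · obtain ⟨A', hA', hlt, hA'N⟩ := thompson_replacement hA₀ hDc
      (le_trans le_top (Subgroup.normalizer_eq_top_iff.mpr hDn).ge) hDA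
    by_cases hDA' : Cfsg.dStar G ≤ A'
    · exact hDA (hDA'.trans hA'N)
    · have h1 := hmax ⟨A', hA', hDA'⟩
      simp only at h1
      have h2 : Nat.card (A₀ ⊓ Cfsg.dStar G : Subgroup G) <
          Nat.card (A' ⊓ Cfsg.dStar G : Subgroup G) := by
        by_contra hnot
        have hnot' := Nat.le_of_not_lt hnot
        have := eq_of_le_of_card_le' hlt.le hnot'
        exact (ne_of_lt hlt) this
      omega

/-- `D*(S) ≤ Z(J(S))` (abelian version of the Thompson subgroup) for finite `p`-groups. -/
theorem dStar_le_center_thompsonA {p : ℕ} [Fact p.Prime] [Finite G] (hG : IsPGroup p G) :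
    Cfsg.dStar G ≤ Cfsg.thompsonSubgroupA G ⊓
      Subgroup.centralizer (Cfsg.thompsonSubgroupA G : Set G) := by
  apply le_inf
  · obtain ⟨A, hA⟩ := exists_maxAbelian (G := G)
    exact (dStar_le_maxAbelian hG hA).trans (le_sSup hA)
  · rw [Subgroup.le_centralizer_iff]
    unfold Cfsg.thompsonSubgroupA
    apply sSup_le
    intro A hA
    have h1 : A ≤ Subgroup.centralizer (A : Set G) :=
      Subgroup.le_centralizer_iff_isMulCommutative.mpr hA.1
    exact h1.trans (Subgroup.centralizer_le (fun y hy => dStar_le_maxAbelian hG hA hy))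

end Cfsg.Agent.Lib.H15
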