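import Mathlib
import Cfsg.Prelude.Def_DStar
import Cfsg.Prelude.Def_PLocal
import Cfsg.Agent.Lib.H1.PCore
import Cfsg.Agent.Lib.H15.DStar
import Cfsg.Agent.Lib.H15.MCL

/-!
The `D*`-theorem of Glauberman and Solomon: `D*(S)` is normal in a `p`-stable group of
characteristic `p` (helper15's shared library).
-/

set_option autoImplicit false
open scoped commutatorElement

namespace Cfsg.Agent.Lib.H15

variable {G : Type*} [Group G]

section Basic

variable (P : Subgroup G)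

theorem mem_dStarOf_iff {x : G} :
    x ∈ Cfsg.dStarOf P ↔ ∃ hx : x ∈ P, (⟨x, hx⟩ : ↥P) ∈ Cfsg.dStar ↥P := by
  unfold Cfsg.dStarOf
  constructor
  · rintro ⟨y, hy, rfl⟩
    exact ⟨y.2, hy⟩
  · rintro ⟨hx, h⟩
    exact ⟨⟨x, hx⟩, h, rfl⟩

theorem dStarOf_le : Cfsg.dStarOf P ≤ P := by
  intro x hx
  obtain ⟨h, _⟩ := (mem_dStarOf_iff P).mp hx
  exact h

theorem dStarOf_conj_mem {s d : G} (hs : s ∈ P) (hd : d ∈ Cfsg.dStarOf P) :
    s * d * s⁻¹ ∈ Cfsg.dStarOf P := by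
  obtain ⟨hdP, hd'⟩ := (mem_dStarOf_iff P).mp hd
  have hn : (Cfsg.dStar ↥P).Normal := dStar_normal
  have := hn.conj_mem _ hd' ⟨s, hs⟩
  rw [mem_dStarOf_iff]
  exact ⟨mul_mem (mul_mem hs hdP) (inv_mem hs), this⟩

variable {P}

theorem dStarOf_comm [Finite G] {p : ℕ} [Fact p.Prime] (hP : IsPGroup p ↥P) {a b : G}
    (ha : a ∈ Cfsg.dStarOf P) (hb : b ∈ Cfsg.dStarOf P) : a * b = b * a := by
  obtain ⟨haP, ha'⟩ := (mem_dStarOf_iff P).mp ha
  obtain ⟨hbP, hb'⟩ := (mem_dStarOf_iff P).mp hb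
  have hc : IsMulCommutative ↥(Cfsg.dStar ↥P) := (dStar_mem_family hP).1
  have := hc.is_comm.comm ⟨⟨a, haP⟩, ha'⟩ ⟨⟨b, hbP⟩, hb'⟩
  exact congrArg (fun z : ↥(Cfsg.dStar ↥P) => ((z : ↥P) : G)) this

/-- The defining property of `D*(P)`, stated inside the ambient group. -/
theorem dStarOf_centralized [Finite G] {p : ℕ} [Fact p.Prime] (hP : IsPGroup p ↥P) {x : G}
    (hx : x ∈ P)
    (h1 : ∀ a ∈ Cfsg.dStarOf P, ∀ b ∈ Cfsg.dStarOf P, ⁅x, a⁆ * b = b * ⁅x, a⁆)
    (h2 : ∀ a ∈ Cfsg.dStarOf P, ⁅x, a⁆ * x = x * ⁅x, a⁆) :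
    ∀ a ∈ Cfsg.dStarOf P, a * x = x * a := by
  have hfam := dStar_mem_family hP
  have htriple := triple_commutator_sup_zpowers_eq_bot (Cfsg.dStar ↥P) hfam.1 (⟨x, hx⟩ : ↥P)
    (fun a ha b hb => by
      apply Subtype.ext
      have ha' : (a : G) ∈ Cfsg.dStarOf P := (mem_dStarOf_iff P).mpr ⟨a.2, ha⟩
      have hb' : (b : G) ∈ Cfsg.dStarOf P := (mem_dStarOf_iff P).mpr ⟨b.2, hb⟩
      have := h1 _ ha' _ hb'
      simpa [commutatorElement_def] using this)
    (fun a ha => by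
      apply Subtype.ext
      have ha' : (a : G) ∈ Cfsg.dStarOf P := (mem_dStarOf_iff P).mpr ⟨a.2, ha⟩
      have := h2 _ ha'
      simpa [commutatorElement_def] using this)
  intro a ha
  obtain ⟨haP, ha'⟩ := (mem_dStarOf_iff P).mp ha
  have := hfam.2 ⟨x, hx⟩ htriple ⟨a, haP⟩ ha'
  exact congrArg Subtype.val this

/-- Criterion for an abelian subgroup of `P` to lie in `D*(P)`. -/
theorem le_dStarOf_of {A : Subgroup G} (hAP : A ≤ P)
    (hcomm : ∀ a ∈ A, ∀ b ∈ A, a * b = b * a)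
    (h : ∀ x ∈ P, (∀ a ∈ A, ⁅⁅a, x⁆, x⁆ = 1) → ∀ a ∈ A, a * x = x * a) :
    A ≤ Cfsg.dStarOf P := by
  have hfam : A.subgroupOf P ∈ Cfsg.dStarFamily ↥P := by
    refine ⟨⟨⟨fun a b => ?_⟩⟩, ?_⟩
    · apply Subtype.ext
      apply Subtype.ext
      exact hcomm _ (Subgroup.mem_subgroupOf.mp a.2) _ (Subgroup.mem_subgroupOf.mp b.2)
    · intro x hx a ha
      have hquad : ∀ a ∈ A, ⁅⁅a, (x : G)⁆, (x : G)⁆ = 1 := by
        intro a ha
        have haP : a ∈ P := hAP ha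
        have haK : (⟨a, haP⟩ : ↥P) ∈ A.subgroupOf P ⊔ Subgroup.zpowers x :=
          (le_sup_left : A.subgroupOf P ≤ _) (Subgroup.mem_subgroupOf.mpr ha)
        have hxK : x ∈ A.subgroupOf P ⊔ Subgroup.zpowers x :=
          (le_sup_right : Subgroup.zpowers x ≤ _) (Subgroup.mem_zpowers x)
        have h3 : ⁅⁅(⟨a, haP⟩ : ↥P), x⁆, x⁆ ∈ (⊥ : Subgroup ↥P) := by
          rw [← hx]
          exact Subgroup.commutator_mem_commutator
            (Subgroup.commutator_mem_commutator haK hxK) hxK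
        rw [Subgroup.mem_bot] at h3
        have := congrArg Subtype.val h3
        simpa [commutatorElement_def] using this
      have := h (x : G) x.2 hquad (a : G) (Subgroup.mem_subgroupOf.mp ha)
      exact Subtype.ext this
  have hle : A.subgroupOf P ≤ Cfsg.dStar ↥P := le_sSup hfam
  intro a ha
  rw [mem_dStarOf_iff]
  exact ⟨hAP ha, hle (Subgroup.mem_subgroupOf.mpr ha)⟩

end Basic

/-- If `c = ⁅a, x⁆` commutes with `x`, then `⁅a, x ^ n⁆ = c ^ n`. -/
theorem commutatorElement_zpow_right {a x : G} (h : ⁅a, x⁆ * x = x * ⁅a, x⁆) (n : ℤ) :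
    ⁅a, x ^ n⁆ = ⁅a, x⁆ ^ n := by
  have h1 : a * x * a⁻¹ = ⁅a, x⁆ * x := by rw [commutatorElement_def]; group
  have h2 : a * x ^ n * a⁻¹ = (a * x * a⁻¹) ^ n := (conj_zpow).symm
  have hc : Commute ⁅a, x⁆ x := h
  have h3 : (⁅a, x⁆ * x) ^ n = ⁅a, x⁆ ^ n * x ^ n := hc.mul_zpow n
  calc ⁅a, x ^ n⁆ = a * x ^ n * a⁻¹ * (x ^ n)⁻¹ := by rw [commutatorElement_def]
    _ = ⁅a, x⁆ ^ n * x ^ n * (x ^ n)⁻¹ := by rw [h2, h1, h3]
    _ = ⁅a, x⁆ ^ n := by group

/-- Elementwise quadratic action gives `[[A, ⟨x⟩], ⟨x⟩] = 1`. -/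
theorem quadratic_of_elementwise {A : Subgroup G} {x : G}
    (h : ∀ a ∈ A, ⁅⁅a, x⁆, x⁆ = 1) :
    ⁅⁅A, Subgroup.zpowers x⁆, Subgroup.zpowers x⁆ = ⊥ := by
  rw [Subgroup.commutator_eq_bot_iff_le_centralizer, Subgroup.commutator_le]
  intro a ha y hy
  obtain ⟨n, rfl⟩ := Subgroup.mem_zpowers_iff.mp hy
  have hcx : ⁅a, x⁆ * x = x * ⁅a, x⁆ := by
    have := h a ha
    rw [commutatorElement_eq_one_iff_mul_comm] at this
    exact this
  rw [commutatorElement_zpow_right hcx n, Subgroup.mem_centralizer_iff]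
  intro z hz
  obtain ⟨m, rfl⟩ := Subgroup.mem_zpowers_iff.mp hz
  have hc : Commute x ⁅a, x⁆ := hcx.symm
  exact ((hc.zpow_left m).zpow_right n).eq

/-- Conversely. -/
theorem elementwise_of_quadratic {A : Subgroup G} {x : G}
    (h : ⁅⁅A, Subgroup.zpowers x⁆, Subgroup.zpowers x⁆ = ⊥) : ∀ a ∈ A, ⁅⁅a, x⁆, x⁆ = 1 := by
  intro a ha
  have : ⁅⁅a, x⁆, x⁆ ∈ (⊥ : Subgroup G) := by
    rw [← h]
    exact Subgroup.commutator_mem_commutator
      (Subgroup.commutator_mem_commutator ha (Subgroup.mem_zpowers x)) (Subgroup.mem_zpowers x)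
  exact Subgroup.mem_bot.mp this

/-- Quadratic action on a normal subgroup is preserved by conjugation. -/
theorem quadratic_conj {A : Subgroup G} [hA : A.Normal] {x : G}
    (h : ∀ a ∈ A, ⁅⁅a, x⁆, x⁆ = 1) (g : G) : ∀ a ∈ A, ⁅⁅a, g * x * g⁻¹⁆, g * x * g⁻¹⁆ = 1 := by
  intro a ha
  have ha' : g⁻¹ * a * g ∈ A := by
    have := hA.conj_mem a ha g⁻¹
    simpa using this
  have h1 := h _ ha'
  have : ⁅⁅a, g * x * g⁻¹⁆, g * x * g⁻¹⁆ = g * ⁅⁅g⁻¹ * a * g, x⁆, x⁆ * g⁻¹ := by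
    simp only [commutatorElement_def]; group
  rw [this, h1]; group

section Stable

variable [Finite G] {p : ℕ} [Fact p.Prime]

/-- In a `p`-stable situation a quadratically acting element is a product of an element of a
given Sylow `p`-subgroup and an element centralizing `V`. -/
theorem exists_mul_of_pstable (S : Sylow p G) (V : Subgroup G) [V.Normal]
    (h : Cfsg.IsPStableOn p V) (a : G)
    (ha : ⁅⁅V, Subgroup.zpowers a⁆, Subgroup.zpowers a⁆ = ⊥) :
    ∃ s ∈ (S : Subgroup G), ∃ c ∈ Subgroup.centralizer (V : Set G), a = s * c := by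
  have h1 := h a ha
  have hsurj : Function.Surjective (QuotientGroup.mk' (Subgroup.centralizer (V : Set G))) :=
    QuotientGroup.mk'_surjective _
  have h2 : Cfsg.pCore p (G ⧸ Subgroup.centralizer (V : Set G)) ≤
      ((S.mapSurjective hsurj : Sylow p (G ⧸ Subgroup.centralizer (V : Set G))) :
        Subgroup (G ⧸ Subgroup.centralizer (V : Set G))) :=
    Cfsg.Agent.Lib.H1.pCore_le_sylow _
  have h3 := h2 h1
  rw [Sylow.coe_mapSurjective] at h3
  obtain ⟨s, hs, hsa⟩ := h3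
  refine ⟨s, hs, s⁻¹ * a, ?_, by group⟩
  have : (QuotientGroup.mk s : G ⧸ Subgroup.centralizer (V : Set G)) = QuotientGroup.mk a := hsa
  exact QuotientGroup.eq.mp this

/-- With `C_G(O_p(G)) ≤ O_p(G)` and `p`-stability on `O_p(G)`, quadratic elements lie in
`O_p(G)`. -/
theorem mem_pCore_of_pstable [hn : (Cfsg.pCore p G).Normal]
    (hc : Subgroup.centralizer (Cfsg.pCore p G : Set G) ≤ Cfsg.pCore p G)
    (hst : Cfsg.IsPStableOn p (Cfsg.pCore p G)) (a : G)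
    (ha : ⁅⁅Cfsg.pCore p G, Subgroup.zpowers a⁆, Subgroup.zpowers a⁆ = ⊥) :
    a ∈ Cfsg.pCore p G := by
  have h1 := hst a ha
  obtain ⟨L, hL⟩ : ∃ L, L = (Cfsg.pCore p (G ⧸ Subgroup.centralizer (Cfsg.pCore p G : Set G))).comap
      (QuotientGroup.mk' (Subgroup.centralizer (Cfsg.pCore p G : Set G))) := ⟨_, rfl⟩
  have hLn : L.Normal := by
    rw [hL]
    haveI := Cfsg.Agent.Lib.H1.pCore_normal p (G ⧸ Subgroup.centralizer (Cfsg.pCore p G : Set G))
    exact Subgroup.Normal.comap inferInstance _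
  have hLp : IsPGroup p ↥L := by
    rw [hL]
    apply (Cfsg.Agent.Lib.H1.pCore_isPGroup p _).comap_of_ker_isPGroup
    rw [QuotientGroup.ker_mk']
    exact (Cfsg.Agent.Lib.H1.pCore_isPGroup p G).to_le hc
  have haL : a ∈ L := by rw [hL]; exact h1
  exact Cfsg.Agent.Lib.H1.le_pCore hLn hLp haL

end Stable

/-- A subgroup whose elements commute with all elements of all its conjugates has an abelian
normal closure. -/
theorem normalClosure_comm {D : Subgroup G}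
    (h : ∀ k : G, ∀ x ∈ cj k D, ∀ a ∈ D, a * x = x * a) :
    ∀ a ∈ Subgroup.normalClosure (D : Set G), ∀ b ∈ Subgroup.normalClosure (D : Set G),
      a * b = b * a := by
  have hle : Subgroup.normalClosure (D : Set G) ≤
      Subgroup.centralizer ((Subgroup.normalClosure (D : Set G) : Subgroup G) : Set G) := by
    unfold Subgroup.normalClosure
    rw [Subgroup.centralizer_closure, Subgroup.closure_le]
    intro u hu
    rw [SetLike.mem_coe, Subgroup.mem_centralizer_iff]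
    intro v hv
    obtain ⟨d, hd, hconj⟩ := Group.mem_conjugatesOfSet_iff.mp hu
    obtain ⟨g, rfl⟩ := isConj_iff.mp hconj
    obtain ⟨e, he, hconj'⟩ := Group.mem_conjugatesOfSet_iff.mp hv
    obtain ⟨k, rfl⟩ := isConj_iff.mp hconj'
    have h1 : g⁻¹ * (k * e * k⁻¹) * g ∈ cj (g⁻¹ * k) D := by
      rw [mem_cj_iff]
      have : (g⁻¹ * k)⁻¹ * (g⁻¹ * (k * e * k⁻¹) * g) * (g⁻¹ * k) = e := by group
      rw [this]; exact he
    have h2 := h _ _ h1 d hd
    calc k * e * k⁻¹ * (g * d * g⁻¹) = g * (g⁻¹ * (k * e * k⁻¹) * g * d) * g⁻¹ := by group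
      _ = g * (d * (g⁻¹ * (k * e * k⁻¹) * g)) * g⁻¹ := by rw [h2]
      _ = g * d * g⁻¹ * (k * e * k⁻¹) := by group
  intro a ha b hb
  exact ((Subgroup.mem_centralizer_iff.mp (hle hb)) a ha)

/-- **The `D*`-theorem** (Glauberman–Solomon). -/
theorem dStarOf_normal_of_pstable [Finite G] {p : ℕ} [Fact p.Prime]
    (hc : Subgroup.centralizer (Cfsg.pCore p G : Set G) ≤ Cfsg.pCore p G)
    (hst : ∀ (P : Subgroup G) [P.Normal], IsPGroup p P → Cfsg.IsPStableOn p P) (S : Sylow p G) :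
    (Cfsg.dStarOf (S : Subgroup G)).Normal := by
  haveI hQn : (Cfsg.pCore p G).Normal := Cfsg.Agent.Lib.H1.pCore_normal p G
  have hQp : IsPGroup p ↥(Cfsg.pCore p G) := Cfsg.Agent.Lib.H1.pCore_isPGroup p G
  have hQS : Cfsg.pCore p G ≤ (S : Subgroup G) := Cfsg.Agent.Lib.H1.pCore_le_sylow S
  have hSp : IsPGroup p ↥(S : Subgroup G) := S.isPGroup'
  obtain ⟨D, hD⟩ : ∃ D, D = Cfsg.dStarOf (S : Subgroup G) := ⟨_, rfl⟩
  rw [← hD]
  have hDS : D ≤ (S : Subgroup G) := hD ▸ dStarOf_le _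
  have hDcomm : ∀ a ∈ D, ∀ b ∈ D, a * b = b * a := by
    intro a ha b hb
    rw [hD] at ha hb
    exact dStarOf_comm hSp ha hb
  have hDconj : ∀ s ∈ (S : Subgroup G), ∀ d ∈ D, s * d * s⁻¹ ∈ D := by
    intro s hs d hd
    rw [hD] at hd ⊢
    exact dStarOf_conj_mem _ hs hd
  have hDcent : ∀ x ∈ (S : Subgroup G), (∀ a ∈ D, ∀ b ∈ D, ⁅x, a⁆ * b = b * ⁅x, a⁆) →
      (∀ a ∈ D, ⁅x, a⁆ * x = x * ⁅x, a⁆) → ∀ a ∈ D, a * x = x * a := by
    intro x hx h1 h2
    rw [hD] at h1 h2 ⊢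
    exact dStarOf_centralized hSp hx h1 h2
  -- Step 1: `D ≤ O_p(G)`
  have hDQ : D ≤ Cfsg.pCore p G := by
    intro a ha
    apply mem_pCore_of_pstable hc (hst _ hQp) a
    rw [eq_bot_iff]
    have h1 : ⁅Cfsg.pCore p G, Subgroup.zpowers a⁆ ≤ D := by
      rw [Subgroup.commutator_le]
      intro q hq b hb
      have hbD : b ∈ D := (Subgroup.zpowers_le.mpr ha) hb
      rw [commutatorElement_def]
      exact mul_mem (hDconj _ (hQS hq) _ hbD) (inv_mem hbD)
    have h2 : ⁅D, Subgroup.zpowers a⁆ = ⊥ := by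
      rw [Subgroup.commutator_eq_bot_iff_le_centralizer]
      intro d hd
      rw [Subgroup.mem_centralizer_iff]
      intro y hy
      exact hDcomm _ ((Subgroup.zpowers_le.mpr ha) hy) _ hd
    calc ⁅⁅Cfsg.pCore p G, Subgroup.zpowers a⁆, Subgroup.zpowers a⁆
        ≤ ⁅D, Subgroup.zpowers a⁆ := Subgroup.commutator_mono h1 le_rfl
      _ = ⊥ := h2
  -- Step 2: the normal closure of `D` is abelian
  obtain ⟨A, hA⟩ : ∃ A, A = Subgroup.normalClosure (D : Set G) := ⟨_, rfl⟩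
  have hAQ : A ≤ Cfsg.pCore p G := hA ▸ Subgroup.normalClosure_le_normal hDQ
  have hDA : D ≤ A := hA ▸ Subgroup.subset_normalClosure
  haveI hAn : A.Normal := hA ▸ Subgroup.normalClosure_normal
  have hQconj : ∀ q ∈ Cfsg.pCore p G, ∀ k : G, k⁻¹ * q * k ∈ Cfsg.pCore p G := by
    intro q hq k
    have := hQn.conj_mem q hq k⁻¹
    simpa using this
  have key2 : ∀ k : G, ∀ x ∈ cj k D, ∀ a ∈ D, a * x = x * a := by
    intro k x hx
    have hxk : k⁻¹ * x * k ∈ D := mem_cj_iff.mp hx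
    have hxQ : x ∈ Cfsg.pCore p G := by
      have := hQn.conj_mem _ (hDQ hxk) k
      have e : k * (k⁻¹ * x * k) * k⁻¹ = x := by group
      rwa [e] at this
    have hxS : x ∈ (S : Subgroup G) := hQS hxQ
    apply hDcent x hxS
    · intro a ha b hb
      have h1 : ⁅x, a⁆ ∈ D := by
        rw [commutatorElement_def]
        exact mul_mem (hDconj _ hxS _ ha) (inv_mem ha)
      exact hDcomm _ h1 _ hb
    · intro a ha
      have hak : k⁻¹ * a * k ∈ (S : Subgroup G) := hQS (hQconj _ (hDQ ha) k)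
      have h1 : k⁻¹ * ⁅x, a⁆ * k ∈ D := by
        have e : k⁻¹ * ⁅x, a⁆ * k = (k⁻¹ * x * k) *
            ((k⁻¹ * a * k) * (k⁻¹ * x * k)⁻¹ * (k⁻¹ * a * k)⁻¹) := by
          simp only [commutatorElement_def]; group
        rw [e]
        exact mul_mem hxk (hDconj _ hak _ (inv_mem hxk))
      have h2 := hDcomm _ h1 _ hxk
      calc ⁅x, a⁆ * x = k * ((k⁻¹ * ⁅x, a⁆ * k) * (k⁻¹ * x * k)) * k⁻¹ := by group
        _ = k * ((k⁻¹ * x * k) * (k⁻¹ * ⁅x, a⁆ * k)) * k⁻¹ := by rw [h2]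
        _ = x * ⁅x, a⁆ := by group
  have hAcomm : ∀ a ∈ A, ∀ b ∈ A, a * b = b * a := by
    rw [hA]; exact normalClosure_comm key2
  -- Step 3: quadratic elements centralize `D`, hence `A`
  have hAp : IsPGroup p ↥A := hQp.to_le hAQ
  have hstA : Cfsg.IsPStableOn p A := hst A hAp
  have keyX : ∀ y : G, (∀ a ∈ A, ⁅⁅a, y⁆, y⁆ = 1) → ∀ d ∈ D, d * y = y * d := by
    intro y hy
    obtain ⟨s, hs, c, hcC, rfl⟩ := exists_mul_of_pstable S A hstA y (quadratic_of_elementwise hy)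
    have hcA : ∀ a ∈ A, a * c = c * a := fun a ha => (Subgroup.mem_centralizer_iff.mp hcC) a ha
    have hsd : ∀ d ∈ D, d * s = s * d := by
      apply hDcent s hs
      · intro a ha b hb
        have h1 : ⁅s, a⁆ ∈ D := by
          rw [commutatorElement_def]
          exact mul_mem (hDconj _ hs _ ha) (inv_mem ha)
        exact hDcomm _ h1 _ hb
      · intro a ha
        have haA : a ∈ A := hDA ha
        have e1 : ⁅s * c, a⁆ = ⁅s, a⁆ := commutatorElement_mul_left_of_comm (hcA a haA).symm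
        have h3 : ⁅s * c, a⁆ ∈ A := by
          rw [commutatorElement_def]
          exact mul_mem (hAn.conj_mem a haA (s * c)) (inv_mem haA)
        have h4 : ⁅⁅a, s * c⁆, s * c⁆ = 1 := hy a haA
        have h5 : ⁅s * c, a⁆ * (s * c) = (s * c) * ⁅s * c, a⁆ := by
          rw [commutatorElement_eq_one_iff_mul_comm] at h4
          have e : ⁅s * c, a⁆ = ⁅a, s * c⁆⁻¹ := (commutatorElement_inv a (s * c)).symm
          rw [e]
          have hc' : Commute ⁅a, s * c⁆ (s * c) := h4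
          exact hc'.inv_left.eq
        have h6 : ⁅s * c, a⁆ * c = c * ⁅s * c, a⁆ := hcA _ h3
        rw [← e1]
        have h7 : ⁅s * c, a⁆ * c⁻¹ = c⁻¹ * ⁅s * c, a⁆ := by
          have hc' : Commute ⁅s * c, a⁆ c := h6
          exact hc'.inv_right.eq
        calc ⁅s * c, a⁆ * s = ⁅s * c, a⁆ * (s * c) * c⁻¹ := by group
          _ = (s * c) * ⁅s * c, a⁆ * c⁻¹ := by rw [h5]
          _ = (s * c) * (⁅s * c, a⁆ * c⁻¹) := by rw [mul_assoc]
          _ = (s * c) * (c⁻¹ * ⁅s * c, a⁆) := by rw [h7]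
          _ = s * ⁅s * c, a⁆ := by group
    intro d hd
    calc d * (s * c) = (d * s) * c := by rw [mul_assoc]
      _ = (s * d) * c := by rw [hsd d hd]
      _ = s * (d * c) := by rw [mul_assoc]
      _ = s * (c * d) := by rw [hcA d (hDA hd)]
      _ = s * c * d := by rw [mul_assoc]
  have keyA : ∀ y : G, (∀ a ∈ A, ⁅⁅a, y⁆, y⁆ = 1) → ∀ a ∈ A, a * y = y * a := by
    intro y hy
    have hyC : y ∈ Subgroup.centralizer (A : Set G) := by
      rw [hA]
      unfold Subgroup.normalClosure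
      rw [Subgroup.centralizer_closure, Subgroup.mem_centralizer_iff]
      intro u hu
      obtain ⟨d, hd, hconj⟩ := Group.mem_conjugatesOfSet_iff.mp hu
      obtain ⟨g, rfl⟩ := isConj_iff.mp hconj
      have hy' := quadratic_conj hy g⁻¹
      have h1 := keyX _ hy' d hd
      rw [inv_inv] at h1
      calc g * d * g⁻¹ * y = g * (d * (g⁻¹ * y * g)) * g⁻¹ := by group
        _ = g * ((g⁻¹ * y * g) * d) * g⁻¹ := by rw [h1]
        _ = y * (g * d * g⁻¹) := by group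
    intro a ha
    exact (Subgroup.mem_centralizer_iff.mp hyC) a ha
  have hAD : A ≤ D := by
    rw [hD]
    exact le_dStarOf_of (hAQ.trans hQS) hAcomm (fun x _ hquad => keyA x hquad)
  have hDA' : D = A := le_antisymm hDA hAD
  rw [hDA']
  exact hAn

end Cfsg.Agent.Lib.H15
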