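import Mathlib
import Cfsg.Agent.Lib.H15.Conj
import Cfsg.Agent.Lib.H15.PGroup
import Cfsg.Agent.Lib.H15.Card
import Cfsg.Agent.Lib.H15.NormComm
import Cfsg.Agent.Lib.H15.MaxAb
import Cfsg.Agent.Lib.H15.Replacement
import Cfsg.Agent.Lib.H15.DStarNormal

/-!
Glauberman's replacement theorem for abelian subgroups against a class-two subgroup, `p` odd
(helper15's shared library).  Key point: the pairing `(a, b) ↦ [x a x⁻¹, b]` on `A` is symmetric.
-/

set_option autoImplicit false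

namespace Cfsg.Agent.Lib.H15.GR

open Cfsg.Agent.Lib.H15
open scoped commutatorElement

variable {G : Type*} [Group G]

/-- second isomorphism theorem, index form -/
theorem relIndex_sup_eq_of_le_normalizer {H N : Subgroup G}
    (h : H ≤ Subgroup.normalizer (N : Set G)) : N.relIndex (H ⊔ N) = N.relIndex H := by
  haveI := Subgroup.normal_subgroupOf_of_le_normalizer h
  haveI := Subgroup.normal_subgroupOf_sup_of_le_normalizer h
  unfold Subgroup.relIndex Subgroup.index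
  exact (Nat.card_congr (QuotientGroup.quotientInfEquivProdNormalizerQuotient H N h).toEquiv).symm

/-- `|HN| |H ∩ N| = |H| |N|` when `H` normalizes `N`. -/
theorem card_sup_mul_card_inf {H N : Subgroup G} (h : H ≤ Subgroup.normalizer (N : Set G)) :
    Nat.card (H ⊔ N : Subgroup G) * Nat.card (H ⊓ N : Subgroup G) = Nat.card H * Nat.card N := by
  have h1 : Nat.card N * N.relIndex (H ⊔ N) = Nat.card (H ⊔ N : Subgroup G) :=
    card_mul_relIndex le_sup_right
  have h2 : Nat.card (H ⊓ N : Subgroup G) * N.relIndex H = Nat.card H := by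
    rw [← Subgroup.inf_relIndex_left]
    exact card_mul_relIndex inf_le_left
  rw [relIndex_sup_eq_of_le_normalizer h] at h1
  rw [← h1, ← h2]
  ring

/-- `(u v)^n = u^n v^n c^(n(n-1)/2)` when `c = v u v⁻¹ u⁻¹` commutes with `u` and `v`. -/
theorem mul_pow_of_commute {u v : G} (h1 : Commute (v * u * v⁻¹ * u⁻¹) u)
    (h2 : Commute (v * u * v⁻¹ * u⁻¹) v) (n : ℕ) :
    (u * v) ^ n = u ^ n * v ^ n * (v * u * v⁻¹ * u⁻¹) ^ (n * (n - 1) / 2) := by
  set c := v * u * v⁻¹ * u⁻¹ with hcdef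
  have hvu : v * u = c * u * v := by rw [hcdef]; group
  have key : ∀ k : ℕ, v ^ k * u = c ^ k * u * v ^ k := by
    intro k
    induction k with
    | zero => simp
    | succ k ih =>
      calc v ^ (k + 1) * u = v ^ k * (v * u) := by rw [pow_succ, mul_assoc]
        _ = v ^ k * (c * u * v) := by rw [hvu]
        _ = (v ^ k * c) * u * v := by simp only [mul_assoc]
        _ = c * (v ^ k * u) * v := by
            rw [((h2.pow_right k).eq).symm]; simp only [mul_assoc]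
        _ = c * (c ^ k * u * v ^ k) * v := by rw [ih]
        _ = c ^ (k + 1) * u * v ^ (k + 1) := by
            rw [pow_succ' c, pow_succ v]; simp only [mul_assoc]
  induction n with
  | zero => simp
  | succ n ih =>
    have hcu : ∀ k m : ℕ, Commute (c ^ k) (u ^ m) := fun k m => (h1.pow_right m).pow_left k
    have hcv : ∀ k m : ℕ, Commute (c ^ k) (v ^ m) := fun k m => (h2.pow_right m).pow_left k
    rw [Nat.triangle_succ, pow_succ, ih]
    have e1 : c ^ (n * (n - 1) / 2) * (u * v) = (u * v) * c ^ (n * (n - 1) / 2) :=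
      ((h1.mul_right h2).pow_left _).eq
    calc u ^ n * v ^ n * c ^ (n * (n - 1) / 2) * (u * v)
        = u ^ n * v ^ n * (c ^ (n * (n - 1) / 2) * (u * v)) := by simp only [mul_assoc]
      _ = u ^ n * (v ^ n * u) * v * c ^ (n * (n - 1) / 2) := by rw [e1]; simp only [mul_assoc]
      _ = u ^ n * (c ^ n * u * v ^ n) * v * c ^ (n * (n - 1) / 2) := by rw [key n]
      _ = (u ^ n * c ^ n) * u * v ^ n * v * c ^ (n * (n - 1) / 2) := by simp only [mul_assoc]
      _ = (c ^ n * u ^ n) * u * v ^ n * v * c ^ (n * (n - 1) / 2) := by rw [(hcu n n).eq]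
      _ = c ^ n * (u ^ (n + 1) * v ^ (n + 1)) * c ^ (n * (n - 1) / 2) := by
          rw [pow_succ u, pow_succ v]; simp only [mul_assoc]
      _ = (u ^ (n + 1) * v ^ (n + 1)) * c ^ n * c ^ (n * (n - 1) / 2) := by
          rw [((hcu n (n+1)).mul_right (hcv n (n+1))).eq]
      _ = u ^ (n + 1) * v ^ (n + 1) * c ^ (n * (n - 1) / 2 + n) := by
          rw [mul_assoc, ← pow_add, add_comm n (n * (n - 1) / 2)]


/-- The configuration: `A` abelian, `B` of class two with `[B,B] ≤ A`, `A` normalizes `B`, and `x ∈ B`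
does not normalize `A` while `A` and `x A x⁻¹` normalize each other. -/
structure Cfg (p : ℕ) (A B : Subgroup G) (x : G) : Prop where
  hG : IsPGroup p G
  hp2 : p ≠ 2
  hA : IsMulCommutative ↥A
  hB2 : ⁅⁅B, B⁆, B⁆ = ⊥
  hBA : ⁅B, B⁆ ≤ A
  hAB : A ≤ Subgroup.normalizer (B : Set G)
  hxB : x ∈ B
  hxA : x ∉ Subgroup.normalizer (A : Set G)
  h1 : cj x A ≤ Subgroup.normalizer (A : Set G)
  h2 : A ≤ Subgroup.normalizer ((cj x A : Subgroup G) : Set G)

/-- the pairing `[x a x⁻¹, b]` -/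
def pr (x a b : G) : G := (x * a * x⁻¹) * b * (x * a * x⁻¹)⁻¹ * b⁻¹

/-- `u a = a⁻¹ (x a x⁻¹) = [a⁻¹, x]` -/
def uu (x a : G) : G := a⁻¹ * (x * a * x⁻¹)

namespace Cfg

variable {p : ℕ} {A B : Subgroup G} {x : G}

theorem commA (c : Cfg p A B x) {a b : G} (ha : a ∈ A) (hb : b ∈ A) : a * b = b * a := by
  have := c.hA.is_comm.comm ⟨a, ha⟩ ⟨b, hb⟩
  exact congrArg Subtype.val this

theorem conj_mem (_c : Cfg p A B x) {a : G} (ha : a ∈ A) : x * a * x⁻¹ ∈ cj x A := conj_mem_cj ha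

theorem commA' (c : Cfg p A B x) {y z : G} (hy : y ∈ cj x A) (hz : z ∈ cj x A) : y * z = z * y := by
  rw [mem_cj_iff] at hy hz
  have h := c.commA hy hz
  have e1 : y * z = x * ((x⁻¹ * y * x) * (x⁻¹ * z * x)) * x⁻¹ := by group
  have e2 : z * y = x * ((x⁻¹ * z * x) * (x⁻¹ * y * x)) * x⁻¹ := by group
  rw [e1, e2, h]

theorem conjA_mem (c : Cfg p A B x) {y b : G} (hy : y ∈ cj x A) (hb : b ∈ A) : y * b * y⁻¹ ∈ A :=
  (Subgroup.mem_normalizer_iff.mp (c.h1 hy) b).mp hb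

theorem conjA'_mem (c : Cfg p A B x) {y b : G} (hy : y ∈ cj x A) (hb : b ∈ A) :
    b * y * b⁻¹ ∈ cj x A :=
  (Subgroup.mem_normalizer_iff.mp (c.h2 hb) y).mp hy

theorem pr_mem_A (c : Cfg p A B x) {a b : G} (ha : a ∈ A) (hb : b ∈ A) : pr x a b ∈ A := by
  unfold pr
  exact mul_mem (c.conjA_mem (c.conj_mem ha) hb) (inv_mem hb)

theorem pr_mem_A' (c : Cfg p A B x) {a b : G} (ha : a ∈ A) (hb : b ∈ A) : pr x a b ∈ cj x A := by
  have e : pr x a b = (x * a * x⁻¹) * (b * (x * a * x⁻¹)⁻¹ * b⁻¹) := by unfold pr; group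
  rw [e]
  exact mul_mem (c.conj_mem ha) (c.conjA'_mem (inv_mem (c.conj_mem ha)) hb)

/-- elements of `A ∩ x A x⁻¹` commute with `A` and with `x A x⁻¹` -/
theorem pr_comm_A (c : Cfg p A B x) {a b d : G} (ha : a ∈ A) (hb : b ∈ A) (hd : d ∈ A) :
    pr x a b * d = d * pr x a b := c.commA (c.pr_mem_A ha hb) hd

theorem pr_comm_A' (c : Cfg p A B x) {a b y : G} (ha : a ∈ A) (hb : b ∈ A) (hy : y ∈ cj x A) :
    pr x a b * y = y * pr x a b := c.commA' (c.pr_mem_A' ha hb) hy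

theorem pr_inv_right (c : Cfg p A B x) {a b : G} (ha : a ∈ A) (hb : b ∈ A) :
    pr x a b⁻¹ = (pr x a b)⁻¹ := by
  have e : pr x a b⁻¹ = b⁻¹ * (pr x a b)⁻¹ * b := by unfold pr; group
  have hc : (pr x a b)⁻¹ * b = b * (pr x a b)⁻¹ := c.commA (inv_mem (c.pr_mem_A ha hb)) hb
  rw [e, mul_assoc, hc]; group

theorem pr_inv_left (c : Cfg p A B x) {a b : G} (ha : a ∈ A) (hb : b ∈ A) :
    pr x a⁻¹ b = (pr x a b)⁻¹ := by
  have e : pr x a⁻¹ b = (x * a * x⁻¹)⁻¹ * (pr x a b)⁻¹ * (x * a * x⁻¹) := by unfold pr; group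
  have hc : (pr x a b)⁻¹ * (x * a * x⁻¹) = (x * a * x⁻¹) * (pr x a b)⁻¹ :=
    c.commA' (inv_mem (c.pr_mem_A' ha hb)) (c.conj_mem ha)
  rw [e, mul_assoc, hc]; group

/-- `D = [B,B]` -/
theorem D_le_A' (c : Cfg p A B x) : ⁅B, B⁆ ≤ cj x A := by
  intro d hd
  rw [mem_cj_iff]
  apply c.hBA
  have hN : B ≤ Subgroup.normalizer ((⁅B, B⁆ : Subgroup G) : Set G) :=
    le_normalizer_commutator Subgroup.le_normalizer Subgroup.le_normalizer
  have := (Subgroup.mem_normalizer_iff.mp (hN (inv_mem c.hxB)) d).mp hd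
  simpa using this

theorem D_comm_B (c : Cfg p A B x) {d b : G} (hd : d ∈ ⁅B, B⁆) (hb : b ∈ B) : d * b = b * d := by
  have h := Subgroup.commutator_eq_bot_iff_le_centralizer.mp c.hB2
  have := Subgroup.mem_centralizer_iff.mp (h hd) b hb
  exact this.symm

theorem D_comm_A (c : Cfg p A B x) {d b : G} (hd : d ∈ ⁅B, B⁆) (hb : b ∈ A) : d * b = b * d :=
  c.commA (c.hBA hd) hb

theorem D_comm_A' (c : Cfg p A B x) {d y : G} (hd : d ∈ ⁅B, B⁆) (hy : y ∈ cj x A) : d * y = y * d :=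
  c.commA' (c.D_le_A' hd) hy

theorem uu_mem_B (c : Cfg p A B x) {a : G} (ha : a ∈ A) : uu x a ∈ B := by
  have e : uu x a = (a⁻¹ * x * a⁻¹⁻¹) * x⁻¹ := by unfold uu; group
  rw [e]
  exact mul_mem ((Subgroup.mem_normalizer_iff.mp (c.hAB (inv_mem ha)) x).mp c.hxB) (inv_mem c.hxB)

theorem uu_mem_normalizer (c : Cfg p A B x) {a : G} (ha : a ∈ A) :
    uu x a ∈ Subgroup.normalizer (A : Set G) :=
  mul_mem (Subgroup.le_normalizer (inv_mem ha)) (c.h1 (c.conj_mem ha))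


/-- conjugating the pairing by `x` swaps its arguments -/
theorem conj_pr (c : Cfg p A B x) {a b : G} (ha : a ∈ A) (hb : b ∈ A) :
    x * pr x a b * x⁻¹ = pr x b a := by
  set a' := x * a * x⁻¹ with ha'
  set b' := x * b * x⁻¹ with hb'
  have ha'm : a' ∈ cj x A := c.conj_mem ha
  have hb'm : b' ∈ cj x A := c.conj_mem hb
  -- w = [u⁻¹, x] with u = a⁻¹ a'
  set w := (uu x a)⁻¹ * x * (uu x a) * x⁻¹ with hw
  have hwD : w ∈ ⁅B, B⁆ := by
    have : w = ⁅(uu x a)⁻¹, x⁆ := by rw [commutatorElement_def, hw]; group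
    rw [this]
    exact Subgroup.commutator_mem_commutator (inv_mem (c.uu_mem_B ha)) c.hxB
  have e1 : x * a' * x⁻¹ = a' * a⁻¹ * a' * w := by
    rw [hw]; unfold uu; rw [ha']; group
  have e0 : x * pr x a b * x⁻¹ = (x * a' * x⁻¹) * b' * (x * a' * x⁻¹)⁻¹ * b'⁻¹ := by
    unfold pr; rw [← ha', hb']; group
  have hwb : w * b' = b' * w := c.D_comm_A' hwD hb'm
  have hab : a' * b' = b' * a' := c.commA' ha'm hb'm
  -- t = pr x b a
  have ht : pr x b a = b' * a * b'⁻¹ * a⁻¹ := by unfold pr; rw [← hb']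
  have hta' : pr x b a * a' = a' * pr x b a := c.pr_comm_A' hb ha ha'm
  have hta : pr x b a * a = a * pr x b a := c.pr_comm_A hb ha ha
  have e2 : a⁻¹ * b' * a = pr x b a * b' := by
    have : a⁻¹ * b' * a = a⁻¹ * (pr x b a * a) * b' := by rw [ht]; group
    rw [this, hta]; group
  calc x * pr x a b * x⁻¹ = (a' * a⁻¹ * a' * w) * b' * (a' * a⁻¹ * a' * w)⁻¹ * b'⁻¹ := by
        rw [e0, e1]
    _ = a' * a⁻¹ * a' * (w * b') * w⁻¹ * a'⁻¹ * a * a'⁻¹ * b'⁻¹ := by group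
    _ = a' * a⁻¹ * (a' * b') * a'⁻¹ * a * a'⁻¹ * b'⁻¹ := by rw [hwb]; group
    _ = a' * (a⁻¹ * b' * a) * a'⁻¹ * b'⁻¹ := by rw [hab]; group
    _ = a' * (pr x b a * b') * a'⁻¹ * b'⁻¹ := by rw [e2]
    _ = (a' * pr x b a) * (b' * a'⁻¹) * b'⁻¹ := by group
    _ = (pr x b a * a') * (a'⁻¹ * b') * b'⁻¹ := by
        rw [hta']
        have : b' * a'⁻¹ = a'⁻¹ * b' := by
          have := hab
          calc b' * a'⁻¹ = a'⁻¹ * (a' * b') * a'⁻¹ := by group
            _ = a'⁻¹ * (b' * a') * a'⁻¹ := by rw [hab]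
            _ = a'⁻¹ * b' := by group
        rw [this]
    _ = pr x b a := by group

theorem orderOf_odd (c : Cfg p A B x) [hp : Fact p.Prime] (g : G) : Odd (orderOf g) := by
  obtain ⟨k, hk⟩ := c.hG g
  have hdvd : orderOf g ∣ p ^ k := orderOf_dvd_of_pow_eq_one hk
  have hodd : Odd p := hp.out.eq_two_or_odd'.resolve_left c.hp2
  exact Odd.of_dvd_nat (hodd.pow) hdvd

/-- the pairing is symmetric -/
theorem pr_symm (c : Cfg p A B x) [hp : Fact p.Prime] {a b : G} (ha : a ∈ A) (hb : b ∈ A) :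
    pr x a b = pr x b a := by
  have h1 := c.conj_pr ha hb
  have h2 := c.conj_pr hb ha
  have hx2 : Commute (x * x) (pr x a b) := by
    have : (x * x) * pr x a b * (x * x)⁻¹ = pr x a b := by
      calc (x * x) * pr x a b * (x * x)⁻¹ = x * (x * pr x a b * x⁻¹) * x⁻¹ := by group
        _ = pr x a b := by rw [h1, h2]
    have : (x * x) * pr x a b = pr x a b * (x * x) := by
      calc (x * x) * pr x a b = ((x * x) * pr x a b * (x * x)⁻¹) * (x * x) := by group
        _ = pr x a b * (x * x) := by rw [this]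
    exact this
  obtain ⟨k, hk⟩ := c.orderOf_odd x
  have hxk : (x * x) ^ (k + 1) = x := by
    rw [← pow_two, ← pow_mul]
    have : 2 * (k + 1) = orderOf x + 1 := by omega
    rw [this, pow_succ, pow_orderOf_eq_one, one_mul]
  have hcx : Commute x (pr x a b) := by
    have := hx2.pow_left (k + 1)
    rwa [hxk] at this
  calc pr x a b = x * pr x a b * x⁻¹ := by rw [hcx.eq]; group
    _ = pr x b a := h1

theorem uu_comm (c : Cfg p A B x) [hp : Fact p.Prime] {a b : G} (ha : a ∈ A) (hb : b ∈ A) :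
    uu x a * uu x b = uu x b * uu x a := by
  set a' := x * a * x⁻¹ with ha'
  set b' := x * b * x⁻¹ with hb'
  have ha'm : a' ∈ cj x A := c.conj_mem ha
  have hb'm : b' ∈ cj x A := c.conj_mem hb
  have hs : pr x a b⁻¹ = (pr x a b)⁻¹ := c.pr_inv_right ha hb
  have hs' : pr x b a⁻¹ = (pr x a b)⁻¹ := by rw [c.pr_inv_right hb ha, c.pr_symm hb ha]
  have e1 : a' * b⁻¹ = pr x a b⁻¹ * b⁻¹ * a' := by unfold pr; rw [← ha']; group
  have e2 : b' * a⁻¹ = pr x b a⁻¹ * a⁻¹ * b' := by unfold pr; rw [← hb']; group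
  have hz1 : (pr x a b)⁻¹ * a⁻¹ = a⁻¹ * (pr x a b)⁻¹ :=
    c.commA (inv_mem (c.pr_mem_A ha hb)) (inv_mem ha)
  have hz2 : (pr x a b)⁻¹ * b⁻¹ = b⁻¹ * (pr x a b)⁻¹ :=
    c.commA (inv_mem (c.pr_mem_A ha hb)) (inv_mem hb)
  have hab : a⁻¹ * b⁻¹ = b⁻¹ * a⁻¹ := c.commA (inv_mem ha) (inv_mem hb)
  have hab' : a' * b' = b' * a' := c.commA' ha'm hb'm
  calc uu x a * uu x b = a⁻¹ * (a' * b⁻¹) * b' := by unfold uu; rw [← ha', ← hb']; group
    _ = a⁻¹ * ((pr x a b)⁻¹ * b⁻¹ * a') * b' := by rw [e1, hs]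
    _ = (a⁻¹ * (pr x a b)⁻¹) * b⁻¹ * (a' * b') := by group
    _ = ((pr x a b)⁻¹ * a⁻¹) * b⁻¹ * (b' * a') := by rw [hz1, hab']
    _ = (pr x a b)⁻¹ * (a⁻¹ * b⁻¹) * b' * a' := by group
    _ = (pr x a b)⁻¹ * (b⁻¹ * a⁻¹) * b' * a' := by rw [hab]
    _ = ((pr x a b)⁻¹ * b⁻¹) * a⁻¹ * b' * a' := by group
    _ = (b⁻¹ * (pr x a b)⁻¹) * a⁻¹ * b' * a' := by rw [hz2]
    _ = b⁻¹ * ((pr x a b)⁻¹ * a⁻¹ * b') * a' := by group
    _ = b⁻¹ * (b' * a⁻¹) * a' := by rw [e2, hs']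
    _ = uu x b * uu x a := by unfold uu; rw [← ha', ← hb']; group

/-- `A₁ = A ∩ x⁻¹ A x` -/
theorem mem_A1_iff {b : G} : b ∈ A ⊓ cj x⁻¹ A ↔ b ∈ A ∧ x * b * x⁻¹ ∈ A := by
  rw [Subgroup.mem_inf, mem_cj_iff, inv_inv]

theorem A1_comm_uu (c : Cfg p A B x) [hp : Fact p.Prime] {a b : G} (ha : a ∈ A)
    (hb : b ∈ A ⊓ cj x⁻¹ A) : b * uu x a = uu x a * b := by
  obtain ⟨hbA, hb'⟩ := mem_A1_iff.mp hb
  have h1 : pr x a b = 1 := by
    rw [c.pr_symm ha hbA]
    unfold pr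
    have := c.commA hb' ha
    calc x * b * x⁻¹ * a * (x * b * x⁻¹)⁻¹ * a⁻¹ = (x * b * x⁻¹ * a) * (x * b * x⁻¹)⁻¹ * a⁻¹ := by group
      _ = (a * (x * b * x⁻¹)) * (x * b * x⁻¹)⁻¹ * a⁻¹ := by rw [this]
      _ = 1 := by group
  have h2 : (x * a * x⁻¹) * b = b * (x * a * x⁻¹) := by
    have : (x * a * x⁻¹) * b = pr x a b * b * (x * a * x⁻¹) := by unfold pr; group
    rw [this, h1, one_mul]
  have h3 : b * a⁻¹ = a⁻¹ * b := c.commA hbA (inv_mem ha)
  unfold uu
  calc b * (a⁻¹ * (x * a * x⁻¹)) = (b * a⁻¹) * (x * a * x⁻¹) := by group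
    _ = a⁻¹ * (b * (x * a * x⁻¹)) := by rw [h3]; group
    _ = a⁻¹ * (x * a * x⁻¹) * b := by rw [← h2]; group


end Cfg

/-- `M_E = ⟨[a⁻¹, x] : a ∈ E⟩` -/
def MM (x : G) (E : Subgroup G) : Subgroup G := Subgroup.closure ((uu x) '' (E : Set G))

/-- the replacement `(E ∩ x⁻¹ A x) M_E` -/
def RR (x : G) (A E : Subgroup G) : Subgroup G := (E ⊓ cj x⁻¹ A) ⊔ MM x E

theorem uu_mem_MM {x : G} {E : Subgroup G} {a : G} (ha : a ∈ E) : uu x a ∈ MM x E :=
  Subgroup.subset_closure ⟨a, ha, rfl⟩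

theorem MM_le {x : G} {E K : Subgroup G} (h : ∀ a ∈ E, uu x a ∈ K) : MM x E ≤ K := by
  unfold MM
  rw [Subgroup.closure_le]
  rintro _ ⟨a, ha, rfl⟩
  exact h a ha

theorem MM_mono {x : G} {E F : Subgroup G} (h : E ≤ F) : MM x E ≤ MM x F :=
  MM_le (fun _ ha => uu_mem_MM (h ha))

namespace Cfg

variable {p : ℕ} {A B : Subgroup G} {x : G}

theorem MM_le_B (c : Cfg p A B x) {E : Subgroup G} (hE : E ≤ A) : MM x E ≤ B :=
  MM_le (fun _ ha => c.uu_mem_B (hE ha))

theorem MM_le_normalizer (c : Cfg p A B x) {E : Subgroup G} (hE : E ≤ A) :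
    MM x E ≤ Subgroup.normalizer (A : Set G) :=
  MM_le (fun _ ha => c.uu_mem_normalizer (hE ha))

theorem MM_le_centralizer (c : Cfg p A B x) [Fact p.Prime] {E : Subgroup G} (hE : E ≤ A) :
    MM x E ≤ Subgroup.centralizer ((MM x E : Subgroup G) : Set G) := by
  unfold MM
  rw [Subgroup.centralizer_closure, Subgroup.closure_le]
  rintro _ ⟨a, ha, rfl⟩
  rw [SetLike.mem_coe, Subgroup.mem_centralizer_iff]
  rintro _ ⟨b, hb, rfl⟩
  exact c.uu_comm (hE hb) (hE ha)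

theorem MM_comm (c : Cfg p A B x) [Fact p.Prime] {E : Subgroup G} (hE : E ≤ A) :
    IsMulCommutative ↥(MM x E) :=
  Subgroup.le_centralizer_iff_isMulCommutative.mp (c.MM_le_centralizer hE)

theorem A1_le_centralizer_MM (c : Cfg p A B x) [Fact p.Prime] {E : Subgroup G} (hE : E ≤ A) :
    A ⊓ cj x⁻¹ A ≤ Subgroup.centralizer ((MM x E : Subgroup G) : Set G) := by
  unfold MM
  rw [Subgroup.centralizer_closure]
  intro b hb
  rw [Subgroup.mem_centralizer_iff]
  rintro _ ⟨a, ha, rfl⟩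
  exact (c.A1_comm_uu (hE ha) hb).symm

theorem RR_comm (c : Cfg p A B x) [Fact p.Prime] {E : Subgroup G} (hE : E ≤ A) :
    IsMulCommutative ↥(RR x A E) := by
  unfold RR
  refine isMulCommutative_sup (isMulCommutative_of_le c.hA (inf_le_left.trans hE)) (c.MM_comm hE) ?_
  exact (inf_le_inf_right _ hE).trans (c.A1_le_centralizer_MM hE)

theorem RR_mono (_c : Cfg p A B x) {E : Subgroup G} (hE : E ≤ A) : RR x A E ≤ RR x A A :=
  sup_le_sup (inf_le_inf_right _ hE) (MM_mono hE)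

theorem conj_mem_A_of_mem_B (c : Cfg p A B x) {m : G} (hmA : m ∈ A) (hmB : m ∈ B) :
    x * m * x⁻¹ ∈ A := by
  have e : x * m * x⁻¹ = ⁅x, m⁆ * m := by rw [commutatorElement_def]; group
  rw [e]
  exact mul_mem (c.hBA (Subgroup.commutator_mem_commutator c.hxB hmB)) hmA

theorem sup_eq (_c : Cfg p A B x) (E : Subgroup G) : E ⊔ cj x E = MM x E ⊔ E := by
  apply le_antisymm
  · refine sup_le le_sup_right ?_
    intro y hy
    rw [mem_cj_iff] at hy
    have e : y = (x⁻¹ * y * x) * uu x (x⁻¹ * y * x) := by unfold uu; group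
    rw [e]
    exact mul_mem (Subgroup.mem_sup_right hy) (Subgroup.mem_sup_left (uu_mem_MM hy))
  · refine sup_le ?_ le_sup_left
    refine MM_le (fun a ha => ?_)
    unfold uu
    exact mul_mem (Subgroup.mem_sup_left (inv_mem ha)) (Subgroup.mem_sup_right (conj_mem_cj ha))

/-- the replacement of `E` has the same order as `E` -/
theorem card_RR (c : Cfg p A B x) [Fact p.Prime] [Finite G] {E : Subgroup G} (hE : E ≤ A)
    (ha : E ≤ Subgroup.normalizer ((cj x E : Subgroup G) : Set G))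
    (hb : ∀ a ∈ E, uu x a ∈ Subgroup.normalizer (E : Set G))
    (hc : cj x E ⊓ A ≤ E) : Nat.card (RR x A E) = Nat.card E := by
  have C4 := card_sup_mul_card_inf (H := E ⊓ cj x⁻¹ A) (N := MM x E)
    (((inf_le_inf_right _ hE).trans (c.A1_le_centralizer_MM hE)).trans
      (Subgroup.centralizer_le_normalizer _))
  have C3 := card_sup_mul_card_inf ha
  have CM := card_sup_mul_card_inf (H := MM x E) (N := E) (MM_le hb)
  have C1 := c.sup_eq E
  have C5 : (E ⊓ cj x⁻¹ A) ⊓ MM x E = MM x E ⊓ E := by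
    apply le_antisymm
    · exact le_inf inf_le_right (inf_le_left.trans inf_le_left)
    · intro m hm
      obtain ⟨hmM, hmE⟩ := Subgroup.mem_inf.mp hm
      refine Subgroup.mem_inf.mpr ⟨Subgroup.mem_inf.mpr ⟨hmE, ?_⟩, hmM⟩
      rw [mem_cj_iff, inv_inv]
      exact c.conj_mem_A_of_mem_B (hE hmE) (c.MM_le_B hE hmM)
  have C6 : cj x (E ⊓ cj x⁻¹ A) = E ⊓ cj x E := by
    ext y
    rw [mem_cj_iff, Subgroup.mem_inf, mem_cj_iff, Subgroup.mem_inf, mem_cj_iff, inv_inv]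
    have e : x * (x⁻¹ * y * x) * x⁻¹ = y := by group
    rw [e]
    constructor
    · rintro ⟨h1, h2⟩
      refine ⟨hc (Subgroup.mem_inf.mpr ⟨?_, h2⟩), h1⟩
      rw [mem_cj_iff]; exact h1
    · rintro ⟨h1, h2⟩
      exact ⟨h2, hE h1⟩
  have hz : Nat.card (E ⊓ cj x⁻¹ A : Subgroup G) = Nat.card (E ⊓ cj x E : Subgroup G) := by
    rw [← C6, card_cj]
  rw [card_cj] at C3
  rw [← C1] at CM
  rw [C5] at C4
  unfold RR
  rw [hz] at C4
  set t := Nat.card ((E ⊓ cj x⁻¹ A) ⊔ MM x E : Subgroup G)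
  set i := Nat.card (MM x E ⊓ E : Subgroup G)
  set z := Nat.card (E ⊓ cj x E : Subgroup G)
  set m := Nat.card (MM x E)
  set s := Nat.card (E ⊔ cj x E : Subgroup G)
  set ε := Nat.card E
  have hi : 0 < i := Nat.card_pos
  have hs : 0 < s := Nat.card_pos
  have key : t * (i * s) = ε * (i * s) := by
    calc t * (i * s) = (t * i) * s := by ring
      _ = z * m * s := by rw [C4]
      _ = m * (s * z) := by ring
      _ = m * (ε * ε) := by rw [C3]
      _ = ε * (m * ε) := by ring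
      _ = ε * (s * i) := by rw [CM]
      _ = ε * (i * s) := by ring
  exact Nat.eq_of_mul_eq_mul_right (Nat.mul_pos hi hs) key


theorem uu_pow_eq_one (c : Cfg p A B x) {a : G} (ha : a ∈ A) {n : ℕ} (hn : Odd n)
    (han : a ^ n = 1) : (uu x a) ^ n = 1 := by
  set a' := x * a * x⁻¹ with ha'
  have ha'm : a' ∈ cj x A := c.conj_mem ha
  have hcc : a' * a⁻¹ * a'⁻¹ * a⁻¹⁻¹ = pr x a a⁻¹ := by unfold pr; rw [← ha']
  have h1 : Commute (a' * a⁻¹ * a'⁻¹ * a⁻¹⁻¹) a⁻¹ := by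
    rw [hcc]; exact c.pr_comm_A ha (inv_mem ha) (inv_mem ha)
  have h2 : Commute (a' * a⁻¹ * a'⁻¹ * a⁻¹⁻¹) a' := by
    rw [hcc]; exact c.pr_comm_A' ha (inv_mem ha) ha'm
  have hpow := mul_pow_of_commute h1 h2 n
  have hu : (a⁻¹) ^ n = 1 := by rw [inv_pow, han, inv_one]
  have hv : a' ^ n = 1 := by rw [ha', conj_pow, han]; group
  have hcn : (a' * a⁻¹ * a'⁻¹ * a⁻¹⁻¹) ^ n = 1 := by
    have hbr : ⁅a', a⁻¹⁆ = a' * a⁻¹ * a'⁻¹ * a⁻¹⁻¹ := commutatorElement_def _ _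
    have := commutatorElement_zpow_right (a := a') (x := a⁻¹) (by rw [hbr]; exact h1.eq) (n : ℤ)
    rw [zpow_natCast, zpow_natCast, hu, hbr] at this
    rw [← this, commutatorElement_def]; group
  obtain ⟨k, hk⟩ := hn
  have hT : n * (n - 1) / 2 = n * k := by
    have : n - 1 = 2 * k := by omega
    rw [this, ← mul_assoc, mul_comm n 2, mul_assoc, Nat.mul_div_cancel_left _ two_pos]
  unfold uu
  rw [← ha', hpow, hu, hv, hT, pow_mul, hcn, one_pow, one_mul, one_mul]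

theorem RR_pow_eq_one (c : Cfg p A B x) [Fact p.Prime] {n : ℕ} (hn : Odd n)
    (han : ∀ a ∈ A, a ^ n = 1) : ∀ y ∈ RR x A A, y ^ n = 1 := by
  have hcomm := c.RR_comm le_rfl
  have hRR : RR x A A = Subgroup.closure (((A ⊓ cj x⁻¹ A : Subgroup G) : Set G) ∪ (uu x) '' (A : Set G)) := by
    unfold RR MM
    rw [Subgroup.closure_union, Subgroup.closure_eq]
  have hgen : ∀ g ∈ ((A ⊓ cj x⁻¹ A : Subgroup G) : Set G) ∪ (uu x) '' (A : Set G), g ^ n = 1 := by
    rintro g (hg | ⟨a, ha, rfl⟩)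
    · exact han g (Subgroup.mem_inf.mp hg).1
    · exact c.uu_pow_eq_one ha hn (han a ha)
  intro y hy
  have key : y ∈ RR x A A ∧ y ^ n = 1 := by
    have hy' := hy
    rw [hRR] at hy'
    refine Subgroup.closure_induction (p := fun y _ => y ∈ RR x A A ∧ y ^ n = 1) ?_ ?_ ?_ ?_ hy'
    · intro g hg
      refine ⟨?_, hgen g hg⟩
      rw [hRR]; exact Subgroup.subset_closure hg
    · exact ⟨one_mem _, one_pow _⟩
    · rintro g h _ _ ⟨hg1, hg2⟩ ⟨hh1, hh2⟩
      refine ⟨mul_mem hg1 hh1, ?_⟩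
      have hc : Commute g h := by
        have := hcomm.is_comm.comm ⟨g, hg1⟩ ⟨h, hh1⟩
        exact congrArg Subtype.val this
      rw [hc.mul_pow, hg2, hh2, one_mul]
    · rintro g _ ⟨hg1, hg2⟩
      exact ⟨inv_mem hg1, by rw [inv_pow, hg2, inv_one]⟩
  exact key.2

/-- membership in `Ω₁` of an abelian subgroup -/
theorem mem_omegaOne_iff {K : Subgroup G} (hK : IsMulCommutative ↥K) {y : G} :
    y ∈ Cfsg.omegaOne p K ↔ y ∈ K ∧ y ^ p = 1 := by
  constructor
  · intro hy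
    unfold Cfsg.omegaOne at hy
    refine Subgroup.closure_induction (p := fun y _ => y ∈ K ∧ y ^ p = 1) ?_ ?_ ?_ ?_ hy
    · intro g hg; exact hg
    · exact ⟨one_mem _, one_pow _⟩
    · rintro g h _ _ ⟨hg1, hg2⟩ ⟨hh1, hh2⟩
      refine ⟨mul_mem hg1 hh1, ?_⟩
      have hc : Commute g h := by
        have := hK.is_comm.comm ⟨g, hg1⟩ ⟨h, hh1⟩
        exact congrArg Subtype.val this
      rw [hc.mul_pow, hg2, hh2, one_mul]
    · rintro g _ ⟨hg1, hg2⟩
      exact ⟨inv_mem hg1, by rw [inv_pow, hg2, inv_one]⟩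
  · intro hy
    exact Subgroup.subset_closure hy

theorem card_omega_le (c : Cfg p A B x) [hp : Fact p.Prime] [Finite G] :
    Nat.card (Cfsg.omegaOne p A) ≤ Nat.card (Cfsg.omegaOne p (RR x A A)) := by
  set E := Cfsg.omegaOne p A with hE
  have hmem : ∀ {y : G}, y ∈ E ↔ y ∈ A ∧ y ^ p = 1 := fun {y} => mem_omegaOne_iff c.hA
  have hEA : E ≤ A := fun y hy => (hmem.mp hy).1
  have hodd : Odd p := hp.out.eq_two_or_odd'.resolve_left c.hp2
  have hmem' : ∀ {y : G}, y ∈ cj x E ↔ y ∈ cj x A ∧ y ^ p = 1 := by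
    intro y
    rw [mem_cj_iff, hmem, mem_cj_iff]
    have : (x⁻¹ * y * x) ^ p = 1 ↔ y ^ p = 1 := by
      have e : (x⁻¹ * y * x) ^ p = x⁻¹ * y ^ p * x := by
        have := conj_pow (a := x⁻¹) (b := y) (i := p)
        rw [inv_inv] at this
        exact this
      rw [e]
      constructor
      · intro h
        have : y ^ p = x * (x⁻¹ * y ^ p * x) * x⁻¹ := by group
        rw [this, h]; group
      · intro h; rw [h]; group
    rw [this]
  have conj_pow_one : ∀ (g y : G), y ^ p = 1 → (g * y * g⁻¹) ^ p = 1 := by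
    intro g y hy
    rw [conj_pow, hy]; group
  have ha : E ≤ Subgroup.normalizer ((cj x E : Subgroup G) : Set G) := by
    intro e he
    apply mem_normalizer_of_cj_le
    intro y hy
    rw [mem_cj_iff] at hy
    obtain ⟨hy1, hy2⟩ := hmem'.mp hy
    have : y = e * (e⁻¹ * y * e) * e⁻¹ := by group
    rw [this]
    refine hmem'.mpr ⟨c.conjA'_mem hy1 (hEA he), conj_pow_one _ _ hy2⟩
  have hb : ∀ a ∈ E, uu x a ∈ Subgroup.normalizer (E : Set G) := by
    intro a haE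
    apply mem_normalizer_of_cj_le
    intro y hy
    rw [mem_cj_iff] at hy
    obtain ⟨hy1, hy2⟩ := hmem.mp hy
    have : y = uu x a * ((uu x a)⁻¹ * y * uu x a) * (uu x a)⁻¹ := by group
    rw [this]
    refine hmem.mpr ⟨?_, conj_pow_one _ _ hy2⟩
    exact (Subgroup.mem_normalizer_iff.mp (c.uu_mem_normalizer (hEA haE)) _).mp hy1
  have hc : cj x E ⊓ A ≤ E := by
    intro y hy
    obtain ⟨h1, h2⟩ := Subgroup.mem_inf.mp hy
    exact hmem.mpr ⟨h2, (hmem'.mp h1).2⟩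
  have hcard := c.card_RR hEA ha hb hc
  rw [← hcard]
  apply Subgroup.card_le_of_le
  unfold RR
  apply sup_le
  · intro e he
    obtain ⟨he1, he2⟩ := Subgroup.mem_inf.mp he
    exact Subgroup.subset_closure ⟨Subgroup.mem_sup_left (Subgroup.mem_inf.mpr ⟨hEA he1, he2⟩),
      (hmem.mp he1).2⟩
  · apply MM_le
    intro a haE
    refine Subgroup.subset_closure ⟨Subgroup.mem_sup_right (uu_mem_MM (hEA haE)), ?_⟩
    exact c.uu_pow_eq_one (hEA haE) hodd (hmem.mp haE).2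

end Cfg

/-- **Glauberman's replacement theorem** (class two, `p` odd). -/
theorem main [Finite G] {p : ℕ} [hp : Fact p.Prime] (hp2 : p ≠ 2) (hG : IsPGroup p G)
    (A B : Subgroup G) (hA : IsMulCommutative A) (hB2 : ⁅⁅B, B⁆, B⁆ = ⊥) (hBA : ⁅B, B⁆ ≤ A)
    (hAB : A ≤ Subgroup.normalizer (B : Set G)) (hBnA : ¬ B ≤ Subgroup.normalizer (A : Set G)) :
    ∃ Astar : Subgroup G, IsMulCommutative Astar ∧ Nat.card Astar = Nat.card A ∧
      A ⊓ B < Astar ⊓ B ∧ Astar ≤ Subgroup.normalizer (A : Set G) ∧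
      Astar ≤ Subgroup.normalClosure (A : Set G) ∧
      Monoid.exponent Astar ∣ Monoid.exponent A ∧
      Nat.card (Cfsg.omegaOne p A) ≤ Nat.card (Cfsg.omegaOne p Astar) := by
  haveI : Group.IsNilpotent G := hG.isNilpotent
  obtain ⟨x, hxB, hxA, h1, h2⟩ := exists_conj_mutually_normalizing hAB hBnA
  have c : Cfg p A B x := ⟨hG, hp2, hA, hB2, hBA, hAB, hxB, hxA, h1, h2⟩
  refine ⟨RR x A A, c.RR_comm le_rfl,
    c.card_RR le_rfl c.h2 (fun a ha => c.uu_mem_normalizer ha) inf_le_right, ?_, ?_, ?_, ?_,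
    c.card_omega_le⟩
  · -- strict growth of the intersection with `B`
    have hle : A ⊓ B ≤ RR x A A ⊓ B := by
      intro a ha
      obtain ⟨haA, haB⟩ := Subgroup.mem_inf.mp ha
      refine Subgroup.mem_inf.mpr ⟨?_, haB⟩
      exact Subgroup.mem_sup_left (Cfg.mem_A1_iff.mpr ⟨haA, c.conj_mem_A_of_mem_B haA haB⟩)
    obtain ⟨a, haA, hxa⟩ : ∃ a ∈ A, x * a * x⁻¹ ∉ A := by
      by_contra hcon
      push Not at hcon
      apply hxA
      apply mem_normalizer_of_cj_le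
      intro y hy
      rw [mem_cj_iff] at hy
      have := hcon _ hy
      have e : x * (x⁻¹ * y * x) * x⁻¹ = y := by group
      rwa [e] at this
    refine lt_of_le_of_ne hle ?_
    intro heq
    have hu : uu x a ∈ RR x A A ⊓ B :=
      Subgroup.mem_inf.mpr ⟨Subgroup.mem_sup_right (uu_mem_MM haA), c.uu_mem_B haA⟩
    rw [← heq] at hu
    apply hxa
    have e : x * a * x⁻¹ = a * uu x a := by unfold uu; group
    rw [e]
    exact mul_mem haA (Subgroup.mem_inf.mp hu).1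
  · exact sup_le (inf_le_left.trans Subgroup.le_normalizer) (c.MM_le_normalizer le_rfl)
  · refine sup_le (inf_le_left.trans Subgroup.le_normalClosure) (MM_le (fun a ha => ?_))
    unfold uu
    have haN : a ∈ Subgroup.normalClosure (A : Set G) := Subgroup.le_normalClosure ha
    exact mul_mem (inv_mem haN) (Subgroup.normalClosure_normal.conj_mem a haN x)
  · -- exponent
    apply Monoid.exponent_dvd_of_forall_pow_eq_one
    have hodd : Odd (Monoid.exponent ↥A) := by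
      obtain ⟨k, hk⟩ := (hG.to_subgroup A).exists_card_eq
      have hdvd : Monoid.exponent ↥A ∣ p ^ k := hk ▸ Group.exponent_dvd_nat_card
      have hoddp : Odd p := hp.out.eq_two_or_odd'.resolve_left hp2
      exact Odd.of_dvd_nat (hoddp.pow) hdvd
    have han : ∀ a ∈ A, a ^ Monoid.exponent ↥A = 1 := by
      intro a ha
      have := Monoid.pow_exponent_eq_one (⟨a, ha⟩ : ↥A)
      exact congrArg Subtype.val this
    intro g
    have := c.RR_pow_eq_one hodd han g.1 g.2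
    exact Subtype.ext this

end Cfsg.Agent.Lib.H15.GR
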