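import Mathlib
import Cfsg.Agent.Lib.H15.Conj
import Cfsg.Agent.Lib.H15.NormComm

/-!
Basic facts about subgroups `K = [K, J]` generated by their elements of odd order, with `J` a
`2`-group (the `J(T)`-component set-up; helper15's shared library).
-/

set_option autoImplicit false

namespace Cfsg.Agent.Lib.H15

open scoped commutatorElement

variable {G : Type*} [Group G]

/-- An element of odd order of `K ⊔ J`, where the `2`-group `J` normalizes `K`, lies in `K`. -/
theorem mem_of_odd_of_mem_sup {K J : Subgroup G} (hJ : IsPGroup 2 ↥J)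
    (hJK : J ≤ Subgroup.normalizer (K : Set G)) {g : G} (hg : g ∈ K ⊔ J) (hodd : Odd (orderOf g)) :
    g ∈ K := by
  set N := Subgroup.normalizer (K : Set G) with hN
  have hKN : K ≤ N := Subgroup.le_normalizer
  have hnorm : (K.subgroupOf N).Normal := Subgroup.normal_in_normalizer
  have h := Subgroup.coe_mul_of_right_le_normalizer_left K J hJK
  have hg' : g ∈ ((K ⊔ J : Subgroup G) : Set G) := hg
  rw [h] at hg'
  obtain ⟨k, hk, j, hj, rfl⟩ := hg'
  let π := QuotientGroup.mk' (K.subgroupOf N)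
  let k' : N := ⟨k, hKN hk⟩
  let j' : N := ⟨j, hJK hj⟩
  have hk1 : π k' = 1 := by
    rw [QuotientGroup.mk'_apply, QuotientGroup.eq_one_iff]
    exact Subgroup.mem_subgroupOf.mpr hk
  have hπ : π (k' * j') = π j' := by rw [map_mul, hk1, one_mul]
  have hd1 : orderOf (π (k' * j')) ∣ orderOf (k * j) := by
    have := orderOf_map_dvd π (k' * j')
    rwa [Subgroup.orderOf_mk] at this
  obtain ⟨m, hm⟩ := hJ ⟨j, hj⟩
  have hjm : orderOf j ∣ 2 ^ m := by
    apply orderOf_dvd_of_pow_eq_one
    have := congrArg Subtype.val hm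
    simpa using this
  have hd2 : orderOf (π (k' * j')) ∣ 2 ^ m := by
    rw [hπ]
    have := orderOf_map_dvd π j'
    rw [Subgroup.orderOf_mk] at this
    exact this.trans hjm
  have hcop : Nat.Coprime (orderOf (k * j)) (2 ^ m) := (Odd.coprime_two_right hodd).pow_right m
  have h1 : orderOf (π (k' * j')) = 1 := Nat.eq_one_of_dvd_coprimes hcop hd1 hd2
  rw [orderOf_eq_one_iff, QuotientGroup.mk'_apply, QuotientGroup.eq_one_iff] at h1
  exact Subgroup.mem_subgroupOf.mp h1

/-- If `K` is generated by its elements of odd order and is normalized by the `2`-group `J`,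
then `K` is generated by the elements of odd order of `K ⊔ J`. -/
theorem closure_odd_sup_eq {K J : Subgroup G} (hJ : IsPGroup 2 ↥J)
    (hJK : J ≤ Subgroup.normalizer (K : Set G))
    (hK : Subgroup.closure {g : G | g ∈ K ∧ Odd (orderOf g)} = K) :
    Subgroup.closure {g : G | g ∈ K ⊔ J ∧ Odd (orderOf g)} = K := by
  apply le_antisymm
  · rw [Subgroup.closure_le]
    intro g hg
    exact mem_of_odd_of_mem_sup hJ hJK hg.1 hg.2
  · conv_lhs => rw [← hK]
    apply Subgroup.closure_mono
    intro g hg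
    exact ⟨(le_sup_left : K ≤ K ⊔ J) hg.1, hg.2⟩

/-- An element normalizing `H` normalizes the subgroup generated by the elements of odd order
of `H`. -/
theorem mem_normalizer_closure_odd [Finite G] {H : Subgroup G} {q : G}
    (hq : q ∈ Subgroup.normalizer (H : Set G)) :
    q ∈ Subgroup.normalizer
      ((Subgroup.closure {g : G | g ∈ H ∧ Odd (orderOf g)} : Subgroup G) : Set G) := by
  apply mem_normalizer_of_cj_le
  unfold cj
  rw [Subgroup.map_le_iff_le_comap, Subgroup.closure_le]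
  intro g hg
  show (MulAut.conj q).toMonoidHom g ∈ Subgroup.closure {g : G | g ∈ H ∧ Odd (orderOf g)}
  apply Subgroup.subset_closure
  refine ⟨?_, ?_⟩
  · have := (Subgroup.mem_normalizer_iff.mp hq g).mp hg.1
    simpa using this
  · have : orderOf ((MulAut.conj q).toMonoidHom g) = orderOf g := by
      exact (MulAut.conj q).orderOf_eq g
    rw [this]; exact hg.2

/-- `K = [K, J]` is normalized by `J`. -/
theorem le_normalizer_of_commutator_eq {K J : Subgroup G} (h : ⁅K, J⁆ = K) :
    J ≤ Subgroup.normalizer (K : Set G) := by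
  have key : ∀ b ∈ J, ∀ z ∈ ⁅K, J⁆, b * z * b⁻¹ ∈ ⁅K, J⁆ := by
    intro b hb
    have h1 : ⁅K, J⁆ ≤ (⁅K, J⁆ : Subgroup G).comap (MulAut.conj b).toMonoidHom := by
      rw [Subgroup.commutator_le]
      intro x hx y hy
      rw [Subgroup.mem_comap]
      show b * ⁅x, y⁆ * b⁻¹ ∈ ⁅K, J⁆
      have : b * ⁅x, y⁆ * b⁻¹ = ⁅x, b⁆⁻¹ * ⁅x, b * y⁆ := by
        simp only [commutatorElement_def]; group
      rw [this]
      exact Subgroup.mul_mem _ (Subgroup.inv_mem _ (Subgroup.commutator_mem_commutator hx hb))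
        (Subgroup.commutator_mem_commutator hx (J.mul_mem hb hy))
    intro z hz
    exact h1 hz
  intro b hb
  rw [Subgroup.mem_normalizer_iff]
  intro z
  constructor
  · intro hz
    rw [← h] at hz ⊢
    exact key b hb z hz
  · intro hz
    rw [← h] at hz ⊢
    have := key b⁻¹ (J.inv_mem hb) _ hz
    have e : b⁻¹ * (b * z * b⁻¹) * b⁻¹⁻¹ = z := by group
    rwa [e] at this

/-- If `K = [K, J]`, `Q` is normalized by `K` and `J`, and `Q` normalizes `J`, then `Q`
normalizes `K ⊔ J`. -/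
theorem le_normalizer_sup_of_commutator_eq [Finite G] {K J Q : Subgroup G} (h : ⁅K, J⁆ = K)
    (hQ1 : K ⊔ J ≤ Subgroup.normalizer (Q : Set G))
    (hQ2 : Q ≤ Subgroup.normalizer (J : Set G)) :
    Q ≤ Subgroup.normalizer ((K ⊔ J : Subgroup G) : Set G) := by
  have hJK : J ≤ Subgroup.normalizer (K : Set G) := le_normalizer_of_commutator_eq h
  intro q hq
  apply mem_normalizer_of_cj_le
  have hJ' : cj q J ≤ K ⊔ J := by
    rw [(mem_normalizer_iff_cj_eq).mp (hQ2 hq)]
    exact le_sup_right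
  have hK' : cj q K ≤ K ⊔ J := by
    conv_lhs => rw [← h]
    unfold cj
    rw [Subgroup.map_le_iff_le_comap, Subgroup.commutator_le]
    intro k hk j hj
    rw [Subgroup.mem_comap]
    show q * ⁅k, j⁆ * q⁻¹ ∈ K ⊔ J
    -- `q k q⁻¹ = k * q'` with `q' = k⁻¹ q k q⁻¹ ∈ Q`
    set q' := k⁻¹ * q * k * q⁻¹ with hq'
    set j' := q * j * q⁻¹ with hj'
    have hq'Q : q' ∈ Q := by
      have hkN : k⁻¹ ∈ Subgroup.normalizer (Q : Set G) :=
        Subgroup.inv_mem _ (hQ1 ((le_sup_left : K ≤ K ⊔ J) hk))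
      have := (Subgroup.mem_normalizer_iff.mp hkN q).mp hq
      have h2 := Q.mul_mem this (Q.inv_mem hq)
      have e : k⁻¹ * q * k⁻¹⁻¹ * q⁻¹ = q' := by rw [hq']; group
      rwa [e] at h2
    have hj'J : j' ∈ J := (Subgroup.mem_normalizer_iff.mp (hQ2 hq) j).mp hj
    have e1 : q * ⁅k, j⁆ * q⁻¹ = k * ⁅q', j'⁆ * k⁻¹ * ⁅k, j'⁆ := by
      rw [hq', hj']
      simp only [commutatorElement_def]; group
    rw [e1]
    have h3 : ⁅q', j'⁆ ∈ J := by
      rw [commutatorElement_def]
      have := (Subgroup.mem_normalizer_iff.mp (hQ2 hq'Q) j').mp hj'J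
      exact J.mul_mem this (J.inv_mem hj'J)
    have hkKJ : k ∈ K ⊔ J := (le_sup_left : K ≤ K ⊔ J) hk
    have h4 : ⁅k, j'⁆ ∈ K := by
      rw [← h]
      exact Subgroup.commutator_mem_commutator hk hj'J
    exact Subgroup.mul_mem _ (Subgroup.mul_mem _ (Subgroup.mul_mem _ hkKJ
      ((le_sup_right : J ≤ K ⊔ J) h3)) (Subgroup.inv_mem _ hkKJ)) ((le_sup_left : K ≤ K ⊔ J) h4)
  rw [cj_sup]
  exact sup_le hK' hJ'

/-- If `K = [K, J]` is generated by its elements of odd order, `J` is a `2`-group, `Q` is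
normalized by `K` and `J`, and `Q` normalizes `J`, then `Q` normalizes `K`. -/
theorem le_normalizer_of_commutator_eq_of_odd [Finite G] {K J Q : Subgroup G}
    (hJ : IsPGroup 2 ↥J)
    (hK : Subgroup.closure {g : G | g ∈ K ∧ Odd (orderOf g)} = K) (h : ⁅K, J⁆ = K)
    (hQ1 : K ⊔ J ≤ Subgroup.normalizer (Q : Set G))
    (hQ2 : Q ≤ Subgroup.normalizer (J : Set G)) :
    Q ≤ Subgroup.normalizer (K : Set G) := by
  have hJK : J ≤ Subgroup.normalizer (K : Set G) := le_normalizer_of_commutator_eq h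
  intro q hq
  have h1 := le_normalizer_sup_of_commutator_eq h hQ1 hQ2 hq
  have h2 := mem_normalizer_closure_odd h1
  rwa [closure_odd_sup_eq hJ hJK hK] at h2

end Cfsg.Agent.Lib.H15
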