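import Mathlib
import Cfsg.Prelude.Def_JComponents
import Cfsg.Agent.Lib.H15.Conj
import Cfsg.Agent.Lib.H15.NormComm
import Cfsg.Agent.Lib.H15.Card
import Cfsg.Agent.Lib.H15.JComp

/-!
Structure of a `J(T)`-component `K` (helper15's shared library), part 1: general lemmas on
`Ω₁(Z(X))` and on four-groups.
-/

set_option autoImplicit false

namespace Cfsg.Agent.Lib.H15

open scoped commutatorElement

variable {G : Type*} [Group G]

/-- Membership in `Ω₁(Z(X))` (for the prime `2`). -/
theorem mem_omegaCenterOf_iff {X : Subgroup G} {z : G} :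
    z ∈ Cfsg.omegaCenterOf X ↔ z ∈ X ∧ z ∈ Subgroup.centralizer (X : Set G) ∧ z ^ 2 = 1 := by
  unfold Cfsg.omegaCenterOf Cfsg.omegaOne
  constructor
  · intro hz
    induction hz using Subgroup.closure_induction with
    | mem x hx => exact ⟨hx.1.1, hx.1.2, hx.2⟩
    | one => exact ⟨X.one_mem, Subgroup.one_mem _, one_pow 2⟩
    | mul x y _ _ hx hy =>
      refine ⟨X.mul_mem hx.1 hy.1, Subgroup.mul_mem _ hx.2.1 hy.2.1, ?_⟩
      have hc : Commute x y := (Subgroup.mem_centralizer_iff.mp hy.2.1 x hx.1)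
      rw [hc.mul_pow, hx.2.2, hy.2.2, one_mul]
    | inv x _ hx =>
      exact ⟨X.inv_mem hx.1, Subgroup.inv_mem _ hx.2.1, by rw [inv_pow, hx.2.2, inv_one]⟩
  · rintro ⟨h1, h2, h3⟩
    exact Subgroup.subset_closure ⟨⟨h1, h2⟩, h3⟩

theorem omegaCenterOf_le (X : Subgroup G) : Cfsg.omegaCenterOf X ≤ X :=
  fun _ hz => (mem_omegaCenterOf_iff.mp hz).1

theorem omegaCenterOf_le_centralizer (X : Subgroup G) :
    Cfsg.omegaCenterOf X ≤ Subgroup.centralizer (X : Set G) :=
  fun _ hz => (mem_omegaCenterOf_iff.mp hz).2.1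

theorem omegaCenterOf_sq {X : Subgroup G} {z : G} (hz : z ∈ Cfsg.omegaCenterOf X) : z * z = 1 := by
  have := (mem_omegaCenterOf_iff.mp hz).2.2
  rwa [pow_two] at this

/-- Whatever normalizes `X` normalizes `Ω₁(Z(X))`. -/
theorem normalizer_le_normalizer_omegaCenterOf [Finite G] (X : Subgroup G) :
    Subgroup.normalizer (X : Set G) ≤ Subgroup.normalizer (Cfsg.omegaCenterOf X : Set G) := by
  intro g hg
  apply mem_normalizer_of_cj_le
  intro y hy
  rw [mem_cj_iff] at hy
  have hg' : g⁻¹ ∈ Subgroup.normalizer (X : Set G) := Subgroup.inv_mem _ hg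
  obtain ⟨h1, h2, h3⟩ := mem_omegaCenterOf_iff.mp hy
  rw [mem_omegaCenterOf_iff]
  have e1 : g * (g⁻¹ * y * g) * g⁻¹ = y := by group
  refine ⟨?_, ?_, ?_⟩
  · have := (Subgroup.mem_normalizer_iff.mp hg _).mp h1
    rwa [e1] at this
  · rw [Subgroup.mem_centralizer_iff]
    intro t ht
    have ht' : g⁻¹ * t * g ∈ X := by
      have := (Subgroup.mem_normalizer_iff.mp hg' t).mp ht
      simpa using this
    have := Subgroup.mem_centralizer_iff.mp h2 _ ht'
    calc t * y = g * ((g⁻¹ * t * g) * (g⁻¹ * y * g)) * g⁻¹ := by group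
      _ = g * ((g⁻¹ * y * g) * (g⁻¹ * t * g)) * g⁻¹ := by rw [this]
      _ = y * t := by group
  · have : (g⁻¹ * y * g) ^ 2 = g⁻¹ * y ^ 2 * g := by
      rw [pow_two, pow_two]; group
    rw [this] at h3
    have : y ^ 2 = g * (g⁻¹ * y ^ 2 * g) * g⁻¹ := by group
    rw [this, h3]; group

/-- The elements of a four-group. -/
theorem four_group_cases [Finite G] {W : Subgroup G} (hW4 : Nat.card W = 4)
    (hW2 : ∀ w ∈ W, w * w = 1) {w₀ w₁ : G} (h0 : w₀ ∈ W) (h1 : w₁ ∈ W) (h01 : w₀ ≠ 1)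
    (h11 : w₁ ≠ 1) (hne : w₁ ≠ w₀) :
    ∀ w ∈ W, w = 1 ∨ w = w₀ ∨ w = w₁ ∨ w = w₀ * w₁ := by
  classical
  have h2 : w₀ * w₁ ≠ 1 := by
    intro h
    apply hne
    have := hW2 w₀ h0
    have e : w₁ = w₀⁻¹ := (eq_inv_of_mul_eq_one_right h)
    rw [e]
    exact (eq_inv_of_mul_eq_one_left this).symm
  have h3 : w₀ * w₁ ≠ w₀ := by
    intro h
    apply h11
    simpa using h
  have h4 : w₀ * w₁ ≠ w₁ := by
    intro h
    apply h01
    simpa using h
  let s : Finset G := {1, w₀, w₁, w₀ * w₁}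
  have hs : s.card = 4 := by
    rw [Finset.card_insert_of_notMem, Finset.card_insert_of_notMem, Finset.card_insert_of_notMem,
      Finset.card_singleton]
    · simp only [Finset.mem_singleton]; exact fun h => h4 h.symm
    · simp only [Finset.mem_insert, Finset.mem_singleton, not_or]
      exact ⟨fun h => hne h.symm, fun h => h3 h.symm⟩
    · simp only [Finset.mem_insert, Finset.mem_singleton, not_or]
      exact ⟨fun h => h01 h.symm, fun h => h11 h.symm, fun h => h2 h.symm⟩
  have hsub : (s : Set G) ⊆ (W : Set G) := by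
    intro y hy
    simp only [s, Finset.coe_insert, Finset.coe_singleton, Set.mem_insert_iff,
      Set.mem_singleton_iff] at hy
    rcases hy with rfl | rfl | rfl | rfl
    · exact W.one_mem
    · exact h0
    · exact h1
    · exact W.mul_mem h0 h1
  have heq : (s : Set G) = (W : Set G) := by
    apply Set.eq_of_subset_of_ncard_le hsub _ (Set.toFinite _)
    rw [Set.ncard_coe_finset, hs]
    have : (W : Set G).ncard = Nat.card W := by
      rw [← Nat.card_coe_set_eq]; rfl
    rw [this, hW4]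
  intro w hw
  have : w ∈ (s : Set G) := by rw [heq]; exact hw
  simpa [s] using this

end Cfsg.Agent.Lib.H15
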