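import Mathlib
import Cfsg.Prelude.Def_JComponents
import Cfsg.Agent.Lib.H15.JComp2
import Cfsg.Agent.Lib.H1.CoprimeAbelian
import Cfsg.Agent.Lib.H1.Complement
import Cfsg.Agent.Lib.H14.Amalgam5
import Cfsg.Agent.Lib.H14.Large2
import Cfsg.Agent.Lib.H7.PLocal2
import Cfsg.Agent.Lib.H26.Thompson
import Cfsg.Agent.Lib.H19.HallPi

/-!
Structure of a `J(T)`-component `K` (helper15's shared library), part 2: the abstract data
`JCD K J R S W` (`R = O₂(K)`, `S` a Sylow `2`-subgroup of `K ⊔ J` containing `J = J(S)`,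
`W = [Ω₁(Z(R)), K]` a four-group) and its first consequences.
-/

set_option autoImplicit false

namespace Cfsg.Agent.Lib.H15

open scoped commutatorElement

variable {G : Type*} [Group G]

/-- Abstract data of a `J(T)`-component. -/
structure JCD (K J R S W : Subgroup G) : Prop where
  odd : Subgroup.closure {g : G | g ∈ K ∧ Odd (orderOf g)} = K
  comm : ⁅K, J⁆ = K
  hRK : R ≤ K
  hR2 : IsPGroup 2 ↥R
  hRn : Subgroup.normalizer (K : Set G) ≤ Subgroup.normalizer (R : Set G)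
  hR3 : R.relIndex K = 3
  hS2 : IsPGroup 2 ↥S
  hJS : J ≤ S
  hSH : S ≤ K ⊔ J
  hSmax : ∀ P : Subgroup G, IsPGroup 2 ↥P → S ≤ P → P ≤ K ⊔ J → P = S
  hJ : J = Cfsg.Agent.Lib.H26.JJ 2 S
  hW : W = ⁅Cfsg.omegaCenterOf R, K⁆
  hW4 : Nat.card W = 4
  hW2 : ∀ w ∈ W, w * w = 1

namespace JCD

variable {K J R S W : Subgroup G}

theorem hJ2 (h : JCD K J R S W) : IsPGroup 2 ↥J := h.hS2.to_le h.hJS

theorem hJK (h : JCD K J R S W) : J ≤ Subgroup.normalizer (K : Set G) :=
  le_normalizer_of_commutator_eq h.comm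

theorem hHK (h : JCD K J R S W) : K ⊔ J ≤ Subgroup.normalizer (K : Set G) :=
  sup_le Subgroup.le_normalizer h.hJK

theorem hHR (h : JCD K J R S W) : K ⊔ J ≤ Subgroup.normalizer (R : Set G) :=
  h.hHK.trans h.hRn

theorem hHV [Finite G] (h : JCD K J R S W) :
    K ⊔ J ≤ Subgroup.normalizer (Cfsg.omegaCenterOf R : Set G) :=
  h.hHR.trans (normalizer_le_normalizer_omegaCenterOf R)

theorem hHW [Finite G] (h : JCD K J R S W) : K ⊔ J ≤ Subgroup.normalizer (W : Set G) := by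
  rw [h.hW]
  exact le_normalizer_commutator h.hHV h.hHK

theorem hWV [Finite G] (h : JCD K J R S W) : W ≤ Cfsg.omegaCenterOf R := by
  rw [h.hW, Subgroup.commutator_le]
  intro v hv k hk
  have hk' : k ∈ Subgroup.normalizer (Cfsg.omegaCenterOf R : Set G) :=
    h.hHV ((le_sup_left : K ≤ K ⊔ J) hk)
  have h1 : k * v⁻¹ * k⁻¹ ∈ Cfsg.omegaCenterOf R :=
    (Subgroup.mem_normalizer_iff.mp hk' _).mp (Subgroup.inv_mem _ hv)
  have e : ⁅v, k⁆ = v * (k * v⁻¹ * k⁻¹) := by rw [commutatorElement_def]; group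
  rw [e]
  exact Subgroup.mul_mem _ hv h1

theorem hWR [Finite G] (h : JCD K J R S W) : W ≤ R := h.hWV.trans (omegaCenterOf_le R)

theorem hWK [Finite G] (h : JCD K J R S W) : W ≤ K := h.hWR.trans h.hRK

theorem hRW [Finite G] (h : JCD K J R S W) : R ≤ Subgroup.centralizer (W : Set G) := by
  intro r hr
  rw [Subgroup.mem_centralizer_iff]
  intro w hw
  have := Subgroup.mem_centralizer_iff.mp (omegaCenterOf_le_centralizer R (h.hWV hw)) r hr
  exact this.symm

theorem W_comm (h : JCD K J R S W) {a b : G} (ha : a ∈ W) (hb : b ∈ W) : a * b = b * a := by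
  have h1 := h.hW2 a ha
  have h2 := h.hW2 b hb
  have h3 := h.hW2 (a * b) (W.mul_mem ha hb)
  have e1 : a⁻¹ = a := (eq_inv_of_mul_eq_one_left h1).symm
  have e2 : b⁻¹ = b := (eq_inv_of_mul_eq_one_left h2).symm
  have e3 : (a * b)⁻¹ = a * b := (eq_inv_of_mul_eq_one_left h3).symm
  rw [mul_inv_rev, e1, e2] at e3
  exact e3.symm

theorem W_ne_bot (h : JCD K J R S W) : W ≠ ⊥ := by
  intro hb
  have := h.hW4
  rw [hb, Subgroup.card_bot] at this
  omega

/-- An element of `K` of order `3` outside `R`, generating `K` modulo `R`. -/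
theorem exists_x [Finite G] (h : JCD K J R S W) :
    ∃ x ∈ K, x ∉ R ∧ x ^ 3 = 1 ∧ K = R ⊔ Subgroup.zpowers x := by
  have hRnK : K ≤ Subgroup.normalizer (R : Set G) := (le_sup_left : K ≤ K ⊔ J).trans h.hHR
  -- an element of odd order outside `R`
  have h1 : ∃ x ∈ K, Odd (orderOf x) ∧ x ∉ R := by
    by_contra hcon
    push Not at hcon
    have hKR : K ≤ R := by
      conv_lhs => rw [← h.odd]
      rw [Subgroup.closure_le]
      intro g hg
      exact hcon g hg.1 hg.2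
    have : R.relIndex K = 1 := Subgroup.relIndex_eq_one.mpr hKR
    rw [h.hR3] at this
    omega
  obtain ⟨x, hxK, hxodd, hxR⟩ := h1
  have hsup : R ⊔ Subgroup.zpowers x ≤ K := sup_le h.hRK (by rwa [Subgroup.zpowers_le])
  have hmul := Subgroup.relIndex_mul_relIndex R (R ⊔ Subgroup.zpowers x) K le_sup_left hsup
  rw [h.hR3] at hmul
  have hne1 : R.relIndex (R ⊔ Subgroup.zpowers x) ≠ 1 := by
    intro h1
    rw [Subgroup.relIndex_eq_one] at h1
    exact hxR (h1 ((le_sup_right : Subgroup.zpowers x ≤ R ⊔ Subgroup.zpowers x)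
      (Subgroup.mem_zpowers x)))
  have h3 : R.relIndex (R ⊔ Subgroup.zpowers x) = 3 := by
    have hd : R.relIndex (R ⊔ Subgroup.zpowers x) ∣ 3 := Dvd.intro _ hmul
    rcases (Nat.dvd_prime Nat.prime_three).mp hd with h | h
    · exact absurd h hne1
    · exact h
  have hK : K = R ⊔ Subgroup.zpowers x := by
    apply le_antisymm _ hsup
    rw [← Subgroup.relIndex_eq_one]
    rw [h3] at hmul
    omega
  -- `x ^ 3 ∈ R`
  have hx3R : x ^ 3 ∈ R := by
    have hn : (R.subgroupOf K).Normal :=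
      (Subgroup.normal_subgroupOf_iff_le_normalizer h.hRK).mpr hRnK
    have hidx : (R.subgroupOf K).index = 3 := h.hR3
    have := Subgroup.pow_index_mem (R.subgroupOf K) (⟨x, hxK⟩ : K)
    rw [hidx, Subgroup.mem_subgroupOf] at this
    simpa using this
  have hx3 : x ^ 3 = 1 := by
    obtain ⟨m, hm⟩ := h.hR2 ⟨x ^ 3, hx3R⟩
    have hm' : (x ^ 3) ^ (2 ^ m) = 1 := by
      have := congrArg Subtype.val hm
      simpa using this
    have hd1 : orderOf (x ^ 3) ∣ 2 ^ m := orderOf_dvd_of_pow_eq_one hm'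
    have hd2 : orderOf (x ^ 3) ∣ orderOf x := orderOf_pow_dvd 3
    have hcop : Nat.Coprime (orderOf x) (2 ^ m) := (Odd.coprime_two_right hxodd).pow_right m
    have := Nat.eq_one_of_dvd_coprimes hcop hd2 hd1
    rwa [orderOf_eq_one_iff] at this
  exact ⟨x, hxK, hxR, hx3, hK⟩

/-- `x` acts fixed-point-freely on `W`. -/
theorem fixed_eq_one [Finite G] (h : JCD K J R S W) {x : G} (hxK : x ∈ K) (hx3 : x ^ 3 = 1)
    (hK : K = R ⊔ Subgroup.zpowers x) {w : G} (hw : w ∈ W) (hfix : x * w * x⁻¹ = w) : w = 1 := by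
  set V := Cfsg.omegaCenterOf R with hV
  have hcomm : IsMulCommutative ↥V := by
    refine ⟨⟨fun a b => ?_⟩⟩
    apply Subtype.ext
    have := Subgroup.mem_centralizer_iff.mp (omegaCenterOf_le_centralizer R b.2) a
      (omegaCenterOf_le R a.2)
    exact this
  have hxN : Subgroup.zpowers x ≤ Subgroup.normalizer (V : Set G) := by
    rw [Subgroup.zpowers_le]
    exact h.hHV ((le_sup_left : K ≤ K ⊔ J) hxK)
  have hxNR : Subgroup.zpowers x ≤ Subgroup.normalizer (R : Set G) := by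
    rw [Subgroup.zpowers_le]
    exact h.hHR ((le_sup_left : K ≤ K ⊔ J) hxK)
  have hV2 : IsPGroup 2 ↥V := h.hR2.to_le (omegaCenterOf_le R)
  have hcop : (Nat.card (Subgroup.zpowers x)).Coprime (Nat.card V) := by
    obtain ⟨n, hn⟩ := IsPGroup.iff_card.mp hV2
    rw [hn, Nat.card_zpowers]
    have hd : orderOf x ∣ 3 := orderOf_dvd_of_pow_eq_one hx3
    have h3 : Nat.Coprime 3 (2 ^ n) := Nat.Coprime.pow_right n (by norm_num)
    exact Nat.Coprime.coprime_dvd_left hd h3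
  have key := Cfsg.Agent.Lib.H1.coprime_abelian_centralizer_inf_commutator hxN hcop
  -- `W ≤ [V, ⟨x⟩]`
  have hWle : W ≤ ⁅V, Subgroup.zpowers x⁆ := by
    rw [h.hW, Subgroup.commutator_le]
    intro v hv k hk
    rw [hK] at hk
    obtain ⟨r, hr, y, hy, rfl⟩ := Cfsg.Agent.Lib.H1.mem_sup_of_le_normalizer hxNR hk
    have hvr : v * r = r * v :=
      (Subgroup.mem_centralizer_iff.mp (omegaCenterOf_le_centralizer R hv) r hr).symm
    have hyV : ⁅v, y⁆ ∈ V := by
      have h1 : y * v⁻¹ * y⁻¹ ∈ V :=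
        (Subgroup.mem_normalizer_iff.mp (hxN hy) _).mp (Subgroup.inv_mem _ hv)
      have e : ⁅v, y⁆ = v * (y * v⁻¹ * y⁻¹) := by rw [commutatorElement_def]; group
      rw [e]; exact Subgroup.mul_mem _ hv h1
    have hcr : ⁅v, y⁆ * r = r * ⁅v, y⁆ :=
      (Subgroup.mem_centralizer_iff.mp (omegaCenterOf_le_centralizer R hyV) r hr).symm
    have e : ⁅v, r * y⁆ = ⁅v, y⁆ := by
      have e1 : ⁅v, r * y⁆ = r * ⁅v, y⁆ * r⁻¹ := by
        rw [commutatorElement_def, commutatorElement_def]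
        calc v * (r * y) * v⁻¹ * (r * y)⁻¹ = (v * r) * y * v⁻¹ * y⁻¹ * r⁻¹ := by group
          _ = (r * v) * y * v⁻¹ * y⁻¹ * r⁻¹ := by rw [hvr]
          _ = r * (v * y * v⁻¹ * y⁻¹) * r⁻¹ := by group
      rw [e1, ← hcr]; group
    rw [e]
    exact Subgroup.commutator_mem_commutator hv hy
  have hmem : w ∈ (V ⊓ Subgroup.centralizer (Subgroup.zpowers x : Set G)) ⊓
      ⁅V, Subgroup.zpowers x⁆ := by
    refine Subgroup.mem_inf.mpr ⟨Subgroup.mem_inf.mpr ⟨h.hWV hw, ?_⟩, hWle hw⟩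
    rw [Subgroup.mem_centralizer_iff]
    intro y hy
    obtain ⟨n, rfl⟩ := Subgroup.mem_zpowers_iff.mp hy
    have hc : Commute x w := by
      show x * w = w * x
      calc x * w = (x * w * x⁻¹) * x := by group
        _ = w * x := by rw [hfix]
    exact (hc.zpow_left n).eq
  rw [key, Subgroup.mem_bot] at hmem
  exact hmem

/-- `x` does not centralize `W`. -/
theorem x_not_centralizes [Finite G] (h : JCD K J R S W) {x : G} (hxK : x ∈ K) (hx3 : x ^ 3 = 1)
    (hK : K = R ⊔ Subgroup.zpowers x) : x ∉ Subgroup.centralizer (W : Set G) := by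
  intro hx
  apply h.W_ne_bot
  rw [eq_bot_iff]
  intro w hw
  rw [Subgroup.mem_bot]
  apply h.fixed_eq_one hxK hx3 hK hw
  have := Subgroup.mem_centralizer_iff.mp hx w hw
  rw [← this]; group

/-- `C_K(W) = R`. -/
theorem inf_centralizer_le [Finite G] (h : JCD K J R S W) :
    K ⊓ Subgroup.centralizer (W : Set G) ≤ R := by
  obtain ⟨x, hxK, hxR, hx3, hK⟩ := h.exists_x
  have hxNR : Subgroup.zpowers x ≤ Subgroup.normalizer (R : Set G) := by
    rw [Subgroup.zpowers_le]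
    exact h.hHR ((le_sup_left : K ≤ K ⊔ J) hxK)
  intro k hk
  obtain ⟨hkK, hkC⟩ := Subgroup.mem_inf.mp hk
  rw [hK] at hkK
  obtain ⟨r, hr, y, hy, rfl⟩ := Cfsg.Agent.Lib.H1.mem_sup_of_le_normalizer hxNR hkK
  have hyC : y ∈ Subgroup.centralizer (W : Set G) := by
    have := Subgroup.mul_mem _ (Subgroup.inv_mem _ (h.hRW hr)) hkC
    simpa using this
  have hnx := h.x_not_centralizes hxK hx3 hK
  obtain ⟨n, rfl⟩ := Subgroup.mem_zpowers_iff.mp hy
  have hord : orderOf x = 3 := by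
    have hd : orderOf x ∣ 3 := orderOf_dvd_of_pow_eq_one hx3
    rcases (Nat.dvd_prime Nat.prime_three).mp hd with h1 | h1
    · rw [orderOf_eq_one_iff] at h1
      rw [h1] at hxR
      exact absurd R.one_mem hxR
    · exact h1
  have hmod : x ^ n = x ^ (n % 3) := by
    have := zpow_mod_orderOf x n
    rw [hord] at this
    exact this.symm
  have h3 : (0 : ℤ) ≤ n % 3 := Int.emod_nonneg _ (by norm_num)
  have h4 : n % 3 < 3 := Int.emod_lt_of_pos _ (by norm_num)
  have hcases : n % 3 = 0 ∨ n % 3 = 1 ∨ n % 3 = 2 := by omega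
  rcases hcases with h0 | h1 | h2
  · rw [hmod, h0, zpow_zero, mul_one]; exact hr
  · exfalso
    rw [hmod, h1, zpow_one] at hyC
    exact hnx hyC
  · exfalso
    rw [hmod, h2] at hyC
    have : x = (x ^ (2 : ℤ)) ^ 2 := by
      have e : (x ^ (2 : ℤ)) ^ 2 = x ^ 3 * x := by
        rw [zpow_ofNat]; group
      rw [e, hx3, one_mul]
    apply hnx
    rw [this]
    exact Subgroup.pow_mem _ hyC 2

/-- A subgroup all of whose elements of odd order are trivial is a `2`-group. -/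
theorem isPGroup_two_of_odd_eq_one [Finite G] {C : Subgroup G}
    (hC : ∀ c ∈ C, Odd (orderOf c) → c = 1) : IsPGroup 2 ↥C := by
  intro c
  have hpos : orderOf (c : G) ≠ 0 := (orderOf_pos (c : G)).ne'
  obtain ⟨k, m, hm, hkm⟩ := Nat.exists_eq_two_pow_mul_odd hpos
  refine ⟨k, ?_⟩
  have hord : orderOf ((c : G) ^ (2 ^ k)) = m := by
    rw [orderOf_pow_of_dvd (by positivity) (Dvd.intro _ hkm.symm), hkm]
    exact Nat.mul_div_cancel_left m (by positivity)
  have := hC _ (C.pow_mem c.2 (2 ^ k)) (by rw [hord]; exact hm)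
  apply Subtype.ext
  simpa using this

/-- `C_H(W)` is a `2`-group, where `H = K ⊔ J`. -/
theorem isPGroup_C [Finite G] (h : JCD K J R S W) :
    IsPGroup 2 ↥((K ⊔ J) ⊓ Subgroup.centralizer (W : Set G) : Subgroup G) := by
  apply isPGroup_two_of_odd_eq_one
  intro c hc hodd
  obtain ⟨hcH, hcC⟩ := Subgroup.mem_inf.mp hc
  have hcK : c ∈ K := mem_of_odd_of_mem_sup h.hJ2 h.hJK hcH hodd
  have hcR : c ∈ R := h.inf_centralizer_le (Subgroup.mem_inf.mpr ⟨hcK, hcC⟩)
  obtain ⟨m, hm⟩ := h.hR2 ⟨c, hcR⟩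
  have hm' : c ^ (2 ^ m) = 1 := by
    have := congrArg Subtype.val hm
    simpa using this
  have hd1 : orderOf c ∣ 2 ^ m := orderOf_dvd_of_pow_eq_one hm'
  have hcop : Nat.Coprime (orderOf c) (2 ^ m) := (Odd.coprime_two_right hodd).pow_right m
  have := Nat.eq_one_of_dvd_coprimes hcop dvd_rfl hd1
  rwa [orderOf_eq_one_iff] at this

/-- `H = K ⊔ J` normalizes `C_H(W)`. -/
theorem hHC [Finite G] (h : JCD K J R S W) :
    K ⊔ J ≤ Subgroup.normalizer
      (((K ⊔ J) ⊓ Subgroup.centralizer (W : Set G) : Subgroup G) : Set G) := by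
  intro g hg
  apply mem_normalizer_of_cj_le
  intro y hy
  rw [mem_cj_iff] at hy
  obtain ⟨hyH, hyC⟩ := Subgroup.mem_inf.mp hy
  have e1 : y = g * (g⁻¹ * y * g) * g⁻¹ := by group
  refine Subgroup.mem_inf.mpr ⟨?_, ?_⟩
  · rw [e1]
    exact Subgroup.mul_mem _ (Subgroup.mul_mem _ hg hyH) (Subgroup.inv_mem _ hg)
  · rw [Subgroup.mem_centralizer_iff]
    intro w hw
    have hgN : g⁻¹ ∈ Subgroup.normalizer (W : Set G) := Subgroup.inv_mem _ (h.hHW hg)
    have hw' : g⁻¹ * w * g ∈ W := by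
      have := (Subgroup.mem_normalizer_iff.mp hgN w).mp hw
      simpa using this
    have := Subgroup.mem_centralizer_iff.mp hyC _ hw'
    calc w * y = g * ((g⁻¹ * w * g) * (g⁻¹ * y * g)) * g⁻¹ := by group
      _ = g * ((g⁻¹ * y * g) * (g⁻¹ * w * g)) * g⁻¹ := by rw [this]
      _ = y * w := by group

/-- `C_H(W) ≤ S`. -/
theorem hCS [Finite G] (h : JCD K J R S W) :
    (K ⊔ J) ⊓ Subgroup.centralizer (W : Set G) ≤ S := by
  set C := (K ⊔ J) ⊓ Subgroup.centralizer (W : Set G) with hC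
  have h1 : IsPGroup 2 ↥(S ⊔ C) :=
    IsPGroup.to_sup_of_normal_right' h.hS2 h.isPGroup_C (h.hSH.trans h.hHC)
  have h2 := h.hSmax (S ⊔ C) h1 le_sup_left (sup_le h.hSH inf_le_left)
  calc C ≤ S ⊔ C := le_sup_right
    _ = S := h2

theorem hRC [Finite G] (h : JCD K J R S W) :
    R ≤ (K ⊔ J) ⊓ Subgroup.centralizer (W : Set G) :=
  le_inf (h.hRK.trans le_sup_left) h.hRW

theorem hRS [Finite G] (h : JCD K J R S W) : R ≤ S := h.hRC.trans h.hCS

theorem hWS [Finite G] (h : JCD K J R S W) : W ≤ S := h.hWR.trans h.hRS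

theorem hWC [Finite G] (h : JCD K J R S W) :
    W ≤ (K ⊔ J) ⊓ Subgroup.centralizer (W : Set G) := h.hWR.trans h.hRC

/-- `S` normalizes `J = J(S)`. -/
theorem hSJ [Finite G] (h : JCD K J R S W) : S ≤ Subgroup.normalizer (J : Set G) := by
  intro s hs
  rw [mem_normalizer_iff_cj_eq, h.hJ]
  apply Cfsg.Agent.Lib.H26.JJ_weaklyClosed
  rintro _ ⟨y, hy, rfl⟩
  have hyS : y ∈ S := Cfsg.Agent.Lib.H26.JJ_le 2 S hy
  exact S.mul_mem (S.mul_mem hs hyS) (S.inv_mem hs)

theorem hSZ [Finite G] (h : JCD K J R S W) :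
    S ≤ Subgroup.normalizer (Cfsg.omegaCenterOf J : Set G) :=
  h.hSJ.trans (normalizer_le_normalizer_omegaCenterOf J)

end JCD

end Cfsg.Agent.Lib.H15
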