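import Mathlib
import Cfsg.Prelude.Def_JComponents
import Cfsg.Agent.Lib.H15.JComp3
import Cfsg.Agent.Lib.H3.Thompson

/-!
Structure of a `J(T)`-component `K` (helper15's shared library), part 3: the elementary abelian
subgroups of largest order of `S`, and `W ≤ J`.
-/

set_option autoImplicit false

namespace Cfsg.Agent.Lib.H15

open scoped commutatorElement

variable {G : Type*} [Group G]

open Cfsg.Agent.Lib.H26 (maxEA JJ)

/-- An involution of `S` centralizing a member `A` of `maxEA 2 S` lies in `A`. -/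
theorem maxEA_mem_of_commute [Finite G] {S A : Subgroup G} (hA : A ∈ maxEA 2 S) {e : G}
    (heS : e ∈ S) (he2 : e * e = 1) (hc : ∀ a ∈ A, e * a = a * e) : e ∈ A := by
  have hz : Cfsg.IsElementaryAbelian 2 (Subgroup.zpowers e) :=
    Cfsg.Agent.Lib.H3.elemAb_zpowers (by rw [pow_two]; exact he2)
  have hle : Subgroup.zpowers e ≤ Subgroup.centralizer (A : Set G) := by
    rw [Subgroup.zpowers_le, Subgroup.mem_centralizer_iff]
    intro a ha
    exact (hc a ha).symm
  have hE := Cfsg.Agent.Lib.H3.elemAb_sup hA.2.1 hz hle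
  have hES : A ⊔ Subgroup.zpowers e ≤ S := sup_le hA.1 (by rwa [Subgroup.zpowers_le])
  have hcard := hA.2.2 _ hES hE
  have heq := eq_of_le_of_card_le' (le_sup_left : A ≤ A ⊔ Subgroup.zpowers e) hcard
  rw [heq]
  exact (le_sup_right : Subgroup.zpowers e ≤ A ⊔ Subgroup.zpowers e) (Subgroup.mem_zpowers e)

/-- A conjugate inside `S` of a member of `maxEA 2 S` is a member. -/
theorem maxEA_cj {S A : Subgroup G} (hA : A ∈ maxEA 2 S) {g : G} (hg : cj g A ≤ S) :
    cj g A ∈ maxEA 2 S := by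
  refine ⟨hg, ?_, ?_⟩
  · exact (Cfsg.Agent.Lib.H26.isElementaryAbelian_map_iff 2 _ (MulAut.conj g).injective A).mpr
      hA.2.1
  · intro B hB hBe
    rw [card_cj]
    exact hA.2.2 B hB hBe

theorem elemAb_two_of_sq {W : Subgroup G} (hcomm : ∀ a ∈ W, ∀ b ∈ W, a * b = b * a)
    (hW2 : ∀ w ∈ W, w * w = 1) : Cfsg.IsElementaryAbelian 2 W := by
  refine ⟨⟨⟨fun a b => Subtype.ext (hcomm a a.2 b b.2)⟩⟩, fun a ha => ?_⟩
  rw [pow_two]; exact hW2 a ha

namespace JCD

variable {K J R S W : Subgroup G}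

theorem le_J (h : JCD K J R S W) {A : Subgroup G} (hA : A ∈ maxEA 2 S) : A ≤ J := by
  rw [h.hJ]; exact le_sSup hA

theorem Z0_le [Finite G] (h : JCD K J R S W) {A : Subgroup G} (hA : A ∈ maxEA 2 S) :
    Cfsg.omegaCenterOf J ≤ A := by
  intro z hz
  obtain ⟨h1, h2, -⟩ := mem_omegaCenterOf_iff.mp hz
  apply maxEA_mem_of_commute hA (h.hJS h1) (omegaCenterOf_sq hz)
  intro a ha
  exact (Subgroup.mem_centralizer_iff.mp h2 a (h.le_J hA ha)).symm

theorem K_ne_bot (h : JCD K J R S W) : K ≠ ⊥ := by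
  intro hb
  have h1 : R.relIndex K = 1 := by
    rw [Subgroup.relIndex_eq_one, hb]; exact bot_le
  rw [h.hR3] at h1
  omega

theorem J_ne_bot (h : JCD K J R S W) : J ≠ ⊥ := by
  intro hb
  apply h.K_ne_bot
  rw [← h.comm, hb]
  exact Subgroup.commutator_bot_right K

theorem exists_maxEA (h : JCD K J R S W) : ∃ A : Subgroup G, A ∈ maxEA 2 S := by
  by_contra hcon
  push Not at hcon
  apply h.J_ne_bot
  rw [h.hJ, Cfsg.Agent.Lib.H26.JJ, eq_bot_iff]
  apply sSup_le
  intro A hA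
  exact absurd hA (hcon A)

/-- An involution of `S` centralizing `J` lies in `Ω₁(Z(J))`. -/
theorem mem_Z0_of_fixed [Finite G] (h : JCD K J R S W) {w : G} (hwS : w ∈ S) (hw2 : w * w = 1)
    (hwC : w ∈ Subgroup.centralizer (J : Set G)) : w ∈ Cfsg.omegaCenterOf J := by
  obtain ⟨A, hA⟩ := h.exists_maxEA
  have hwA : w ∈ A := by
    apply maxEA_mem_of_commute hA hwS hw2
    intro a ha
    exact (Subgroup.mem_centralizer_iff.mp hwC a (h.le_J hA ha)).symm
  rw [mem_omegaCenterOf_iff]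
  exact ⟨h.le_J hA hwA, hwC, by rw [pow_two]; exact hw2⟩

/-- `J` does not centralize `W`. -/
theorem J_not_le_centralizer [Finite G] (h : JCD K J R S W) :
    ¬ J ≤ Subgroup.centralizer (W : Set G) := by
  intro hJC
  obtain ⟨x, hxK, hxR, hx3, hK⟩ := h.exists_x
  apply h.x_not_centralizes hxK hx3 hK
  have hKC : K ≤ Subgroup.centralizer (W : Set G) := by
    conv_lhs => rw [← h.comm]
    rw [Subgroup.commutator_le]
    intro k hk j hj
    rw [Subgroup.mem_centralizer_iff]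
    intro w hw
    have hkN : k ∈ Subgroup.normalizer (W : Set G) := h.hHW ((le_sup_left : K ≤ K ⊔ J) hk)
    have hkN' : k⁻¹ ∈ Subgroup.normalizer (W : Set G) := Subgroup.inv_mem _ hkN
    -- `j` commutes with `W`
    have hj1 : ∀ u ∈ W, j * u = u * j := fun u hu =>
      (Subgroup.mem_centralizer_iff.mp (hJC hj) u hu).symm
    have hw' : k⁻¹ * w * k ∈ W := by
      have := (Subgroup.mem_normalizer_iff.mp hkN' w).mp hw
      simpa using this
    have e1 := hj1 w hw
    have e2 := hj1 _ hw'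
    have e1' : j⁻¹ * w * j = w := by
      calc j⁻¹ * w * j = j⁻¹ * (w * j) := by group
        _ = j⁻¹ * (j * w) := by rw [e1]
        _ = w := by group
    have e2' : j * (k⁻¹ * w * k) * j⁻¹ = k⁻¹ * w * k := by
      rw [e2]; group
    rw [commutatorElement_def]
    calc w * (k * j * k⁻¹ * j⁻¹) = k * (j * (k⁻¹ * w * k) * j⁻¹) * k⁻¹ * (k * j * k⁻¹ * j⁻¹) := by
          rw [e2']; group
      _ = k * j * k⁻¹ * w * j⁻¹ := by group
      _ = k * j * k⁻¹ * (j⁻¹ * (j * w * j⁻¹)) := by group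
      _ = k * j * k⁻¹ * (j⁻¹ * w) := by
          have : j * w * j⁻¹ = w := by rw [e1]; group
          rw [this]
      _ = k * j * k⁻¹ * j⁻¹ * w := by group
  exact hKC hxK

theorem exists_maxEA_not_le [Finite G] (h : JCD K J R S W) :
    ∃ A : Subgroup G, A ∈ maxEA 2 S ∧ ¬ A ≤ Subgroup.centralizer (W : Set G) := by
  by_contra hcon
  push Not at hcon
  apply h.J_not_le_centralizer
  rw [h.hJ, Cfsg.Agent.Lib.H26.JJ]
  apply sSup_le
  intro A hA
  exact hcon A hA

/-- `C_W(J)` has order `2`. -/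
theorem card_fixed [Finite G] (h : JCD K J R S W) :
    Nat.card ↥(W ⊓ Subgroup.centralizer (J : Set G) : Subgroup G) = 2 := by
  have hW2 : IsPGroup 2 ↥W := h.hR2.to_le h.hWR
  have hne := Cfsg.Agent.Lib.H14.inf_centralizer_ne_bot_of_isPGroup W J hW2 h.hJ2 h.W_ne_bot
    ((le_sup_right : J ≤ K ⊔ J).trans h.hHW)
  have hdvd : Nat.card ↥(W ⊓ Subgroup.centralizer (J : Set G) : Subgroup G) ∣ 4 := by
    rw [← h.hW4]
    exact Subgroup.card_dvd_of_le inf_le_left
  have hne1 : Nat.card ↥(W ⊓ Subgroup.centralizer (J : Set G) : Subgroup G) ≠ 1 := by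
    intro h1
    exact hne (Subgroup.card_eq_one.mp h1)
  have hne4 : Nat.card ↥(W ⊓ Subgroup.centralizer (J : Set G) : Subgroup G) ≠ 4 := by
    intro h4
    apply h.J_not_le_centralizer
    have heq : W ⊓ Subgroup.centralizer (J : Set G) = W :=
      eq_of_le_of_card_le' inf_le_left (by rw [h4, h.hW4])
    have hWC : W ≤ Subgroup.centralizer (J : Set G) := by
      rw [← heq]; exact inf_le_right
    exact Subgroup.le_centralizer_iff.mp hWC
  have hle : Nat.card ↥(W ⊓ Subgroup.centralizer (J : Set G) : Subgroup G) ≤ 4 :=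
    Nat.le_of_dvd (by norm_num) hdvd
  interval_cases hc : Nat.card ↥(W ⊓ Subgroup.centralizer (J : Set G) : Subgroup G)
  · exact absurd hdvd (by norm_num)
  · exact absurd rfl hne1
  · rfl
  · exact absurd hdvd (by norm_num)
  · exact absurd rfl hne4

/-- `Ω₁(Z(J)) ∩ W = C_W(J)`. -/
theorem Z0_inf_W [Finite G] (h : JCD K J R S W) :
    Cfsg.omegaCenterOf J ⊓ W = W ⊓ Subgroup.centralizer (J : Set G) := by
  apply le_antisymm
  · intro z hz
    obtain ⟨h1, h2⟩ := Subgroup.mem_inf.mp hz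
    exact Subgroup.mem_inf.mpr ⟨h2, omegaCenterOf_le_centralizer J h1⟩
  · intro w hw
    obtain ⟨h1, h2⟩ := Subgroup.mem_inf.mp hw
    exact Subgroup.mem_inf.mpr ⟨h.mem_Z0_of_fixed (h.hWS h1) (h.hW2 w h1) h2, h1⟩

/-- For `A ∈ maxEA 2 S` not centralizing `W`, the subgroup `W (A ∩ C(W))` is again in
`maxEA 2 S`. -/
theorem sup_mem_maxEA [Finite G] (h : JCD K J R S W) {A : Subgroup G} (hA : A ∈ maxEA 2 S)
    (hAW : ¬ A ≤ Subgroup.centralizer (W : Set G)) :
    W ⊔ (A ⊓ Subgroup.centralizer (W : Set G)) ∈ maxEA 2 S := by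
  set B := A ⊓ Subgroup.centralizer (W : Set G) with hB
  -- the fixed involution `w₀`
  have hne : W ⊓ Subgroup.centralizer (J : Set G) ≠ ⊥ := by
    intro hb
    have := h.card_fixed
    rw [hb, Subgroup.card_bot] at this
    omega
  obtain ⟨w₀, hw₀1⟩ := (Subgroup.ne_bot_iff_exists_ne_one).mp hne
  have hw₀W : (w₀ : G) ∈ W := (Subgroup.mem_inf.mp w₀.2).1
  have hw₀J : ∀ g ∈ J, g * (w₀ : G) = (w₀ : G) * g := fun g hg =>
    Subgroup.mem_centralizer_iff.mp (Subgroup.mem_inf.mp w₀.2).2 g hg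
  have hw₀1' : (w₀ : G) ≠ 1 := fun hh => hw₀1 (Subtype.ext hh)
  obtain ⟨a, haA, haW⟩ := SetLike.not_le_iff_exists.mp hAW
  have haJ : a ∈ J := h.le_J hA haA
  have ha2 : a * a = 1 := by
    have := hA.2.1.2 a haA
    rwa [pow_two] at this
  have hainv : a⁻¹ = a := (eq_inv_of_mul_eq_one_left ha2).symm
  rw [Subgroup.mem_centralizer_iff] at haW
  push Not at haW
  obtain ⟨w₁, hw₁W, hw₁a⟩ := haW
  have hw₁1 : w₁ ≠ 1 := by
    rintro rfl
    exact hw₁a (by rw [one_mul, mul_one])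
  have hw₁0 : w₁ ≠ (w₀ : G) := by
    intro hh
    rw [hh] at hw₁a
    exact hw₁a (hw₀J a haJ).symm
  have hcases := four_group_cases h.hW4 h.hW2 hw₀W hw₁W hw₀1' hw₁1 hw₁0
  have hJN : ∀ g ∈ J, g ∈ Subgroup.normalizer (W : Set G) := fun g hg =>
    h.hHW ((le_sup_right : J ≤ K ⊔ J) hg)
  have key : ∀ g ∈ J, g * w₁ * g⁻¹ = w₁ ∨ g * w₁ * g⁻¹ = (w₀ : G) * w₁ := by
    intro g hg
    have hmem : g * w₁ * g⁻¹ ∈ W := (Subgroup.mem_normalizer_iff.mp (hJN g hg) w₁).mp hw₁W
    rcases hcases _ hmem with h1 | h1 | h1 | h1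
    · exfalso
      apply hw₁1
      have : w₁ = g⁻¹ * (g * w₁ * g⁻¹) * g := by group
      rw [this, h1]; group
    · exfalso
      apply hw₁0
      have : w₁ = g⁻¹ * (g * w₁ * g⁻¹) * g := by group
      rw [this, h1]
      have := hw₀J g hg
      calc g⁻¹ * (w₀ : G) * g = g⁻¹ * ((w₀ : G) * g) := by group
        _ = g⁻¹ * (g * (w₀ : G)) := by rw [this]
        _ = (w₀ : G) := by group
    · exact Or.inl h1
    · exact Or.inr h1
  have key2 : ∀ g ∈ J, g * w₁ * g⁻¹ = w₁ → g ∈ Subgroup.centralizer (W : Set G) := by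
    intro g hg hfix
    have hc1 : w₁ * g = g * w₁ := by
      calc w₁ * g = (g * w₁ * g⁻¹) * g := by rw [hfix]
        _ = g * w₁ := by group
    have hc0 : (w₀ : G) * g = g * (w₀ : G) := (hw₀J g hg).symm
    rw [Subgroup.mem_centralizer_iff]
    intro w hw
    rcases hcases w hw with rfl | rfl | rfl | rfl
    · rw [one_mul, mul_one]
    · exact hc0
    · exact hc1
    · calc (w₀ : G) * w₁ * g = (w₀ : G) * (w₁ * g) := by group
        _ = (w₀ : G) * (g * w₁) := by rw [hc1]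
        _ = ((w₀ : G) * g) * w₁ := by group
        _ = (g * (w₀ : G)) * w₁ := by rw [hc0]
        _ = g * ((w₀ : G) * w₁) := by group
  have hamove : a * w₁ * a⁻¹ = (w₀ : G) * w₁ := by
    rcases key a haJ with h1 | h1
    · exfalso
      apply hw₁a
      calc w₁ * a = (a * w₁ * a⁻¹) * a := by rw [h1]
        _ = a * w₁ := by group
    · exact h1
  have hsplit : ∀ a' ∈ A, a' ∈ B ∨ a * a' ∈ B := by
    intro a' ha'
    have ha'J : a' ∈ J := h.le_J hA ha'
    rcases key a' ha'J with h1 | h1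
    · exact Or.inl (Subgroup.mem_inf.mpr ⟨ha', key2 a' ha'J h1⟩)
    · right
      refine Subgroup.mem_inf.mpr ⟨A.mul_mem haA ha', key2 _ (J.mul_mem haJ ha'J) ?_⟩
      calc a * a' * w₁ * (a * a')⁻¹ = a * (a' * w₁ * a'⁻¹) * a⁻¹ := by group
        _ = a * ((w₀ : G) * w₁) * a⁻¹ := by rw [h1]
        _ = (a * (w₀ : G)) * a⁻¹ * (a * w₁ * a⁻¹) := by group
        _ = ((w₀ : G) * a) * a⁻¹ * ((w₀ : G) * w₁) := by rw [hw₀J a haJ, hamove]
        _ = ((w₀ : G) * (w₀ : G)) * w₁ := by group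
        _ = w₁ := by rw [h.hW2 _ hw₀W, one_mul]
  have hAle : A ≤ Subgroup.zpowers a ⊔ B := by
    intro a' ha'
    rcases hsplit a' ha' with h1 | h1
    · exact (le_sup_right : B ≤ Subgroup.zpowers a ⊔ B) h1
    · have : a' = a * (a * a') := by
        calc a' = (a * a) * a' := by rw [ha2, one_mul]
          _ = a * (a * a') := by group
      rw [this]
      exact Subgroup.mul_mem _
        ((le_sup_left : Subgroup.zpowers a ≤ Subgroup.zpowers a ⊔ B) (Subgroup.mem_zpowers a))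
        ((le_sup_right : B ≤ Subgroup.zpowers a ⊔ B) h1)
  have hAcomm : ∀ u ∈ A, ∀ v ∈ A, u * v = v * u := fun u hu v hv => by
    have := hA.2.1.1
    exact setLike_mul_comm (s := A) hu hv
  have hzn : Subgroup.zpowers a ≤ Subgroup.normalizer (B : Set G) := by
    rw [Subgroup.zpowers_le, Subgroup.mem_normalizer_iff]
    intro b
    have e : ∀ b ∈ B, a * b * a⁻¹ = b := fun b hb => by
      rw [hAcomm a haA b (inf_le_left (a := A) hb)]; group
    constructor
    · intro hb; rw [e b hb]; exact hb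
    · intro hb
      have := e _ hb
      have e2 : b = a⁻¹ * (a * b * a⁻¹) * a := by group
      rw [e2]
      have e3 : a⁻¹ * (a * b * a⁻¹) * a = a * (a * b * a⁻¹) * a⁻¹ := by rw [hainv]
      rw [e3, e _ hb]; exact hb
  have hcardA : Nat.card A ≤ Nat.card B * 2 := by
    have h1 : Nat.card A ≤ Nat.card (Subgroup.zpowers a ⊔ B : Subgroup G) :=
      Nat.card_le_card_of_injective (Subgroup.inclusion hAle) (Subgroup.inclusion_injective hAle)
    have h2 := Cfsg.Agent.Lib.H19.card_sup_dvd_mul_of_le_normalizer hzn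
    have h3 : Nat.card (Subgroup.zpowers a) ≤ 2 := by
      rw [Nat.card_zpowers]
      apply Nat.le_of_dvd (by norm_num)
      apply orderOf_dvd_of_pow_eq_one
      rw [pow_two]; exact ha2
    have h4 : Nat.card (Subgroup.zpowers a ⊔ B : Subgroup G) ≤
        Nat.card (Subgroup.zpowers a) * Nat.card B :=
      Nat.le_of_dvd (Nat.mul_pos Nat.card_pos Nat.card_pos) h2
    calc Nat.card A ≤ Nat.card (Subgroup.zpowers a) * Nat.card B := h1.trans h4
      _ ≤ 2 * Nat.card B := Nat.mul_le_mul_right _ h3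
      _ = Nat.card B * 2 := by ring
  have hWB : Nat.card (W ⊓ B : Subgroup G) ≤ 2 := by
    have hdvd : Nat.card (W ⊓ B : Subgroup G) ∣ 4 := by
      rw [← h.hW4]
      exact Subgroup.card_dvd_of_le inf_le_left
    have hne4 : Nat.card (W ⊓ B : Subgroup G) ≠ 4 := by
      intro h4
      have heq : W ⊓ B = W := eq_of_le_of_card_le' inf_le_left (by rw [h4, h.hW4])
      have hw₁B : w₁ ∈ B := by
        have : w₁ ∈ W ⊓ B := by rw [heq]; exact hw₁W
        exact (Subgroup.mem_inf.mp this).2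
      exact hw₁a (hAcomm w₁ (inf_le_left (a := A) hw₁B) a haA)
    have hle : Nat.card (W ⊓ B : Subgroup G) ≤ 4 := Nat.le_of_dvd (by norm_num) hdvd
    interval_cases hc : Nat.card (W ⊓ B : Subgroup G)
    · omega
    · omega
    · omega
    · exact absurd hdvd (by norm_num)
    · exact absurd rfl hne4
  have hWel : Cfsg.IsElementaryAbelian 2 W :=
    elemAb_two_of_sq (fun a ha b hb => h.W_comm ha hb) h.hW2
  have hBel : Cfsg.IsElementaryAbelian 2 B := Cfsg.Agent.Lib.H3.elemAb_mono inf_le_left hA.2.1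
  have hE : Cfsg.IsElementaryAbelian 2 (W ⊔ B) :=
    Cfsg.Agent.Lib.H3.elemAb_sup hWel hBel inf_le_right
  have hES : W ⊔ B ≤ S := sup_le h.hWS (inf_le_left.trans hA.1)
  have hcardE : Nat.card A ≤ Nat.card (W ⊔ B : Subgroup G) := by
    have h1 := card_mul_card_le W B
    rw [h.hW4] at h1
    have h2 : Nat.card (W ⊓ B : Subgroup G) * Nat.card (W ⊔ B : Subgroup G) ≤
        2 * Nat.card (W ⊔ B : Subgroup G) := Nat.mul_le_mul_right _ hWB
    have h3 : 4 * Nat.card B ≤ 2 * Nat.card (W ⊔ B : Subgroup G) := h1.trans h2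
    omega
  refine ⟨hES, hE, ?_⟩
  intro D hD hDe
  exact (hA.2.2 D hD hDe).trans hcardE

/-- `W ≤ J`. -/
theorem hWJ [Finite G] (h : JCD K J R S W) : W ≤ J := by
  obtain ⟨A, hA, hAW⟩ := h.exists_maxEA_not_le
  exact le_sup_left.trans (h.le_J (h.sup_mem_maxEA hA hAW))

end JCD

end Cfsg.Agent.Lib.H15
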