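import Mathlib
import Cfsg.Agent.Lib.H15.JComp4
import Cfsg.Agent.Lib.H15.GlauRepl

/-!
helper15: the counting lemma behind condition (3) of a `J(T)`-component.

`T` a finite `2`-group (inside `G`), `A` an elementary abelian subgroup of `T` of largest order,
`U ≤ T` elementary abelian, normalized by `A` and by an element `x` with `x ^ 3 = 1` acting
without fixed points on `U`; a subgroup `B ≤ A` of index at most `2` acts on `U` commuting with `x`
and some `a ∈ A` inverts the action of `x`. Then `|U| ≤ 4`.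
-/

set_option autoImplicit false

namespace Cfsg.Agent.Lib.H15.JC

open Cfsg.Agent.Lib.H15
open Cfsg.Agent.Lib.H26 (maxEA JJ)

variable {G : Type*} [Group G]

theorem le_normalizer_of_commute {X Y : Subgroup G} (h : ∀ x ∈ X, ∀ y ∈ Y, x * y = y * x) :
    X ≤ Subgroup.normalizer (Y : Set G) := by
  refine le_trans ?_ (Subgroup.centralizer_le_normalizer _)
  intro x hx
  rw [Subgroup.mem_centralizer_iff]
  intro y hy
  exact (h x hx y hy).symm

theorem card_mul_le_of_inf_eq_bot [Finite G] {X Y U : Subgroup G} (hX : X ≤ U) (hY : Y ≤ U)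
    (hUc : ∀ u ∈ U, ∀ v ∈ U, u * v = v * u) (hXY : X ⊓ Y = ⊥) :
    Nat.card X * Nat.card Y ≤ Nat.card U := by
  have hn : X ≤ Subgroup.normalizer (Y : Set G) :=
    le_normalizer_of_commute (fun x hx y hy => hUc x (hX hx) y (hY hy))
  have h := GR.card_sup_mul_card_inf hn
  rw [hXY, Subgroup.card_bot, mul_one] at h
  rw [← h]
  exact Subgroup.card_le_of_le (sup_le hX hY)

/-- Basic inequality from maximality of `A`. -/
theorem card_mul_le [Finite G] {T A A₀ D : Subgroup G} (hA : A ∈ maxEA 2 T) (hA₀ : A₀ ≤ A)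
    (hDT : D ≤ T) (hDc : ∀ u ∈ D, ∀ v ∈ D, u * v = v * u) (hD2 : ∀ u ∈ D, u * u = 1)
    (hcen : ∀ g ∈ A₀, ∀ d ∈ D, g * d = d * g) :
    Nat.card A₀ * Nat.card D ≤ Nat.card A * Nat.card (A₀ ⊓ D : Subgroup G) := by
  have hA₀e : Cfsg.IsElementaryAbelian 2 A₀ := Cfsg.Agent.Lib.H3.elemAb_mono hA₀ hA.2.1
  have hDe : Cfsg.IsElementaryAbelian 2 D := elemAb_two_of_sq hDc hD2
  have hle : D ≤ Subgroup.centralizer (A₀ : Set G) := by
    intro d hd
    rw [Subgroup.mem_centralizer_iff]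
    intro g hg
    exact hcen g hg d hd
  have hE := Cfsg.Agent.Lib.H3.elemAb_sup hA₀e hDe hle
  have hET : A₀ ⊔ D ≤ T := sup_le (hA₀.trans hA.1) hDT
  have hcard := hA.2.2 _ hET hE
  have hn : A₀ ≤ Subgroup.normalizer (D : Set G) := le_normalizer_of_commute hcen
  have h := GR.card_sup_mul_card_inf hn
  rw [← h]
  exact Nat.mul_le_mul_right _ hcard


/-- Counting through fibres. -/
theorem card_le_mul_of_fiber {α β : Type*} [Finite α] [Finite β] (f : α → β) (n : ℕ)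
    (h : ∀ a₀ : α, ∃ g : {a : α // f a = f a₀} → Fin n, Function.Injective g) :
    Nat.card α ≤ n * Nat.card (Set.range f) := by
  classical
  haveI := Fintype.ofFinite α
  haveI := Fintype.ofFinite β
  have h1 := Finset.card_le_mul_card_image (f := f) (Finset.univ : Finset α) n (by
    intro b hb
    rw [Finset.mem_image] at hb
    obtain ⟨a₀, -, rfl⟩ := hb
    obtain ⟨g, hg⟩ := h a₀
    have : (Finset.univ.filter fun x => f x = f a₀).card = Fintype.card {a : α // f a = f a₀} := by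
      rw [Fintype.card_subtype]
    rw [this]
    have := Fintype.card_le_of_injective g hg
    simpa using this)
  rw [Finset.card_univ] at h1
  rw [Nat.card_eq_fintype_card]
  refine h1.trans (Nat.mul_le_mul_left _ ?_)
  rw [Nat.card_eq_fintype_card, ← Set.toFinset_card, Set.toFinset_range]

theorem card_le_mul_of_fiber' {α β γ : Type*} [Finite α] [Finite β] [Finite γ] (f : α → β)
    (h : ∀ a₀ : α, ∃ g : {a : α // f a = f a₀} → γ, Function.Injective g) :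
    Nat.card α ≤ Nat.card γ * Nat.card (Set.range f) := by
  apply card_le_mul_of_fiber
  intro a₀
  obtain ⟨g, hg⟩ := h a₀
  exact ⟨(Finite.equivFin γ) ∘ g, (Finite.equivFin γ).injective.comp hg⟩

/-- The configuration of the counting lemma. -/
structure K3Cfg (T A B U : Subgroup G) (x a : G) : Prop where
  hA : A ∈ maxEA 2 T
  hUT : U ≤ T
  hUc : ∀ u ∈ U, ∀ v ∈ U, u * v = v * u
  hU2 : ∀ u ∈ U, u * u = 1
  hxU : ∀ u ∈ U, x * u * x⁻¹ ∈ U
  hx3 : x ^ 3 = 1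
  hfix : ∀ u ∈ U, x * u * x⁻¹ = u → u = 1
  hAU : ∀ g ∈ A, ∀ u ∈ U, g * u * g⁻¹ ∈ U
  hBA : B ≤ A
  haA : a ∈ A
  hcover : ∀ g ∈ A, g ∈ B ∨ a * g ∈ B
  hB : ∀ b ∈ B, ∀ u ∈ U, b * (x * u * x⁻¹) * b⁻¹ = x * (b * u * b⁻¹) * x⁻¹
  ha : ∀ u ∈ U, a * (x * u * x⁻¹) * a⁻¹ = x⁻¹ * (a * u * a⁻¹) * x

namespace K3Cfg

variable {T A B U : Subgroup G} {x a : G}

theorem commA (c : K3Cfg T A B U x a) {g h : G} (hg : g ∈ A) (hh : h ∈ A) : g * h = h * g := by
  have := c.hA.2.1.1.is_comm.comm (⟨g, hg⟩ : A) ⟨h, hh⟩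
  exact congrArg Subtype.val this

theorem sqA (c : K3Cfg T A B U x a) {g : G} (hg : g ∈ A) : g * g = 1 := by
  have := c.hA.2.1.2 g hg
  rwa [pow_two] at this

theorem invA (c : K3Cfg T A B U x a) {g : G} (hg : g ∈ A) : g⁻¹ = g := by
  have := c.sqA hg
  exact inv_eq_of_mul_eq_one_left this

theorem invU (c : K3Cfg T A B U x a) {u : G} (hu : u ∈ U) : u⁻¹ = u :=
  inv_eq_of_mul_eq_one_left (c.hU2 u hu)

theorem xinv_mem (c : K3Cfg T A B U x a) {u : G} (hu : u ∈ U) : x⁻¹ * u * x ∈ U := by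
  have h1 := c.hxU _ (c.hxU u hu)
  have hx : x⁻¹ = x * x := by
    have := c.hx3
    rw [pow_succ, pow_two] at this
    exact inv_eq_of_mul_eq_one_left (by rw [← this])
  have e : x⁻¹ * u * x = x * (x * u * x⁻¹) * x⁻¹ := by
    have hx' : x = x⁻¹ * x⁻¹ := by
      have : x⁻¹ * x⁻¹ = (x * x)⁻¹ := by group
      rw [this, ← hx, inv_inv]
    calc x⁻¹ * u * x = x⁻¹ * u * (x⁻¹ * x⁻¹) := by rw [← hx']
      _ = (x * x) * u * (x⁻¹ * x⁻¹) := by rw [← hx]
      _ = x * (x * u * x⁻¹) * x⁻¹ := by group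
  rw [e]; exact h1

/-- The fixed points of `a` on `U`. -/
def Y (U : Subgroup G) (a : G) : Subgroup G := U ⊓ Subgroup.centralizer ({a} : Set G)

theorem mem_Y {u : G} : u ∈ Y U a ↔ u ∈ U ∧ a * u = u * a := by
  unfold Y
  rw [Subgroup.mem_inf, Subgroup.mem_centralizer_iff]
  constructor
  · rintro ⟨h1, h2⟩
    exact ⟨h1, h2 a rfl⟩
  · rintro ⟨h1, h2⟩
    refine ⟨h1, ?_⟩
    intro h hh
    rw [Set.mem_singleton_iff] at hh
    rw [hh]; exact h2

/-- `Y ∩ x Y x⁻¹ = 1`. -/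
theorem eq_one_of_mem_Y (c : K3Cfg T A B U x a) {y : G} (hy : y ∈ Y U a)
    (hy' : x * y * x⁻¹ ∈ Y U a) : y = 1 := by
  obtain ⟨hyU, hya⟩ := mem_Y.mp hy
  obtain ⟨_, hya'⟩ := mem_Y.mp hy'
  have h1 := c.ha y hyU
  have h2 : a * y * a⁻¹ = y := by rw [hya]; group
  have h3 : a * (x * y * x⁻¹) * a⁻¹ = x * y * x⁻¹ := by rw [hya']; group
  rw [h2, h3] at h1
  -- x y x⁻¹ = x⁻¹ y x
  have hx : x⁻¹ = x * x := by
    have := c.hx3
    rw [pow_succ, pow_two] at this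
    exact inv_eq_of_mul_eq_one_left (by rw [← this])
  apply c.hfix y hyU
  -- from h1: x^2 y x^-2 = y, i.e. x⁻¹ y x = y
  have h4 : x⁻¹ * y * x = y := by
    have e : x⁻¹ * y * x = x * (x * y * x⁻¹) * x⁻¹ := by
      have hx' : x = x⁻¹ * x⁻¹ := by
        have : x⁻¹ * x⁻¹ = (x * x)⁻¹ := by group
        rw [this, ← hx, inv_inv]
      calc x⁻¹ * y * x = x⁻¹ * y * (x⁻¹ * x⁻¹) := by rw [← hx']
        _ = (x * x) * y * (x⁻¹ * x⁻¹) := by rw [← hx]
        _ = x * (x * y * x⁻¹) * x⁻¹ := by group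
    rw [e, h1]; group
  calc x * y * x⁻¹ = x * (x⁻¹ * y * x) * x⁻¹ := by rw [h4]
    _ = y := by group


/-- `C_U(B₀)` for a subgroup `B₀`. -/
def FF (U B₀ : Subgroup G) : Subgroup G := U ⊓ Subgroup.centralizer (B₀ : Set G)

theorem mem_FF {B₀ : Subgroup G} {u : G} : u ∈ FF U B₀ ↔ u ∈ U ∧ ∀ b ∈ B₀, b * u = u * b := by
  unfold FF
  rw [Subgroup.mem_inf, Subgroup.mem_centralizer_iff]
  rfl

theorem conj_mem_FF (c : K3Cfg T A B U x a) {B₀ : Subgroup G} (hB₀ : B₀ ≤ B) {u : G}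
    (hu : u ∈ FF U B₀) : x * u * x⁻¹ ∈ FF U B₀ := by
  obtain ⟨huU, hub⟩ := mem_FF.mp hu
  refine mem_FF.mpr ⟨c.hxU u huU, ?_⟩
  intro b hb
  have h1 := c.hB b (hB₀ hb) u huU
  have h2 : b * u * b⁻¹ = u := by rw [hub b hb]; group
  rw [h2] at h1
  calc b * (x * u * x⁻¹) = (b * (x * u * x⁻¹) * b⁻¹) * b := by group
    _ = x * u * x⁻¹ * b := by rw [h1]

/-- The key inequality `|B₀| |C_Y(B₀)|² ≤ |A| |A ∩ U|`. -/
theorem key_ineq [Finite G] (c : K3Cfg T A B U x a) {B₀ : Subgroup G} (hB₀ : B₀ ≤ B) :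
    Nat.card B₀ * (Nat.card (FF U B₀ ⊓ Y U a : Subgroup G) * Nat.card (FF U B₀ ⊓ Y U a : Subgroup G))
      ≤ Nat.card A * Nat.card (A ⊓ U : Subgroup G) := by
  set F₀ := FF U B₀ with hF₀
  set D₀ := F₀ ⊓ Y U a with hD₀
  have hF₀U : F₀ ≤ U := inf_le_left
  have h1 : Nat.card D₀ * Nat.card (cj x D₀) ≤ Nat.card F₀ := by
    apply card_mul_le_of_inf_eq_bot (U := F₀) inf_le_left ?_ ?_ ?_
    · intro z hz
      rw [mem_cj_iff] at hz
      have := conj_mem_FF c hB₀ hz.1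
      have e : x * (x⁻¹ * z * x) * x⁻¹ = z := by group
      rwa [e] at this
    · intro u hu v hv
      exact c.hUc u (hF₀U hu) v (hF₀U hv)
    · rw [eq_bot_iff]
      intro z hz
      rw [Subgroup.mem_bot]
      have hz1 : z ∈ Y U a := hz.1.2
      have hz2 : z ∈ cj x D₀ := hz.2
      rw [mem_cj_iff] at hz2
      have hz3 : x⁻¹ * z * x ∈ Y U a := hz2.2
      have hz4 : x * (x⁻¹ * z * x) * x⁻¹ ∈ Y U a := by
        have e : x * (x⁻¹ * z * x) * x⁻¹ = z := by group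
        rw [e]; exact hz1
      have := c.eq_one_of_mem_Y hz3 hz4
      have e : z = x * (x⁻¹ * z * x) * x⁻¹ := by group
      rw [e, this]; group
  rw [card_cj] at h1
  have h2 := card_mul_le c.hA (hB₀.trans c.hBA) (hF₀U.trans c.hUT)
    (fun u hu v hv => c.hUc u (hF₀U hu) v (hF₀U hv)) (fun u hu => c.hU2 u (hF₀U hu))
    (fun g hg d hd => (mem_FF.mp hd).2 g hg)
  have h3 : Nat.card (B₀ ⊓ F₀ : Subgroup G) ≤ Nat.card (A ⊓ U : Subgroup G) :=
    Subgroup.card_le_of_le (inf_le_inf (hB₀.trans c.hBA) hF₀U)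
  calc Nat.card B₀ * (Nat.card D₀ * Nat.card D₀) ≤ Nat.card B₀ * Nat.card F₀ :=
        Nat.mul_le_mul_left _ h1
    _ ≤ Nat.card A * Nat.card (B₀ ⊓ F₀ : Subgroup G) := h2
    _ ≤ Nat.card A * Nat.card (A ⊓ U : Subgroup G) := Nat.mul_le_mul_left _ h3

/-- elements of `U` centralizing `B` and `a` lie in `A`. -/
theorem mem_A_of_fixed [Finite G] (c : K3Cfg T A B U x a) {z : G} (hzU : z ∈ U)
    (hzB : ∀ b ∈ B, b * z = z * b) (hza : a * z = z * a) : z ∈ A := by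
  apply maxEA_mem_of_commute c.hA (c.hUT hzU) (c.hU2 z hzU)
  intro g hg
  rcases c.hcover g hg with h | h
  · exact (hzB g h).symm
  · have h1 := hzB _ h
    -- a * g * z = z * a * g
    have h2 : a * (g * z) = a * (z * g) := by
      calc a * (g * z) = a * g * z := by group
        _ = z * (a * g) := h1
        _ = (z * a) * g := by group
        _ = (a * z) * g := by rw [hza]
        _ = a * (z * g) := by group
    exact (mul_left_cancel h2).symm

theorem A_inf_U_eq (c : K3Cfg T A B U x a) [Finite G] : A ⊓ U = FF U B ⊓ Y U a := by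
  apply le_antisymm
  · intro z hz
    refine ⟨mem_FF.mpr ⟨hz.2, fun b hb => c.commA (c.hBA hb) hz.1⟩, mem_Y.mpr ⟨hz.2, c.commA c.haA hz.1⟩⟩
  · intro z hz
    obtain ⟨hzU, hzB⟩ := mem_FF.mp hz.1
    obtain ⟨_, hza⟩ := mem_Y.mp hz.2
    exact ⟨c.mem_A_of_fixed hzU hzB hza, hzU⟩

theorem card_A_le [Finite G] (c : K3Cfg T A B U x a) : Nat.card A ≤ 2 * Nat.card B := by
  classical
  have hsub : (A : Set G) ⊆ (B : Set G) ∪ (fun g => a * g) ⁻¹' (B : Set G) := by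
    intro g hg
    rcases c.hcover g hg with h | h
    · exact Or.inl h
    · exact Or.inr h
  have h1 : Nat.card A = (A : Set G).ncard := (Nat.card_coe_set_eq _)
  have h2 : Nat.card B = (B : Set G).ncard := (Nat.card_coe_set_eq _)
  rw [h1, h2]
  have h3 : ((fun g => a * g) ⁻¹' (B : Set G)).ncard = (B : Set G).ncard := by
    have : (fun g => a * g) ⁻¹' (B : Set G) = (fun g => a⁻¹ * g) '' (B : Set G) := by
      ext g
      constructor
      · intro hg
        exact ⟨a * g, hg, by group⟩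
      · rintro ⟨b, hb, rfl⟩
        show a * (a⁻¹ * b) ∈ (B : Set G)
        have e : a * (a⁻¹ * b) = b := by group
        rw [e]; exact hb
    rw [this]
    exact Set.ncard_image_of_injective _ (mul_right_injective a⁻¹)
  calc (A : Set G).ncard ≤ ((B : Set G) ∪ (fun g => a * g) ⁻¹' (B : Set G)).ncard :=
        Set.ncard_le_ncard hsub (Set.toFinite _)
    _ ≤ (B : Set G).ncard + ((fun g => a * g) ⁻¹' (B : Set G)).ncard := Set.ncard_union_le _ _
    _ = 2 * (B : Set G).ncard := by rw [h3]; ring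

/-- `|A ∩ U| ≤ 2`. -/
theorem card_A_inf_U_le [Finite G] (c : K3Cfg T A B U x a) : Nat.card (A ⊓ U : Subgroup G) ≤ 2 := by
  have h1 := c.key_ineq (le_refl B)
  rw [← c.A_inf_U_eq] at h1
  have h2 := c.card_A_le
  set n := Nat.card (A ⊓ U : Subgroup G) with hn
  have hB : 0 < Nat.card B := Nat.card_pos
  have hn0 : 0 < n := Nat.card_pos
  -- |B| n² ≤ |A| n ≤ 2 |B| n
  have h3 : Nat.card B * (n * n) ≤ 2 * Nat.card B * n := h1.trans (Nat.mul_le_mul_right _ h2)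
  by_contra hcon
  rw [not_le] at hcon
  have : 2 * Nat.card B * n < Nat.card B * (n * n) := by
    have : 2 * (Nat.card B * n) < n * (Nat.card B * n) :=
      Nat.mul_lt_mul_of_pos_right hcon (Nat.mul_pos hB hn0)
    calc 2 * Nat.card B * n = 2 * (Nat.card B * n) := by ring
      _ < n * (Nat.card B * n) := this
      _ = Nat.card B * (n * n) := by ring
  omega


/-- `B` centralizes the fixed points of `a`. -/
theorem B_centralizes_Y [Finite G] (c : K3Cfg T A B U x a) {y : G} (hy : y ∈ Y U a) :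
    ∀ b ∈ B, b * y = y * b := by
  by_cases hy1 : y = 1
  · intro b _; rw [hy1]; group
  obtain ⟨hyU, hya⟩ := mem_Y.mp hy
  set B₀ := B ⊓ Subgroup.centralizer ({y} : Set G) with hB₀
  have hB₀B : B₀ ≤ B := inf_le_left
  have hB₀y : ∀ b ∈ B₀, b * y = y * b := by
    intro b hb
    have := (Subgroup.mem_centralizer_iff.mp hb.2) y rfl
    exact this.symm
  set D₀ := FF U B₀ ⊓ Y U a with hD₀
  have hconj : ∀ b ∈ B, b * y * b⁻¹ ∈ D₀ := by
    intro b hb
    have hbU : b * y * b⁻¹ ∈ U := c.hAU b (c.hBA hb) y hyU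
    refine ⟨mem_FF.mpr ⟨hbU, ?_⟩, mem_Y.mpr ⟨hbU, ?_⟩⟩
    · intro b₀ hb₀
      have h1 : b₀ * b = b * b₀ := c.commA (c.hBA (hB₀B hb₀)) (c.hBA hb)
      have h2 := hB₀y b₀ hb₀
      calc b₀ * (b * y * b⁻¹) = (b₀ * b) * y * b⁻¹ := by group
        _ = b * (b₀ * y) * b⁻¹ := by rw [h1]; group
        _ = b * (y * b₀) * b⁻¹ := by rw [h2]
        _ = b * y * (b₀ * b⁻¹) := by group
        _ = b * y * (b⁻¹ * b₀) := by
            have : b₀ * b⁻¹ = b⁻¹ * b₀ := by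
              have : b⁻¹ * (b₀ * b) * b⁻¹ = b⁻¹ * (b * b₀) * b⁻¹ := by rw [h1]
              have e1 : b⁻¹ * (b₀ * b) * b⁻¹ = b⁻¹ * b₀ := by group
              have e2 : b⁻¹ * (b * b₀) * b⁻¹ = b₀ * b⁻¹ := by group
              rw [e1, e2] at this
              exact this.symm
            rw [this]
        _ = b * y * b⁻¹ * b₀ := by group
    · have h1 : a * b = b * a := c.commA c.haA (c.hBA hb)
      calc a * (b * y * b⁻¹) = (a * b) * y * b⁻¹ := by group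
        _ = b * (a * y) * b⁻¹ := by rw [h1]; group
        _ = b * (y * a) * b⁻¹ := by rw [hya]
        _ = b * y * (a * b⁻¹) := by group
        _ = b * y * (b⁻¹ * a) := by
            have : a * b⁻¹ = b⁻¹ * a := by
              have : b⁻¹ * (a * b) * b⁻¹ = b⁻¹ * (b * a) * b⁻¹ := by rw [h1]
              have e1 : b⁻¹ * (a * b) * b⁻¹ = b⁻¹ * a := by group
              have e2 : b⁻¹ * (b * a) * b⁻¹ = a * b⁻¹ := by group
              rw [e1, e2] at this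
              exact this.symm
            rw [this]
        _ = b * y * b⁻¹ * a := by group
  let f : ↥B → ↥D₀ := fun b => ⟨(b : G) * y * (b : G)⁻¹, hconj b b.2⟩
  have hfib : ∀ b₁ : ↥B, ∃ g : {b : ↥B // f b = f b₁} → ↥B₀, Function.Injective g := by
    intro b₁
    refine ⟨fun b => ⟨(b₁ : G)⁻¹ * (b.1 : G), ?_⟩, ?_⟩
    · refine ⟨B.mul_mem (B.inv_mem b₁.2) b.1.2, ?_⟩
      show (b₁ : G)⁻¹ * (b.1 : G) ∈ Subgroup.centralizer ({y} : Set G)
      rw [Subgroup.mem_centralizer_iff]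
      intro h hh
      rw [Set.mem_singleton_iff] at hh
      rw [hh]
      have h1 : (b.1 : G) * y * (b.1 : G)⁻¹ = (b₁ : G) * y * (b₁ : G)⁻¹ := by
        have := b.2
        exact congrArg Subtype.val this
      have h2 : (b₁ : G)⁻¹ * ((b.1 : G) * y * (b.1 : G)⁻¹) * (b₁ : G) = y := by rw [h1]; group
      calc y * ((b₁ : G)⁻¹ * (b.1 : G))
          = ((b₁ : G)⁻¹ * ((b.1 : G) * y * (b.1 : G)⁻¹) * (b₁ : G)) * ((b₁ : G)⁻¹ * (b.1 : G)) := by
            rw [h2]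
        _ = (b₁ : G)⁻¹ * (b.1 : G) * y := by group
    · intro b b' hbb'
      have := congrArg Subtype.val hbb'
      simp only at this
      have h3 : (b.1 : G) = (b'.1 : G) := mul_left_cancel this
      exact Subtype.ext (Subtype.ext h3)
  have h1 := card_le_mul_of_fiber' f hfib
  have hrange : Nat.card (Set.range f) ≤ Nat.card D₀ - 1 := by
    have hsub : Set.range f ⊆ Set.univ \ {1} := by
      rintro _ ⟨b, rfl⟩
      refine ⟨Set.mem_univ _, ?_⟩
      rw [Set.mem_singleton_iff]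
      intro h
      apply hy1
      have := congrArg Subtype.val h
      simp only [f, Subgroup.coe_one] at this
      have e : y = (b : G)⁻¹ * ((b : G) * y * (b : G)⁻¹) * (b : G) := by group
      rw [e, this]; group
    rw [Nat.card_coe_set_eq]
    calc (Set.range f).ncard ≤ (Set.univ \ {(1 : ↥D₀)}).ncard :=
          Set.ncard_le_ncard hsub (Set.toFinite _)
      _ = (Set.univ : Set ↥D₀).ncard - 1 := Set.ncard_sdiff_singleton_of_mem (Set.mem_univ _)
      _ = Nat.card D₀ - 1 := by rw [Set.ncard_univ]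
  have h2 := c.key_ineq hB₀B
  rw [← hD₀] at h2
  have h3 := c.card_A_le
  have h4 := c.card_A_inf_U_le
  set d := Nat.card D₀ with hd
  have hd0 : 0 < d := Nat.card_pos
  have hB₀pos : 0 < Nat.card B₀ := Nat.card_pos
  -- |B₀| d² ≤ |A| * 2 ≤ 4 |B| ≤ 4 |B₀| (d - 1)
  have h5 : Nat.card B₀ * (d * d) ≤ 4 * (Nat.card B₀ * (d - 1)) := by
    calc Nat.card B₀ * (d * d) ≤ Nat.card A * Nat.card (A ⊓ U : Subgroup G) := h2
      _ ≤ (2 * Nat.card B) * 2 := Nat.mul_le_mul h3 h4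
      _ = 4 * Nat.card B := by ring
      _ ≤ 4 * (Nat.card B₀ * Nat.card (Set.range f)) := Nat.mul_le_mul_left _ h1
      _ ≤ 4 * (Nat.card B₀ * (d - 1)) :=
          Nat.mul_le_mul_left _ (Nat.mul_le_mul_left _ hrange)
  have h6 : d * d ≤ 4 * (d - 1) := by
    have : Nat.card B₀ * (d * d) ≤ Nat.card B₀ * (4 * (d - 1)) := by
      calc Nat.card B₀ * (d * d) ≤ 4 * (Nat.card B₀ * (d - 1)) := h5
        _ = Nat.card B₀ * (4 * (d - 1)) := by ring
    exact Nat.le_of_mul_le_mul_left this hB₀pos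
  have hd2 : d = 2 := by
    obtain ⟨e, he⟩ : ∃ e, d = e + 1 := ⟨d - 1, by omega⟩
    rw [he] at h6
    simp only [Nat.add_sub_cancel] at h6
    have h6' : (e + 1) * (e + 1) ≤ 4 * e := h6
    have : e = 1 := by nlinarith [sq_nonneg ((e : ℤ) - 1)]
    omega
  have h7 : Nat.card B ≤ Nat.card B₀ := by
    calc Nat.card B ≤ Nat.card B₀ * Nat.card (Set.range f) := h1
      _ ≤ Nat.card B₀ * (d - 1) := Nat.mul_le_mul_left _ hrange
      _ = Nat.card B₀ := by rw [hd2]; simp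
  have h8 : B₀ = B := eq_of_le_of_card_le' hB₀B h7
  intro b hb
  rw [← h8] at hb
  exact hB₀y b hb

/-- The conclusion: `|U| ≤ 4`. -/
theorem card_U_le [Finite G] (c : K3Cfg T A B U x a) : Nat.card U ≤ 4 := by
  have hYle : Y U a ≤ A ⊓ U := by
    intro y hy
    obtain ⟨hyU, hya⟩ := mem_Y.mp hy
    exact ⟨c.mem_A_of_fixed hyU (c.B_centralizes_Y hy) hya, hyU⟩
  have hY2 : Nat.card (Y U a) ≤ 2 := (Subgroup.card_le_of_le hYle).trans c.card_A_inf_U_le
  have hainv : a⁻¹ = a := c.invA c.haA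
  have hphi : ∀ u ∈ U, u⁻¹ * (a * u * a⁻¹) ∈ Y U a := by
    intro u hu
    have h1 : a * u * a⁻¹ ∈ U := c.hAU a c.haA u hu
    have h2 : u⁻¹ * (a * u * a⁻¹) ∈ U := U.mul_mem (U.inv_mem hu) h1
    refine mem_Y.mpr ⟨h2, ?_⟩
    have h3 : a * (u⁻¹ * (a * u * a⁻¹)) * a⁻¹ = (a * u * a⁻¹)⁻¹ * u := by
      have : a * a = 1 := c.sqA c.haA
      calc a * (u⁻¹ * (a * u * a⁻¹)) * a⁻¹ = (a * u * a⁻¹)⁻¹ * ((a * a) * u * (a * a)⁻¹) := by group
        _ = (a * u * a⁻¹)⁻¹ * u := by rw [this]; group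
    have h4 : (a * u * a⁻¹)⁻¹ * u = u⁻¹ * (a * u * a⁻¹) := by
      rw [c.invU h1, c.invU hu]
      exact c.hUc _ h1 _ hu
    rw [h4] at h3
    calc a * (u⁻¹ * (a * u * a⁻¹)) = (a * (u⁻¹ * (a * u * a⁻¹)) * a⁻¹) * a := by group
      _ = u⁻¹ * (a * u * a⁻¹) * a := by rw [h3]
  let φ : ↥U → ↥(Y U a) := fun u => ⟨(u : G)⁻¹ * (a * (u : G) * a⁻¹), hphi u u.2⟩
  have hfib : ∀ u₁ : ↥U, ∃ g : {u : ↥U // φ u = φ u₁} → ↥(Y U a), Function.Injective g := by
    intro u₁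
    refine ⟨fun u => ⟨(u₁ : G) * (u.1 : G)⁻¹, ?_⟩, ?_⟩
    · have hu := u.1.2
      have hu₁ := u₁.2
      have h1 : (u.1 : G)⁻¹ * (a * (u.1 : G) * a⁻¹) = (u₁ : G)⁻¹ * (a * (u₁ : G) * a⁻¹) :=
        congrArg Subtype.val u.2
      refine mem_Y.mpr ⟨U.mul_mem hu₁ (U.inv_mem hu), ?_⟩
      -- a (u₁ u⁻¹) a⁻¹ = u₁ u⁻¹
      have hau : a * (u.1 : G) * a⁻¹ ∈ U := c.hAU a c.haA _ hu
      have hau₁ : a * (u₁ : G) * a⁻¹ ∈ U := c.hAU a c.haA _ hu₁
      have h2 : a * (u₁ : G) * a⁻¹ * (a * (u.1 : G) * a⁻¹)⁻¹ = (u₁ : G) * (u.1 : G)⁻¹ := by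
        -- from h1: u⁻¹ u^a = u₁⁻¹ u₁^a, so u₁^a (u^a)⁻¹ = u₁ u⁻¹ in the abelian group U
        have e1 : a * (u₁ : G) * a⁻¹ = (u₁ : G) * ((u.1 : G)⁻¹ * (a * (u.1 : G) * a⁻¹)) := by
          rw [h1]; group
        rw [e1]; group
      have h3 : a * ((u₁ : G) * (u.1 : G)⁻¹) * a⁻¹ = (u₁ : G) * (u.1 : G)⁻¹ := by
        have e : a * ((u₁ : G) * (u.1 : G)⁻¹) * a⁻¹ =
            a * (u₁ : G) * a⁻¹ * (a * (u.1 : G) * a⁻¹)⁻¹ := by group
        rw [e, h2]
      calc a * ((u₁ : G) * (u.1 : G)⁻¹) = (a * ((u₁ : G) * (u.1 : G)⁻¹) * a⁻¹) * a := by group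
        _ = (u₁ : G) * (u.1 : G)⁻¹ * a := by rw [h3]
    · intro u u' huu'
      have := congrArg Subtype.val huu'
      simp only at this
      have h3 : (u.1 : G)⁻¹ = (u'.1 : G)⁻¹ := mul_left_cancel this
      exact Subtype.ext (Subtype.ext (inv_injective h3))
  have h1 := card_le_mul_of_fiber' φ hfib
  have h2 : Nat.card (Set.range φ) ≤ Nat.card (Y U a) := by
    rw [Nat.card_coe_set_eq]
    calc (Set.range φ).ncard ≤ (Set.univ : Set ↥(Y U a)).ncard :=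
          Set.ncard_le_ncard (Set.subset_univ _) (Set.toFinite _)
      _ = Nat.card (Y U a) := Set.ncard_univ _
  calc Nat.card U ≤ Nat.card (Y U a) * Nat.card (Set.range φ) := h1
    _ ≤ Nat.card (Y U a) * Nat.card (Y U a) := Nat.mul_le_mul_left _ h2
    _ ≤ 2 * 2 := Nat.mul_le_mul hY2 hY2

end K3Cfg

end Cfsg.Agent.Lib.H15.JC
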