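import Mathlib
import Cfsg.Prelude.Def_JComponents
import Cfsg.Agent.Lib.H15.Conj
import Cfsg.Agent.Lib.H15.SylowNormal
import Cfsg.Agent.Lib.H5.SylowIn
import Cfsg.Agent.Lib.H26.Thompson
import Cfsg.Agent.Lib.H3.Thompson
import Cfsg.Agent.Lib.L0.ThompsonJ

/-!
helper15: basic facts for the `J(T)`-component chain: `IsSylowTwoIn` versus `IsSylowIn`, the order
of a largest elementary abelian subgroup and monotonicity properties of the Thompson subgroup.
-/

set_option autoImplicit false

namespace Cfsg.Agent.Lib.H15.JC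

open Cfsg.Agent.Lib.H15
open Cfsg.Agent.Lib.H5 (IsSylowIn)
open Cfsg.Agent.Lib.H26 (maxEA JJ)

variable {G : Type*} [Group G]

theorem isSylowTwoIn_iff_isSylowIn [Finite G] {T L : Subgroup G} :
    Cfsg.IsSylowTwoIn T L ↔ IsSylowIn 2 T L := by
  haveI : Fact (Nat.Prime 2) := ⟨Nat.prime_two⟩
  constructor
  · rintro ⟨hTL, hT, hodd⟩
    refine ⟨hTL, hT, ?_⟩
    intro Q hQ hTQ hQL
    apply le_antisymm _ hTQ
    rw [← Subgroup.relIndex_eq_one]
    have h1 := Subgroup.relIndex_mul_relIndex T Q L hTQ hQL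
    have h2 : Odd (T.relIndex Q) := by
      rw [← h1] at hodd
      exact (Nat.odd_mul.mp hodd).1
    obtain ⟨n, hn⟩ := IsPGroup.iff_card.mp hQ
    have h3 : T.relIndex Q ∣ 2 ^ n := by
      rw [← hn]
      exact Subgroup.relIndex_dvd_card T Q
    obtain ⟨k, -, hk⟩ := (Nat.dvd_prime_pow Nat.prime_two).mp h3
    rw [hk] at h2 ⊢
    rcases Nat.eq_zero_or_pos k with h0 | h0
    · rw [h0, pow_zero]
    · exfalso
      have : Even (2 ^ k) := (Nat.even_pow.mpr ⟨even_two, h0.ne'⟩)
      exact (Nat.not_even_iff_odd.mpr h2) this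
  · intro h
    refine ⟨h.1, h.2.1, ?_⟩
    obtain ⟨S, hS⟩ := h.exists_sylow
    have h1 : T.subgroupOf L = (S : Subgroup L) := by
      rw [← hS]
      exact Subgroup.comap_map_eq_self_of_injective L.subtype_injective _
    unfold Subgroup.relIndex
    rw [h1, ← Nat.not_even_iff_odd, even_iff_two_dvd]
    exact S.not_dvd_index

theorem maxEA_nonempty [Finite G] (p : ℕ) (P : Subgroup G) : (maxEA p P).Nonempty := by
  obtain ⟨A, hA⟩ := Cfsg.Agent.Lib.H3.exists_maxElemAb (G := P) p
  refine ⟨A.map P.subtype, Subgroup.map_subtype_le A, ?_, ?_⟩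
  · exact (Cfsg.Agent.Lib.H26.isElementaryAbelian_map_iff p P.subtype P.subtype_injective A).mpr hA.1
  · intro B hBP hB
    have hB' : Cfsg.IsElementaryAbelian p (B.subgroupOf P) := by
      rw [← Cfsg.Agent.Lib.H26.isElementaryAbelian_map_iff p P.subtype P.subtype_injective,
        Subgroup.map_subgroupOf_eq_of_le hBP]
      exact hB
    have h1 := hA.2 _ hB'
    rw [Subgroup.card_map_of_injective P.subtype_injective]
    have h2 : Nat.card (B.subgroupOf P) = Nat.card B := by
      conv_rhs => rw [← Subgroup.map_subgroupOf_eq_of_le hBP]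
      exact (Subgroup.card_map_of_injective P.subtype_injective).symm
    rw [← h2]; exact h1

theorem maxEA_card_eq {p : ℕ} {P A B : Subgroup G} (hA : A ∈ maxEA p P) (hB : B ∈ maxEA p P) :
    Nat.card A = Nat.card B :=
  le_antisymm (hB.2.2 A hA.1 hA.2.1) (hA.2.2 B hB.1 hB.2.1)

theorem le_JJ {p : ℕ} {P A : Subgroup G} (hA : A ∈ maxEA p P) : A ≤ JJ p P := le_sSup hA

/-- `a(S) ≤ a(P)` for `S ≤ P`. -/
theorem maxEA_card_le {p : ℕ} {S P A B : Subgroup G} (hSP : S ≤ P) (hA : A ∈ maxEA p S)
    (hB : B ∈ maxEA p P) : Nat.card A ≤ Nat.card B :=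
  hB.2.2 A (hA.1.trans hSP) hA.2.1

/-- If `S ≤ P` have largest elementary abelian subgroups of the same order then `𝒜(S) ⊆ 𝒜(P)`. -/
theorem maxEA_subset {p : ℕ} {S P A B : Subgroup G} (hSP : S ≤ P) (hA : A ∈ maxEA p S)
    (hB : B ∈ maxEA p P) (hcard : Nat.card B ≤ Nat.card A) : A ∈ maxEA p P :=
  ⟨hA.1.trans hSP, hA.2.1, fun D hD hDe => (hB.2.2 D hD hDe).trans hcard⟩

theorem JJ_le_JJ {p : ℕ} {S P A B : Subgroup G} (hSP : S ≤ P) (hA : A ∈ maxEA p S)
    (hB : B ∈ maxEA p P) (hcard : Nat.card B ≤ Nat.card A) : JJ p S ≤ JJ p P := by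
  apply sSup_le
  intro A' hA'
  apply le_sSup
  exact maxEA_subset hSP hA' hB (by rw [← maxEA_card_eq hA hA']; exact hcard)

/-- A member of `𝒜(P)` contained in `S ≤ P` is a member of `𝒜(S)`. -/
theorem maxEA_of_le {p : ℕ} {S P A : Subgroup G} (hSP : S ≤ P) (hA : A ∈ maxEA p P)
    (hAS : A ≤ S) : A ∈ maxEA p S :=
  ⟨hAS, hA.2.1, fun D hD hDe => hA.2.2 D (hD.trans hSP) hDe⟩

/-- `maxElemAbelianOrder T` is the order of any member of `𝒜(T)`. -/
theorem maxElemAbelianOrder_eq [Finite G] {T A : Subgroup G} (hA : A ∈ maxEA 2 T) :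
    Cfsg.maxElemAbelianOrder T = Nat.card A := by
  unfold Cfsg.maxElemAbelianOrder
  have hset : (fun A' : Subgroup ↥T => Nat.card ↥A') '' Cfsg.maxElementaryAbelianSubgroups 2 ↥T =
      {Nat.card A} := by
    ext n
    simp only [Set.mem_image, Set.mem_singleton_iff]
    constructor
    · rintro ⟨A', hA', rfl⟩
      have h1 : A'.map T.subtype ∈ maxEA 2 T := by
        refine ⟨Subgroup.map_subtype_le A', ?_, ?_⟩
        · exact (Cfsg.Agent.Lib.H26.isElementaryAbelian_map_iff 2 T.subtype T.subtype_injective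
            A').mpr hA'.1
        · intro B hBP hB
          have hB' : Cfsg.IsElementaryAbelian 2 (B.subgroupOf T) := by
            rw [← Cfsg.Agent.Lib.H26.isElementaryAbelian_map_iff 2 T.subtype T.subtype_injective,
              Subgroup.map_subgroupOf_eq_of_le hBP]
            exact hB
          have h1 := hA'.2 _ hB'
          rw [Subgroup.card_map_of_injective T.subtype_injective]
          have h2 : Nat.card (B.subgroupOf T) = Nat.card B := by
            conv_rhs => rw [← Subgroup.map_subgroupOf_eq_of_le hBP]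
            exact (Subgroup.card_map_of_injective T.subtype_injective).symm
          rw [← h2]; exact h1
      have h2 := maxEA_card_eq h1 hA
      rw [Subgroup.card_map_of_injective T.subtype_injective] at h2
      exact h2
    · rintro rfl
      refine ⟨A.subgroupOf T, ?_, ?_⟩
      · refine ⟨?_, ?_⟩
        · rw [← Cfsg.Agent.Lib.H26.isElementaryAbelian_map_iff 2 T.subtype T.subtype_injective,
            Subgroup.map_subgroupOf_eq_of_le hA.1]
          exact hA.2.1
        · intro B' hB'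
          have h1 := hA.2.2 (B'.map T.subtype) (Subgroup.map_subtype_le B')
            ((Cfsg.Agent.Lib.H26.isElementaryAbelian_map_iff 2 T.subtype T.subtype_injective
              B').mpr hB')
          rw [Subgroup.card_map_of_injective T.subtype_injective] at h1
          have h2 : Nat.card (A.subgroupOf T) = Nat.card A := by
            conv_rhs => rw [← Subgroup.map_subgroupOf_eq_of_le hA.1]
            exact (Subgroup.card_map_of_injective T.subtype_injective).symm
          rw [h2]; exact h1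
      · conv_rhs => rw [← Subgroup.map_subgroupOf_eq_of_le hA.1]
        exact (Subgroup.card_map_of_injective T.subtype_injective).symm
  rw [hset, csSup_singleton]

theorem thompsonSubgroupOf_cj [Finite G] (p : ℕ) (g : G) (T : Subgroup G) :
    Cfsg.thompsonSubgroupOf p (cj g T) = cj g (Cfsg.thompsonSubgroupOf p T) :=
  Cfsg.Agent.Lib.L0.thompsonSubgroupOf_map p (MulAut.conj g).toMonoidHom T
    (fun _ _ _ _ hab => (MulAut.conj g).injective hab)

/-- If `J(T) ≤ S` where `S` lies in a conjugate of `T`, then `J(S) = J(T)`. -/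
theorem thompsonSubgroupOf_eq_of_le_cj [Finite G] (p : ℕ) {T S : Subgroup G} {g : G}
    (hS : S ≤ cj g T) (hJ : Cfsg.thompsonSubgroupOf p T ≤ S) :
    Cfsg.thompsonSubgroupOf p S = Cfsg.thompsonSubgroupOf p T := by
  have h0 : cj g⁻¹ (Cfsg.thompsonSubgroupOf p T) = Cfsg.thompsonSubgroupOf p T := by
    rw [Cfsg.Agent.Lib.H26.thompsonSubgroupOf_eq]
    apply Cfsg.Agent.Lib.H26.JJ_weaklyClosed
    rw [← Cfsg.Agent.Lib.H26.thompsonSubgroupOf_eq]
    have := cj_mono g⁻¹ (hJ.trans hS)
    rwa [cj_inv_cj] at this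
  have h1 : Cfsg.thompsonSubgroupOf p (cj g T) = Cfsg.thompsonSubgroupOf p T := by
    rw [thompsonSubgroupOf_cj]
    conv_lhs => rw [← h0]
    exact cj_cj_inv _ g
  rw [← h1]
  apply Cfsg.Agent.Lib.L0.thompsonSubgroupOf_eq_of_le p hS
  rw [h1]; exact hJ

end Cfsg.Agent.Lib.H15.JC
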