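import Mathlib
import Cfsg.Prelude.Def_JComponents
import Cfsg.Agent.Lib.H15.JCBase
import Cfsg.Agent.Lib.H15.JComp2
import Cfsg.Agent.Lib.H1.PCore
import Cfsg.Agent.Lib.H1.PSolvOfSolv

/-!
helper15: the local set-up `LT T` for the `J(T)`-component chain, inside a finite group `X`
(thought of as a member of the family `ℒ(T)`): `T` a Sylow `2`-subgroup of the solvable group `X`,
`C_X(O₂(X)) ≤ O₂(X)`, `J(T) ≰ O₂(X)` and `C_X(Ω₁(Z(O₂(X)))) ≤ N_X(T)`.
-/

set_option autoImplicit false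

namespace Cfsg.Agent.Lib.H15.JC

open Cfsg.Agent.Lib.H15
open Cfsg.Agent.Lib.H5 (IsSylowIn)
open Cfsg.Agent.Lib.H26 (maxEA JJ)

variable {X : Type*} [Group X]

/-- `O₂(X)`. -/
abbrev QQ (X : Type*) [Group X] : Subgroup X := Cfsg.pCore 2 X

/-- `V = Ω₁(Z(O₂(X)))`. -/
def VV (X : Type*) [Group X] : Subgroup X := Cfsg.omegaCenterOf (Cfsg.pCore 2 X)

/-- `C = C_X(V)`. -/
def CC (X : Type*) [Group X] : Subgroup X := Subgroup.centralizer (VV X : Set X)

instance QQ_normal : (QQ X).Normal := Cfsg.Agent.Lib.H1.pCore_normal 2 X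

theorem QQ_isPGroup : IsPGroup 2 ↥(QQ X) := by
  haveI : Fact (Nat.Prime 2) := ⟨Nat.prime_two⟩
  exact Cfsg.Agent.Lib.H1.pCore_isPGroup 2 X

instance VV_normal [Finite X] : (VV X).Normal := by
  have h := normalizer_le_normalizer_omegaCenterOf (QQ X)
  rw [Subgroup.normalizer_eq_top] at h
  exact Subgroup.normalizer_eq_top_iff.mp (top_le_iff.mp h)

theorem VV_le_QQ : VV X ≤ QQ X := omegaCenterOf_le _

theorem VV_comm {u v : X} (hu : u ∈ VV X) (hv : v ∈ VV X) : u * v = v * u :=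
  (Subgroup.mem_centralizer_iff.mp (omegaCenterOf_le_centralizer _ hv) u (VV_le_QQ hu))

theorem VV_sq {u : X} (hu : u ∈ VV X) : u * u = 1 := omegaCenterOf_sq hu

theorem VV_elemAb : Cfsg.IsElementaryAbelian 2 (VV X) := by
  refine ⟨⟨⟨fun a b => ?_⟩⟩, fun a ha => ?_⟩
  · apply Subtype.ext
    exact VV_comm a.2 b.2
  · rw [pow_two]; exact VV_sq ha

instance CC_normal [Finite X] : (CC X).Normal := by
  unfold CC
  infer_instance

theorem QQ_le_CC : QQ X ≤ CC X := by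
  intro q hq
  unfold CC
  rw [Subgroup.mem_centralizer_iff]
  intro v hv
  exact (Subgroup.mem_centralizer_iff.mp (omegaCenterOf_le_centralizer _ hv) q hq).symm

/-- The local set-up. -/
structure LT [Finite X] (T : Subgroup X) : Prop where
  hT : IsPGroup 2 ↥T
  hmax : ∀ S : Subgroup X, IsPGroup 2 ↥S → T ≤ S → S = T
  solv : Group.IsSolvable X
  char2 : Subgroup.centralizer (QQ X : Set X) ≤ QQ X
  hJ : ¬ Cfsg.thompsonSubgroupOf 2 T ≤ QQ X
  hCT : CC X ≤ Subgroup.normalizer (T : Set X)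

namespace LT

variable [Finite X] {T : Subgroup X}

/-- `T` as a Sylow subgroup. -/
def sylow (h : LT T) : Sylow 2 X := ⟨T, h.hT, fun {S} hS hTS => h.hmax S hS hTS⟩

@[simp] theorem coe_sylow (h : LT T) : (h.sylow : Subgroup X) = T := rfl

theorem QQ_le_T (h : LT T) : QQ X ≤ T := by
  haveI : Fact (Nat.Prime 2) := ⟨Nat.prime_two⟩
  exact Cfsg.Agent.Lib.H1.pCore_le_sylow h.sylow

theorem isSylowIn_top (h : LT T) : IsSylowIn 2 T ⊤ :=
  Cfsg.Agent.Lib.H5.isSylowIn_top_of_sylow h.sylow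

theorem CC_inf_T (h : LT T) : CC X ⊓ T = QQ X := by
  haveI : Fact (Nat.Prime 2) := ⟨Nat.prime_two⟩
  apply le_antisymm
  · -- `C ∩ T` is a normal `2`-subgroup of `X`
    have h2 : IsPGroup 2 ↥(CC X ⊓ T : Subgroup X) := h.hT.to_le inf_le_right
    have hsyl : IsSylowIn 2 (T ⊓ CC X) (CC X) := isSylowIn_inf_normal h.sylow (CC X)
    have hn : (CC X ⊓ T : Subgroup X).Normal := by
      constructor
      intro n hn g
      -- `g (C ∩ T) g⁻¹` is a `2`-subgroup of `C` normalizing `T`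
      have hcj : cj g (CC X ⊓ T) ≤ CC X := by
        rintro _ ⟨y, hy, rfl⟩
        exact (CC_normal (X := X)).conj_mem y hy.1 g
      have hcj2 : IsPGroup 2 ↥(cj g (CC X ⊓ T)) := h2.map _
      have hnorm : cj g (CC X ⊓ T) ≤ Subgroup.normalizer (T : Set X) := hcj.trans h.hCT
      have hsup : IsPGroup 2 ↥(cj g (CC X ⊓ T) ⊔ T : Subgroup X) :=
        IsPGroup.to_sup_of_normal_right' hcj2 h.hT hnorm
      have heq := h.hmax _ hsup le_sup_right
      have hle : cj g (CC X ⊓ T) ≤ T := le_sup_left.trans heq.le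
      have hn1 : n ∈ CC X := (Subgroup.mem_inf.mp hn).1
      have hc1 : g * n * g⁻¹ ∈ CC X := (CC_normal (X := X)).conj_mem n hn1 g
      have hc2 : g * n * g⁻¹ ∈ T := hle (conj_mem_cj hn)
      exact Subgroup.mem_inf.mpr ⟨hc1, hc2⟩
    exact Cfsg.Agent.Lib.H1.le_pCore hn h2
  · exact le_inf QQ_le_CC h.QQ_le_T

theorem comm_mem (h : LT T) {c t : X} (hc : c ∈ CC X) (ht : t ∈ T) : c * t * c⁻¹ * t⁻¹ ∈ QQ X := by
  rw [← h.CC_inf_T]
  refine ⟨?_, ?_⟩
  · have h1 : t * c⁻¹ * t⁻¹ ∈ CC X := (CC_normal (X := X)).conj_mem _ (Subgroup.inv_mem _ hc) t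
    have e : c * t * c⁻¹ * t⁻¹ = c * (t * c⁻¹ * t⁻¹) := by group
    rw [e]; exact Subgroup.mul_mem _ hc h1
  · have h1 : c * t * c⁻¹ ∈ T := (Subgroup.mem_normalizer_iff.mp (h.hCT hc) t).mp ht
    exact Subgroup.mul_mem _ h1 (Subgroup.inv_mem _ ht)

theorem isPSolvable (h : LT T) : Cfsg.IsPSolvable 2 X := by
  haveI : Fact (Nat.Prime 2) := ⟨Nat.prime_two⟩
  haveI := h.solv
  exact Cfsg.Agent.Lib.H1.PSolvOfSolv.isPSolvable_of_isSolvable 2 X

theorem J_not_le_CC (h : LT T) : ¬ Cfsg.thompsonSubgroupOf 2 T ≤ CC X := by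
  intro hle
  apply h.hJ
  rw [← h.CC_inf_T]
  exact le_inf hle (Cfsg.Agent.Lib.L0.thompsonSubgroupOf_le' 2 T)

theorem pCore_quot_eq_bot (h : LT T) : Cfsg.pCore 2 (X ⧸ CC X) = ⊥ := by
  haveI : Fact (Nat.Prime 2) := ⟨Nat.prime_two⟩
  set C := CC X with hC
  set Pb := Cfsg.pCore 2 (X ⧸ C) with hPb
  set D := Pb.comap (QuotientGroup.mk' C) with hD
  haveI hPbn : Pb.Normal := Cfsg.Agent.Lib.H1.pCore_normal 2 _
  haveI hDn : D.Normal := Subgroup.Normal.comap hPbn _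
  have hCD : C ≤ D := by
    intro c hc
    rw [hD, Subgroup.mem_comap]
    have : QuotientGroup.mk' C c = 1 := (QuotientGroup.eq_one_iff c).mpr hc
    rw [this]; exact Subgroup.one_mem _
  have hPbT : Pb ≤ T.map (QuotientGroup.mk' C) :=
    Cfsg.Agent.Lib.H1.pCore_le_sylow (h.sylow.mapSurjective (QuotientGroup.mk'_surjective C))
  have hD_le : ∀ d ∈ D, ∃ t ∈ T ⊓ D, ∃ c ∈ C, d = t * c := by
    intro d hd
    obtain ⟨t, ht, htd⟩ := hPbT hd
    have hc : t⁻¹ * d ∈ C := QuotientGroup.eq.mp htd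
    refine ⟨t, Subgroup.mem_inf.mpr ⟨ht, ?_⟩, t⁻¹ * d, hc, by group⟩
    have e : t = d * (t⁻¹ * d)⁻¹ := by group
    rw [e]
    exact Subgroup.mul_mem _ hd (Subgroup.inv_mem _ (hCD hc))
  set P := T ⊓ D with hP
  have hP2 : IsPGroup 2 ↥P := h.hT.to_le inf_le_left
  have hsyl : IsSylowIn 2 P D := isSylowIn_inf_normal h.sylow D
  have hCP : C ≤ Subgroup.normalizer (P : Set X) := by
    intro c hc
    have h1 : cj c P ≤ P := by
      rintro _ ⟨y, hy, rfl⟩
      refine Subgroup.mem_inf.mpr ⟨?_, ?_⟩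
      · exact (Subgroup.mem_normalizer_iff.mp (h.hCT hc) y).mp (Subgroup.mem_inf.mp hy).1
      · exact hDn.conj_mem y (Subgroup.mem_inf.mp hy).2 c
    exact mem_normalizer_of_cj_le h1
  have hDP : D ≤ Subgroup.normalizer (P : Set X) := by
    intro d hd
    obtain ⟨t, ht, c, hc, rfl⟩ := hD_le d hd
    exact Subgroup.mul_mem _ (Subgroup.le_normalizer ht) (hCP hc)
  have hPn : P.Normal := by
    constructor
    intro n hn g
    have hcj : cj g P ≤ D := by
      rintro _ ⟨y, hy, rfl⟩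
      exact hDn.conj_mem y (Subgroup.mem_inf.mp hy).2 g
    have hcj2 : IsPGroup 2 ↥(cj g P) := hP2.map _
    have hsup : IsPGroup 2 ↥(cj g P ⊔ P : Subgroup X) :=
      IsPGroup.to_sup_of_normal_right' hcj2 hP2 (hcj.trans hDP)
    have heq := hsyl.2.2 _ hsup le_sup_right (sup_le hcj inf_le_right)
    exact (le_sup_left.trans heq.le) (conj_mem_cj hn)
  have hPQ : P ≤ QQ X := Cfsg.Agent.Lib.H1.le_pCore hPn hP2
  have hDC : D ≤ C := by
    intro d hd
    obtain ⟨t, ht, c, hc, rfl⟩ := hD_le d hd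
    exact Subgroup.mul_mem _ (QQ_le_CC (hPQ ht)) hc
  rw [eq_bot_iff]
  intro y hy
  obtain ⟨d, rfl⟩ := QuotientGroup.mk'_surjective C y
  have hdC : d ∈ C := hDC hy
  rw [Subgroup.mem_bot]
  exact (QuotientGroup.eq_one_iff d).mpr hdC

end LT

end Cfsg.Agent.Lib.H15.JC
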