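import Mathlib
import Cfsg.Agent.Lib.H15.JCLT
import Cfsg.Agent.Lib.H15.JComp3

/-!
helper15: construction of `J(T)`-components, part 1: element-level lemmas.
-/

set_option autoImplicit false

namespace Cfsg.Agent.Lib.H15.JC

open Cfsg.Agent.Lib.H15
open Cfsg.Agent.Lib.H5 (IsSylowIn)
open Cfsg.Agent.Lib.H26 (maxEA JJ)

variable {X : Type*} [Group X]

theorem mem_of_pow_mem_of_coprime {H : Subgroup X} {y : X} {m n : ℕ} (hcop : Nat.Coprime m n)
    (hm : y ^ m ∈ H) (hn : y ^ n ∈ H) : y ∈ H := by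
  have h1 : IsCoprime (m : ℤ) (n : ℤ) := Nat.isCoprime_iff_coprime.mpr hcop
  obtain ⟨u, v, huv⟩ := h1
  have e : y = (y ^ m) ^ u * (y ^ n) ^ v := by
    rw [← zpow_natCast y m, ← zpow_natCast y n, ← zpow_mul, ← zpow_mul, ← zpow_add]
    have : (m : ℤ) * u + (n : ℤ) * v = 1 := by linarith
    rw [this, zpow_one]
  rw [e]
  exact Subgroup.mul_mem _ (Subgroup.zpow_mem _ hm u) (Subgroup.zpow_mem _ hn v)

theorem exists_odd_pow [Finite X] (y : X) : ∃ e : ℕ, Odd (orderOf (y ^ (2 ^ e))) := by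
  have hpos : orderOf y ≠ 0 := (orderOf_pos y).ne'
  obtain ⟨k, m, hm, hkm⟩ := Nat.exists_eq_two_pow_mul_odd hpos
  refine ⟨k, ?_⟩
  have hord : orderOf (y ^ (2 ^ k)) = m := by
    rw [orderOf_pow_of_dvd (by positivity) (Dvd.intro _ hkm.symm), hkm]
    exact Nat.mul_div_cancel_left m (by positivity)
  rw [hord]; exact hm

/-- an element of odd order whose square is trivial is trivial. -/
theorem eq_one_of_odd_of_sq {c : X} (hodd : Odd (orderOf c)) (hsq : c * c = 1) : c = 1 := by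
  have h1 : orderOf c ∣ 2 := orderOf_dvd_of_pow_eq_one (by rw [pow_two]; exact hsq)
  rcases (Nat.dvd_prime Nat.prime_two).mp h1 with h | h
  · exact orderOf_eq_one_iff.mp h
  · rw [h] at hodd; exact absurd hodd (by decide)

/-- coset trichotomy in a quotient of order `3`. -/
theorem trichotomy {C K₁ : Subgroup X} (hCn : C.Normal) (hidx : C.relIndex K₁ = 3) {x : X}
    (hx : x ∈ K₁) (hxC : x ∉ C) {z : X} (hz : z ∈ K₁) :
    z ∈ C ∨ z * x⁻¹ ∈ C ∨ z * x ∈ C := by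
  haveI : Fact (Nat.Prime 3) := ⟨Nat.prime_three⟩
  haveI hn : (C.subgroupOf K₁).Normal := hCn.subgroupOf K₁
  have hcard : Nat.card (↥K₁ ⧸ C.subgroupOf K₁) = 3 := by
    rw [← Subgroup.index_eq_card]; exact hidx
  set xb : ↥K₁ ⧸ C.subgroupOf K₁ := QuotientGroup.mk' _ ⟨x, hx⟩ with hxb
  set zb : ↥K₁ ⧸ C.subgroupOf K₁ := QuotientGroup.mk' _ ⟨z, hz⟩ with hzb
  have hxb1 : xb ≠ 1 := by
    intro h
    rw [hxb, QuotientGroup.mk'_apply, QuotientGroup.eq_one_iff, Subgroup.mem_subgroupOf] at h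
    exact hxC h
  have hx3 : xb ^ 3 = 1 := by
    rw [← hcard]; exact pow_card_eq_one'
  have hmem := mem_powers_of_prime_card hcard hxb1 (g' := zb)
  obtain ⟨n, hn''⟩ := hmem
  have hn' : xb ^ n = zb := hn''
  clear hn''
  have hmod : xb ^ n = xb ^ (n % 3) := by
    conv_lhs => rw [← Nat.div_add_mod n 3, pow_add, pow_mul, hx3, one_pow, one_mul]
  have hlt : n % 3 < 3 := Nat.mod_lt _ (by norm_num)
  have key : ∀ w : ↥K₁, (QuotientGroup.mk' (C.subgroupOf K₁) w = 1) → (w : X) ∈ C := by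
    intro w hw
    rw [QuotientGroup.mk'_apply, QuotientGroup.eq_one_iff, Subgroup.mem_subgroupOf] at hw
    exact hw
  interval_cases hr : n % 3
  · left
    apply key ⟨z, hz⟩
    rw [← hzb, ← hn', hmod, pow_zero]
  · right; left
    have := key (⟨z, hz⟩ * ⟨x, hx⟩⁻¹) (by
      rw [map_mul, map_inv, ← hzb, ← hxb, ← hn', hmod, pow_one, mul_inv_cancel])
    simpa using this
  · right; right
    have := key (⟨z, hz⟩ * ⟨x, hx⟩) (by
      rw [map_mul, ← hzb, ← hxb, ← hn', hmod, ← pow_succ, hx3])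
    simpa using this

namespace LT

variable [Finite X] {T : Subgroup X}

/-- A `2`-element of `C` lies in `O₂(X)`. -/
theorem mem_QQ_of_two_elt (h : LT T) {c : X} (hc : c ∈ CC X) {m : ℕ} (h2 : c ^ (2 ^ m) = 1) :
    c ∈ QQ X := by
  haveI : Fact (Nat.Prime 2) := ⟨Nat.prime_two⟩
  have hsyl : IsSylowIn 2 (T ⊓ CC X) (CC X) := isSylowIn_inf_normal h.sylow (CC X)
  rw [inf_comm, h.CC_inf_T] at hsyl
  have hz2 : IsPGroup 2 ↥(Subgroup.zpowers c) := by
    rw [IsPGroup.iff_card]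
    have hd : orderOf c ∣ 2 ^ m := orderOf_dvd_of_pow_eq_one h2
    obtain ⟨k, -, hk⟩ := (Nat.dvd_prime_pow Nat.prime_two).mp hd
    exact ⟨k, by rw [Nat.card_zpowers, hk]⟩
  have hsup : IsPGroup 2 ↥(Subgroup.zpowers c ⊔ QQ X : Subgroup X) :=
    IsPGroup.to_sup_of_normal_right hz2 QQ_isPGroup
  have hle : Subgroup.zpowers c ⊔ QQ X ≤ CC X :=
    sup_le (by rw [Subgroup.zpowers_le]; exact hc) QQ_le_CC
  have heq := hsyl.2.2 _ hsup le_sup_right hle
  rw [← heq]
  exact (le_sup_left : Subgroup.zpowers c ≤ _) (Subgroup.mem_zpowers c)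

/-- If `g ∈ T` and `g x g⁻¹ = c x` with `c ∈ C` then `c ∈ O₂(X)`. -/
theorem mem_QQ_of_conj_eq (h : LT T) {g x c : X} (hg : g ∈ T) (hc : c ∈ CC X)
    (hgx : g * x * g⁻¹ = c * x) : c ∈ QQ X := by
  set π := QuotientGroup.mk' (QQ X) with hπ
  have hcomm : Commute (π g) (π c) := by
    have h1 := h.comm_mem hc hg
    have h2 : π (c * g * c⁻¹ * g⁻¹) = 1 := (QuotientGroup.eq_one_iff _).mpr h1
    rw [map_mul, map_mul, map_mul, map_inv, map_inv] at h2
    show π g * π c = π c * π g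
    have : π c * π g = (π c * π g * (π c)⁻¹ * (π g)⁻¹) * (π g * π c) := by group
    rw [this, h2, one_mul]
  have hconj : π g * π x * (π g)⁻¹ = π c * π x := by
    rw [← map_inv, ← map_mul, ← map_mul, hgx, map_mul]
  have hind : ∀ n : ℕ, (π g) ^ n * π x * ((π g) ^ n)⁻¹ = (π c) ^ n * π x := by
    intro n
    induction n with
    | zero => simp
    | succ n ih =>
      have e : (π g) ^ (n + 1) * π x * ((π g) ^ (n + 1))⁻¹ =
          π g * ((π g) ^ n * π x * ((π g) ^ n)⁻¹) * (π g)⁻¹ := by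
        rw [pow_succ']; group
      rw [e, ih]
      have e2 : π g * ((π c) ^ n * π x) * (π g)⁻¹ = (π g * (π c) ^ n) * π x * (π g)⁻¹ := by group
      rw [e2, (hcomm.pow_right n).eq]
      have e3 : (π c) ^ n * π g * π x * (π g)⁻¹ = (π c) ^ n * (π g * π x * (π g)⁻¹) := by group
      rw [e3, hconj, pow_succ]; group
  obtain ⟨m, hm⟩ := h.hT ⟨g, hg⟩
  have hgm : g ^ (2 ^ m) = 1 := by
    have := congrArg Subtype.val hm
    simpa using this
  have h3 := hind (2 ^ m)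
  rw [← map_pow, hgm, map_one, one_mul, inv_one, mul_one] at h3
  have h4 : (π c) ^ (2 ^ m) = 1 := by
    have : (π c) ^ (2 ^ m) * π x = 1 * π x := by rw [one_mul]; exact h3.symm
    exact mul_right_cancel this
  rw [← map_pow] at h4
  have h5 : c ^ (2 ^ m) ∈ QQ X := (QuotientGroup.eq_one_iff _).mp h4
  obtain ⟨r, hr⟩ := QQ_isPGroup (X := X) ⟨c ^ (2 ^ m), h5⟩
  have hr' : (c ^ (2 ^ m)) ^ (2 ^ r) = 1 := by
    have := congrArg Subtype.val hr
    simpa using this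
  rw [← pow_mul, ← pow_add] at hr'
  exact h.mem_QQ_of_two_elt hc hr'

end LT

end Cfsg.Agent.Lib.H15.JC
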