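import Mathlib
import Cfsg.Agent.Lib.H15.JCCL1

/-!
helper15: construction of `J(T)`-components, part 2: the element `x` of order `3` and the
invariance of `O₂(X)⟨x⟩`.
-/

set_option autoImplicit false

namespace Cfsg.Agent.Lib.H15.JC

open Cfsg.Agent.Lib.H15
open Cfsg.Agent.Lib.H5 (IsSylowIn)
open Cfsg.Agent.Lib.H26 (maxEA JJ)

variable {X : Type*} [Group X]

/-- Data: `C ≤ K₁` of index `3`, normalized by `J(T)`, and `x ∈ K₁ ∖ C` of order `3` inverted by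
`a ∈ A ∈ 𝒜(T)`. -/
structure XCfg [Finite X] (T K₁ A : Subgroup X) (x a : X) : Prop where
  lt : LT T
  hCK : CC X ≤ K₁
  hidx : (CC X).relIndex K₁ = 3
  hJK : Cfsg.thompsonSubgroupOf 2 T ≤ Subgroup.normalizer (K₁ : Set X)
  hA : A ∈ maxEA 2 T
  ha : a ∈ A
  hx : x ∈ K₁
  hxC : x ∉ CC X
  hx3 : x ^ 3 = 1
  hax : a * x * a⁻¹ = x⁻¹

theorem pow_three_mem {C K₁ : Subgroup X} (hCn : C.Normal) (hidx : C.relIndex K₁ = 3) {y : X}
    (hy : y ∈ K₁) : y ^ 3 ∈ C := by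
  haveI hn : (C.subgroupOf K₁).Normal := hCn.subgroupOf K₁
  have hidx' : (C.subgroupOf K₁).index = 3 := hidx
  have := Subgroup.pow_index_mem (C.subgroupOf K₁) (⟨y, hy⟩ : K₁)
  rw [hidx', Subgroup.mem_subgroupOf] at this
  simpa using this

theorem maxEA_le_thompson {T A : Subgroup X} (hA : A ∈ maxEA 2 T) :
    A ≤ Cfsg.thompsonSubgroupOf 2 T := by
  rw [Cfsg.Agent.Lib.H26.thompsonSubgroupOf_eq]
  exact le_JJ hA

theorem maxEA_sq {T A : Subgroup X} (hA : A ∈ maxEA 2 T) {a : X} (ha : a ∈ A) : a * a = 1 := by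
  have := hA.2.1.2 a ha
  rwa [pow_two] at this

theorem exists_XCfg [Finite X] {T K₁ A : Subgroup X} (h : LT T) (hCK : CC X ≤ K₁)
    (hidx : (CC X).relIndex K₁ = 3)
    (hJK : Cfsg.thompsonSubgroupOf 2 T ≤ Subgroup.normalizer (K₁ : Set X))
    (hA : A ∈ maxEA 2 T) {a k : X} (ha : a ∈ A) (hk : k ∈ K₁)
    (hak : a * k * a⁻¹ * k⁻¹ ∉ CC X) : ∃ x, XCfg T K₁ A x a := by
  have haa : a * a = 1 := maxEA_sq hA ha
  have hainv : a⁻¹ = a := inv_eq_of_mul_eq_one_left haa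
  have haT : a ∈ T := hA.1 ha
  have haN : a ∈ Subgroup.normalizer (K₁ : Set X) := hJK (maxEA_le_thompson hA ha)
  have hCn : (CC X).Normal := CC_normal
  set y := k⁻¹ * (a * k * a⁻¹) with hy
  have hyK : y ∈ K₁ :=
    Subgroup.mul_mem _ (Subgroup.inv_mem _ hk) ((Subgroup.mem_normalizer_iff.mp haN k).mp hk)
  have hay : a * y * a⁻¹ = y⁻¹ := by
    rw [hy, hainv]
    have e1 : a * (k⁻¹ * (a * k * a)) * a = a * k⁻¹ * a * k * (a * a) := by group
    have e2 : (k⁻¹ * (a * k * a))⁻¹ = a⁻¹ * k⁻¹ * a⁻¹ * k := by group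
    rw [e1, e2, haa, hainv, mul_one]
  have hyC : y ∉ CC X := by
    intro hyC
    apply hak
    have e : a * k * a⁻¹ * k⁻¹ = k * y * k⁻¹ := by rw [hy]; group
    rw [e]
    exact hCn.conj_mem y hyC k
  obtain ⟨e, he⟩ := exists_odd_pow y
  set x := y ^ (2 ^ e) with hx
  have hxK : x ∈ K₁ := Subgroup.pow_mem _ hyK _
  have hax : a * x * a⁻¹ = x⁻¹ := by
    rw [hx, ← conj_pow, hay, inv_pow]
  have hxC : x ∉ CC X := by
    intro hxC
    apply hyC
    have hcop : Nat.Coprime (2 ^ e) 3 := Nat.Coprime.pow_left e (by norm_num)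
    exact mem_of_pow_mem_of_coprime hcop hxC (pow_three_mem hCn hidx hyK)
  have hx3 : x ^ 3 = 1 := by
    set c := x ^ 3 with hc
    have hcC : c ∈ CC X := pow_three_mem hCn hidx hxK
    have hac : a * c * a⁻¹ = c⁻¹ := by
      rw [hc, ← conj_pow, hax, inv_pow]
    have h1 := h.comm_mem hcC haT
    have e1 : c * a * c⁻¹ * a⁻¹ = c * c := by
      have : c * a * c⁻¹ * a⁻¹ = c * (a * c * a⁻¹)⁻¹ := by group
      rw [this, hac, inv_inv]
    rw [e1] at h1
    obtain ⟨r, hr⟩ := QQ_isPGroup (X := X) ⟨c * c, h1⟩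
    have hr' : (c * c) ^ (2 ^ r) = 1 := by
      have := congrArg Subtype.val hr
      simpa using this
    have hoddc : Odd (orderOf c) := by
      have hd : orderOf c ∣ orderOf x := orderOf_pow_dvd 3
      exact Odd.of_dvd_nat he hd
    have hcc : c * c = 1 := by
      have hd1 : orderOf (c * c) ∣ 2 ^ r := orderOf_dvd_of_pow_eq_one hr'
      have hd2 : orderOf (c * c) ∣ orderOf c := by
        rw [← pow_two]; exact orderOf_pow_dvd 2
      have hcop : Nat.Coprime (orderOf c) (2 ^ r) := (Odd.coprime_two_right hoddc).pow_right r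
      have := Nat.eq_one_of_dvd_coprimes hcop hd2 hd1
      rwa [orderOf_eq_one_iff] at this
    exact eq_one_of_odd_of_sq hoddc hcc
  exact ⟨x, ⟨h, hCK, hidx, hJK, hA, ha, hxK, hxC, hx3, hax⟩⟩

namespace XCfg

variable [Finite X] {T K₁ A : Subgroup X} {x a : X}

theorem haa (c : XCfg T K₁ A x a) : a * a = 1 := maxEA_sq c.hA c.ha

theorem hainv (c : XCfg T K₁ A x a) : a⁻¹ = a := inv_eq_of_mul_eq_one_left c.haa

theorem haT (c : XCfg T K₁ A x a) : a ∈ T := c.hA.1 c.ha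

theorem haN (c : XCfg T K₁ A x a) : a ∈ Subgroup.normalizer (K₁ : Set X) :=
  c.hJK (maxEA_le_thompson c.hA c.ha)

theorem hxinv (c : XCfg T K₁ A x a) : x⁻¹ = x * x := by
  have := c.hx3
  rw [pow_succ, pow_two] at this
  exact inv_eq_of_mul_eq_one_left (by rw [← this])

theorem hx1 (c : XCfg T K₁ A x a) : x ≠ 1 := by
  intro h
  apply c.hxC
  rw [h]; exact Subgroup.one_mem _

theorem orderOf_x (c : XCfg T K₁ A x a) : orderOf x = 3 := by
  have hd : orderOf x ∣ 3 := orderOf_dvd_of_pow_eq_one c.hx3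
  rcases (Nat.dvd_prime Nat.prime_three).mp hd with h1 | h1
  · rw [orderOf_eq_one_iff] at h1
    exact absurd h1 c.hx1
  · exact h1

/-- invariance of the cosets `Q x^{±1}` under `N_T(K₁)`. -/
theorem conj_mem (c : XCfg T K₁ A x a) {g : X} (hgT : g ∈ T)
    (hgN : g ∈ Subgroup.normalizer (K₁ : Set X)) :
    g * x * g⁻¹ * x⁻¹ ∈ QQ X ∨ g * x * g⁻¹ * x ∈ QQ X := by
  have hCn : (CC X).Normal := CC_normal
  have hzK : g * x * g⁻¹ ∈ K₁ := (Subgroup.mem_normalizer_iff.mp hgN x).mp c.hx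
  have hzC : g * x * g⁻¹ ∉ CC X := by
    intro hz
    apply c.hxC
    have := hCn.conj_mem _ hz g⁻¹
    have e : g⁻¹ * (g * x * g⁻¹) * g⁻¹⁻¹ = x := by group
    rwa [e] at this
  rcases trichotomy hCn c.hidx c.hx c.hxC hzK with h1 | h1 | h1
  · exact absurd h1 hzC
  · left
    apply c.lt.mem_QQ_of_conj_eq (x := x) hgT h1
    group
  · right
    -- use `g * a`
    have hga : g * a ∈ T := Subgroup.mul_mem _ hgT c.haT
    set c' := x * (g * x * g⁻¹ * x)⁻¹ * x⁻¹ with hc'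
    have hc'C : c' ∈ CC X := hCn.conj_mem _ (Subgroup.inv_mem _ h1) x
    have hconj : (g * a) * x * (g * a)⁻¹ = c' * x := by
      have e1 : (g * a) * x * (g * a)⁻¹ = g * (a * x * a⁻¹) * g⁻¹ := by group
      rw [e1, c.hax, hc']
      group
    have h2 := c.lt.mem_QQ_of_conj_eq hga hc'C hconj
    have h3 : x⁻¹ * c' * x⁻¹⁻¹ ∈ QQ X := (QQ_normal (X := X)).conj_mem _ h2 x⁻¹
    have e2 : x⁻¹ * c' * x⁻¹⁻¹ = (g * x * g⁻¹ * x)⁻¹ := by rw [hc']; group
    rw [e2] at h3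
    have := Subgroup.inv_mem _ h3
    rwa [inv_inv] at this

end XCfg

end Cfsg.Agent.Lib.H15.JC
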