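import Mathlib
import Cfsg.Agent.Lib.H15.JCCL2
import Cfsg.Agent.Lib.H15.JC1
import Cfsg.Agent.Lib.H15.JComp
import Cfsg.Agent.Lib.H7.PLocal2
import Cfsg.Agent.Lib.H3.OffenderSL2a

/-!
helper15: construction of `J(T)`-components, part 3: the subgroup `K = O²(O₂(X)⟨x⟩)`.
-/

set_option autoImplicit false

namespace Cfsg.Agent.Lib.H15.JC

open scoped commutatorElement
open Cfsg.Agent.Lib.H15
open Cfsg.Agent.Lib.H5 (IsSylowIn)
open Cfsg.Agent.Lib.H26 (maxEA JJ)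

variable {X : Type*} [Group X]

/-- `Y = O₂(X)⟨x⟩`. -/
def YY (x : X) : Subgroup X := QQ X ⊔ Subgroup.zpowers x

/-- The subgroup generated by the elements of odd order of `O₂(X)⟨x⟩`. -/
def KK (x : X) : Subgroup X := Subgroup.closure {g : X | g ∈ YY x ∧ Odd (orderOf g)}

theorem QQ_le_YY (x : X) : QQ X ≤ YY x := le_sup_left

theorem x_mem_YY (x : X) : x ∈ YY x :=
  (le_sup_right : Subgroup.zpowers x ≤ YY x) (Subgroup.mem_zpowers x)

theorem KK_le_YY (x : X) : KK x ≤ YY x := by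
  unfold KK
  rw [Subgroup.closure_le]
  intro g hg
  exact hg.1

theorem mem_YY {x y : X} (hy : y ∈ YY x) : ∃ q ∈ QQ X, ∃ n : ℤ, y = q * x ^ n := by
  have hn : Subgroup.zpowers x ≤ Subgroup.normalizer ((QQ X : Subgroup X) : Set X) := by
    rw [Subgroup.normalizer_eq_top]; exact le_top
  obtain ⟨q, hq, z, hz, rfl⟩ := Cfsg.Agent.Lib.H1.mem_sup_of_le_normalizer hn hy
  obtain ⟨n, rfl⟩ := Subgroup.mem_zpowers_iff.mp hz
  exact ⟨q, hq, n, rfl⟩

theorem closure_odd_KK (x : X) :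
    Subgroup.closure {g : X | g ∈ KK x ∧ Odd (orderOf g)} = KK x := by
  apply le_antisymm
  · rw [Subgroup.closure_le]
    intro g hg
    exact hg.1
  · conv_lhs => unfold KK
    apply Subgroup.closure_mono
    intro g hg
    exact ⟨Subgroup.subset_closure hg, hg.2⟩

theorem normalizer_YY_le_normalizer_KK [Finite X] (x : X) :
    Subgroup.normalizer (YY x : Set X) ≤ Subgroup.normalizer (KK x : Set X) :=
  fun _ hq => mem_normalizer_closure_odd hq

theorem QQ_le_normalizer_KK [Finite X] (x : X) : QQ X ≤ Subgroup.normalizer (KK x : Set X) :=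
  ((QQ_le_YY x).trans Subgroup.le_normalizer).trans (normalizer_YY_le_normalizer_KK x)

namespace XCfg

variable [Finite X] {T K₁ A : Subgroup X} {x a : X}

theorem x_mem_KK (c : XCfg T K₁ A x a) : x ∈ KK x := by
  apply Subgroup.subset_closure
  refine ⟨x_mem_YY x, ?_⟩
  rw [c.orderOf_x]; decide

theorem QQ_le_K₁ (c : XCfg T K₁ A x a) : QQ X ≤ K₁ := QQ_le_CC.trans c.hCK

theorem YY_le_K₁ (c : XCfg T K₁ A x a) : YY x ≤ K₁ :=
  sup_le c.QQ_le_K₁ (by rw [Subgroup.zpowers_le]; exact c.hx)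

theorem KK_le_K₁ (c : XCfg T K₁ A x a) : KK x ≤ K₁ := (KK_le_YY x).trans c.YY_le_K₁

theorem KK_sup_QQ (c : XCfg T K₁ A x a) : KK x ⊔ QQ X = YY x := by
  apply le_antisymm
  · exact sup_le (KK_le_YY x) (QQ_le_YY x)
  · exact sup_le le_sup_right ((by rw [Subgroup.zpowers_le]; exact c.x_mem_KK :
      Subgroup.zpowers x ≤ KK x).trans le_sup_left)

theorem mem_normalizer_YY (c : XCfg T K₁ A x a) {g : X} (hgT : g ∈ T)
    (hgN : g ∈ Subgroup.normalizer (K₁ : Set X)) : g ∈ Subgroup.normalizer (YY x : Set X) := by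
  apply mem_normalizer_of_cj_le
  unfold cj YY
  rw [Subgroup.map_sup]
  refine sup_le ?_ ?_
  · rintro _ ⟨q, hq, rfl⟩
    exact (le_sup_left : QQ X ≤ _) ((QQ_normal (X := X)).conj_mem q hq g)
  · rw [Subgroup.map_le_iff_le_comap, Subgroup.zpowers_le, Subgroup.mem_comap]
    show g * x * g⁻¹ ∈ QQ X ⊔ Subgroup.zpowers x
    rcases c.conj_mem hgT hgN with h1 | h1
    · have e : g * x * g⁻¹ = (g * x * g⁻¹ * x⁻¹) * x := by group
      rw [e]
      exact Subgroup.mul_mem _ ((le_sup_left : QQ X ≤ _) h1)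
        ((le_sup_right : Subgroup.zpowers x ≤ _) (Subgroup.mem_zpowers x))
    · have e : g * x * g⁻¹ = (g * x * g⁻¹ * x) * x⁻¹ := by group
      rw [e]
      exact Subgroup.mul_mem _ ((le_sup_left : QQ X ≤ _) h1)
        ((le_sup_right : Subgroup.zpowers x ≤ _) (Subgroup.inv_mem _ (Subgroup.mem_zpowers x)))

theorem mem_normalizer_KK (c : XCfg T K₁ A x a) {g : X} (hgT : g ∈ T)
    (hgN : g ∈ Subgroup.normalizer (K₁ : Set X)) : g ∈ Subgroup.normalizer (KK x : Set X) :=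
  normalizer_YY_le_normalizer_KK x (c.mem_normalizer_YY hgT hgN)

theorem J_le_T (T : Subgroup X) : Cfsg.thompsonSubgroupOf 2 T ≤ T :=
  Cfsg.Agent.Lib.L0.thompsonSubgroupOf_le' 2 T

theorem J_le_normalizer_KK (c : XCfg T K₁ A x a) :
    Cfsg.thompsonSubgroupOf 2 T ≤ Subgroup.normalizer (KK x : Set X) :=
  fun _ hg => c.mem_normalizer_KK (J_le_T T hg) (c.hJK hg)

theorem a_mem_J (c : XCfg T K₁ A x a) : a ∈ Cfsg.thompsonSubgroupOf 2 T :=
  maxEA_le_thompson c.hA c.ha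

theorem QQ_inf_zpowers (c : XCfg T K₁ A x a) : QQ X ⊓ Subgroup.zpowers x = ⊥ := by
  rw [eq_bot_iff]
  intro y hy
  obtain ⟨hyQ, hyz⟩ := Subgroup.mem_inf.mp hy
  rw [Subgroup.mem_bot]
  obtain ⟨m, hm⟩ := QQ_isPGroup (X := X) ⟨y, hyQ⟩
  have hm' : y ^ (2 ^ m) = 1 := by
    have := congrArg Subtype.val hm
    simpa using this
  have hd1 : orderOf y ∣ 2 ^ m := orderOf_dvd_of_pow_eq_one hm'
  have hd2 : orderOf y ∣ 3 := by
    have h1 : orderOf (⟨y, hyz⟩ : Subgroup.zpowers x) ∣ Nat.card (Subgroup.zpowers x) :=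
      orderOf_dvd_natCard _
    rwa [Subgroup.orderOf_mk, Nat.card_zpowers, c.orderOf_x] at h1
  have hcop : Nat.Coprime 3 (2 ^ m) := Nat.Coprime.pow_right m (by norm_num)
  have := Nat.eq_one_of_dvd_coprimes hcop hd2 hd1
  rwa [orderOf_eq_one_iff] at this

theorem relIndex_QQ_YY (c : XCfg T K₁ A x a) : (QQ X).relIndex (YY x) = 3 := by
  unfold YY
  rw [Subgroup.relIndex_sup_left, ← Subgroup.inf_relIndex_right, c.QQ_inf_zpowers,
    Subgroup.relIndex_bot_left, Nat.card_zpowers, c.orderOf_x]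

theorem relIndex_RR (c : XCfg T K₁ A x a) : (KK x ⊓ QQ X).relIndex (KK x) = 3 := by
  rw [Subgroup.inf_relIndex_left, ← Subgroup.relIndex_sup_right, c.KK_sup_QQ]
  exact c.relIndex_QQ_YY

theorem RR_isPGroup : IsPGroup 2 ↥(KK x ⊓ QQ X : Subgroup X) := QQ_isPGroup.to_le inf_le_right

theorem KK_le_normalizer_RR :
    KK x ≤ Subgroup.normalizer ((KK x ⊓ QQ X : Subgroup X) : Set X) := by
  intro k hk
  apply mem_normalizer_of_cj_le
  rintro _ ⟨y, hy, rfl⟩
  obtain ⟨hyK, hyQ⟩ := Subgroup.mem_inf.mp hy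
  refine Subgroup.mem_inf.mpr ⟨?_, (QQ_normal (X := X)).conj_mem y hyQ k⟩
  exact Subgroup.mul_mem _ (Subgroup.mul_mem _ hk hyK) (Subgroup.inv_mem _ hk)

theorem pCoreOf_KK (c : XCfg T K₁ A x a) : Cfsg.pCoreOf 2 (KK x) = KK x ⊓ QQ X := by
  apply le_antisymm
  · set P := Cfsg.pCoreOf 2 (KK x) with hP
    have hPK : P ≤ KK x := Cfsg.Agent.Lib.H14.pCoreOf_le 2 _
    have hP2 : IsPGroup 2 ↥P := Cfsg.Agent.Lib.H14.pCoreOf_isPGroup 2 _
    have hRP : KK x ⊓ QQ X ≤ P :=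
      Cfsg.Agent.Lib.H14.le_pCoreOf 2 _ _ inf_le_left KK_le_normalizer_RR RR_isPGroup
    have hmul := Subgroup.relIndex_mul_relIndex _ _ _ hRP hPK
    rw [c.relIndex_RR] at hmul
    rw [← Subgroup.relIndex_eq_one]
    have hd : (KK x ⊓ QQ X).relIndex P ∣ 3 := Dvd.intro _ hmul
    obtain ⟨n, hn⟩ := IsPGroup.iff_card.mp hP2
    have hd2 : (KK x ⊓ QQ X).relIndex P ∣ 2 ^ n := by
      rw [← hn]; exact Subgroup.relIndex_dvd_card _ _
    have hcop : Nat.Coprime 3 (2 ^ n) := Nat.Coprime.pow_right n (by norm_num)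
    exact Nat.eq_one_of_dvd_coprimes hcop hd hd2
  · exact Cfsg.Agent.Lib.H14.le_pCoreOf 2 _ _ inf_le_left KK_le_normalizer_RR RR_isPGroup

theorem comm_KK_J (c : XCfg T K₁ A x a) :
    ⁅KK x, Cfsg.thompsonSubgroupOf 2 T⁆ = KK x := by
  set J := Cfsg.thompsonSubgroupOf 2 T with hJ
  have hJN := c.J_le_normalizer_KK
  apply le_antisymm
  · rw [Subgroup.commutator_le]
    intro k hk j hj
    rw [commutatorElement_def]
    have h1 : j * k⁻¹ * j⁻¹ ∈ KK x :=
      (Subgroup.mem_normalizer_iff.mp (hJN hj) k⁻¹).mp (Subgroup.inv_mem _ hk)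
    have e : k * j * k⁻¹ * j⁻¹ = k * (j * k⁻¹ * j⁻¹) := by group
    rw [e]; exact Subgroup.mul_mem _ hk h1
  · set M₀ := ⁅KK x, J⁆ with hM₀
    -- `K` normalizes `[K, J]`
    have hKM : KK x ≤ Subgroup.normalizer (M₀ : Set X) := by
      intro k hk
      apply mem_normalizer_of_cj_le
      unfold cj
      rw [Subgroup.map_le_iff_le_comap, hM₀, Subgroup.commutator_le]
      intro k' hk' j hj
      rw [Subgroup.mem_comap]
      show k * ⁅k', j⁆ * k⁻¹ ∈ ⁅KK x, J⁆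
      have e : k * ⁅k', j⁆ * k⁻¹ = ⁅k * k', j⁆ * ⁅k, j⁆⁻¹ := by
        simp only [commutatorElement_def]; group
      rw [e]
      exact Subgroup.mul_mem _ (Subgroup.commutator_mem_commutator (Subgroup.mul_mem _ hk hk') hj)
        (Subgroup.inv_mem _ (Subgroup.commutator_mem_commutator hk hj))
    have hxM : x ∈ M₀ := by
      have h1 : ⁅x, a⁆ ∈ M₀ := Subgroup.commutator_mem_commutator c.x_mem_KK c.a_mem_J
      have e : ⁅x, a⁆ = x⁻¹ := by
        rw [commutatorElement_def]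
        have : x * a * x⁻¹ * a⁻¹ = x * (a * x * a⁻¹)⁻¹ := by group
        rw [this, c.hax, inv_inv, c.hxinv]
      rw [e] at h1
      have := Subgroup.inv_mem _ h1
      rwa [inv_inv] at this
    have hRM : KK x ⊓ QQ X ≤ Subgroup.normalizer (M₀ : Set X) := inf_le_left.trans hKM
    conv_lhs => unfold KK
    rw [Subgroup.closure_le]
    intro g hg
    obtain ⟨q, hq, n, hgq⟩ := mem_YY hg.1
    have hgK : g ∈ KK x := Subgroup.subset_closure hg
    have hqK : q ∈ KK x := by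
      have e : q = g * (x ^ n)⁻¹ := by rw [hgq]; group
      rw [e]
      exact Subgroup.mul_mem _ hgK (Subgroup.inv_mem _ (Subgroup.zpow_mem _ c.x_mem_KK n))
    have hmem : g ∈ M₀ ⊔ (KK x ⊓ QQ X) := by
      rw [hgq, sup_comm]
      exact Subgroup.mul_mem_sup (Subgroup.mem_inf.mpr ⟨hqK, hq⟩) (Subgroup.zpow_mem _ hxM n)
    exact mem_of_odd_of_mem_sup RR_isPGroup hRM hmem hg.2

theorem sylow_cond (c : XCfg T K₁ A x a) (S : Subgroup X) (hS2 : IsPGroup 2 ↥S)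
    (hJS : Cfsg.thompsonSubgroupOf 2 T ≤ S) :
    Cfsg.thompsonSubgroupOf 2 S = Cfsg.thompsonSubgroupOf 2 T := by
  haveI : Fact (Nat.Prime 2) := ⟨Nat.prime_two⟩
  obtain ⟨u, hu⟩ := Cfsg.Agent.Lib.H26.exists_conj_mem_sylow c.lt.sylow S hS2
  have hle : S ≤ cj u⁻¹ T := by
    intro s hs
    rw [mem_cj_iff, inv_inv]
    exact hu s hs
  exact thompsonSubgroupOf_eq_of_le_cj 2 hle hJS

theorem KK_sup_CC (c : XCfg T K₁ A x a) : KK x ⊔ CC X = K₁ := by
  apply le_antisymm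
  · exact sup_le c.KK_le_K₁ c.hCK
  · intro z hz
    have hxs : x ∈ KK x ⊔ CC X := (le_sup_left : KK x ≤ _) c.x_mem_KK
    rcases trichotomy CC_normal c.hidx c.hx c.hxC hz with h1 | h1 | h1
    · exact (le_sup_right : CC X ≤ _) h1
    · have e : z = (z * x⁻¹) * x := by group
      rw [e]
      exact Subgroup.mul_mem _ ((le_sup_right : CC X ≤ _) h1) hxs
    · have e : z = (z * x) * x⁻¹ := by group
      rw [e]
      exact Subgroup.mul_mem _ ((le_sup_right : CC X ≤ _) h1) (Subgroup.inv_mem _ hxs)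

end XCfg

end Cfsg.Agent.Lib.H15.JC
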