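import Mathlib
import Cfsg.Prelude.Def_JComponents
import Cfsg.Agent.Lib.H15.JComp4

/-!
Structure of a `J(T)`-component `K` (helper15's shared library), part 4: `[Z₀, K] ≤ W`, `R`
centralizes `Z₀ = Ω₁(Z(J))`, and `Z₀ = (Z₀ ∩ Z(KJ)) (Z₀ ∩ W)`.
-/

set_option autoImplicit false

namespace Cfsg.Agent.Lib.H15

open scoped commutatorElement

variable {G : Type*} [Group G]

open Cfsg.Agent.Lib.H26 (maxEA JJ)

/-- The stabilizer in `N(W)` of the coset `W z`. -/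
def cosetStab (W : Subgroup G) (z : G) : Subgroup G where
  carrier := {g | g ∈ Subgroup.normalizer (W : Set G) ∧ g * z * g⁻¹ * z⁻¹ ∈ W}
  one_mem' := ⟨Subgroup.one_mem _, by simp⟩
  mul_mem' := by
    rintro g g' ⟨hg, hgz⟩ ⟨hg', hgz'⟩
    refine ⟨Subgroup.mul_mem _ hg hg', ?_⟩
    have e : g * g' * z * (g * g')⁻¹ * z⁻¹ = g * (g' * z * g'⁻¹ * z⁻¹) * g⁻¹ * (g * z * g⁻¹ * z⁻¹) := by
      group
    rw [e]
    exact W.mul_mem ((Subgroup.mem_normalizer_iff.mp hg _).mp hgz') hgz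
  inv_mem' := by
    rintro g ⟨hg, hgz⟩
    have hg' : g⁻¹ ∈ Subgroup.normalizer (W : Set G) := Subgroup.inv_mem _ hg
    refine ⟨hg', ?_⟩
    have e : g⁻¹ * z * g⁻¹⁻¹ * z⁻¹ = g⁻¹ * (g * z * g⁻¹ * z⁻¹)⁻¹ * g⁻¹⁻¹ := by group
    rw [e]
    exact (Subgroup.mem_normalizer_iff.mp hg' _).mp (W.inv_mem hgz)

theorem mem_cosetStab {W : Subgroup G} {z g : G} :
    g ∈ cosetStab W z ↔ g ∈ Subgroup.normalizer (W : Set G) ∧ g * z * g⁻¹ * z⁻¹ ∈ W := Iff.rfl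

theorem eq_of_card_two {F : Subgroup G} (hF : Nat.card F = 2) {u v : G} (hu : u ∈ F) (hv : v ∈ F)
    (hu1 : u ≠ 1) (hv1 : v ≠ 1) : u = v := by
  obtain ⟨b, -, hb⟩ := (Nat.card_eq_two_iff' (1 : F)).mp hF
  have h1 := hb ⟨u, hu⟩ (fun hh => hu1 (congrArg Subtype.val hh))
  have h2 := hb ⟨v, hv⟩ (fun hh => hv1 (congrArg Subtype.val hh))
  have := h1.trans h2.symm
  exact congrArg Subtype.val this

namespace JCD

variable {K J R S W : Subgroup G}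

/-- `H`-conjugates of `z ∈ Ω₁(Z(J))` lie in every member of `maxEA 2 S` inside `C_H(W)`. -/
theorem conj_mem_of_le_C [Finite G] (h : JCD K J R S W) {A : Subgroup G} (hA : A ∈ maxEA 2 S)
    (hAC : A ≤ (K ⊔ J) ⊓ Subgroup.centralizer (W : Set G)) {z g : G}
    (hz : z ∈ Cfsg.omegaCenterOf J) (hg : g ∈ K ⊔ J) : g⁻¹ * z * g ∈ A := by
  have h1 : cj g A ≤ S := by
    calc cj g A ≤ cj g ((K ⊔ J) ⊓ Subgroup.centralizer (W : Set G)) := cj_mono g hAC
      _ = (K ⊔ J) ⊓ Subgroup.centralizer (W : Set G) := cj_le_of_mem_normalizer (h.hHC hg)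
      _ ≤ S := h.hCS
  have h2 := h.Z0_le (maxEA_cj hA h1) hz
  exact mem_cj_iff.mp h2

theorem comm_mem_W [Finite G] (h : JCD K J R S W) {A : Subgroup G} (hA : A ∈ maxEA 2 S)
    {a z g : G} (ha : a ∈ A) (hz : z ∈ Cfsg.omegaCenterOf J) (hg : g ∈ K ⊔ J) :
    a * (g⁻¹ * z * g) * a⁻¹ * (g⁻¹ * z * g)⁻¹ ∈ W := by
  have hAcomm : ∀ u ∈ A, ∀ v ∈ A, u * v = v * u := fun u hu v hv => by
    have := hA.2.1.1
    exact setLike_mul_comm (s := A) hu hv
  have hAH : A ≤ K ⊔ J := hA.1.trans h.hSH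
  by_cases hAW : A ≤ Subgroup.centralizer (W : Set G)
  · have hz' := h.conj_mem_of_le_C hA (le_inf hAH hAW) hz hg
    have e : a * (g⁻¹ * z * g) * a⁻¹ * (g⁻¹ * z * g)⁻¹ = 1 := by
      rw [hAcomm a ha _ hz']; group
    rw [e]; exact W.one_mem
  · have hA1 := h.sup_mem_maxEA hA hAW
    have hA1C : W ⊔ (A ⊓ Subgroup.centralizer (W : Set G)) ≤
        (K ⊔ J) ⊓ Subgroup.centralizer (W : Set G) :=
      sup_le h.hWC (le_inf (inf_le_left.trans hAH) inf_le_right)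
    have hz' := h.conj_mem_of_le_C hA1 hA1C hz hg
    have hBN : A ⊓ Subgroup.centralizer (W : Set G) ≤ Subgroup.normalizer (W : Set G) :=
      inf_le_right.trans (Subgroup.centralizer_le_normalizer _)
    obtain ⟨w, hw, b, hb, hwb⟩ := Cfsg.Agent.Lib.H1.mem_sup_of_le_normalizer hBN hz'
    rw [hwb]
    have hbA : b ∈ A := (Subgroup.mem_inf.mp hb).1
    have haN : a ∈ Subgroup.normalizer (W : Set G) := h.hHW (hAH ha)
    have h1 : a * w * a⁻¹ ∈ W := (Subgroup.mem_normalizer_iff.mp haN w).mp hw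
    have e : a * (w * b) * a⁻¹ * (w * b)⁻¹ = (a * w * a⁻¹) * w⁻¹ := by
      calc a * (w * b) * a⁻¹ * (w * b)⁻¹ = a * w * (b * a⁻¹) * b⁻¹ * w⁻¹ := by group
        _ = a * w * (a⁻¹ * b) * b⁻¹ * w⁻¹ := by
            have : b * a⁻¹ = a⁻¹ * b := by
              have := hAcomm a ha b hbA
              calc b * a⁻¹ = a⁻¹ * (a * b) * a⁻¹ := by group
                _ = a⁻¹ * (b * a) * a⁻¹ := by rw [this]
                _ = a⁻¹ * b := by group
            rw [this]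
        _ = (a * w * a⁻¹) * w⁻¹ := by group
    rw [e]
    exact W.mul_mem h1 (W.inv_mem hw)

/-- `[z, K] ≤ W` for `z ∈ Ω₁(Z(J))`. -/
theorem comm_mem_W_of_mem_K [Finite G] (h : JCD K J R S W) {z k : G}
    (hz : z ∈ Cfsg.omegaCenterOf J) (hk : k ∈ K) : k * z * k⁻¹ * z⁻¹ ∈ W := by
  have hcj : ∀ g ∈ K ⊔ J, cj g J ≤ cosetStab W z := by
    intro g hg
    unfold cj
    rw [Subgroup.map_le_iff_le_comap]
    conv_lhs => rw [h.hJ, Cfsg.Agent.Lib.H26.JJ]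
    apply sSup_le
    intro A hA a ha
    rw [Subgroup.mem_comap]
    show g * a * g⁻¹ ∈ cosetStab W z
    have haH : a ∈ K ⊔ J := h.hSH (hA.1 ha)
    have hgN : g ∈ Subgroup.normalizer (W : Set G) := h.hHW hg
    refine ⟨Subgroup.mul_mem _ (Subgroup.mul_mem _ hgN (h.hHW haH)) (Subgroup.inv_mem _ hgN), ?_⟩
    have e : g * a * g⁻¹ * z * (g * a * g⁻¹)⁻¹ * z⁻¹ =
        g * (a * (g⁻¹ * z * g) * a⁻¹ * (g⁻¹ * z * g)⁻¹) * g⁻¹ := by group
    rw [e]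
    exact (Subgroup.mem_normalizer_iff.mp hgN _).mp (h.comm_mem_W hA ha hz hg)
  have hK : K ≤ cosetStab W z := by
    conv_lhs => rw [← h.comm]
    rw [Subgroup.commutator_le]
    intro k hk j hj
    have h1 : k * j * k⁻¹ ∈ cosetStab W z :=
      hcj k ((le_sup_left : K ≤ K ⊔ J) hk) (conj_mem_cj hj)
    have h2 : j ∈ cosetStab W z := by
      have := hcj 1 (Subgroup.one_mem _)
      rw [cj_one] at this
      exact this hj
    rw [commutatorElement_def]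
    exact Subgroup.mul_mem _ h1 (Subgroup.inv_mem _ h2)
  exact (hK hk).2

/-- `R` centralizes `Ω₁(Z(J))`. -/
theorem R_commute [Finite G] (h : JCD K J R S W) {z r : G}
    (hz : z ∈ Cfsg.omegaCenterOf J) (hr : r ∈ R) : r * z = z * r := by
  obtain ⟨x, hxK, hxR, hx3, hK⟩ := h.exists_x
  set F := W ⊓ Subgroup.centralizer (J : Set G) with hF
  have hphi : ∀ r ∈ R, r * z * r⁻¹ * z⁻¹ ∈ F := by
    intro r hr
    rw [hF, ← h.Z0_inf_W]
    refine Subgroup.mem_inf.mpr ⟨?_, h.comm_mem_W_of_mem_K hz (h.hRK hr)⟩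
    have hrN := h.hSZ (h.hRS hr)
    exact Subgroup.mul_mem _ ((Subgroup.mem_normalizer_iff.mp hrN z).mp hz) (Subgroup.inv_mem _ hz)
  by_contra hne
  have hu1 : r * z * r⁻¹ * z⁻¹ ≠ 1 := by
    intro h1
    apply hne
    calc r * z = (r * z * r⁻¹ * z⁻¹) * z * r := by group
      _ = z * r := by rw [h1, one_mul]
  have hxN : x ∈ Subgroup.normalizer (R : Set G) := h.hHR ((le_sup_left : K ≤ K ⊔ J) hxK)
  have hr' : x * r * x⁻¹ ∈ R := (Subgroup.mem_normalizer_iff.mp hxN r).mp hr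
  -- `φ(x r x⁻¹) = x φ(r) x⁻¹`
  set w'' := x⁻¹ * z * x⁻¹⁻¹ * z⁻¹ with hw''
  have hw''W : w'' ∈ W := h.comm_mem_W_of_mem_K hz (K.inv_mem hxK)
  have hu : r * z * r⁻¹ * z⁻¹ ∈ W := (Subgroup.mem_inf.mp (hphi r hr)).1
  have hrw : r * w'' = w'' * r :=
    (Subgroup.mem_centralizer_iff.mp (h.hRW hr) w'' hw''W).symm
  have e1 : x⁻¹ * z * x = w'' * z := by rw [hw'']; group
  have hequiv : x * r * x⁻¹ * z * (x * r * x⁻¹)⁻¹ * z⁻¹ = x * (r * z * r⁻¹ * z⁻¹) * x⁻¹ := by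
    have e2 : x * r * x⁻¹ * z * (x * r * x⁻¹)⁻¹ * z⁻¹ =
        x * (r * (x⁻¹ * z * x) * r⁻¹ * (x⁻¹ * z * x)⁻¹) * x⁻¹ := by group
    rw [e2, e1]
    have e3 : r * (w'' * z) * r⁻¹ * (w'' * z)⁻¹ = w'' * (r * z * r⁻¹ * z⁻¹) * w''⁻¹ := by
      calc r * (w'' * z) * r⁻¹ * (w'' * z)⁻¹ = (r * w'') * z * r⁻¹ * z⁻¹ * w''⁻¹ := by group
        _ = (w'' * r) * z * r⁻¹ * z⁻¹ * w''⁻¹ := by rw [hrw]
        _ = w'' * (r * z * r⁻¹ * z⁻¹) * w''⁻¹ := by group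
    rw [e3, h.W_comm hw''W hu]
    group
  have hv := hphi _ hr'
  rw [hequiv] at hv
  have hv1 : x * (r * z * r⁻¹ * z⁻¹) * x⁻¹ ≠ 1 := by
    intro h1
    apply hu1
    have : r * z * r⁻¹ * z⁻¹ = x⁻¹ * (x * (r * z * r⁻¹ * z⁻¹) * x⁻¹) * x := by group
    rw [this, h1]; group
  have heq := eq_of_card_two h.card_fixed hv (hphi r hr) hv1 hu1
  exact hu1 (h.fixed_eq_one hxK hx3 hK hu heq)

/-- `Ω₁(Z(J)) = (Ω₁(Z(J)) ∩ Z(K J)) (Ω₁(Z(J)) ∩ W)`. -/
theorem Z0_decomp [Finite G] (h : JCD K J R S W) :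
    (Cfsg.omegaCenterOf J ⊓ ((K ⊔ J) ⊓ Subgroup.centralizer ((K ⊔ J : Subgroup G) : Set G))) ⊔
      (Cfsg.omegaCenterOf J ⊓ W) = Cfsg.omegaCenterOf J := by
  apply le_antisymm (sup_le inf_le_left inf_le_left)
  intro z hz
  obtain ⟨x, hxK, hxR, hx3, hK⟩ := h.exists_x
  have hxN : x ∈ Subgroup.normalizer (W : Set G) := h.hHW ((le_sup_left : K ≤ K ⊔ J) hxK)
  have hxN' : x⁻¹ ∈ Subgroup.normalizer (W : Set G) := Subgroup.inv_mem _ hxN
  obtain ⟨hzJ, hzC, -⟩ := mem_omegaCenterOf_iff.mp hz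
  have hzW : ∀ w ∈ W, z * w = w * z := fun w hw =>
    (Subgroup.mem_centralizer_iff.mp hzC w (h.hWJ hw)).symm
  set u := x * z * x⁻¹ * z⁻¹ with hu
  have huW : u ∈ W := h.comm_mem_W_of_mem_K hz hxK
  -- the map `w ↦ w (x w⁻¹ x⁻¹)` on `W` is injective, hence surjective
  let ψ : W → W := fun w => ⟨(w : G) * (x * (w : G)⁻¹ * x⁻¹),
    W.mul_mem w.2 ((Subgroup.mem_normalizer_iff.mp hxN _).mp (W.inv_mem w.2))⟩
  have hinj : Function.Injective ψ := by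
    intro w w' hww
    have h1 : (w : G) * (x * (w : G)⁻¹ * x⁻¹) = (w' : G) * (x * (w' : G)⁻¹ * x⁻¹) :=
      congrArg Subtype.val hww
    have h2 : x * ((w' : G)⁻¹ * (w : G)) * x⁻¹ = (w' : G)⁻¹ * (w : G) := by
      have e : (w' : G)⁻¹ * (w : G) = (x * (w' : G)⁻¹ * x⁻¹) * (x * (w : G)⁻¹ * x⁻¹)⁻¹ := by
        calc (w' : G)⁻¹ * (w : G)
            = (w' : G)⁻¹ * ((w : G) * (x * (w : G)⁻¹ * x⁻¹)) * (x * (w : G)⁻¹ * x⁻¹)⁻¹ := by group
          _ = (w' : G)⁻¹ * ((w' : G) * (x * (w' : G)⁻¹ * x⁻¹)) * (x * (w : G)⁻¹ * x⁻¹)⁻¹ := by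
              rw [h1]
          _ = (x * (w' : G)⁻¹ * x⁻¹) * (x * (w : G)⁻¹ * x⁻¹)⁻¹ := by group
      conv_rhs => rw [e]
      group
    have h3 := h.fixed_eq_one hxK hx3 hK (W.mul_mem (W.inv_mem w'.2) w.2) h2
    apply Subtype.ext
    calc (w : G) = (w' : G) * ((w' : G)⁻¹ * (w : G)) := by group
      _ = (w' : G) := by rw [h3, mul_one]
  have hsurj : Function.Surjective ψ := Finite.injective_iff_surjective.mp hinj
  obtain ⟨w, hw⟩ := hsurj ⟨u, huW⟩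
  have hw' : (w : G) * (x * (w : G)⁻¹ * x⁻¹) = u := congrArg Subtype.val hw
  have hwW : (w : G) ∈ W := w.2
  set z' := z * (w : G) with hz'
  -- `x` centralizes `z'`
  have hxz' : x * z' * x⁻¹ = z' := by
    have e1 : x * z * x⁻¹ = u * z := by rw [hu]; group
    have e2 : u * (x * (w : G) * x⁻¹) = (w : G) := by rw [← hw']; group
    calc x * z' * x⁻¹ = (x * z * x⁻¹) * (x * (w : G) * x⁻¹) := by rw [hz']; group
      _ = u * z * (x * (w : G) * x⁻¹) := by rw [e1]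
      _ = (z * u) * (x * (w : G) * x⁻¹) := by rw [hzW u huW]
      _ = z * (u * (x * (w : G) * x⁻¹)) := by group
      _ = z' := by rw [e2]
  have hKC : K ≤ Subgroup.centralizer ({z'} : Set G) := by
    rw [hK]
    apply sup_le
    · intro r hr
      rw [Subgroup.mem_centralizer_singleton_iff]
      have h1 := h.R_commute hz hr
      have h2 : r * (w : G) = (w : G) * r :=
        (Subgroup.mem_centralizer_iff.mp (h.hRW hr) _ hwW).symm
      calc r * z' = (r * z) * (w : G) := by rw [hz']; group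
        _ = (z * r) * (w : G) := by rw [h1]
        _ = z * (r * (w : G)) := by group
        _ = z * ((w : G) * r) := by rw [h2]
        _ = z' * r := by rw [hz']; group
    · rw [Subgroup.zpowers_le, Subgroup.mem_centralizer_singleton_iff]
      calc x * z' = (x * z' * x⁻¹) * x := by group
        _ = z' * x := by rw [hxz']
  have hz'K : ∀ k ∈ K, k * z' = z' * k := fun k hk =>
    Subgroup.mem_centralizer_singleton_iff.mp (hKC hk)
  -- `w` is centralized by `J`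
  have hwJ : (w : G) ∈ Subgroup.centralizer (J : Set G) := by
    rw [Subgroup.mem_centralizer_iff]
    intro j hj
    have hjN : j ∈ Subgroup.normalizer (W : Set G) := h.hHW ((le_sup_right : J ≤ K ⊔ J) hj)
    have hjNK : j ∈ Subgroup.normalizer (K : Set G) := h.hJK hj
    have hjz : j * z * j⁻¹ = z := by
      rw [Subgroup.mem_centralizer_iff.mp hzC j hj]; group
    set t := j * (w : G) * j⁻¹ * (w : G)⁻¹ with ht
    have htW : t ∈ W :=
      W.mul_mem ((Subgroup.mem_normalizer_iff.mp hjN _).mp hwW) (W.inv_mem hwW)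
    have e1 : j * z' * j⁻¹ * z'⁻¹ = t := by
      calc j * z' * j⁻¹ * z'⁻¹ = (j * z * j⁻¹) * (j * (w : G) * j⁻¹ * (w : G)⁻¹) * z⁻¹ := by
            rw [hz']; group
        _ = z * t * z⁻¹ := by rw [hjz]
        _ = t * z * z⁻¹ := by rw [hzW t htW]
        _ = t := by group
    -- `j z' j⁻¹` commutes with `x`
    have hxinv : j⁻¹ * x * j ∈ K := by
      have := (Subgroup.mem_normalizer_iff.mp (Subgroup.inv_mem _ hjNK) x).mp hxK
      simpa using this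
    have hc1 : x * (j * z' * j⁻¹) = (j * z' * j⁻¹) * x := by
      have := hz'K _ hxinv
      calc x * (j * z' * j⁻¹) = j * ((j⁻¹ * x * j) * z') * j⁻¹ := by group
        _ = j * (z' * (j⁻¹ * x * j)) * j⁻¹ := by rw [this]
        _ = (j * z' * j⁻¹) * x := by group
    have hc2 : x * z'⁻¹ = z'⁻¹ * x := by
      have := hz'K x hxK
      calc x * z'⁻¹ = z'⁻¹ * (z' * x) * z'⁻¹ := by group
        _ = z'⁻¹ * (x * z') * z'⁻¹ := by rw [this]
        _ = z'⁻¹ * x := by group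
    have hxt : x * t * x⁻¹ = t := by
      rw [← e1]
      calc x * (j * z' * j⁻¹ * z'⁻¹) * x⁻¹ = (x * (j * z' * j⁻¹)) * z'⁻¹ * x⁻¹ := by group
        _ = (j * z' * j⁻¹) * (x * z'⁻¹) * x⁻¹ := by rw [hc1]; group
        _ = (j * z' * j⁻¹) * (z'⁻¹ * x) * x⁻¹ := by rw [hc2]
        _ = j * z' * j⁻¹ * z'⁻¹ := by group
    have ht1 := h.fixed_eq_one hxK hx3 hK htW hxt
    calc j * (w : G) = (j * (w : G) * j⁻¹ * (w : G)⁻¹) * (w : G) * j := by group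
      _ = (w : G) * j := by rw [← ht, ht1, one_mul]
  have hwZ : (w : G) ∈ Cfsg.omegaCenterOf J ⊓ W := by
    rw [h.Z0_inf_W]
    exact Subgroup.mem_inf.mpr ⟨hwW, hwJ⟩
  have hz'Z : z' ∈ Cfsg.omegaCenterOf J :=
    Subgroup.mul_mem _ hz (Subgroup.mem_inf.mp hwZ).1
  have hz'H : z' ∈ K ⊔ J :=
    Subgroup.mul_mem _ ((le_sup_right : J ≤ K ⊔ J) hzJ) ((le_sup_left : K ≤ K ⊔ J) (h.hWK hwW))
  have hz'C : z' ∈ Subgroup.centralizer ((K ⊔ J : Subgroup G) : Set G) := by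
    have h1 : K ⊔ J ≤ Subgroup.centralizer ({z'} : Set G) := by
      apply sup_le hKC
      intro j hj
      rw [Subgroup.mem_centralizer_singleton_iff]
      exact Subgroup.mem_centralizer_iff.mp (omegaCenterOf_le_centralizer J hz'Z) j hj
    rw [Subgroup.mem_centralizer_iff]
    intro g hg
    exact Subgroup.mem_centralizer_singleton_iff.mp (h1 hg)
  have hzeq : z = z' * (w : G)⁻¹ := by rw [hz']; group
  rw [hzeq]
  exact Subgroup.mul_mem _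
    ((le_sup_left : _ ≤ (Cfsg.omegaCenterOf J ⊓ ((K ⊔ J) ⊓
      Subgroup.centralizer ((K ⊔ J : Subgroup G) : Set G))) ⊔ (Cfsg.omegaCenterOf J ⊓ W))
      (Subgroup.mem_inf.mpr ⟨hz'Z, Subgroup.mem_inf.mpr ⟨hz'H, hz'C⟩⟩))
    ((le_sup_right : _ ≤ (Cfsg.omegaCenterOf J ⊓ ((K ⊔ J) ⊓
      Subgroup.centralizer ((K ⊔ J : Subgroup G) : Set G))) ⊔ (Cfsg.omegaCenterOf J ⊓ W))
      (Subgroup.inv_mem _ hwZ))

/-- `|Ω₁(Z(J)) ∩ W| = 2`. -/
theorem card_Z0_inf_W [Finite G] (h : JCD K J R S W) :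
    Nat.card ↥(Cfsg.omegaCenterOf J ⊓ W : Subgroup G) = 2 := by
  rw [h.Z0_inf_W]; exact h.card_fixed

end JCD

end Cfsg.Agent.Lib.H15
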