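import Mathlib
import Cfsg.Agent.Lib.H15.JCCL3
import Cfsg.Agent.Lib.H1.CoprimeAbelian
import Cfsg.Agent.Lib.H15.JComp5

/-!
helper15: construction of `J(T)`-components, part 4: `W_K` is a four-group.
-/

set_option autoImplicit false

namespace Cfsg.Agent.Lib.H15.JC

open scoped commutatorElement
open Cfsg.Agent.Lib.H15
open Cfsg.Agent.Lib.H5 (IsSylowIn)
open Cfsg.Agent.Lib.H26 (maxEA JJ)

variable {X : Type*} [Group X]

/-- `N(K) ≤ N(W_K)`. -/
theorem normalizer_le_normalizer_wOf [Finite X] (K : Subgroup X) :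
    Subgroup.normalizer (K : Set X) ≤ Subgroup.normalizer (Cfsg.wOf K : Set X) := by
  unfold Cfsg.wOf
  apply Cfsg.Agent.Lib.H3.le_normalizer_commutator'
  · exact (Cfsg.Agent.Lib.H7.normalizer_le_normalizer_pCoreOf 2 K).trans
      (normalizer_le_normalizer_omegaCenterOf _)
  · exact le_rfl

/-- the subgroup of `A` fixing the coset `x O₂(X)`. -/
def BB (A : Subgroup X) (x : X) : Subgroup X :=
  A ⊓ (Subgroup.centralizer {QuotientGroup.mk' (QQ X) x}).comap (QuotientGroup.mk' (QQ X))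

theorem mem_BB {A : Subgroup X} {x b : X} :
    b ∈ BB A x ↔ b ∈ A ∧ b * x * b⁻¹ * x⁻¹ ∈ QQ X := by
  unfold BB
  rw [Subgroup.mem_inf, Subgroup.mem_comap, Subgroup.mem_centralizer_iff]
  refine and_congr_right fun _ => ?_
  rw [← QuotientGroup.eq_one_iff (N := QQ X), ← QuotientGroup.mk'_apply, map_mul, map_mul, map_mul,
    map_inv, map_inv]
  constructor
  · intro h
    have := h _ (Set.mem_singleton _)
    rw [← this]; group
  · intro h y hy
    rw [Set.mem_singleton_iff] at hy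
    rw [hy]
    set u := QuotientGroup.mk' (QQ X) b
    set v := QuotientGroup.mk' (QQ X) x
    have : u * v = (u * v * u⁻¹ * v⁻¹) * (v * u) := by group
    rw [this, h, one_mul]

namespace XCfg

variable [Finite X] {T K₁ A : Subgroup X} {x a : X}

theorem KK_le_normalizer_Z1 :
    KK x ≤ Subgroup.normalizer (Cfsg.omegaCenterOf (KK x ⊓ QQ X) : Set X) :=
  KK_le_normalizer_RR.trans (normalizer_le_normalizer_omegaCenterOf _)

theorem W_le_Z1 : ⁅Cfsg.omegaCenterOf (KK x ⊓ QQ X), KK x⁆ ≤ Cfsg.omegaCenterOf (KK x ⊓ QQ X) :=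
  (Subgroup.le_normalizer_iff_commutator_le_left).mp KK_le_normalizer_Z1

theorem wOf_KK (c : XCfg T K₁ A x a) :
    Cfsg.wOf (KK x) = ⁅Cfsg.omegaCenterOf (KK x ⊓ QQ X), KK x⁆ := by
  unfold Cfsg.wOf
  rw [c.pCoreOf_KK]

theorem Z1_comm {u v : X} (hu : u ∈ Cfsg.omegaCenterOf (KK x ⊓ QQ X))
    (hv : v ∈ Cfsg.omegaCenterOf (KK x ⊓ QQ X)) : u * v = v * u :=
  (Subgroup.mem_centralizer_iff.mp (omegaCenterOf_le_centralizer _ hv) u (omegaCenterOf_le _ hu))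

theorem Z1_isMulCommutative : IsMulCommutative ↥(Cfsg.omegaCenterOf (KK x ⊓ QQ X)) :=
  ⟨⟨fun a b => Subtype.ext (Z1_comm a.2 b.2)⟩⟩

/-- `W = [Z₁, ⟨x⟩]`. -/
theorem W_le (c : XCfg T K₁ A x a) :
    ⁅Cfsg.omegaCenterOf (KK x ⊓ QQ X), KK x⁆ ≤
      ⁅Cfsg.omegaCenterOf (KK x ⊓ QQ X), Subgroup.zpowers x⁆ := by
  set V := Cfsg.omegaCenterOf (KK x ⊓ QQ X) with hV
  have hxN : Subgroup.zpowers x ≤ Subgroup.normalizer (V : Set X) := by
    rw [Subgroup.zpowers_le]; exact KK_le_normalizer_Z1 c.x_mem_KK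
  rw [Subgroup.commutator_le]
  intro v hv k hk
  obtain ⟨q, hq, n, hkq⟩ := mem_YY (KK_le_YY x hk)
  have hqK : q ∈ KK x := by
    have e : q = k * (x ^ n)⁻¹ := by rw [hkq]; group
    rw [e]
    exact Subgroup.mul_mem _ hk (Subgroup.inv_mem _ (Subgroup.zpow_mem _ c.x_mem_KK n))
  have hr : q ∈ KK x ⊓ QQ X := Subgroup.mem_inf.mpr ⟨hqK, hq⟩
  set y := x ^ n with hy
  have hyz : y ∈ Subgroup.zpowers x := Subgroup.zpow_mem _ (Subgroup.mem_zpowers x) n
  have hvr : v * q = q * v :=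
    (Subgroup.mem_centralizer_iff.mp (omegaCenterOf_le_centralizer _ hv) q hr).symm
  have hyV : ⁅v, y⁆ ∈ V := by
    have h1 : y * v⁻¹ * y⁻¹ ∈ V :=
      (Subgroup.mem_normalizer_iff.mp (hxN hyz) _).mp (Subgroup.inv_mem _ hv)
    have e : ⁅v, y⁆ = v * (y * v⁻¹ * y⁻¹) := by rw [commutatorElement_def]; group
    rw [e]; exact Subgroup.mul_mem _ hv h1
  have hcr : ⁅v, y⁆ * q = q * ⁅v, y⁆ :=
    (Subgroup.mem_centralizer_iff.mp (omegaCenterOf_le_centralizer _ hyV) q hr).symm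
  have e : ⁅v, k⁆ = ⁅v, y⁆ := by
    rw [hkq]
    have e1 : ⁅v, q * y⁆ = q * ⁅v, y⁆ * q⁻¹ := by
      rw [commutatorElement_def, commutatorElement_def]
      calc v * (q * y) * v⁻¹ * (q * y)⁻¹ = (v * q) * y * v⁻¹ * y⁻¹ * q⁻¹ := by group
        _ = (q * v) * y * v⁻¹ * y⁻¹ * q⁻¹ := by rw [hvr]
        _ = q * (v * y * v⁻¹ * y⁻¹) * q⁻¹ := by group
    rw [e1, ← hcr]; group
  rw [e]
  exact Subgroup.commutator_mem_commutator hv hyz

theorem coprime_zpowers (c : XCfg T K₁ A x a) {V : Subgroup X} (hV : IsPGroup 2 ↥V) :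
    (Nat.card (Subgroup.zpowers x)).Coprime (Nat.card V) := by
  obtain ⟨n, hn⟩ := IsPGroup.iff_card.mp hV
  rw [hn, Nat.card_zpowers, c.orderOf_x]
  exact Nat.Coprime.pow_right n (by norm_num)

theorem commute_zpowers {x w : X} (hfix : x * w * x⁻¹ = w) :
    w ∈ Subgroup.centralizer (Subgroup.zpowers x : Set X) := by
  rw [Subgroup.mem_centralizer_iff]
  intro y hy
  obtain ⟨n, rfl⟩ := Subgroup.mem_zpowers_iff.mp hy
  have hc : Commute x w := by
    show x * w = w * x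
    calc x * w = (x * w * x⁻¹) * x := by group
      _ = w * x := by rw [hfix]
  exact (hc.zpow_left n).eq

/-- `x` acts fixed-point-freely on `W`. -/
theorem fix_W (c : XCfg T K₁ A x a) {w : X}
    (hw : w ∈ ⁅Cfsg.omegaCenterOf (KK x ⊓ QQ X), KK x⁆) (hfix : x * w * x⁻¹ = w) : w = 1 := by
  set V := Cfsg.omegaCenterOf (KK x ⊓ QQ X) with hV
  haveI : IsMulCommutative ↥V := Z1_isMulCommutative
  have hxN : Subgroup.zpowers x ≤ Subgroup.normalizer (V : Set X) := by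
    rw [Subgroup.zpowers_le]; exact KK_le_normalizer_Z1 c.x_mem_KK
  have hV2 : IsPGroup 2 ↥V := RR_isPGroup.to_le (omegaCenterOf_le _)
  have key := Cfsg.Agent.Lib.H1.coprime_abelian_centralizer_inf_commutator hxN
    (c.coprime_zpowers hV2)
  have hmem : w ∈ (V ⊓ Subgroup.centralizer (Subgroup.zpowers x : Set X)) ⊓
      ⁅V, Subgroup.zpowers x⁆ :=
    Subgroup.mem_inf.mpr ⟨Subgroup.mem_inf.mpr ⟨W_le_Z1 hw, commute_zpowers hfix⟩, c.W_le hw⟩
  rw [key, Subgroup.mem_bot] at hmem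
  exact hmem

/-- `W ≠ 1`. -/
theorem W_ne_bot (c : XCfg T K₁ A x a) :
    ⁅Cfsg.omegaCenterOf (KK x ⊓ QQ X), KK x⁆ ≠ ⊥ := by
  intro hbot
  set Z₁ := Cfsg.omegaCenterOf (KK x ⊓ QQ X) with hZ₁
  haveI : IsMulCommutative ↥(VV X) := VV_elemAb.1
  have hxNV : Subgroup.zpowers x ≤ Subgroup.normalizer ((VV X : Subgroup X) : Set X) := by
    rw [Subgroup.normalizer_eq_top]; exact le_top
  have hV2 : IsPGroup 2 ↥(VV X) := QQ_isPGroup.to_le VV_le_QQ
  -- `[V, ⟨x⟩] ≤ Z₁`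
  have hU₀ : ⁅VV X, Subgroup.zpowers x⁆ ≤ Z₁ := by
    rw [Subgroup.commutator_le]
    intro v hv y hy
    have hyK : y ∈ KK x := by
      obtain ⟨n, rfl⟩ := Subgroup.mem_zpowers_iff.mp hy
      exact Subgroup.zpow_mem _ c.x_mem_KK n
    have hvQ : v ∈ QQ X := VV_le_QQ hv
    have hcV : ⁅v, y⁆ ∈ VV X := by
      have h1 : y * v⁻¹ * y⁻¹ ∈ VV X := (VV_normal (X := X)).conj_mem _ (Subgroup.inv_mem _ hv) y
      have e : ⁅v, y⁆ = v * (y * v⁻¹ * y⁻¹) := by rw [commutatorElement_def]; group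
      rw [e]; exact Subgroup.mul_mem _ hv h1
    have hcK : ⁅v, y⁆ ∈ KK x := by
      have h1 : v * y * v⁻¹ ∈ KK x :=
        (Subgroup.mem_normalizer_iff.mp (QQ_le_normalizer_KK x hvQ) y).mp hyK
      rw [commutatorElement_def]
      exact Subgroup.mul_mem _ h1 (Subgroup.inv_mem _ hyK)
    rw [hZ₁, mem_omegaCenterOf_iff]
    refine ⟨Subgroup.mem_inf.mpr ⟨hcK, VV_le_QQ hcV⟩, ?_, ?_⟩
    · rw [Subgroup.mem_centralizer_iff]
      intro r hr
      have hrQ : r ∈ QQ X := (Subgroup.mem_inf.mp hr).2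
      exact (Subgroup.mem_centralizer_iff.mp (omegaCenterOf_le_centralizer _ hcV) r hrQ)
    · rw [pow_two]; exact VV_sq hcV
  -- `x` centralizes `Z₁`
  have hcen : ∀ z ∈ Z₁, x * z * x⁻¹ = z := by
    intro z hz
    have h1 : ⁅z, x⁆ ∈ ⁅Z₁, KK x⁆ := Subgroup.commutator_mem_commutator hz c.x_mem_KK
    rw [hbot, Subgroup.mem_bot, commutatorElement_def] at h1
    have : x * z * x⁻¹ = (z * x * z⁻¹ * x⁻¹)⁻¹ * z := by group
    rw [this, h1, inv_one, one_mul]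
  have key := Cfsg.Agent.Lib.H1.coprime_abelian_centralizer_inf_commutator hxNV
    (c.coprime_zpowers hV2)
  have hU₀bot : ⁅VV X, Subgroup.zpowers x⁆ = ⊥ := by
    rw [eq_bot_iff, ← key]
    intro u hu
    refine Subgroup.mem_inf.mpr ⟨Subgroup.mem_inf.mpr ⟨?_, commute_zpowers (hcen u (hU₀ hu))⟩, hu⟩
    exact (Subgroup.le_normalizer_iff_commutator_le_left).mp hxNV hu
  apply c.hxC
  unfold CC
  rw [Subgroup.mem_centralizer_iff]
  intro v hv
  have h1 : ⁅v, x⁆ ∈ ⁅VV X, Subgroup.zpowers x⁆ :=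
    Subgroup.commutator_mem_commutator hv (Subgroup.mem_zpowers x)
  rw [hU₀bot, Subgroup.mem_bot, commutatorElement_def] at h1
  have : v * x = (v * x * v⁻¹ * x⁻¹) * (x * v) := by group
  rw [this, h1, one_mul]

theorem J_le_normalizer_W (c : XCfg T K₁ A x a) :
    Cfsg.thompsonSubgroupOf 2 T ≤
      Subgroup.normalizer ((⁅Cfsg.omegaCenterOf (KK x ⊓ QQ X), KK x⁆ : Subgroup X) : Set X) := by
  rw [← c.wOf_KK]
  exact c.J_le_normalizer_KK.trans (normalizer_le_normalizer_wOf _)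

/-- The counting configuration. -/
theorem k3cfg (c : XCfg T K₁ A x a) :
    K3Cfg T A (BB A x) (⁅Cfsg.omegaCenterOf (KK x ⊓ QQ X), KK x⁆) x a := by
  set Z₁ := Cfsg.omegaCenterOf (KK x ⊓ QQ X) with hZ₁
  set W := ⁅Z₁, KK x⁆ with hW
  have hWZ : W ≤ Z₁ := W_le_Z1
  have hKW : KK x ≤ Subgroup.normalizer (W : Set X) :=
    Cfsg.Agent.Lib.H3.le_normalizer_commutator' KK_le_normalizer_Z1 Subgroup.le_normalizer
  have hAJ : A ≤ Cfsg.thompsonSubgroupOf 2 T := maxEA_le_thompson c.hA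
  have hAW : A ≤ Subgroup.normalizer (W : Set X) := hAJ.trans c.J_le_normalizer_W
  have hAK : A ≤ Subgroup.normalizer (KK x : Set X) := hAJ.trans c.J_le_normalizer_KK
  have hcenR : ∀ w ∈ W, ∀ r ∈ KK x ⊓ QQ X, r * w * r⁻¹ = w := by
    intro w hw r hr
    have := Subgroup.mem_centralizer_iff.mp (omegaCenterOf_le_centralizer _ (hWZ hw)) r hr
    rw [this]; group
  refine ⟨c.hA, ?_, ?_, ?_, ?_, c.hx3, ?_, ?_, ?_, c.ha, ?_, ?_, ?_⟩
  · exact (hWZ.trans (omegaCenterOf_le _)).trans (inf_le_right.trans c.lt.QQ_le_T)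
  · intro u hu v hv
    exact Z1_comm (hWZ hu) (hWZ hv)
  · intro u hu
    exact omegaCenterOf_sq (hWZ hu)
  · intro u hu
    exact (Subgroup.mem_normalizer_iff.mp (hKW c.x_mem_KK) u).mp hu
  · intro u hu hfix
    exact c.fix_W hu hfix
  · intro g hg u hu
    exact (Subgroup.mem_normalizer_iff.mp (hAW hg) u).mp hu
  · exact inf_le_left
  · intro g hg
    have hgT : g ∈ T := c.hA.1 hg
    have hgN : g ∈ Subgroup.normalizer (K₁ : Set X) := c.hJK (hAJ hg)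
    rcases c.conj_mem hgT hgN with h1 | h1
    · left; exact mem_BB.mpr ⟨hg, h1⟩
    · right
      refine mem_BB.mpr ⟨Subgroup.mul_mem _ c.ha hg, ?_⟩
      have e : a * g * x * (a * g)⁻¹ * x⁻¹ = a * (g * x * g⁻¹ * x) * a⁻¹ * ((a * x * a⁻¹)⁻¹ * x⁻¹) := by
        group
      rw [e, c.hax, inv_inv, mul_inv_cancel, mul_one]
      exact (QQ_normal (X := X)).conj_mem _ h1 a
  · intro b hb u hu
    obtain ⟨hbA, hbQ⟩ := mem_BB.mp hb
    set q := b * x * b⁻¹ * x⁻¹ with hq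
    have hqK : q ∈ KK x := by
      have h1 : b * x * b⁻¹ ∈ KK x :=
        (Subgroup.mem_normalizer_iff.mp (hAK hbA) x).mp c.x_mem_KK
      exact Subgroup.mul_mem _ h1 (Subgroup.inv_mem _ c.x_mem_KK)
    have hqR : q ∈ KK x ⊓ QQ X := Subgroup.mem_inf.mpr ⟨hqK, hbQ⟩
    have hbu : b * u * b⁻¹ ∈ W := (Subgroup.mem_normalizer_iff.mp (hAW hbA) u).mp hu
    have hw' : x * (b * u * b⁻¹) * x⁻¹ ∈ W :=
      (Subgroup.mem_normalizer_iff.mp (hKW c.x_mem_KK) _).mp hbu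
    have e : b * (x * u * x⁻¹) * b⁻¹ = q * (x * (b * u * b⁻¹) * x⁻¹) * q⁻¹ := by
      rw [hq]; group
    rw [e, hcenR _ hw' q hqR]
  · intro u hu
    have e : a * (x * u * x⁻¹) * a⁻¹ = (a * x * a⁻¹) * (a * u * a⁻¹) * (a * x * a⁻¹)⁻¹ := by group
    rw [e, c.hax, inv_inv]

theorem card_W (c : XCfg T K₁ A x a) :
    Nat.card ↥(⁅Cfsg.omegaCenterOf (KK x ⊓ QQ X), KK x⁆) = 4 := by
  set W := ⁅Cfsg.omegaCenterOf (KK x ⊓ QQ X), KK x⁆ with hW
  have hle : Nat.card W ≤ 4 := c.k3cfg.card_U_le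
  have hW2 : IsPGroup 2 ↥W := RR_isPGroup.to_le (W_le_Z1.trans (omegaCenterOf_le _))
  obtain ⟨n, hn⟩ := IsPGroup.iff_card.mp hW2
  have hne : W ≠ ⊥ := c.W_ne_bot
  have hxW : ∀ w ∈ W, x * w * x⁻¹ ∈ W := c.k3cfg.hxU
  rw [hn] at hle ⊢
  have hn2 : n ≤ 2 := by
    by_contra hcon
    rw [not_le] at hcon
    have : 2 ^ 3 ≤ 2 ^ n := Nat.pow_le_pow_right (by norm_num) hcon
    omega
  interval_cases n
  · exfalso
    apply hne
    rw [← Subgroup.card_eq_one, hn]; rfl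
  · exfalso
    -- `|W| = 2`: the involution is fixed by `x`
    obtain ⟨w, hw1⟩ : ∃ w : W, w ≠ 1 := by
      haveI : Nontrivial W := by
        rw [← Finite.one_lt_card_iff_nontrivial, hn]; norm_num
      exact exists_ne 1
    have hw : (w : X) ∈ W := w.2
    have hfix : x * (w : X) * x⁻¹ = w := by
      have h2 := hxW _ hw
      have hcard : Nat.card W = 2 := by rw [hn]; rfl
      have hw1' : (w : X) ≠ 1 := fun h1 => hw1 (Subtype.ext h1)
      have hne1 : x * (w : X) * x⁻¹ ≠ 1 := by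
        intro h1
        apply hw1'
        have : (w : X) = x⁻¹ * (x * (w : X) * x⁻¹) * x := by group
        rw [this, h1]; simp
      exact eq_of_card_two hcard h2 hw hne1 hw1'
    apply hw1
    apply Subtype.ext
    exact c.fix_W hw hfix
  · rfl

/-- The constructed subgroup is a `J(T)`-component. -/
theorem isJComponent (c : XCfg T K₁ A x a) : Cfsg.IsJComponent T (KK x) := by
  refine ⟨closure_odd_KK x, c.comm_KK_J, ?_, ?_, ?_, ?_⟩
  · rw [c.pCoreOf_KK]; exact c.relIndex_RR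
  · intro S hS hJS
    exact c.sylow_cond S hS.2.1 hJS
  · rw [c.wOf_KK]; exact c.card_W
  · intro w hw
    rw [c.wOf_KK] at hw
    exact omegaCenterOf_sq (W_le_Z1 hw)

end XCfg

end Cfsg.Agent.Lib.H15.JC
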