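import Mathlib
import Cfsg.Agent.Lib.H15.JCCL4
import Cfsg.Agent.Lib.H3.QT5
import Cfsg.Agent.Lib.H3.OffenderE11

/-!
helper15: failure-of-factorization structure inside the local set-up `LT T`, part 1:
preliminaries (Frattini argument for `J(X)`, the `FFS` structure).
-/

set_option autoImplicit false

namespace Cfsg.Agent.Lib.H15.JC

open scoped commutatorElement
open Cfsg.Agent.Lib.H15
open Cfsg.Agent.Lib.H5 (IsSylowIn)
open Cfsg.Agent.Lib.H26 (maxEA JJ)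
open Cfsg.Agent.Lib.H3 (FFS MO)
open Cfsg.Agent.Lib.H3.QT (Gam Vh hat toGam)

variable {X : Type*} [Group X]

theorem sl2_not_comm : ¬ (∀ a b : Matrix.SpecialLinearGroup (Fin 2) (ZMod 2), a * b = b * a) := by
  intro h
  let a : Matrix.SpecialLinearGroup (Fin 2) (ZMod 2) := ⟨!![1,1;0,1], by simp [Matrix.det_fin_two]⟩
  let b : Matrix.SpecialLinearGroup (Fin 2) (ZMod 2) := ⟨!![1,0;1,1], by simp [Matrix.det_fin_two]⟩
  have h1 := h a b
  have h2 := (Matrix.SpecialLinearGroup.ext_iff (a * b) (b * a)).mp h1 0 0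
  rw [Matrix.SpecialLinearGroup.coe_mul, Matrix.SpecialLinearGroup.coe_mul] at h2
  simp [a, b, Matrix.mul_apply, Fin.sum_univ_two] at h2

/-- `J(X)`. -/
abbrev JX (X : Type*) [Group X] : Subgroup X := Cfsg.thompsonSubgroup 2 X

instance JX_normal [Finite X] : (JX X).Normal := by
  haveI := Cfsg.Agent.Lib.H3.thompson_characteristic (G := X) 2
  infer_instance

namespace LT

variable [Finite X] {T : Subgroup X}

theorem maxEA_T_iff (h : LT T) {A : Subgroup X} :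
    A ∈ maxEA 2 T ↔ A ∈ Cfsg.maxElementaryAbelianSubgroups 2 X ∧ A ≤ T := by
  haveI : Fact (Nat.Prime 2) := ⟨Nat.prime_two⟩
  obtain ⟨A₀, hA₀, hA₀T⟩ := Cfsg.Agent.Lib.H3.exists_maxElemAb_le_sylow h.sylow
  constructor
  · rintro ⟨hAT, hAe, hmax⟩
    refine ⟨⟨hAe, fun B hB => ?_⟩, hAT⟩
    exact (hA₀.2 B hB).trans (hmax A₀ hA₀T hA₀.1)
  · rintro ⟨hA, hAT⟩
    exact ⟨hAT, hA.1, fun B _ hB => hA.2 B hB⟩

theorem J_le_JX (h : LT T) : Cfsg.thompsonSubgroupOf 2 T ≤ JX X := by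
  rw [Cfsg.Agent.Lib.H26.thompsonSubgroupOf_eq]
  apply sSup_le
  intro A hA
  exact le_sSup (h.maxEA_T_iff.mp hA).1

theorem exists_cj_maxEA (h : LT T) {A' : Subgroup X}
    (hA' : A' ∈ Cfsg.maxElementaryAbelianSubgroups 2 X) : ∃ u : X, cj u A' ∈ maxEA 2 T := by
  haveI : Fact (Nat.Prime 2) := ⟨Nat.prime_two⟩
  obtain ⟨u, hu⟩ := Cfsg.Agent.Lib.H26.exists_conj_mem_sylow h.sylow A'
    (Cfsg.Agent.Lib.H3.elemAb_isPGroup hA'.1)
  refine ⟨u, h.maxEA_T_iff.mpr ⟨⟨?_, ?_⟩, ?_⟩⟩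
  · exact (Cfsg.Agent.Lib.H26.isElementaryAbelian_map_iff 2 _ (MulAut.conj u).injective A').mpr
      hA'.1
  · intro B hB
    rw [card_cj]
    exact hA'.2 B hB
  · rintro _ ⟨y, hy, rfl⟩
    exact hu y hy

/-- Frattini argument: `X = J(X) N_X(J(T))`. -/
theorem exists_mul_of_frattini (h : LT T) (l : X) :
    ∃ z ∈ JX X, ∃ n ∈ Subgroup.normalizer (Cfsg.thompsonSubgroupOf 2 T : Set X), l = z * n := by
  haveI : Fact (Nat.Prime 2) := ⟨Nat.prime_two⟩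
  have hsyl : IsSylowIn 2 (T ⊓ JX X) (JX X) := isSylowIn_inf_normal h.sylow (JX X)
  have hsyl2 : IsSylowIn 2 (cj l (T ⊓ JX X)) (JX X) := by
    have := isSylowIn_cj hsyl l
    have e : cj l (JX X) = JX X := by
      apply mem_normalizer_iff_cj_eq.mp
      rw [Subgroup.normalizer_eq_top]; exact Subgroup.mem_top l
    rwa [e] at this
  obtain ⟨z, hz, hzeq⟩ := IsSylowIn.exists_cj_eq hsyl hsyl2
  refine ⟨z, hz, z⁻¹ * l, ?_, by group⟩
  have h1 : cj (z⁻¹ * l) (T ⊓ JX X) = T ⊓ JX X := by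
    rw [← cj_cj, hzeq, cj_inv_cj]
  have h2 : z⁻¹ * l ∈ Subgroup.normalizer ((T ⊓ JX X : Subgroup X) : Set X) :=
    mem_normalizer_iff_cj_eq.mpr h1
  have h3 : Cfsg.thompsonSubgroupOf 2 (T ⊓ JX X) = Cfsg.thompsonSubgroupOf 2 T :=
    Cfsg.Agent.Lib.L0.thompsonSubgroupOf_eq_of_le 2 inf_le_left
      (le_inf (Cfsg.Agent.Lib.L0.thompsonSubgroupOf_le' 2 T) h.J_le_JX)
  have h4 := Cfsg.Agent.Lib.L0.normalizer_le_normalizer_thompsonSubgroupOf 2 (T ⊓ JX X) h2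
  rwa [h3] at h4

end LT

/-- The `2'`-part used in the `FFS` structure. -/
noncomputable def Qh (X : Type*) [Group X] [Finite X] : Subgroup (Gam (VV X)) :=
  ((Cfsg.pPrimeCore 2 (X ⧸ Subgroup.centralizer (VV X : Set X))) ⊓
    (JX X).map (QuotientGroup.mk' (Subgroup.centralizer (VV X : Set X)))).map
      (SemidirectProduct.inr : _ →* Gam (VV X))

/-- The image of `J(X)` in `Γ`. -/
noncomputable def HH (X : Type*) [Group X] [Finite X] : Subgroup (Gam (VV X)) := hat (VV X) (JX X)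

namespace LT

variable [Finite X] {T : Subgroup X}

theorem ffs (h : LT T) : FFS 2 (Vh (VV X)) (HH X) (Qh X) := by
  haveI : Fact (Nat.Prime 2) := ⟨Nat.prime_two⟩
  have hO : Cfsg.pCore 2 (X ⧸ Subgroup.centralizer (VV X : Set X)) = ⊥ := h.pCore_quot_eq_bot
  exact Cfsg.Agent.Lib.H3.QT.ffs_hat (VV X) VV_elemAb h.isPSolvable hO (JX X)

theorem hS3 (_h : LT T) :
    HH X = ⨆ A : {A' : Subgroup (Gam (VV X)) // A' ≤ HH X ∧
        Cfsg.IsBestOffenderOn 2 (Vh (VV X)) A'}, (A : Subgroup (Gam (VV X))) := by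
  haveI : Fact (Nat.Prime 2) := ⟨Nat.prime_two⟩
  exact Cfsg.Agent.Lib.H3.QT.hat_thompson_eq_iSup (VV X) VV_elemAb

theorem HH_ne_bot (h : LT T) : HH X ≠ ⊥ := by
  intro h0
  apply h.J_not_le_CC
  exact h.J_le_JX.trans ((Cfsg.Agent.Lib.H3.QT.hat_eq_bot_iff (VV X) _).mp h0)

theorem exists_MO (h : LT T) : ∃ A₁, MO 2 (Vh (VV X)) (HH X) A₁ :=
  h.ffs.exists_MO h.hS3 h.HH_ne_bot

end LT

end Cfsg.Agent.Lib.H15.JC
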