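import Mathlib
import Cfsg.Agent.Lib.H15.JCFF1
import Cfsg.Agent.Lib.H15.MaxAb

/-!
helper15: failure-of-factorization structure inside the local set-up `LT T`, part 2:
the subgroup `K₁` attached to a minimal offender and the action of `J(T)` on it.
-/

set_option autoImplicit false

namespace Cfsg.Agent.Lib.H15.JC

open scoped commutatorElement
open Cfsg.Agent.Lib.H15
open Cfsg.Agent.Lib.H5 (IsSylowIn)
open Cfsg.Agent.Lib.H26 (maxEA JJ)
open Cfsg.Agent.Lib.H3 (FFS MO)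
open Cfsg.Agent.Lib.H3.QT (Gam Vh hat toGam)

variable {X : Type*} [Group X]

/-- centralizer of `K₁` modulo the normal subgroup `C`. -/
def centMod (C K₁ : Subgroup X) [hC : C.Normal] : Subgroup X where
  carrier := {g | ∀ k ∈ K₁, g * k * g⁻¹ * k⁻¹ ∈ C}
  one_mem' := by
    intro k _
    simp
  mul_mem' := by
    intro g₁ g₂ h₁ h₂ k hk
    have e : g₁ * g₂ * k * (g₁ * g₂)⁻¹ * k⁻¹ =
        g₁ * (g₂ * k * g₂⁻¹ * k⁻¹) * g₁⁻¹ * (g₁ * k * g₁⁻¹ * k⁻¹) := by group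
    rw [e]
    exact Subgroup.mul_mem _ (hC.conj_mem _ (h₂ k hk) g₁) (h₁ k hk)
  inv_mem' := by
    intro g hg k hk
    have e : g⁻¹ * k * g⁻¹⁻¹ * k⁻¹ = g⁻¹ * (g * k * g⁻¹ * k⁻¹)⁻¹ * g⁻¹⁻¹ := by group
    rw [e]
    exact hC.conj_mem _ (Subgroup.inv_mem _ (hg k hk)) g⁻¹

theorem mem_centMod {C K₁ : Subgroup X} [C.Normal] {g : X} :
    g ∈ centMod C K₁ ↔ ∀ k ∈ K₁, g * k * g⁻¹ * k⁻¹ ∈ C := Iff.rfl

variable [Finite X]

/-- `O₃(E)` for the minimal offender `A₁`. -/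
noncomputable def DD (A₁ : Subgroup (Gam (VV X))) : Subgroup (Gam (VV X)) := ⁅Qh X, A₁⁆

/-- the preimage of `O₃(E)` in `X`. -/
noncomputable def KK₁ (A₁ : Subgroup (Gam (VV X))) : Subgroup X := (DD A₁).comap (toGam (VV X))

/-- the preimage of `E` in `X`. -/
noncomputable def EE₁ (A₁ : Subgroup (Gam (VV X))) : Subgroup X :=
  (DD A₁ ⊔ A₁).comap (toGam (VV X))

theorem toGam_eq_one_iff {g : X} : toGam (VV X) g = 1 ↔ g ∈ CC X := by
  rw [← MonoidHom.mem_ker, Cfsg.Agent.Lib.H3.QT.toGam_ker]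
  rfl

theorem toGam_commute_iff {g k : X} :
    toGam (VV X) g * toGam (VV X) k = toGam (VV X) k * toGam (VV X) g ↔
      g * k * g⁻¹ * k⁻¹ ∈ CC X := by
  rw [← toGam_eq_one_iff, map_mul, map_mul, map_mul, map_inv, map_inv]
  constructor
  · intro h
    rw [h]; group
  · intro h
    set u := toGam (VV X) g
    set v := toGam (VV X) k
    have : u * v = (u * v * u⁻¹ * v⁻¹) * (v * u) := by group
    rw [this, h, one_mul]

theorem mem_HH {y : Gam (VV X)} : y ∈ HH X ↔ ∃ g ∈ JX X, toGam (VV X) g = y := by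
  unfold HH
  rw [Cfsg.Agent.Lib.H3.QT.hat_eq_map]
  rfl

namespace LT

variable {T : Subgroup X} {A₁ : Subgroup (Gam (VV X))}

theorem card_DD (h : LT T) (m : MO 2 (Vh (VV X)) (HH X) A₁) : Nat.card (DD A₁) = 3 := by
  haveI : Fact (Nat.Prime 2) := ⟨Nat.prime_two⟩
  have := h.ffs.card_comm_Q m
  exact this

theorem DD_le_HH (h : LT T) (m : MO 2 (Vh (VV X)) (HH X) A₁) : DD A₁ ≤ HH X :=
  (h.ffs.comm_le_Q m.le).trans h.ffs.hQH

theorem pow_three_DD (h : LT T) (m : MO 2 (Vh (VV X)) (HH X) A₁) {d : Gam (VV X)}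
    (hd : d ∈ DD A₁) : d ^ 3 = 1 := by
  have h1 : orderOf (⟨d, hd⟩ : DD A₁) ∣ Nat.card (DD A₁) := orderOf_dvd_natCard _
  rw [h.card_DD m, Subgroup.orderOf_mk] at h1
  exact orderOf_dvd_iff_pow_eq_one.mp h1

theorem HH_le_normalizer_DD (h : LT T) (m : MO 2 (Vh (VV X)) (HH X) A₁) :
    HH X ≤ Subgroup.normalizer ((DD A₁ : Subgroup (Gam (VV X))) : Set (Gam (VV X))) := by
  haveI : Fact (Nat.Prime 2) := ⟨Nat.prime_two⟩
  intro η hη
  apply mem_normalizer_of_cj_le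
  rintro _ ⟨d, hd, rfl⟩
  have hE := h.ffs.H_le_normalizer_E h.hS3 m hη
  have hdE : d ∈ ⁅Qh X, A₁⁆ ⊔ A₁ := (le_sup_left : ⁅Qh X, A₁⁆ ≤ _) hd
  have h1 : η * d * η⁻¹ ∈ ⁅Qh X, A₁⁆ ⊔ A₁ := (Subgroup.mem_normalizer_iff.mp hE d).mp hdE
  have h2 : (η * d * η⁻¹) ^ 3 = 1 := by
    rw [conj_pow, h.pow_three_DD m hd]; group
  exact h.ffs.mem_comm_of_pow m h1 (by norm_num : Nat.Coprime 3 2) h2

/-- `A₁` does not centralize `O₃(E)`. -/
theorem not_commute (h : LT T) (m : MO 2 (Vh (VV X)) (HH X) A₁) :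
    ¬ (∀ t ∈ A₁, ∀ d ∈ DD A₁, t * d = d * t) := by
  haveI : Fact (Nat.Prime 2) := ⟨Nat.prime_two⟩
  haveI : Fact (Nat.Prime 3) := ⟨Nat.prime_three⟩
  intro hcomm
  have hD : IsMulCommutative ↥(DD A₁) := by
    haveI : IsCyclic ↥(DD A₁) := isCyclic_of_prime_card (h.card_DD m)
    exact ⟨⟨fun a b => IsCyclic.commGroup.mul_comm a b⟩⟩
  have hA : IsMulCommutative ↥A₁ := by
    haveI : IsCyclic ↥A₁ := isCyclic_of_prime_card m.card
    exact ⟨⟨fun a b => IsCyclic.commGroup.mul_comm a b⟩⟩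
  have hle : DD A₁ ≤ Subgroup.centralizer (A₁ : Set (Gam (VV X))) := by
    intro d hd
    rw [Subgroup.mem_centralizer_iff]
    intro t ht
    exact hcomm t ht d hd
  have hE : IsMulCommutative ↥(DD A₁ ⊔ A₁ : Subgroup (Gam (VV X))) := isMulCommutative_sup hD hA hle
  obtain ⟨-, ⟨e⟩⟩ := h.ffs.E_iso m
  apply sl2_not_comm
  intro a b
  have hE' : IsMulCommutative ↥(⁅Qh X, A₁⁆ ⊔ A₁ : Subgroup (Gam (VV X))) := hE
  have hc : e.symm a * e.symm b = e.symm b * e.symm a := hE'.is_comm.comm _ _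
  calc a * b = e (e.symm a) * e (e.symm b) := by
        rw [MulEquiv.apply_symm_apply, MulEquiv.apply_symm_apply]
    _ = e (e.symm a * e.symm b) := (map_mul e _ _).symm
    _ = e (e.symm b * e.symm a) := by rw [hc]
    _ = b * a := by rw [map_mul, MulEquiv.apply_symm_apply, MulEquiv.apply_symm_apply]

theorem CC_le_KK₁ (A₁ : Subgroup (Gam (VV X))) : CC X ≤ KK₁ A₁ := by
  intro c hc
  unfold KK₁
  rw [Subgroup.mem_comap, toGam_eq_one_iff.mpr hc]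
  exact Subgroup.one_mem _

theorem pullback (h : LT T) (m : MO 2 (Vh (VV X)) (HH X) A₁) :
    KK₁ A₁ ≤ JX X ⊔ CC X ∧ JX X ⊔ CC X ≤ Subgroup.normalizer (KK₁ A₁ : Set X) ∧
      (CC X).relIndex (KK₁ A₁) = 3 := by
  obtain ⟨-, h2, h3, hn, ⟨e⟩⟩ := Cfsg.Agent.Lib.H3.QT.pullback_props (VV X) (JX X) (DD A₁)
    (h.DD_le_HH m) (h.HH_le_normalizer_DD m)
  refine ⟨h2, h3, ?_⟩
  have h4 : (CC X).relIndex (KK₁ A₁) = ((CC X).subgroupOf (KK₁ A₁)).index := rfl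
  rw [h4, Subgroup.index_eq_card]
  have h5 := Nat.card_congr e.toEquiv
  rw [h.card_DD m] at h5
  exact h5

theorem J_le_normalizer_KK₁ (h : LT T) (m : MO 2 (Vh (VV X)) (HH X) A₁) :
    Cfsg.thompsonSubgroupOf 2 T ≤ Subgroup.normalizer (KK₁ A₁ : Set X) :=
  (h.J_le_JX.trans le_sup_left).trans (h.pullback m).2.1

/-- `J(T)` acts nontrivially on `K₁ / C`. -/
theorem exists_act (h : LT T) (m : MO 2 (Vh (VV X)) (HH X) A₁) :
    ∃ A ∈ maxEA 2 T, ∃ a ∈ A, ∃ k ∈ KK₁ A₁, a * k * a⁻¹ * k⁻¹ ∉ CC X := by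
  by_contra hcon
  push Not at hcon
  set J := Cfsg.thompsonSubgroupOf 2 T with hJ
  set Z₃ := centMod (CC X) (KK₁ A₁) with hZ₃
  have hJXN : JX X ≤ Subgroup.normalizer (KK₁ A₁ : Set X) := le_sup_left.trans (h.pullback m).2.1
  -- (1) `J(T) ≤ Z₃`
  have h1 : J ≤ Z₃ := by
    rw [hJ, Cfsg.Agent.Lib.H26.thompsonSubgroupOf_eq]
    apply sSup_le
    intro A hA a ha
    exact fun k hk => hcon A hA a ha k hk
  -- (2) all conjugates of `J(T)` lie in `Z₃`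
  have h2 : ∀ l : X, cj l J ≤ Z₃ := by
    intro l
    obtain ⟨z, hz, n, hn, rfl⟩ := h.exists_mul_of_frattini l
    have e : cj (z * n) J = cj z J := by
      rw [← cj_cj, mem_normalizer_iff_cj_eq.mp hn]
    rw [e]
    rintro _ ⟨j, hj, rfl⟩
    intro k hk
    show z * j * z⁻¹ * k * (z * j * z⁻¹)⁻¹ * k⁻¹ ∈ CC X
    have hk' : z⁻¹ * k * z ∈ KK₁ A₁ := by
      have := (Subgroup.mem_normalizer_iff.mp (Subgroup.inv_mem _ (hJXN hz)) k).mp hk
      simpa using this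
    have h3 := h1 hj _ hk'
    have e2 : z * j * z⁻¹ * k * (z * j * z⁻¹)⁻¹ * k⁻¹ =
        z * (j * (z⁻¹ * k * z) * j⁻¹ * (z⁻¹ * k * z)⁻¹) * z⁻¹ := by group
    rw [e2]
    exact (CC_normal (X := X)).conj_mem _ h3 z
  -- (3) `J(X) ≤ Z₃`
  have h3 : JX X ≤ Z₃ := by
    apply sSup_le
    intro A' hA'
    obtain ⟨u, hu⟩ := h.exists_cj_maxEA hA'
    have h4 : cj u A' ≤ J := by
      rw [hJ, Cfsg.Agent.Lib.H26.thompsonSubgroupOf_eq]; exact le_JJ hu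
    have h5 : A' ≤ cj u⁻¹ J := by
      have := cj_mono u⁻¹ h4
      rwa [cj_inv_cj] at this
    exact h5.trans (h2 u⁻¹)
  -- (4) `A₁` centralizes `O₃(E)`
  apply h.not_commute m
  intro t ht d hd
  obtain ⟨g, hg, rfl⟩ := mem_HH.mp (m.le ht)
  obtain ⟨k, hk, rfl⟩ := mem_HH.mp (h.DD_le_HH m hd)
  have hkK : k ∈ KK₁ A₁ := by
    unfold KK₁; rw [Subgroup.mem_comap]; exact hd
  exact toGam_commute_iff.mpr (h3 hg k hkK)

/-- Every minimal offender gives a `J(T)`-component. -/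
theorem exists_component (h : LT T) (m : MO 2 (Vh (VV X)) (HH X) A₁) :
    ∃ K : Subgroup X, Cfsg.IsJComponent T K ∧ K ⊔ CC X = KK₁ A₁ := by
  obtain ⟨A, hA, a, ha, k, hk, hak⟩ := h.exists_act m
  obtain ⟨x, c⟩ := exists_XCfg h (CC_le_KK₁ A₁) (h.pullback m).2.2 (h.J_le_normalizer_KK₁ m)
    hA ha hk hak
  exact ⟨KK x, c.isJComponent, c.KK_sup_CC⟩

/-- `X` contains a `J(T)`-component. -/
theorem exists_isJComponent (h : LT T) : ∃ K : Subgroup X, Cfsg.IsJComponent T K := by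
  obtain ⟨A₁, m⟩ := h.exists_MO
  obtain ⟨K, hK, -⟩ := h.exists_component m
  exact ⟨K, hK⟩

end LT

end Cfsg.Agent.Lib.H15.JC
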