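import Mathlib
import Cfsg.Prelude.Def_JComponents
import Cfsg.Agent.Lib.H1.ThompsonJ
import Cfsg.Agent.Lib.H14.Amalgam5
import Cfsg.Agent.Lib.H15.Conj
import Cfsg.Agent.Lib.L0.ThompsonJ

/-!
helper15: `J(T)`-components are transported by injective homomorphisms.
-/

set_option autoImplicit false

namespace Cfsg.Agent.Lib.H15.JC

open scoped commutatorElement

variable {H G : Type*} [Group H] [Group G]

theorem pCoreOf_map_of_injective (θ : H →* G) (hθ : Function.Injective θ) (p : ℕ)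
    (K : Subgroup H) : Cfsg.pCoreOf p (K.map θ) = (Cfsg.pCoreOf p K).map θ := by
  apply le_antisymm
  · set P := Cfsg.pCoreOf p (K.map θ) with hP
    have hPle : P ≤ K.map θ := Cfsg.Agent.Lib.H14.pCoreOf_le p _
    have hrange : P ≤ θ.range := hPle.trans (Subgroup.map_le_range θ K)
    have h1 : P.comap θ ≤ K := by
      intro x hx
      obtain ⟨h, hh, hhx⟩ := hPle (Subgroup.mem_comap.1 hx)
      rw [← hθ hhx]
      exact hh
    have h2 : K ≤ Subgroup.normalizer ((P.comap θ : Subgroup H) : Set H) := by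
      intro h hh
      rw [Subgroup.mem_normalizer_iff]
      intro x
      rw [Subgroup.mem_comap, Subgroup.mem_comap, map_mul, map_mul, map_inv]
      have hn := Cfsg.Agent.Lib.H14.pCoreOf_normalized p (K.map θ) (Subgroup.mem_map_of_mem θ hh)
      exact Subgroup.mem_normalizer_iff.1 hn (θ x)
    have h3 : IsPGroup p (P.comap θ) :=
      (Cfsg.Agent.Lib.H14.pCoreOf_isPGroup p (K.map θ)).comap_of_injective θ hθ
    have h4 := Cfsg.Agent.Lib.H14.le_pCoreOf p K _ h1 h2 h3
    rw [← Subgroup.map_comap_eq_self hrange]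
    exact Subgroup.map_mono h4
  · apply Cfsg.Agent.Lib.H14.le_pCoreOf
    · exact Subgroup.map_mono (Cfsg.Agent.Lib.H14.pCoreOf_le p K)
    · rintro _ ⟨h, hh, rfl⟩
      rw [Subgroup.mem_normalizer_iff]
      have hn := Cfsg.Agent.Lib.H14.pCoreOf_normalized p K hh
      intro z
      constructor
      · rintro ⟨y, hy, rfl⟩
        exact ⟨h * y * h⁻¹, (Subgroup.mem_normalizer_iff.1 hn y).1 hy,
          by rw [map_mul, map_mul, map_inv]⟩
      · rintro ⟨y, hy, hyz⟩
        refine ⟨h⁻¹ * y * h, ?_, ?_⟩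
        · have hn' := Subgroup.inv_mem _ hn
          have := (Subgroup.mem_normalizer_iff.1 hn' y).1 hy
          simpa using this
        · rw [map_mul, map_mul, map_inv, hyz]; group
    · exact (Cfsg.Agent.Lib.H14.pCoreOf_isPGroup p K).map θ

theorem omegaOne_map (f : H →* G) (hf : Function.Injective f) (p : ℕ) (Y : Subgroup H) :
    Cfsg.omegaOne p (Y.map f) = (Cfsg.omegaOne p Y).map f := by
  unfold Cfsg.omegaOne
  rw [MonoidHom.map_closure]
  congr 1
  ext x
  constructor
  · rintro ⟨⟨y, hy, rfl⟩, hx2⟩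
    refine ⟨y, ⟨hy, ?_⟩, rfl⟩
    apply hf
    rw [map_pow, hx2, map_one]
  · rintro ⟨y, ⟨hy, hy2⟩, rfl⟩
    refine ⟨Subgroup.mem_map_of_mem f hy, ?_⟩
    rw [← map_pow, hy2, map_one]

theorem omegaCenterOf_map (f : H →* G) (hf : Function.Injective f) (X : Subgroup H) :
    Cfsg.omegaCenterOf (X.map f) = (Cfsg.omegaCenterOf X).map f := by
  unfold Cfsg.omegaCenterOf
  rw [Cfsg.Agent.Lib.H1.ZZ_map (Cfsg.Agent.Lib.H1.injOnSub_of_injective hf X), omegaOne_map f hf]

theorem thompson_map (f : H →* G) (hf : Function.Injective f) (T : Subgroup H) :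
    Cfsg.thompsonSubgroupOf 2 (T.map f) = (Cfsg.thompsonSubgroupOf 2 T).map f :=
  Cfsg.Agent.Lib.L0.thompsonSubgroupOf_map 2 f T (fun _ _ _ _ h => hf h)

theorem wOf_map (f : H →* G) (hf : Function.Injective f) (K : Subgroup H) :
    Cfsg.wOf (K.map f) = (Cfsg.wOf K).map f := by
  unfold Cfsg.wOf
  rw [pCoreOf_map_of_injective f hf, omegaCenterOf_map f hf,
    Subgroup.map_commutator]

theorem isSylowTwoIn_map_iff (f : H →* G) (hf : Function.Injective f) (S L : Subgroup H) :
    Cfsg.IsSylowTwoIn (S.map f) (L.map f) ↔ Cfsg.IsSylowTwoIn S L := by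
  unfold Cfsg.IsSylowTwoIn
  rw [Subgroup.map_le_map_iff_of_injective hf, Subgroup.relIndex_map_map_of_injective _ _ hf]
  constructor
  · rintro ⟨h1, h2, h3⟩
    refine ⟨h1, ?_, h3⟩
    exact IsPGroup.of_injective h2 (f.subgroupMap S) (by
      intro a b hab
      apply Subtype.ext
      apply hf
      exact congrArg Subtype.val hab)
  · rintro ⟨h1, h2, h3⟩
    exact ⟨h1, h2.map f, h3⟩

theorem closure_odd_map (f : H →* G) (hf : Function.Injective f) (K : Subgroup H) :
    Subgroup.closure {g : G | g ∈ K.map f ∧ Odd (orderOf g)} =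
      (Subgroup.closure {h : H | h ∈ K ∧ Odd (orderOf h)}).map f := by
  rw [MonoidHom.map_closure]
  congr 1
  ext x
  constructor
  · rintro ⟨⟨y, hy, rfl⟩, hx2⟩
    refine ⟨y, ⟨hy, ?_⟩, rfl⟩
    rwa [orderOf_injective f hf] at hx2
  · rintro ⟨y, ⟨hy, hy2⟩, rfl⟩
    refine ⟨Subgroup.mem_map_of_mem f hy, ?_⟩
    rwa [orderOf_injective f hf]

theorem isJComponent_map_iff (f : H →* G) (hf : Function.Injective f) (T K : Subgroup H) :
    Cfsg.IsJComponent (T.map f) (K.map f) ↔ Cfsg.IsJComponent T K := by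
  have hmi := Subgroup.map_injective hf
  unfold Cfsg.IsJComponent
  rw [closure_odd_map f hf, thompson_map f hf, ← Subgroup.map_commutator,
    pCoreOf_map_of_injective f hf, Subgroup.relIndex_map_map_of_injective _ _ hf,
    wOf_map f hf, hmi.eq_iff, hmi.eq_iff, ← Subgroup.map_sup]
  have hcard : Nat.card ((Cfsg.wOf K).map f) = Nat.card (Cfsg.wOf K) :=
    (Cfsg.Agent.Lib.H1.injOnSub_of_injective hf _).card_map
  rw [hcard]
  have hsq : (∀ w ∈ (Cfsg.wOf K).map f, w * w = 1) ↔ ∀ w ∈ Cfsg.wOf K, w * w = 1 := by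
    constructor
    · intro h w hw
      apply hf
      rw [map_mul, map_one]
      exact h _ (Subgroup.mem_map_of_mem f hw)
    · rintro h _ ⟨w, hw, rfl⟩
      rw [← map_mul, h w hw, map_one]
  rw [hsq]
  have hsyl : (∀ S : Subgroup G, Cfsg.IsSylowTwoIn S ((K ⊔ Cfsg.thompsonSubgroupOf 2 T).map f) →
      (Cfsg.thompsonSubgroupOf 2 T).map f ≤ S →
      Cfsg.thompsonSubgroupOf 2 S = (Cfsg.thompsonSubgroupOf 2 T).map f) ↔
      (∀ S : Subgroup H, Cfsg.IsSylowTwoIn S (K ⊔ Cfsg.thompsonSubgroupOf 2 T) →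
      Cfsg.thompsonSubgroupOf 2 T ≤ S →
      Cfsg.thompsonSubgroupOf 2 S = Cfsg.thompsonSubgroupOf 2 T) := by
    constructor
    · intro h S hS hJS
      have h1 := h (S.map f) ((isSylowTwoIn_map_iff f hf _ _).mpr hS) (Subgroup.map_mono hJS)
      rw [thompson_map f hf] at h1
      exact hmi h1
    · intro h S hS hJS
      have hSr : S ≤ f.range := hS.1.trans (Subgroup.map_le_range f _)
      have hSeq : (S.comap f).map f = S := by
        rw [Subgroup.map_comap_eq, inf_eq_right.mpr hSr]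
      rw [← hSeq] at hS hJS ⊢
      have h1 := h (S.comap f) ((isSylowTwoIn_map_iff f hf _ _).mp hS)
        ((Subgroup.map_le_map_iff_of_injective hf).mp hJS)
      rw [thompson_map f hf, h1]
  rw [hsyl]

end Cfsg.Agent.Lib.H15.JC
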