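import Mathlib
import Cfsg.Prelude.Def_Amalgam
import Cfsg.Agent.Lib.H1.PCore
import Cfsg.Agent.Lib.H15.Conj

/-!
`Cfsg.pCoreOf p H = O_p(H)` viewed in the ambient group, and groups of characteristic `p`
(helper15's shared library).
-/

set_option autoImplicit false

namespace Cfsg.Agent.Lib.H15

open Cfsg.Agent.Lib.H1

variable {G : Type*} [Group G]

theorem pcoreOf_le (p : ℕ) (H : Subgroup G) : Cfsg.pCoreOf p H ≤ H := by
  unfold Cfsg.pCoreOf
  exact Subgroup.map_subtype_le _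

theorem pcoreOf_isPGroup (p : ℕ) [Fact p.Prime] (H : Subgroup G) : IsPGroup p ↥(Cfsg.pCoreOf p H) := by
  unfold Cfsg.pCoreOf
  exact (pCore_isPGroup p ↥H).map H.subtype

theorem mem_pcoreOf_iff {p : ℕ} {H : Subgroup G} {x : G} :
    x ∈ Cfsg.pCoreOf p H ↔ ∃ h : x ∈ H, (⟨x, h⟩ : ↥H) ∈ Cfsg.pCore p ↥H := by
  unfold Cfsg.pCoreOf
  constructor
  · rintro ⟨y, hy, rfl⟩
    exact ⟨y.2, hy⟩
  · rintro ⟨h, hx⟩
    exact ⟨⟨x, h⟩, hx, rfl⟩

theorem coe_mem_pcoreOf_iff {p : ℕ} {H : Subgroup G} {y : ↥H} :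
    (y : G) ∈ Cfsg.pCoreOf p H ↔ y ∈ Cfsg.pCore p ↥H := by
  rw [mem_pcoreOf_iff]
  constructor
  · rintro ⟨_, h⟩; exact h
  · intro h; exact ⟨y.2, h⟩

theorem le_pcoreOf {p : ℕ} {H N : Subgroup G} (hNH : N ≤ H)
    (hnorm : H ≤ Subgroup.normalizer (N : Set G)) (hN : IsPGroup p ↥N) : N ≤ Cfsg.pCoreOf p H := by
  have h1 : (N.subgroupOf H).Normal := (Subgroup.normal_subgroupOf_iff_le_normalizer hNH).mpr hnorm
  have h2 : IsPGroup p ↥(N.subgroupOf H) := hN.comap_subtype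
  have h3 : N.subgroupOf H ≤ Cfsg.pCore p ↥H := le_pCore h1 h2
  intro x hx
  rw [mem_pcoreOf_iff]
  exact ⟨hNH hx, h3 (Subgroup.mem_subgroupOf.mpr hx)⟩

theorem pcoreOf_normalized (p : ℕ) (H : Subgroup G) :
    H ≤ Subgroup.normalizer (Cfsg.pCoreOf p H : Set G) := by
  have hn : (Cfsg.pCore p ↥H).Normal := pCore_normal p ↥H
  intro g hg
  rw [Subgroup.mem_normalizer_iff]
  intro x
  constructor
  · intro hx
    obtain ⟨hxH, hx'⟩ := mem_pcoreOf_iff.mp hx
    rw [mem_pcoreOf_iff]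
    refine ⟨H.mul_mem (H.mul_mem hg hxH) (H.inv_mem hg), ?_⟩
    exact hn.conj_mem ⟨x, hxH⟩ hx' ⟨g, hg⟩
  · intro hx
    obtain ⟨hxH, hx'⟩ := mem_pcoreOf_iff.mp hx
    have hxH' : x ∈ H := by
      have := H.mul_mem (H.mul_mem (H.inv_mem hg) hxH) hg
      simpa [mul_assoc] using this
    rw [mem_pcoreOf_iff]
    refine ⟨hxH', ?_⟩
    have := hn.conj_mem _ hx' ⟨g, hg⟩⁻¹
    convert this using 1
    apply Subtype.ext
    simp [mul_assoc]

/-- `O_p(H)` is normalized by everything normalizing `H` (finite case). -/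
theorem normalizer_le_normalizer_pcoreOf [Finite G] (p : ℕ) [Fact p.Prime] (H : Subgroup G) :
    Subgroup.normalizer (H : Set G) ≤ Subgroup.normalizer (Cfsg.pCoreOf p H : Set G) := by
  intro g hg
  apply mem_normalizer_of_cj_le
  have hgH : cj g H = H := mem_normalizer_iff_cj_eq.mp hg
  apply le_pcoreOf
  · exact le_trans (cj_mono g (pcoreOf_le p H)) hgH.le
  · -- H = cj g H normalizes cj g (pCoreOf)
    intro h hh
    have hh' : g⁻¹ * h * g ∈ H := by
      have : h ∈ cj g H := by rw [hgH]; exact hh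
      exact mem_cj_iff.mp this
    have h1 := pcoreOf_normalized p H hh'
    rw [mem_normalizer_iff_cj_eq] at h1 ⊢
    have : cj h (cj g (Cfsg.pCoreOf p H)) = cj g (cj (g⁻¹ * h * g) (Cfsg.pCoreOf p H)) := by
      rw [cj_cj, cj_cj]; congr 1; group
    rw [this, h1]
  · exact (pcoreOf_isPGroup p H).map _

/-- "`L` has characteristic `p`" in ambient terms. -/
theorem hasCharP_iff {p : ℕ} {L : Subgroup G} :
    Subgroup.centralizer (Cfsg.pCore p ↥L : Set ↥L) ≤ Cfsg.pCore p ↥L ↔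
      L ⊓ Subgroup.centralizer (Cfsg.pCoreOf p L : Set G) ≤ Cfsg.pCoreOf p L := by
  constructor
  · intro h x hx
    have hxL : x ∈ L := hx.1
    rw [mem_pcoreOf_iff]
    refine ⟨hxL, h ?_⟩
    rw [Subgroup.mem_centralizer_iff]
    intro y hy
    apply Subtype.ext
    exact (Subgroup.mem_centralizer_iff.mp hx.2) y (coe_mem_pcoreOf_iff.mpr hy)
  · intro h y hy
    rw [← coe_mem_pcoreOf_iff]
    apply h
    refine Subgroup.mem_inf.mpr ⟨y.2, ?_⟩
    rw [Subgroup.mem_centralizer_iff]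
    intro z hz
    obtain ⟨hzL, hz'⟩ := mem_pcoreOf_iff.mp hz
    have := (Subgroup.mem_centralizer_iff.mp hy) ⟨z, hzL⟩ hz'
    exact congrArg Subtype.val this

theorem pcoreOf_top (p : ℕ) [Fact p.Prime] : Cfsg.pCoreOf p (⊤ : Subgroup G) = Cfsg.pCore p G := by
  apply le_antisymm
  · apply le_pCore _ (pcoreOf_isPGroup p ⊤)
    have h := pcoreOf_normalized p (⊤ : Subgroup G)
    constructor
    intro n hn g
    exact (Subgroup.mem_normalizer_iff.mp (h (Subgroup.mem_top g)) n).mp hn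
  · apply le_pcoreOf le_top _ (pCore_isPGroup p G)
    intro g _
    have hn : (Cfsg.pCore p G).Normal := pCore_normal p G
    rw [Subgroup.mem_normalizer_iff]
    intro x
    constructor
    · intro hx; exact hn.conj_mem x hx g
    · intro hx
      have := hn.conj_mem _ hx g⁻¹
      simpa [mul_assoc] using this

end Cfsg.Agent.Lib.H15
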