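import Mathlib
import Cfsg.Agent.Lib.H15.JCFF2
import Cfsg.Agent.Lib.H15.JCmap
import Cfsg.Agent.Lib.H15.PCoreOf

/-!
helper15: from the ambient group `G` to the local set-up `LT` inside `↥L`, for `L ∈ ℒ(T)`.
-/

set_option autoImplicit false

namespace Cfsg.Agent.Lib.H15.JC

open scoped commutatorElement
open Cfsg.Agent.Lib.H15
open Cfsg.Agent.Lib.H5 (IsSylowIn)
open Cfsg.Agent.Lib.H26 (maxEA JJ)

variable {G : Type*} [Group G]

theorem map_subgroupOf_subtype {T L : Subgroup G} (hTL : T ≤ L) :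
    (T.subgroupOf L).map L.subtype = T := Subgroup.map_subgroupOf_eq_of_le hTL

/-- `O₂(L) ≤ T` for a Sylow `2`-subgroup `T` of `L`. -/
theorem pCoreOf_le_of_isSylowIn [Finite G] {T L : Subgroup G} (hsyl : IsSylowIn 2 T L) :
    Cfsg.pCoreOf 2 L ≤ T := by
  haveI : Fact (Nat.Prime 2) := ⟨Nat.prime_two⟩
  have h2 : IsPGroup 2 ↥(Cfsg.pCoreOf 2 L) := pcoreOf_isPGroup 2 L
  have hn : T ≤ Subgroup.normalizer (Cfsg.pCoreOf 2 L : Set G) :=
    hsyl.1.trans (pcoreOf_normalized 2 L)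
  have hsup : IsPGroup 2 ↥(T ⊔ Cfsg.pCoreOf 2 L : Subgroup G) :=
    IsPGroup.to_sup_of_normal_right' hsyl.2.1 h2 hn
  have := hsyl.2.2 _ hsup le_sup_left (sup_le hsyl.1 (pcoreOf_le 2 L))
  exact le_sup_right.trans this.le

theorem mem_jOvergroups_iff {T L : Subgroup G} :
    L ∈ Cfsg.jOvergroups T ↔ Cfsg.IsSylowTwoIn T L ∧ ¬ Cfsg.thompsonSubgroupOf 2 T ≤ Cfsg.pCoreOf 2 L ∧
      Subgroup.centralizer (Cfsg.pCoreOf 2 L : Set G) ≤ Cfsg.pCoreOf 2 L := Iff.rfl

/-- The local set-up inside `↥L` for `L ∈ ℒ(T)`. -/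
theorem lt_of_mem_jOvergroups [Finite G]
    (hN : ∀ N : Subgroup G, Cfsg.IsTwoLocal N → Group.IsSolvable ↥N)
    (hZ : ∀ S : Sylow 2 G, Subgroup.centralizer (Cfsg.omegaCenterOf (S : Subgroup G) : Set G) ≤
      Subgroup.normalizer ((S : Subgroup G) : Set G))
    {T L : Subgroup G} (hT1 : T ≠ ⊥) (hLT : L ∈ Cfsg.jOvergroups T) : LT (T.subgroupOf L) := by
  haveI : Fact (Nat.Prime 2) := ⟨Nat.prime_two⟩
  obtain ⟨hsylT, hJ, hchar⟩ := hLT
  have hsyl : IsSylowIn 2 T L := isSylowTwoIn_iff_isSylowIn.mp hsylT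
  have hTL : T ≤ L := hsyl.1
  have hT : IsPGroup 2 ↥T := hsyl.2.1
  set QG := Cfsg.pCoreOf 2 L with hQG
  have hQT : QG ≤ T := pCoreOf_le_of_isSylowIn hsyl
  have hQ2 : IsPGroup 2 ↥QG := pcoreOf_isPGroup 2 L
  have hQne : QG ≠ ⊥ := by
    intro hbot
    apply hT1
    rw [hbot] at hchar
    have h1 : (⊤ : Subgroup G) ≤ ⊥ := by
      refine le_trans ?_ hchar
      intro g _
      rw [Subgroup.mem_centralizer_iff]
      intro y hy
      rw [Subgroup.coe_bot, Set.mem_singleton_iff] at hy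
      rw [hy]; simp
    rw [eq_bot_iff]
    exact le_top.trans h1
  have hmapT : (T.subgroupOf L).map L.subtype = T := map_subgroupOf_subtype hTL
  refine ⟨hT.comap_subtype, ?_, ?_, ?_, ?_, ?_⟩
  · -- maximality
    obtain ⟨S, hS⟩ := hsyl.exists_sylow
    have hS' : T.subgroupOf L = (S : Subgroup L) := by
      rw [← hS]
      exact Subgroup.comap_map_eq_self_of_injective L.subtype_injective _
    intro S' hS'2 hle
    rw [hS'] at hle ⊢
    exact S.is_maximal' hS'2 hle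
  · -- solvability
    have hloc : Cfsg.IsTwoLocal (Subgroup.normalizer (QG : Set G)) := ⟨QG, hQ2, hQne, rfl⟩
    haveI := hN _ hloc
    have hLN : L ≤ Subgroup.normalizer (QG : Set G) := pcoreOf_normalized 2 L
    exact Group.isSolvable_of_isSolvable_injective (Subgroup.inclusion_injective hLN)
  · -- characteristic 2
    rw [hasCharP_iff]
    exact inf_le_right.trans hchar
  · -- `J(T) ≰ O₂`
    intro hle
    apply hJ
    rw [← hmapT, thompson_map L.subtype L.subtype_injective]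
    rintro _ ⟨y, hy, rfl⟩
    exact coe_mem_pcoreOf_iff.mpr (hle hy)
  · -- `C(V) ≤ N(T)`
    intro y hy
    obtain ⟨S', hS'⟩ := hT.exists_le_sylow
    -- `Ω₁(Z(S')) ≤ Ω₁(Z(O₂(L)))`
    have hVG : Cfsg.omegaCenterOf QG = (VV ↥L).map L.subtype := by
      unfold VV
      rw [← omegaCenterOf_map L.subtype L.subtype_injective]
      rfl
    have hle : Cfsg.omegaCenterOf (S' : Subgroup G) ≤ Cfsg.omegaCenterOf QG := by
      intro z hz
      obtain ⟨hzS, hzc, hz2⟩ := mem_omegaCenterOf_iff.mp hz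
      have hzcQ : z ∈ Subgroup.centralizer (QG : Set G) :=
        Subgroup.centralizer_le (fun q hq => hS' (hQT hq)) hzc
      exact mem_omegaCenterOf_iff.mpr ⟨hchar hzcQ, hzcQ, hz2⟩
    have hyc : (y : G) ∈ Subgroup.centralizer (Cfsg.omegaCenterOf (S' : Subgroup G) : Set G) := by
      rw [Subgroup.mem_centralizer_iff]
      intro z hz
      have hz' := hle hz
      rw [hVG] at hz'
      obtain ⟨v, hv, rfl⟩ := hz'
      have := Subgroup.mem_centralizer_iff.mp hy v hv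
      exact congrArg Subtype.val this
    have hyN : (y : G) ∈ Subgroup.normalizer ((S' : Subgroup G) : Set G) := hZ S' hyc
    -- `S' ∩ L = T`
    have hSL : (S' : Subgroup G) ⊓ L = T := by
      have h2 : IsPGroup 2 ↥((S' : Subgroup G) ⊓ L : Subgroup G) := S'.isPGroup'.to_le inf_le_left
      exact hsyl.2.2 _ h2 (le_inf hS' hTL) inf_le_right
    rw [Subgroup.mem_normalizer_iff]
    intro t
    rw [Subgroup.mem_subgroupOf, Subgroup.mem_subgroupOf]
    have key : ∀ s : G, s ∈ T ↔ (y : G) * s * (y : G)⁻¹ ∈ T := by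
      intro s
      rw [← hSL, Subgroup.mem_inf, Subgroup.mem_inf]
      constructor
      · rintro ⟨h1, h2⟩
        exact ⟨(Subgroup.mem_normalizer_iff.mp hyN s).mp h1,
          L.mul_mem (L.mul_mem y.2 h2) (L.inv_mem y.2)⟩
      · rintro ⟨h1, h2⟩
        refine ⟨(Subgroup.mem_normalizer_iff.mp hyN s).mpr h1, ?_⟩
        have : s = (y : G)⁻¹ * ((y : G) * s * (y : G)⁻¹) * (y : G) := by group
        rw [this]
        exact L.mul_mem (L.mul_mem (L.inv_mem y.2) h2) y.2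
    have := key (t : G)
    simpa using this

/-- Every member of `ℒ(T)` contains a `J(T)`-component. -/
theorem exists_isJComponent_le [Finite G]
    (hN : ∀ N : Subgroup G, Cfsg.IsTwoLocal N → Group.IsSolvable ↥N)
    (hZ : ∀ S : Sylow 2 G, Subgroup.centralizer (Cfsg.omegaCenterOf (S : Subgroup G) : Set G) ≤
      Subgroup.normalizer ((S : Subgroup G) : Set G))
    {T L : Subgroup G} (hT1 : T ≠ ⊥) (hLT : L ∈ Cfsg.jOvergroups T) :
    ∃ K : Subgroup G, Cfsg.IsJComponent T K ∧ K ≤ L := by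
  have hlt := lt_of_mem_jOvergroups hN hZ hT1 hLT
  obtain ⟨K', hK'⟩ := hlt.exists_isJComponent
  refine ⟨K'.map L.subtype, ?_, Subgroup.map_subtype_le K'⟩
  have hTL : T ≤ L := hLT.1.1
  have := (isJComponent_map_iff L.subtype L.subtype_injective (T.subgroupOf L) K').mpr hK'
  rwa [map_subgroupOf_subtype hTL] at this

end Cfsg.Agent.Lib.H15.JC
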