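import Mathlib
import Cfsg.Agent.Lib.H15.JCG
import Cfsg.Agent.Lib.H15.PGroup

/-!
helper15: the maximal straddling `2`-subgroups `𝒯*(M)`: `N_G(J(T)) ≤ M`, and any `2`-local `L ≰ M`
with a Sylow `2`-subgroup `T₀ ≥ J(T)` lies in `ℒ(T₀)`.
-/

set_option autoImplicit false

namespace Cfsg.Agent.Lib.H15.JC

open scoped commutatorElement
open Cfsg.Agent.Lib.H15
open Cfsg.Agent.Lib.H5 (IsSylowIn)
open Cfsg.Agent.Lib.H26 (maxEA JJ)

variable {G : Type*} [Group G] [Finite G]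

theorem thompson_le (T : Subgroup G) : Cfsg.thompsonSubgroupOf 2 T ≤ T :=
  Cfsg.Agent.Lib.L0.thompsonSubgroupOf_le' 2 T

theorem le_normalizer_thompson (T : Subgroup G) :
    T ≤ Subgroup.normalizer (Cfsg.thompsonSubgroupOf 2 T : Set G) :=
  Subgroup.le_normalizer.trans (Cfsg.Agent.Lib.L0.normalizer_le_normalizer_thompsonSubgroupOf 2 T)

/-- the lexicographic maximality, in usable form. -/
theorem lex {M T T' : Subgroup G} (hT : T ∈ Cfsg.maxStraddlingTwoSubgroups M)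
    (hT' : T' ∈ Cfsg.straddlingTwoSubgroups M) (hJ : Cfsg.thompsonSubgroupOf 2 T ≤ T') :
    Cfsg.thompsonSubgroupOf 2 T' = Cfsg.thompsonSubgroupOf 2 T ∧ Nat.card T' ≤ Nat.card T := by
  obtain ⟨A, hA⟩ := maxEA_nonempty 2 T
  obtain ⟨A', hA'⟩ := maxEA_nonempty 2 T'
  have hAJ : A ≤ Cfsg.thompsonSubgroupOf 2 T := maxEA_le_thompson hA
  have h1 : Nat.card A ≤ Nat.card A' := hA'.2.2 A (hAJ.trans hJ) hA.2.1
  obtain ⟨h2, h3⟩ := hT.2 T' hT'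
  rw [maxElemAbelianOrder_eq hA, maxElemAbelianOrder_eq hA'] at h2 h3
  have heq : Nat.card A' = Nat.card A := le_antisymm h2 h1
  obtain ⟨h4, h5⟩ := h3 heq
  have hle : Cfsg.thompsonSubgroupOf 2 T ≤ Cfsg.thompsonSubgroupOf 2 T' := by
    rw [Cfsg.Agent.Lib.H26.thompsonSubgroupOf_eq, Cfsg.Agent.Lib.H26.thompsonSubgroupOf_eq]
    apply sSup_le
    intro A₂ hA₂
    apply le_sSup
    have hA₂J : A₂ ≤ Cfsg.thompsonSubgroupOf 2 T := maxEA_le_thompson hA₂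
    refine ⟨hA₂J.trans hJ, hA₂.2.1, fun B hB hBe => ?_⟩
    rw [maxEA_card_eq hA₂ hA, ← heq]
    exact hA'.2.2 B hB hBe
  have hJeq : Cfsg.thompsonSubgroupOf 2 T' = Cfsg.thompsonSubgroupOf 2 T :=
    (eq_of_le_of_card_le' hle h4).symm
  exact ⟨hJeq, h5 (by rw [hJeq])⟩

theorem isTwoLocal_normalizer {P : Subgroup G} (hP : IsPGroup 2 ↥P) (hP1 : P ≠ ⊥) :
    Cfsg.IsTwoLocal (Subgroup.normalizer (P : Set G)) := ⟨P, hP, hP1, rfl⟩

theorem thompson_ne_bot {T : Subgroup G} (hT : IsPGroup 2 ↥T) (hT1 : T ≠ ⊥) :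
    Cfsg.thompsonSubgroupOf 2 T ≠ ⊥ := by
  haveI : Fact (Nat.Prime 2) := ⟨Nat.prime_two⟩
  exact Cfsg.Agent.Lib.L0.thompsonSubgroupOf_ne_bot T hT hT1

/-- Step A1: `N_G(J(T)) ≤ M` for `T ∈ 𝒯*(M)`. -/
theorem normalizer_thompson_le_of_maxStraddling (S : Sylow 2 G) {M : Subgroup G}
    (hMJ : Subgroup.normalizer (Cfsg.thompsonSubgroupOf 2 (S : Subgroup G) : Set G) ≤ M)
    {T : Subgroup G} (hT : T ∈ Cfsg.maxStraddlingTwoSubgroups M) :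
    Subgroup.normalizer (Cfsg.thompsonSubgroupOf 2 T : Set G) ≤ M := by
  haveI : Fact (Nat.Prime 2) := ⟨Nat.prime_two⟩
  obtain ⟨hT2, hT1, hTM, -⟩ := hT.1
  have hSM : (S : Subgroup G) ≤ M := (le_normalizer_thompson _).trans hMJ
  obtain ⟨S₁, hS₁, hTS₁⟩ := Cfsg.Agent.Lib.H5.exists_isSylowIn_ge hT2 hTM
  have hSsyl : IsSylowIn 2 (S : Subgroup G) M :=
    (Cfsg.Agent.Lib.H5.isSylowIn_top_of_sylow S).mono hSM le_top
  obtain ⟨m, hm, hS₁eq⟩ := IsSylowIn.exists_cj_eq hSsyl hS₁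
  have hNS₁ : Subgroup.normalizer (Cfsg.thompsonSubgroupOf 2 S₁ : Set G) ≤ M := by
    rw [hS₁eq, thompsonSubgroupOf_cj, normalizer_cj]
    have h1 : cj m (Subgroup.normalizer (Cfsg.thompsonSubgroupOf 2 (S : Subgroup G) : Set G)) ≤
        cj m M := cj_mono m hMJ
    rwa [cj_eq_self_of_mem hm] at h1
  by_contra hcon
  set J := Cfsg.thompsonSubgroupOf 2 T with hJ
  set NJ := Subgroup.normalizer (J : Set G) with hNJ
  have hJ2 : IsPGroup 2 ↥J := hT2.to_le (thompson_le T)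
  have hJ1 : J ≠ ⊥ := thompson_ne_bot hT2 hT1
  set T₂ := S₁ ⊓ NJ with hT₂
  have hTT₂ : T ≤ T₂ := le_inf hTS₁ (le_normalizer_thompson T)
  have hT₂M : T₂ ≤ M := inf_le_left.trans hS₁.1
  have hT₂2 : IsPGroup 2 ↥T₂ := hS₁.2.1.to_le inf_le_left
  have hT₂1 : T₂ ≠ ⊥ := by
    intro h0
    apply hT1
    rw [eq_bot_iff, ← h0]; exact hTT₂
  have hT₂mem : T₂ ∈ Cfsg.straddlingTwoSubgroups M :=
    ⟨hT₂2, hT₂1, hT₂M, NJ, isTwoLocal_normalizer hJ2 hJ1, inf_le_right, hcon⟩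
  obtain ⟨-, hcard⟩ := lex hT hT₂mem ((thompson_le T).trans hTT₂)
  have hTeq : T = T₂ := eq_of_le_of_card_le' hTT₂ hcard
  have hTS : T = S₁ := by
    by_contra hne
    have hnil : Group.IsNilpotent ↥S₁ := hS₁.2.1.isNilpotent
    obtain ⟨x, hxS, hxN, hxT⟩ := exists_mem_normalizer_not_mem hnil hTS₁ hne
    apply hxT
    rw [hTeq]
    refine Subgroup.mem_inf.mpr ⟨hxS, ?_⟩
    exact Cfsg.Agent.Lib.L0.normalizer_le_normalizer_thompsonSubgroupOf 2 T hxN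
  apply hcon
  rw [hNJ, hJ, hTS]
  exact hNS₁

/-- Step A2: a Sylow `2`-subgroup `T₀ ≥ J(T)` of a `2`-local `L ≰ M` lies in `𝒯(M)` and
`J(T₀) = J(T)`. -/
theorem straddling_of_sylow (S : Sylow 2 G) {M : Subgroup G}
    (hMJ : Subgroup.normalizer (Cfsg.thompsonSubgroupOf 2 (S : Subgroup G) : Set G) ≤ M)
    {T : Subgroup G} (hT : T ∈ Cfsg.maxStraddlingTwoSubgroups M)
    {L : Subgroup G} (hL2 : Cfsg.IsTwoLocal L) (hLM : ¬ L ≤ M) {T₀ : Subgroup G}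
    (hT₀ : Cfsg.IsSylowTwoIn T₀ L) (hJT₀ : Cfsg.thompsonSubgroupOf 2 T ≤ T₀) :
    Cfsg.thompsonSubgroupOf 2 T₀ = Cfsg.thompsonSubgroupOf 2 T ∧
      T₀ ∈ Cfsg.straddlingTwoSubgroups M ∧ Nat.card T₀ ≤ Nat.card T := by
  haveI : Fact (Nat.Prime 2) := ⟨Nat.prime_two⟩
  obtain ⟨hT2, hT1, hTM, -⟩ := hT.1
  have hNJM := normalizer_thompson_le_of_maxStraddling S hMJ hT
  set J := Cfsg.thompsonSubgroupOf 2 T with hJ
  set NJ := Subgroup.normalizer (J : Set G) with hNJ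
  have hJ2 : IsPGroup 2 ↥J := hT2.to_le (thompson_le T)
  have hJ1 : J ≠ ⊥ := thompson_ne_bot hT2 hT1
  obtain ⟨hT₀L, hT₀2, -⟩ := hT₀
  set T₂ := T₀ ⊓ NJ with hT₂
  have hJT₂ : J ≤ T₂ := le_inf hJT₀ Subgroup.le_normalizer
  have hT₂M : T₂ ≤ M := inf_le_right.trans hNJM
  have hT₂2 : IsPGroup 2 ↥T₂ := hT₀2.to_le inf_le_left
  have hT₂1 : T₂ ≠ ⊥ := by
    intro h0
    apply hJ1
    rw [eq_bot_iff, ← h0]; exact hJT₂
  have hT₂mem : T₂ ∈ Cfsg.straddlingTwoSubgroups M :=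
    ⟨hT₂2, hT₂1, hT₂M, L, hL2, inf_le_left.trans hT₀L, hLM⟩
  obtain ⟨hJeq, hcard⟩ := lex hT hT₂mem hJT₂
  have hTeq : T₂ = T₀ := by
    by_contra hne
    have hnil : Group.IsNilpotent ↥T₀ := hT₀2.isNilpotent
    obtain ⟨x, hxS, hxN, hxT⟩ := exists_mem_normalizer_not_mem hnil inf_le_left hne
    apply hxT
    refine Subgroup.mem_inf.mpr ⟨hxS, ?_⟩
    have := Cfsg.Agent.Lib.L0.normalizer_le_normalizer_thompsonSubgroupOf 2 T₂ hxN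
    rwa [hJeq] at this
  rw [hTeq] at hJeq hT₂mem hcard
  exact ⟨hJeq, hT₂mem, hcard⟩

/-- `C_G(O₂(L)) ≤ O₂(L)` for a `2`-local subgroup `L` of a group of characteristic `2` type. -/
theorem centralizer_pCoreOf_le (hL : Cfsg.IsCharacteristicTwoType G) {L : Subgroup G}
    (hL2 : Cfsg.IsTwoLocal L) :
    Subgroup.centralizer (Cfsg.pCoreOf 2 L : Set G) ≤ Cfsg.pCoreOf 2 L := by
  obtain ⟨P, hP, hP1, rfl⟩ := hL2
  have h1 := hL.2 P hP hP1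
  unfold Cfsg.IsOfCharacteristicTwo at h1
  rw [hasCharP_iff] at h1
  have hPQ : P ≤ Cfsg.pCoreOf 2 (Subgroup.normalizer (P : Set G)) :=
    le_pcoreOf Subgroup.le_normalizer le_rfl hP
  intro g hg
  apply h1
  refine Subgroup.mem_inf.mpr ⟨?_, hg⟩
  apply Subgroup.centralizer_le_normalizer
  exact Subgroup.centralizer_le hPQ hg

/-- Claim 3: `L ∈ ℒ(T₀)`. -/
theorem mem_jOvergroups_of_sylow (hL : Cfsg.IsCharacteristicTwoType G) (S : Sylow 2 G)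
    {M : Subgroup G}
    (hMJ : Subgroup.normalizer (Cfsg.thompsonSubgroupOf 2 (S : Subgroup G) : Set G) ≤ M)
    {T : Subgroup G} (hT : T ∈ Cfsg.maxStraddlingTwoSubgroups M)
    {L : Subgroup G} (hL2 : Cfsg.IsTwoLocal L) (hLM : ¬ L ≤ M) {T₀ : Subgroup G}
    (hT₀ : Cfsg.IsSylowTwoIn T₀ L) (hJT₀ : Cfsg.thompsonSubgroupOf 2 T ≤ T₀) :
    L ∈ Cfsg.jOvergroups T₀ := by
  obtain ⟨hJeq, -, -⟩ := straddling_of_sylow S hMJ hT hL2 hLM hT₀ hJT₀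
  have hNJM := normalizer_thompson_le_of_maxStraddling S hMJ hT
  refine ⟨hT₀, ?_, centralizer_pCoreOf_le hL hL2⟩
  intro hle
  apply hLM
  have hsyl : IsSylowIn 2 T₀ L := isSylowTwoIn_iff_isSylowIn.mp hT₀
  have hQT : Cfsg.pCoreOf 2 L ≤ T₀ := pCoreOf_le_of_isSylowIn hsyl
  have h1 : Cfsg.thompsonSubgroupOf 2 (Cfsg.pCoreOf 2 L) = Cfsg.thompsonSubgroupOf 2 T₀ :=
    Cfsg.Agent.Lib.L0.thompsonSubgroupOf_eq_of_le 2 hQT hle
  have h2 : L ≤ Subgroup.normalizer (Cfsg.thompsonSubgroupOf 2 (Cfsg.pCoreOf 2 L) : Set G) :=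
    (pcoreOf_normalized 2 L).trans
      (Cfsg.Agent.Lib.L0.normalizer_le_normalizer_thompsonSubgroupOf 2 _)
  rw [h1, hJeq] at h2
  exact h2.trans hNJM

end Cfsg.Agent.Lib.H15.JC
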