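import Mathlib
import Cfsg.Agent.Lib.H15.JCFF2

/-!
helper15: failure-of-factorization structure, part 3: `H / Q` is abelian (`H` generated by minimal
offenders, `Q` the `p'`-part).
-/

set_option autoImplicit false

namespace Cfsg.Agent.Lib.H15.JC

open scoped commutatorElement
open Cfsg.Agent.Lib.H15
open Cfsg.Agent.Lib.H3 (FFS MO)

variable {G : Type*} [Group G]

/-- elements of `H` whose commutators with the members of `𝔖` lie in `Q`. -/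
def commSub (H Q : Subgroup G) (hQn : H ≤ Subgroup.normalizer (Q : Set G)) (𝔖 : Set G) :
    Subgroup G where
  carrier := {η | η ∈ H ∧ ∀ ζ ∈ 𝔖, η * ζ * η⁻¹ * ζ⁻¹ ∈ Q}
  one_mem' := ⟨H.one_mem, fun ζ _ => by simp⟩
  mul_mem' := by
    rintro η₁ η₂ ⟨h₁, h₁'⟩ ⟨h₂, h₂'⟩
    refine ⟨H.mul_mem h₁ h₂, fun ζ hζ => ?_⟩
    have e : η₁ * η₂ * ζ * (η₁ * η₂)⁻¹ * ζ⁻¹ =
        η₁ * (η₂ * ζ * η₂⁻¹ * ζ⁻¹) * η₁⁻¹ * (η₁ * ζ * η₁⁻¹ * ζ⁻¹) := by group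
    rw [e]
    exact Q.mul_mem ((Subgroup.mem_normalizer_iff.mp (hQn h₁) _).mp (h₂' ζ hζ)) (h₁' ζ hζ)
  inv_mem' := by
    rintro η ⟨h₁, h₁'⟩
    refine ⟨H.inv_mem h₁, fun ζ hζ => ?_⟩
    have e : η⁻¹ * ζ * η⁻¹⁻¹ * ζ⁻¹ = η⁻¹ * (η * ζ * η⁻¹ * ζ⁻¹)⁻¹ * η⁻¹⁻¹ := by group
    rw [e]
    exact (Subgroup.mem_normalizer_iff.mp (hQn (H.inv_mem h₁)) _).mp (Q.inv_mem (h₁' ζ hζ))

theorem mem_commSub {H Q : Subgroup G} {hQn : H ≤ Subgroup.normalizer (Q : Set G)} {𝔖 : Set G}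
    {η : G} : η ∈ commSub H Q hQn 𝔖 ↔ η ∈ H ∧ ∀ ζ ∈ 𝔖, η * ζ * η⁻¹ * ζ⁻¹ ∈ Q := Iff.rfl

namespace FFSX

variable [Finite G] {p : ℕ} [Fact p.Prime] {V H Q : Subgroup G}

/-- commutators of two minimal offenders lie in `Q`. -/
theorem comm_MO_mem (h : FFS p V H Q) {B B' : Subgroup G} (mB : MO p V H B) (mB' : MO p V H B')
    {b b' : G} (hb : b ∈ B) (hb' : b' ∈ B') : b * b' * b⁻¹ * b'⁻¹ ∈ Q := by
  have hp : p.Prime := Fact.out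
  rcases h.MO_le_E_or mB mB' with h1 | h1
  · -- `b' ∈ E_B`
    have hn := h.A_le_normalizer_comm mB.le
    obtain ⟨d, hd, b'', hb'', rfl⟩ := Cfsg.Agent.Lib.H1.mem_sup_of_le_normalizer hn (h1 hb')
    have hdQ : d ∈ Q := h.comm_le_Q mB.le hd
    have hBc : b * b'' = b'' * b := by
      haveI : IsCyclic ↥B := isCyclic_of_prime_card mB.card
      have := IsCyclic.commGroup.mul_comm (⟨b, hb⟩ : B) ⟨b'', hb''⟩
      exact congrArg Subtype.val this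
    have e : b * (d * b'') * b⁻¹ * (d * b'')⁻¹ = (b * d * b⁻¹) * (b * b'' * b⁻¹ * b''⁻¹) * d⁻¹ := by
      group
    have e2 : b * b'' * b⁻¹ * b''⁻¹ = 1 := by rw [hBc]; group
    rw [e, e2, mul_one]
    exact Q.mul_mem ((Subgroup.mem_normalizer_iff.mp (h.hQn (mB.le hb)) d).mp hdQ) (Q.inv_mem hdQ)
  · -- `b'` centralizes `E_B ⊇ B`
    have hbE : b ∈ ⁅Q, B⁆ ⊔ B := (le_sup_right : B ≤ _) hb
    have := Subgroup.mem_centralizer_iff.mp (h1.1 hb') b hbE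
    have e : b * b' * b⁻¹ * b'⁻¹ = 1 := by rw [this]; group
    rw [e]; exact Q.one_mem

/-- `H / Q` is abelian. -/
theorem comm_mem (h : FFS p V H Q)
    (hS3 : H = ⨆ A : {A : Subgroup G // A ≤ H ∧ Cfsg.IsBestOffenderOn p V A}, (A : Subgroup G))
    {η ζ : G} (hη : η ∈ H) (hζ : ζ ∈ H) : η * ζ * η⁻¹ * ζ⁻¹ ∈ Q := by
  set 𝔖₁ : Set G := {b | ∃ B, MO p V H B ∧ b ∈ B} with h𝔖₁
  -- Step A
  have hA : H ≤ commSub H Q h.hQn 𝔖₁ := by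
    apply h.le_of_forall_MO hS3
    intro B mB b hb
    refine ⟨mB.le hb, ?_⟩
    rintro b' ⟨B', mB', hb'⟩
    exact comm_MO_mem h mB mB' hb hb'
  -- Step B
  have hB : H ≤ commSub H Q h.hQn (H : Set G) := by
    apply h.le_of_forall_MO hS3
    intro B' mB' b' hb'
    refine ⟨mB'.le hb', ?_⟩
    intro ζ' hζ'
    have h1 := (hA hζ').2 b' ⟨B', mB', hb'⟩
    have e : b' * ζ' * b'⁻¹ * ζ'⁻¹ = (ζ' * b' * ζ'⁻¹ * b'⁻¹)⁻¹ := by group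
    rw [e]
    exact Q.inv_mem h1
  exact (hB hη).2 ζ hζ

theorem commutator_le_Q (h : FFS p V H Q)
    (hS3 : H = ⨆ A : {A : Subgroup G // A ≤ H ∧ Cfsg.IsBestOffenderOn p V A}, (A : Subgroup G)) :
    ⁅H, H⁆ ≤ Q := by
  rw [Subgroup.commutator_le]
  intro η hη ζ hζ
  rw [commutatorElement_def]
  exact comm_mem h hS3 hη hζ

/-- a `p`-element of `Q` is trivial. -/
theorem eq_one_of_pow (h : FFS p V H Q) {q : G} (hq : q ∈ Q) {m : ℕ} (hm : q ^ (p ^ m) = 1) :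
    q = 1 := by
  have h1 : orderOf q ∣ p ^ m := orderOf_dvd_of_pow_eq_one hm
  have h2 : orderOf q ∣ Nat.card Q := by
    have := orderOf_dvd_natCard (⟨q, hq⟩ : Q)
    rwa [Subgroup.orderOf_mk] at this
  have hcop : Nat.Coprime (Nat.card Q) (p ^ m) := Nat.Coprime.pow_right m h.hQp
  have := Nat.eq_one_of_dvd_coprimes hcop h2 h1
  rwa [orderOf_eq_one_iff] at this

end FFSX

end Cfsg.Agent.Lib.H15.JC
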