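import Mathlib
import Cfsg.Agent.Lib.H15.JCFF3
import Cfsg.Agent.Lib.H15.CD

/-!
helper15: failure-of-factorization structure, part 4 (`p = 2`): an element `ξ ∈ H` of order `3` with
`|[V, ξ]| = 4` lies in `O₃(E)` for a unique `E`, and `[V, ξ] = [V, E]`.
-/

set_option autoImplicit false

namespace Cfsg.Agent.Lib.H15.JC

open scoped commutatorElement
open Cfsg.Agent.Lib.H15
open Cfsg.Agent.Lib.H3 (FFS MO)

variable {G : Type*} [Group G]

namespace FFSX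

variable [Finite G] {V H Q : Subgroup G}

/-- data: `ξ ∈ H` with `ξ³ = 1` and `|[V, ξ]| = 4`. -/
structure Xi (V H Q : Subgroup G) (ξ : G) : Prop where
  ffs : FFS 2 V H Q
  hS3 : H = ⨆ A : {A : Subgroup G // A ≤ H ∧ Cfsg.IsBestOffenderOn 2 V A}, (A : Subgroup G)
  hξH : ξ ∈ H
  hξ3 : ξ ^ 3 = 1
  hcard : Nat.card ↥(⁅V, Subgroup.zpowers ξ⁆) = 4

namespace Xi

variable {ξ : G}

theorem zpowers_le_normalizer (c : Xi V H Q ξ) :
    Subgroup.zpowers ξ ≤ Subgroup.normalizer (V : Set G) := by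
  rw [Subgroup.zpowers_le]; exact c.ffs.hHV c.hξH

theorem U_le_V (c : Xi V H Q ξ) : ⁅V, Subgroup.zpowers ξ⁆ ≤ V :=
  (Subgroup.le_normalizer_iff_commutator_le_left).mp c.zpowers_le_normalizer

theorem isPGroup_V (c : Xi V H Q ξ) : IsPGroup 2 ↥V := by
  haveI : Fact (Nat.Prime 2) := ⟨Nat.prime_two⟩
  exact c.ffs.isPGroup_V

/-- `ξ` acts fixed-point-freely on `[V, ξ]`. -/
theorem fix_U (c : Xi V H Q ξ) {u : G} (hu : u ∈ ⁅V, Subgroup.zpowers ξ⁆)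
    (hfix : ξ * u * ξ⁻¹ = u) : u = 1 := by
  haveI : IsMulCommutative ↥V := c.ffs.hV.1
  have hcop : (Nat.card (Subgroup.zpowers ξ)).Coprime (Nat.card V) := by
    obtain ⟨n, hn⟩ := IsPGroup.iff_card.mp c.isPGroup_V
    rw [hn, Nat.card_zpowers]
    have hd : orderOf ξ ∣ 3 := orderOf_dvd_of_pow_eq_one c.hξ3
    exact Nat.Coprime.coprime_dvd_left hd (Nat.Coprime.pow_right n (by norm_num))
  have key := Cfsg.Agent.Lib.H1.coprime_abelian_centralizer_inf_commutator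
    c.zpowers_le_normalizer hcop
  have hmem : u ∈ (V ⊓ Subgroup.centralizer (Subgroup.zpowers ξ : Set G)) ⊓
      ⁅V, Subgroup.zpowers ξ⁆ :=
    Subgroup.mem_inf.mpr ⟨Subgroup.mem_inf.mpr ⟨c.U_le_V hu, XCfg.commute_zpowers hfix⟩, hu⟩
  rw [key, Subgroup.mem_bot] at hmem
  exact hmem

/-- a nontrivial `ξ`-invariant subgroup of `[V, ξ]` is everything. -/
theorem eq_U_of_invariant (c : Xi V H Q ξ) {F : Subgroup G} (hF : F ≤ ⁅V, Subgroup.zpowers ξ⁆)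
    (hF1 : F ≠ ⊥) (hinv : ∀ f ∈ F, ξ * f * ξ⁻¹ ∈ F) : F = ⁅V, Subgroup.zpowers ξ⁆ := by
  apply eq_of_le_of_card_le' hF
  rw [c.hcard]
  have hd : Nat.card F ∣ 4 := by
    rw [← c.hcard]; exact Subgroup.card_dvd_of_le hF
  have hle : Nat.card F ≤ 4 := Nat.le_of_dvd (by norm_num) hd
  have hpos : 0 < Nat.card F := Nat.card_pos
  interval_cases hn : Nat.card F
  · exfalso; exact hF1 (Subgroup.card_eq_one.mp hn)
  · exfalso
    obtain ⟨w, hw1⟩ : ∃ w : F, w ≠ 1 := by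
      haveI : Nontrivial F := by
        rw [← Finite.one_lt_card_iff_nontrivial, hn]; norm_num
      exact exists_ne 1
    have hw : (w : G) ∈ F := w.2
    have hw1' : (w : G) ≠ 1 := fun h1 => hw1 (Subtype.ext h1)
    have hne1 : ξ * (w : G) * ξ⁻¹ ≠ 1 := by
      intro h1
      apply hw1'
      have : (w : G) = ξ⁻¹ * (ξ * (w : G) * ξ⁻¹) * ξ := by group
      rw [this, h1]; simp
    have hfix : ξ * (w : G) * ξ⁻¹ = w := eq_of_card_two hn (hinv _ hw) hw hne1 hw1'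
    exact hw1' (c.fix_U (hF hw) hfix)
  · exfalso; revert hd; decide
  · exact le_rfl

theorem U_ne_bot (c : Xi V H Q ξ) : ⁅V, Subgroup.zpowers ξ⁆ ≠ ⊥ := by
  intro h0
  have := c.hcard
  rw [h0, Subgroup.card_bot] at this
  omega

/-- Step 1: some minimal offender `A₁` with `ξ ∉ C([V, E])`. -/
theorem exists_MO_not_centralizes (c : Xi V H Q ξ) :
    ∃ A₁, MO 2 V H A₁ ∧ ξ ∉ Subgroup.centralizer ((⁅V, ⁅Q, A₁⁆ ⊔ A₁⁆ : Subgroup G) : Set G) := by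
  haveI : Fact (Nat.Prime 2) := ⟨Nat.prime_two⟩
  by_contra hcon
  push Not at hcon
  set U := ⁅V, Subgroup.zpowers ξ⁆ with hU
  have h1 : ∀ B, MO 2 V H B → B ≤ Subgroup.centralizer (U : Set G) := by
    intro B mB
    have hξK : Subgroup.zpowers ξ ≤
        H ⊓ Subgroup.centralizer ((⁅V, ⁅Q, B⁆ ⊔ B⁆ : Subgroup G) : Set G) := by
      rw [Subgroup.zpowers_le]
      exact Subgroup.mem_inf.mpr ⟨c.hξH, hcon B mB⟩
    have h2 : U ≤ V ⊓ Subgroup.centralizer ((⁅Q, B⁆ ⊔ B : Subgroup G) : Set G) :=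
      (Subgroup.commutator_mono le_rfl hξK).trans (c.ffs.comm_V_K c.hS3 mB)
    have h3 : ⁅Q, B⁆ ⊔ B ≤ Subgroup.centralizer (U : Set G) :=
      Subgroup.le_centralizer_iff.mp (h2.trans inf_le_right)
    exact le_sup_right.trans h3
  have h2 : H ≤ Subgroup.centralizer (U : Set G) := c.ffs.le_of_forall_MO c.hS3 h1
  apply c.U_ne_bot
  rw [eq_bot_iff]
  intro u hu
  rw [Subgroup.mem_bot]
  apply c.fix_U hu
  have := Subgroup.mem_centralizer_iff.mp (h2 c.hξH) u hu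
  rw [← this]; group

/-- Steps 2-4. -/
theorem exists_MO (c : Xi V H Q ξ) :
    ∃ A₁, MO 2 V H A₁ ∧ ξ ∈ ⁅Q, A₁⁆ ∧ ⁅V, Subgroup.zpowers ξ⁆ = ⁅V, ⁅Q, A₁⁆ ⊔ A₁⁆ := by
  haveI : Fact (Nat.Prime 2) := ⟨Nat.prime_two⟩
  obtain ⟨A₁, m, hξW⟩ := c.exists_MO_not_centralizes
  set E₁ := ⁅Q, A₁⁆ ⊔ A₁ with hE₁
  set W₁ := ⁅V, E₁⁆ with hW₁
  set U := ⁅V, Subgroup.zpowers ξ⁆ with hU
  have hHE : H ≤ Subgroup.normalizer (E₁ : Set G) := c.ffs.H_le_normalizer_E c.hS3 m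
  have hHW : H ≤ Subgroup.normalizer (W₁ : Set G) :=
    Cfsg.Agent.Lib.H3.le_normalizer_commutator' c.ffs.hHV hHE
  have hW₁V : W₁ ≤ V := c.ffs.W_le_V m.le
  -- Step 2
  set F := ⁅W₁, Subgroup.zpowers ξ⁆ with hF
  have hzW : Subgroup.zpowers ξ ≤ Subgroup.normalizer (W₁ : Set G) := by
    rw [Subgroup.zpowers_le]; exact hHW c.hξH
  have hF1 : F ≠ ⊥ := by
    intro h0
    apply hξW
    rw [hF, Subgroup.commutator_eq_bot_iff_le_centralizer] at h0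
    have := Subgroup.le_centralizer_iff.mp h0
    exact this (Subgroup.mem_zpowers ξ)
  have hFU : F ≤ U := Subgroup.commutator_mono hW₁V le_rfl
  have hFW : F ≤ W₁ := (Subgroup.le_normalizer_iff_commutator_le_left).mp hzW
  have hinv : ∀ f ∈ F, ξ * f * ξ⁻¹ ∈ F := by
    intro f hf
    have h1 : ξ ∈ Subgroup.normalizer (F : Set G) :=
      Subgroup.normalizer_commutator_ge_right W₁ (Subgroup.zpowers ξ) (Subgroup.mem_zpowers ξ)
    exact (Subgroup.mem_normalizer_iff.mp h1 f).mp hf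
  have hFeq : F = U := c.eq_U_of_invariant hFU hF1 hinv
  have hUW : U = W₁ := by
    apply eq_of_le_of_card_le' (hFeq ▸ hFW)
    rw [c.hcard, hW₁, hE₁, c.ffs.card_W m]
    norm_num
  -- Step 3
  set K₁ := H ⊓ Subgroup.centralizer (W₁ : Set G) with hK₁
  have hKE : K₁ ≤ Subgroup.centralizer (E₁ : Set G) := c.ffs.K_le_centralizer_E c.hS3 m
  have hsup : E₁ ⊔ K₁ = H := c.ffs.E_sup_K c.hS3 m
  have hξs : ξ ∈ E₁ ⊔ K₁ := by rw [hsup]; exact c.hξH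
  obtain ⟨e, he, k, hk, hξek⟩ := Cfsg.Agent.Lib.H1.mem_sup_of_le_normalizer
    (hKE.trans (Subgroup.centralizer_le_normalizer _)) hξs
  set C₁ := V ⊓ Subgroup.centralizer (E₁ : Set G) with hC₁
  have hVK : ⁅V, K₁⁆ ≤ C₁ := c.ffs.comm_V_K c.hS3 m
  have hkC₁ : k ∈ Subgroup.centralizer (C₁ : Set G) := by
    rw [Subgroup.mem_centralizer_iff]
    intro v hv
    have hvV : v ∈ V := (Subgroup.mem_inf.mp hv).1
    have hvE : v ∈ Subgroup.centralizer (E₁ : Set G) := (Subgroup.mem_inf.mp hv).2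
    have h1 : ⁅v, k⁆ ∈ C₁ := hVK (Subgroup.commutator_mem_commutator hvV hk)
    have h2 : ⁅v, ξ⁆ = ⁅v, k⁆ := by
      rw [hξek]
      have hve : v * e = e * v := (Subgroup.mem_centralizer_iff.mp hvE e he).symm
      have hce : ⁅v, k⁆ * e = e * ⁅v, k⁆ :=
        (Subgroup.mem_centralizer_iff.mp (Subgroup.mem_inf.mp h1).2 e he).symm
      have e1 : ⁅v, e * k⁆ = (v * e * v⁻¹ * e⁻¹) * (e * ⁅v, k⁆ * e⁻¹) := by
        simp only [commutatorElement_def]; group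
      rw [e1, hve, ← hce]; group
    have h3 : ⁅v, k⁆ ∈ U := by
      rw [← h2]
      exact Subgroup.commutator_mem_commutator hvV (Subgroup.mem_zpowers ξ)
    have h4 : ⁅v, k⁆ ∈ W₁ ⊓ C₁ := Subgroup.mem_inf.mpr ⟨hUW ▸ h3, h1⟩
    rw [hW₁, hC₁, hE₁, c.ffs.W_inf m, Subgroup.mem_bot, commutatorElement_def] at h4
    have : v * k = (v * k * v⁻¹ * k⁻¹) * (k * v) := by group
    rw [this, h4, one_mul]
  have hkV : k ∈ Subgroup.centralizer (V : Set G) := by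
    have hsupV : W₁ ⊔ C₁ = V := c.ffs.W_sup m
    rw [← hsupV, centralizer_sup]
    exact Subgroup.mem_inf.mpr ⟨(Subgroup.mem_inf.mp hk).2, hkC₁⟩
  have hk1 : k = 1 := by
    have : k ∈ H ⊓ Subgroup.centralizer (V : Set G) :=
      Subgroup.mem_inf.mpr ⟨(Subgroup.mem_inf.mp hk).1, hkV⟩
    rw [c.ffs.hf, Subgroup.mem_bot] at this
    exact this
  have hξE : ξ ∈ E₁ := by rw [hξek, hk1, mul_one]; exact he
  -- Step 4
  exact ⟨A₁, m, c.ffs.mem_comm_of_pow m hξE (by norm_num : Nat.Coprime 3 2) c.hξ3, hUW⟩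

end Xi

end FFSX

end Cfsg.Agent.Lib.H15.JC
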