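import Mathlib
import Cfsg.Prelude.Def_JComponents
import Cfsg.Agent.Lib.H15.JComp5

/-!
Structure of a `J(T)`-component `K` (helper15's shared library), part 5: a `J(T)`-component
gives abstract data `JCD`.
-/

set_option autoImplicit false

namespace Cfsg.Agent.Lib.H15

open scoped commutatorElement

variable {G : Type*} [Group G]

/-- A `J(T)`-component `K` yields the data `JCD K J(T) O₂(K) S W_K` for a suitable Sylow
`2`-subgroup `S` of `⟨K, J(T)⟩` containing `J(T)`. -/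
theorem exists_JCD [Finite G] {T K : Subgroup G} (hT : IsPGroup 2 ↥T)
    (hK : Cfsg.IsJComponent T K) :
    ∃ S : Subgroup G, JCD K (Cfsg.thompsonSubgroupOf 2 T) (Cfsg.pCoreOf 2 K) S (Cfsg.wOf K) := by
  haveI : Fact (Nat.Prime 2) := ⟨Nat.prime_two⟩
  set J := Cfsg.thompsonSubgroupOf 2 T with hJdef
  set H := K ⊔ J with hH
  have hJT : J ≤ T := Subgroup.map_subtype_le _
  have hJ2 : IsPGroup 2 ↥J := hT.to_le hJT
  have hJH : J ≤ H := le_sup_right
  have hJ2' : IsPGroup 2 ↥(J.subgroupOf H) :=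
    IsPGroup.of_equiv hJ2 (Subgroup.subgroupOfEquivOfLe hJH).symm
  obtain ⟨P, hP⟩ := hJ2'.exists_le_sylow
  set S := (P : Subgroup H).map H.subtype with hS
  have hS2 : IsPGroup 2 ↥S := P.2.map H.subtype
  have hSH : S ≤ H := Subgroup.map_subtype_le _
  have hJS : J ≤ S := by
    intro j hj
    exact ⟨⟨j, hJH hj⟩, hP (Subgroup.mem_subgroupOf.mpr hj), rfl⟩
  have hSsub : S.subgroupOf H = (P : Subgroup H) :=
    Subgroup.comap_map_eq_self_of_injective H.subtype_injective _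
  have hSyl : Cfsg.IsSylowTwoIn S H := by
    refine ⟨hSH, hS2, ?_⟩
    have h1 : S.relIndex H = (P : Subgroup H).index := by
      unfold Subgroup.relIndex
      rw [hSsub]
    rw [h1, ← Nat.not_even_iff_odd, even_iff_two_dvd]
    exact P.not_dvd_index
  have hSmax : ∀ P' : Subgroup G, IsPGroup 2 ↥P' → S ≤ P' → P' ≤ H → P' = S := by
    intro P' hP'2 hSP' hP'H
    have h1 : IsPGroup 2 ↥(P'.subgroupOf H) :=
      IsPGroup.of_equiv hP'2 (Subgroup.subgroupOfEquivOfLe hP'H).symm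
    have h2 : (P : Subgroup H) ≤ P'.subgroupOf H := by
      rw [← hSsub]
      exact Subgroup.comap_mono hSP'
    have h3 := P.is_maximal' h1 h2
    rw [← Subgroup.map_subgroupOf_eq_of_le hP'H, h3]
  have hJeq : J = Cfsg.Agent.Lib.H26.JJ 2 S := by
    rw [← Cfsg.Agent.Lib.H26.thompsonSubgroupOf_eq]
    exact (hK.2.2.2.1 S hSyl hJS).symm
  exact ⟨S, {
    odd := hK.1
    comm := hK.2.1
    hRK := Cfsg.Agent.Lib.H14.pCoreOf_le 2 K
    hR2 := Cfsg.Agent.Lib.H14.pCoreOf_isPGroup 2 K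
    hRn := Cfsg.Agent.Lib.H7.normalizer_le_normalizer_pCoreOf 2 K
    hR3 := hK.2.2.1
    hS2 := hS2
    hJS := hJS
    hSH := hSH
    hSmax := hSmax
    hJ := hJeq
    hW := rfl
    hW4 := hK.2.2.2.2.1
    hW2 := hK.2.2.2.2.2 }⟩

end Cfsg.Agent.Lib.H15
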