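import Mathlib
import Cfsg.Agent.Lib.H15.JCFF4
import Cfsg.Agent.Lib.H15.JComp6
import Cfsg.Agent.Lib.H1.CoprimeAction

/-!
helper15: failure-of-factorization structure, part 5: transport between `X` and `Γ = V ⋊ X/C`, and
the location of an arbitrary `J(T)`-component of `X`.
-/

set_option autoImplicit false

namespace Cfsg.Agent.Lib.H15.JC

open scoped commutatorElement
open Cfsg.Agent.Lib.H15
open Cfsg.Agent.Lib.H5 (IsSylowIn)
open Cfsg.Agent.Lib.H26 (maxEA JJ)
open Cfsg.Agent.Lib.H3 (FFS MO)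
open Cfsg.Agent.Lib.H3.QT (Gam Vh hat toGam)

variable {X : Type*} [Group X] [Finite X]

/-- the image in `Γ` of a subgroup of `V`. -/
noncomputable def up (U : Subgroup X) : Subgroup (Gam (VV X)) :=
  (U.subgroupOf (VV X)).map (SemidirectProduct.inl : ↥(VV X) →* Gam (VV X))

theorem mem_up {U : Subgroup X} {y : Gam (VV X)} :
    y ∈ up U ↔ ∃ v : ↥(VV X), (v : X) ∈ U ∧ SemidirectProduct.inl v = y := by
  unfold up
  rw [Subgroup.mem_map]
  constructor
  · rintro ⟨v, hv, rfl⟩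
    exact ⟨v, Subgroup.mem_subgroupOf.mp hv, rfl⟩
  · rintro ⟨v, hv, rfl⟩
    exact ⟨v, Subgroup.mem_subgroupOf.mpr hv, rfl⟩

theorem card_up {U : Subgroup X} (hU : U ≤ VV X) : Nat.card (up U) = Nat.card U := by
  unfold up
  rw [Subgroup.card_map_of_injective SemidirectProduct.inl_injective]
  exact Nat.card_congr (Subgroup.subgroupOfEquivOfLe hU).toEquiv

theorem up_mono {U U' : Subgroup X} (h : U ≤ U') : up U ≤ up U' := by
  intro y hy
  obtain ⟨v, hv, rfl⟩ := mem_up.mp hy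
  exact mem_up.mpr ⟨v, h hv, rfl⟩

theorem up_inf (U U' : Subgroup X) : up (U ⊓ U') = up U ⊓ up U' := by
  apply le_antisymm
  · exact le_inf (up_mono inf_le_left) (up_mono inf_le_right)
  · rintro y ⟨hy1, hy2⟩
    obtain ⟨v, hv, rfl⟩ := mem_up.mp hy1
    obtain ⟨v', hv', hvv'⟩ := mem_up.mp hy2
    have : v' = v := SemidirectProduct.inl_injective hvv'
    rw [this] at hv'
    exact mem_up.mpr ⟨v, Subgroup.mem_inf.mpr ⟨hv, hv'⟩, rfl⟩

theorem up_eq_bot_iff {U : Subgroup X} (hU : U ≤ VV X) : up U = ⊥ ↔ U = ⊥ := by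
  rw [← Subgroup.card_eq_one, card_up hU, Subgroup.card_eq_one]

theorem toGam_apply (g : X) :
    toGam (VV X) g = SemidirectProduct.inr
      (QuotientGroup.mk g : X ⧸ Subgroup.centralizer (VV X : Set X)) := rfl

/-- the key identity: commutators in `Γ`. -/
theorem comm_inl_toGam (v : ↥(VV X)) (y : X) :
    ⁅(SemidirectProduct.inl v : Gam (VV X)), toGam (VV X) y⁆ =
      SemidirectProduct.inl (⟨⁅(v : X), y⁆, by
        rw [commutatorElement_def]
        have h1 : y * (v : X)⁻¹ * y⁻¹ ∈ VV X :=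
          (VV_normal (X := X)).conj_mem _ (Subgroup.inv_mem _ v.2) y
        have e : (v : X) * y * (v : X)⁻¹ * y⁻¹ = (v : X) * (y * (v : X)⁻¹ * y⁻¹) := by group
        rw [e]; exact Subgroup.mul_mem _ v.2 h1⟩ : ↥(VV X)) := by
  rw [commutatorElement_def]
  have h1 := Cfsg.Agent.Lib.H3.QT.conj_inr_inl (VV X) y v⁻¹
  rw [← toGam_apply] at h1
  have e : (SemidirectProduct.inl v : Gam (VV X)) * toGam (VV X) y *
      (SemidirectProduct.inl v)⁻¹ * (toGam (VV X) y)⁻¹ =
      SemidirectProduct.inl v * (toGam (VV X) y * SemidirectProduct.inl v⁻¹ *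
        (toGam (VV X) y)⁻¹) := by
    rw [map_inv]; group
  rw [e, h1, ← map_mul]
  congr 1
  apply Subtype.ext
  simp only [Subgroup.coe_mul, Subgroup.coe_inv, commutatorElement_def]
  group

theorem toGam_zpow (x : X) (n : ℤ) : toGam (VV X) (x ^ n) = (toGam (VV X) x) ^ n := map_zpow _ _ _

/-- `[Vh, ⟨ξ⟩]` is the image of `[V, ⟨x⟩]`. -/
theorem up_comm_zpowers (x : X) :
    up ⁅VV X, Subgroup.zpowers x⁆ = ⁅Vh (VV X), Subgroup.zpowers (toGam (VV X) x)⁆ := by
  apply le_antisymm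
  · -- the preimage contains all commutators
    set R' := ⁅Vh (VV X), Subgroup.zpowers (toGam (VV X) x)⁆ with hR'
    have key : ⁅VV X, Subgroup.zpowers x⁆ ≤
        (R'.comap (SemidirectProduct.inl : ↥(VV X) →* Gam (VV X))).map (VV X).subtype := by
      rw [Subgroup.commutator_le]
      intro v hv y hy
      obtain ⟨n, rfl⟩ := Subgroup.mem_zpowers_iff.mp hy
      refine ⟨⟨⁅v, x ^ n⁆, ?_⟩, ?_, rfl⟩
      · rw [commutatorElement_def]
        have h1 : x ^ n * v⁻¹ * (x ^ n)⁻¹ ∈ VV X :=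
          (VV_normal (X := X)).conj_mem _ (Subgroup.inv_mem _ hv) _
        have e : v * x ^ n * v⁻¹ * (x ^ n)⁻¹ = v * (x ^ n * v⁻¹ * (x ^ n)⁻¹) := by group
        rw [e]; exact Subgroup.mul_mem _ hv h1
      · rw [SetLike.mem_coe, Subgroup.mem_comap]
        have h2 := comm_inl_toGam (⟨v, hv⟩ : ↥(VV X)) (x ^ n)
        rw [← h2, hR']
        apply Subgroup.commutator_mem_commutator
        · exact ⟨⟨v, hv⟩, rfl⟩
        · rw [toGam_zpow]
          exact Subgroup.zpow_mem _ (Subgroup.mem_zpowers _) n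
    intro y hy
    obtain ⟨v, hv, rfl⟩ := mem_up.mp hy
    obtain ⟨w, hw, hwv⟩ := key hv
    have : w = v := Subtype.ext hwv
    rw [← this]
    exact hw
  · rw [Subgroup.commutator_le]
    rintro a ⟨v, rfl⟩ b hb
    obtain ⟨n, rfl⟩ := Subgroup.mem_zpowers_iff.mp hb
    rw [← toGam_zpow, comm_inl_toGam]
    refine mem_up.mpr ⟨_, ?_, rfl⟩
    exact Subgroup.commutator_mem_commutator v.2
      (Subgroup.zpow_mem _ (Subgroup.mem_zpowers x) n)

end Cfsg.Agent.Lib.H15.JC
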