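import Mathlib
import Cfsg.Agent.Lib.H15.JCFF5

/-!
helper15: failure-of-factorization structure, part 6: every `J(T)`-component `K` of `X` (in the
local set-up `LT T`) satisfies `K C = K₁(A₁)` for a minimal offender `A₁`, and `W_K` is the plane
of the corresponding `E`.
-/

set_option autoImplicit false

namespace Cfsg.Agent.Lib.H15.JC

open scoped commutatorElement
open Cfsg.Agent.Lib.H15
open Cfsg.Agent.Lib.H5 (IsSylowIn)
open Cfsg.Agent.Lib.H26 (maxEA JJ)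
open Cfsg.Agent.Lib.H3 (FFS MO)
open Cfsg.Agent.Lib.H3.QT (Gam Vh hat toGam)

variable {X : Type*} [Group X] [Finite X]

/-- The location of a `J(T)`-component. -/
structure KLoc (T K : Subgroup X) (x : X) (A₁ : Subgroup (Gam (VV X))) : Prop where
  lt : LT T
  comp : Cfsg.IsJComponent T K
  mo : MO 2 (Vh (VV X)) (HH X) A₁
  hxK : x ∈ K
  hx3 : x ^ 3 = 1
  hxC : x ∉ CC X
  hK : K = Cfsg.pCoreOf 2 K ⊔ Subgroup.zpowers x
  hRC : Cfsg.pCoreOf 2 K ≤ CC X
  hCN : CC X ≤ Subgroup.normalizer (K : Set X)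
  hsup : K ⊔ CC X = KK₁ A₁
  hξ : toGam (VV X) x ∈ DD A₁
  hW : Cfsg.wOf K = ⁅VV X, Subgroup.zpowers x⁆
  hWup : up (Cfsg.wOf K) = ⁅Vh (VV X), DD A₁ ⊔ A₁⁆

namespace LT

variable {T K : Subgroup X}

theorem le_JX_of_isJComponent (h : LT T) (hK : Cfsg.IsJComponent T K) : K ≤ JX X := by
  have h1 : ⁅K, Cfsg.thompsonSubgroupOf 2 T⁆ ≤ ⁅(⊤ : Subgroup X), JX X⁆ :=
    Subgroup.commutator_mono le_top h.J_le_JX
  rw [hK.2.1] at h1
  exact h1.trans (Subgroup.commutator_le_right _ _)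

theorem toGam_mem_Qh (h : LT T) (hK : Cfsg.IsJComponent T K) {k : X} (hk : k ∈ K) :
    toGam (VV X) k ∈ Qh X := by
  haveI : Fact (Nat.Prime 2) := ⟨Nat.prime_two⟩
  have h1 : K ≤ ⁅JX X, JX X⁆ := by
    have := Subgroup.commutator_mono (h.le_JX_of_isJComponent hK) h.J_le_JX
    rwa [hK.2.1] at this
  have h2 : toGam (VV X) k ∈ (⁅JX X, JX X⁆).map (toGam (VV X)) :=
    Subgroup.mem_map_of_mem _ (h1 hk)
  rw [Subgroup.map_commutator, ← Cfsg.Agent.Lib.H3.QT.hat_eq_map] at h2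
  exact FFSX.commutator_le_Q h.ffs h.hS3 h2

theorem CC_le_normalizer_of_isJComponent (h : LT T) (hK : Cfsg.IsJComponent T K) :
    CC X ≤ Subgroup.normalizer (K : Set X) := by
  have hJ2 : IsPGroup 2 ↥(Cfsg.thompsonSubgroupOf 2 T) := h.hT.to_le (XCfg.J_le_T T)
  apply le_normalizer_of_commutator_eq_of_odd hJ2 hK.1 hK.2.1
  · rw [Subgroup.normalizer_eq_top]; exact le_top
  · exact h.hCT.trans (Cfsg.Agent.Lib.L0.normalizer_le_normalizer_thompsonSubgroupOf 2 T)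

theorem pCoreOf_le_CC (h : LT T) (hK : Cfsg.IsJComponent T K) : Cfsg.pCoreOf 2 K ≤ CC X := by
  haveI : Fact (Nat.Prime 2) := ⟨Nat.prime_two⟩
  intro r hr
  have hrK : r ∈ K := Cfsg.Agent.Lib.H14.pCoreOf_le 2 K hr
  obtain ⟨m, hm⟩ := Cfsg.Agent.Lib.H14.pCoreOf_isPGroup 2 K ⟨r, hr⟩
  have hm' : r ^ (2 ^ m) = 1 := by
    have := congrArg Subtype.val hm
    simpa using this
  have h1 := h.toGam_mem_Qh hK hrK
  have h2 : (toGam (VV X) r) ^ (2 ^ m) = 1 := by rw [← map_pow, hm', map_one]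
  exact toGam_eq_one_iff.mp (FFSX.eq_one_of_pow h.ffs h1 h2)

/-- `[C, T] ≤ O₂(X)` in subgroup form. -/
theorem commutator_CC_T_le (h : LT T) : ⁅CC X, T⁆ ≤ QQ X := by
  rw [Subgroup.commutator_le]
  intro c hc t ht
  rw [commutatorElement_def]
  exact h.comm_mem hc ht

theorem exists_KLoc (h : LT T) (hK : Cfsg.IsJComponent T K) : ∃ x A₁, KLoc T K x A₁ := by
  haveI : Fact (Nat.Prime 2) := ⟨Nat.prime_two⟩
  obtain ⟨S, hD⟩ := exists_JCD h.hT hK
  obtain ⟨x, hxK, hxR, hx3, hKeq⟩ := hD.exists_x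
  set J := Cfsg.thompsonSubgroupOf 2 T with hJ
  set R := Cfsg.pCoreOf 2 K with hR
  have hRC : R ≤ CC X := h.pCoreOf_le_CC hK
  have hCN : CC X ≤ Subgroup.normalizer (K : Set X) := h.CC_le_normalizer_of_isJComponent hK
  have hQN : QQ X ≤ Subgroup.normalizer (K : Set X) := QQ_le_CC.trans hCN
  -- `K ∩ O₂(X) ≤ R`
  have hKQ : K ⊓ QQ X ≤ R := by
    apply Cfsg.Agent.Lib.H14.le_pCoreOf 2 K _ inf_le_left
    · intro k hk
      apply mem_normalizer_of_cj_le
      rintro _ ⟨y, hy, rfl⟩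
      obtain ⟨hyK, hyQ⟩ := Subgroup.mem_inf.mp hy
      refine Subgroup.mem_inf.mpr ⟨?_, (QQ_normal (X := X)).conj_mem y hyQ k⟩
      exact Subgroup.mul_mem _ (Subgroup.mul_mem _ hk hyK) (Subgroup.inv_mem _ hk)
    · exact QQ_isPGroup.to_le inf_le_right
  -- `x ∉ C`
  have hxC : x ∉ CC X := by
    intro hxC
    have hKC : K ≤ CC X := by
      rw [hKeq]
      exact sup_le hRC (by rw [Subgroup.zpowers_le]; exact hxC)
    have hKQ' : K ≤ QQ X := by
      have h1 : ⁅K, J⁆ ≤ ⁅CC X, T⁆ := Subgroup.commutator_mono hKC (XCfg.J_le_T T)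
      rw [hK.2.1] at h1
      exact h1.trans h.commutator_CC_T_le
    exact hxR (hKQ (Subgroup.mem_inf.mpr ⟨hxK, hKQ' hxK⟩))
  -- `U₀ = [V, ⟨x⟩] = W_K`
  set U₀ := ⁅VV X, Subgroup.zpowers x⁆ with hU₀
  have hzN : Subgroup.zpowers x ≤ Subgroup.normalizer ((VV X : Subgroup X) : Set X) := by
    rw [Subgroup.normalizer_eq_top]; exact le_top
  have hU₀V : U₀ ≤ VV X := (Subgroup.le_normalizer_iff_commutator_le_left).mp hzN
  have hU₀K : U₀ ≤ K := by
    rw [hU₀, Subgroup.commutator_le]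
    intro v hv y hy
    have hyK : y ∈ K := by
      obtain ⟨n, rfl⟩ := Subgroup.mem_zpowers_iff.mp hy
      exact Subgroup.zpow_mem _ hxK n
    have h1 : v * y * v⁻¹ ∈ K :=
      (Subgroup.mem_normalizer_iff.mp (hQN (VV_le_QQ hv)) y).mp hyK
    rw [commutatorElement_def]
    exact Subgroup.mul_mem _ h1 (Subgroup.inv_mem _ hyK)
  have hU₀R : U₀ ≤ R := fun u hu =>
    hKQ (Subgroup.mem_inf.mpr ⟨hU₀K hu, VV_le_QQ (hU₀V hu)⟩)
  have hU₀Z : U₀ ≤ Cfsg.omegaCenterOf R := by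
    intro u hu
    rw [mem_omegaCenterOf_iff]
    refine ⟨hU₀R hu, ?_, by rw [pow_two]; exact VV_sq (hU₀V hu)⟩
    rw [Subgroup.mem_centralizer_iff]
    intro r hr
    have := hRC hr
    unfold CC at this
    exact (Subgroup.mem_centralizer_iff.mp this u (hU₀V hu)).symm
  have hV2 : IsPGroup 2 ↥(VV X) := QQ_isPGroup.to_le VV_le_QQ
  have hcop : (Nat.card (Subgroup.zpowers x)).Coprime (Nat.card (VV X)) := by
    obtain ⟨n, hn⟩ := IsPGroup.iff_card.mp hV2
    rw [hn, Nat.card_zpowers]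
    have hd : orderOf x ∣ 3 := orderOf_dvd_of_pow_eq_one hx3
    exact Nat.Coprime.coprime_dvd_left hd (Nat.Coprime.pow_right n (by norm_num))
  have hca : Cfsg.Agent.Lib.H1.CoprimeAction (Subgroup.zpowers x) (VV X) :=
    ⟨hzN, hcop, Or.inl inferInstance⟩
  have hU₀W : U₀ ≤ Cfsg.wOf K := by
    have h1 : ⁅U₀, Subgroup.zpowers x⁆ = U₀ :=
      Cfsg.Agent.Lib.H1.coprime_commutator_commutator hca
    rw [← h1]
    exact Subgroup.commutator_mono hU₀Z (by rw [Subgroup.zpowers_le]; exact hxK)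
  have hU₀1 : U₀ ≠ ⊥ := by
    intro h0
    apply hxC
    unfold CC
    rw [hU₀, Subgroup.commutator_eq_bot_iff_le_centralizer] at h0
    exact Subgroup.le_centralizer_iff.mp h0 (Subgroup.mem_zpowers x)
  have hU₀inv : ∀ u ∈ U₀, x * u * x⁻¹ ∈ U₀ := by
    intro u hu
    have h1 : x ∈ Subgroup.normalizer (U₀ : Set X) :=
      Subgroup.normalizer_commutator_ge_right (VV X) (Subgroup.zpowers x) (Subgroup.mem_zpowers x)
    exact (Subgroup.mem_normalizer_iff.mp h1 u).mp hu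
  have hW4 : Nat.card (Cfsg.wOf K) = 4 := hK.2.2.2.2.1
  have hU₀eq : U₀ = Cfsg.wOf K := by
    apply eq_of_le_of_card_le' hU₀W
    rw [hW4]
    have hd : Nat.card U₀ ∣ 4 := by
      rw [← hW4]; exact Subgroup.card_dvd_of_le hU₀W
    have hle : Nat.card U₀ ≤ 4 := Nat.le_of_dvd (by norm_num) hd
    have hpos : 0 < Nat.card U₀ := Nat.card_pos
    interval_cases hn : Nat.card U₀
    · exfalso; exact hU₀1 (Subgroup.card_eq_one.mp hn)
    · exfalso
      obtain ⟨w, hw1⟩ : ∃ w : U₀, w ≠ 1 := by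
        haveI : Nontrivial U₀ := by
          rw [← Finite.one_lt_card_iff_nontrivial, hn]; norm_num
        exact exists_ne 1
      have hw : (w : X) ∈ U₀ := w.2
      have hw1' : (w : X) ≠ 1 := fun h1 => hw1 (Subtype.ext h1)
      have hne1 : x * (w : X) * x⁻¹ ≠ 1 := by
        intro h1
        apply hw1'
        have : (w : X) = x⁻¹ * (x * (w : X) * x⁻¹) * x := by group
        rw [this, h1]; simp
      have hfix : x * (w : X) * x⁻¹ = w := eq_of_card_two hn (hU₀inv _ hw) hw hne1 hw1'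
      exact hw1' (hD.fixed_eq_one hxK hx3 hKeq (hU₀W hw) hfix)
    · exfalso; revert hd; decide
    · exact le_rfl
  -- the configuration in `Γ`
  have hxJX : x ∈ JX X := h.le_JX_of_isJComponent hK hxK
  have hXi : FFSX.Xi (Vh (VV X)) (HH X) (Qh X) (toGam (VV X) x) := by
    refine ⟨h.ffs, h.hS3, mem_HH.mpr ⟨x, hxJX, rfl⟩, by rw [← map_pow, hx3, map_one], ?_⟩
    rw [← up_comm_zpowers, card_up hU₀V, hU₀eq, hW4]
  obtain ⟨A₁, m, hξD, hUW⟩ := hXi.exists_MO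
  have hxK₁ : x ∈ KK₁ A₁ := by
    unfold KK₁; rw [Subgroup.mem_comap]; exact hξD
  have hsup : K ⊔ CC X = KK₁ A₁ := by
    apply le_antisymm
    · refine sup_le ?_ (CC_le_KK₁ A₁)
      rw [hKeq]
      exact sup_le (hRC.trans (CC_le_KK₁ A₁)) (by rw [Subgroup.zpowers_le]; exact hxK₁)
    · intro z hz
      have hxs : x ∈ K ⊔ CC X := (le_sup_left : K ≤ _) hxK
      rcases trichotomy CC_normal (h.pullback m).2.2 hxK₁ hxC hz with h1 | h1 | h1
      · exact (le_sup_right : CC X ≤ _) h1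
      · have e : z = (z * x⁻¹) * x := by group
        rw [e]
        exact Subgroup.mul_mem _ ((le_sup_right : CC X ≤ _) h1) hxs
      · have e : z = (z * x) * x⁻¹ := by group
        rw [e]
        exact Subgroup.mul_mem _ ((le_sup_right : CC X ≤ _) h1) (Subgroup.inv_mem _ hxs)
  refine ⟨x, A₁, ⟨h, hK, m, hxK, hx3, hxC, hKeq, hRC, hCN, hsup, hξD, hU₀eq.symm, ?_⟩⟩
  rw [← hU₀eq, up_comm_zpowers]
  exact hUW

end LT

end Cfsg.Agent.Lib.H15.JC
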