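import Mathlib
import Cfsg.Agent.Lib.H15.JCFF6
import Cfsg.Agent.Lib.H15.JCG

/-!
helper15: `J(T)`-components of `X` are subnormal (local set-up `LT T`).
-/

set_option autoImplicit false

namespace Cfsg.Agent.Lib.H15.JC

open scoped commutatorElement
open Cfsg.Agent.Lib.H15
open Cfsg.Agent.Lib.H5 (IsSylowIn)
open Cfsg.Agent.Lib.H26 (maxEA JJ)
open Cfsg.Agent.Lib.H3 (FFS MO)
open Cfsg.Agent.Lib.H3.QT (Gam Vh hat toGam)

variable {X : Type*} [Group X] [Finite X]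

namespace LT

variable {T K : Subgroup X} {A₁ : Subgroup (Gam (VV X))}

theorem EE₁_props (h : LT T) (m : MO 2 (Vh (VV X)) (HH X) A₁) :
    EE₁ A₁ ≤ JX X ⊔ CC X ∧ JX X ⊔ CC X ≤ Subgroup.normalizer (EE₁ A₁ : Set X) := by
  haveI : Fact (Nat.Prime 2) := ⟨Nat.prime_two⟩
  obtain ⟨-, h2, h3, -⟩ := Cfsg.Agent.Lib.H3.QT.pullback_props (VV X) (JX X) (DD A₁ ⊔ A₁)
    (h.ffs.E_le m.le) (h.ffs.H_le_normalizer_E h.hS3 m)
  exact ⟨h2, h3⟩

theorem KK₁_le_EE₁ (A₁ : Subgroup (Gam (VV X))) : KK₁ A₁ ≤ EE₁ A₁ :=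
  Subgroup.comap_mono le_sup_left

theorem EE₁_le_normalizer_KK₁ (h : LT T) (m : MO 2 (Vh (VV X)) (HH X) A₁) :
    EE₁ A₁ ≤ Subgroup.normalizer (KK₁ A₁ : Set X) := by
  haveI : Fact (Nat.Prime 2) := ⟨Nat.prime_two⟩
  have h1 : EE₁ A₁ ≤ (Subgroup.normalizer ((DD A₁ : Subgroup (Gam (VV X))) :
      Set (Gam (VV X)))).comap (toGam (VV X)) := by
    intro g hg
    rw [Subgroup.mem_comap]
    exact h.HH_le_normalizer_DD m (h.ffs.E_le m.le hg)
  exact h1.trans (Subgroup.le_normalizer_comap _)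

/-- `J(T)`-components are subnormal. -/
theorem isSubnormal_of_isJComponent (h : LT T) (hK : Cfsg.IsJComponent T K) : K.IsSubnormal := by
  obtain ⟨x, A₁, c⟩ := h.exists_KLoc hK
  have hN₁ : (JX X ⊔ CC X).Normal := Subgroup.sup_normal _ _
  have s1 : (JX X ⊔ CC X).IsSubnormal := hN₁.isSubnormal
  obtain ⟨hE1, hE2⟩ := h.EE₁_props c.mo
  have s2 : (EE₁ A₁).IsSubnormal :=
    Subgroup.IsSubnormal.step _ _ hE1 s1
      ((Subgroup.normal_subgroupOf_iff_le_normalizer hE1).mpr hE2)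
  have s3 : (KK₁ A₁).IsSubnormal :=
    Subgroup.IsSubnormal.step _ _ (KK₁_le_EE₁ A₁) s2
      ((Subgroup.normal_subgroupOf_iff_le_normalizer (KK₁_le_EE₁ A₁)).mpr
        (h.EE₁_le_normalizer_KK₁ c.mo))
  have hle : K ≤ KK₁ A₁ := by rw [← c.hsup]; exact le_sup_left
  refine Subgroup.IsSubnormal.step _ _ hle s3 ?_
  rw [Subgroup.normal_subgroupOf_iff_le_normalizer hle, ← c.hsup]
  exact sup_le Subgroup.le_normalizer c.hCN

end LT

/-- transfer of a `J(T)`-component `K ≤ L` to the subtype `↥L`. -/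
theorem isJComponent_subgroupOf {G : Type*} [Group G] {T K L : Subgroup G} (hTL : T ≤ L)
    (hKL : K ≤ L) (hK : Cfsg.IsJComponent T K) :
    Cfsg.IsJComponent (T.subgroupOf L) (K.subgroupOf L) := by
  rw [← isJComponent_map_iff L.subtype L.subtype_injective, map_subgroupOf_subtype hTL,
    map_subgroupOf_subtype hKL]
  exact hK

end Cfsg.Agent.Lib.H15.JC
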