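import Mathlib
import Cfsg.Agent.Lib.H15.JCSub

/-!
helper15: uniqueness of the `J(T)`-component above a given `K₁`, and `T ≤ N(K)` when
`Z(T) ∩ W_K ≠ 1` (local set-up `LT T`).
-/

set_option autoImplicit false

namespace Cfsg.Agent.Lib.H15.JC

open scoped commutatorElement
open Cfsg.Agent.Lib.H15
open Cfsg.Agent.Lib.H5 (IsSylowIn)
open Cfsg.Agent.Lib.H26 (maxEA JJ)
open Cfsg.Agent.Lib.H3 (FFS MO)
open Cfsg.Agent.Lib.H3.QT (Gam Vh hat toGam)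

variable {X : Type*} [Group X] [Finite X]

namespace XCfg

variable {T K₁ A K : Subgroup X} {x₀ a : X}

/-- core computation: a generator `y` of `K` modulo `R` with `y ≡ x₀` modulo `C` lies in
`O₂(X) x₀`. -/
theorem mem_QQ_of_generator (c₀ : XCfg T K₁ A x₀ a) {y r : X} (hy : y * x₀⁻¹ ∈ CC X)
    (hr : r ∈ QQ X) (hay : a * y * a⁻¹ = r * y⁻¹) : y * x₀⁻¹ ∈ QQ X := by
  set c := y * x₀⁻¹ with hc
  have hyc : y = c * x₀ := by rw [hc]; group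
  set π := QuotientGroup.mk' (QQ X) with hπ
  have hcomm : π a * π c = π c * π a := by
    have h1 := c₀.lt.comm_mem hy c₀.haT
    have h2 : π (c * a * c⁻¹ * a⁻¹) = 1 := (QuotientGroup.eq_one_iff _).mpr h1
    rw [map_mul, map_mul, map_mul, map_inv, map_inv] at h2
    have : π c * π a = (π c * π a * (π c)⁻¹ * (π a)⁻¹) * (π a * π c) := by group
    rw [this, h2, one_mul]
  have hr1 : π r = 1 := (QuotientGroup.eq_one_iff _).mpr hr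
  -- `π(x₀) π(c) π(x₀)⁻¹ = π(c)⁻¹`
  have h1 : π a * π y * (π a)⁻¹ = (π y)⁻¹ := by
    rw [← map_inv, ← map_mul, ← map_mul, hay, map_mul, hr1, one_mul, map_inv]
  have h2 : π a * π x₀ * (π a)⁻¹ = (π x₀)⁻¹ := by
    rw [← map_inv, ← map_mul, ← map_mul, c₀.hax, map_inv]
  have h3 : π x₀ * π c * (π x₀)⁻¹ = (π c)⁻¹ := by
    rw [hyc, map_mul] at h1
    have e1 : π a * (π c * π x₀) * (π a)⁻¹ = (π a * π c) * (π a)⁻¹ * (π a * π x₀ * (π a)⁻¹) := by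
      group
    rw [e1, hcomm, h2] at h1
    have e2 : π c * π a * (π a)⁻¹ * (π x₀)⁻¹ = π c * (π x₀)⁻¹ := by group
    rw [e2, mul_inv_rev] at h1
    -- `γ ξ⁻¹ = ξ⁻¹ γ⁻¹`
    calc π x₀ * π c * (π x₀)⁻¹ = π x₀ * (π c * (π x₀)⁻¹) := by group
      _ = π x₀ * ((π x₀)⁻¹ * (π c)⁻¹) := by rw [h1]
      _ = (π c)⁻¹ := by group
  have hx3 : (π x₀) ^ 3 = 1 := by rw [← map_pow, c₀.hx3, map_one]
  have h4 : (π c)⁻¹ = π c := by
    have e : (π x₀) ^ 3 * π c * ((π x₀) ^ 3)⁻¹ =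
        π x₀ * (π x₀ * (π x₀ * π c * (π x₀)⁻¹) * (π x₀)⁻¹) * (π x₀)⁻¹ := by
      rw [pow_succ, pow_two]; group
    rw [hx3, h3] at e
    have e2 : π x₀ * (π c)⁻¹ * (π x₀)⁻¹ = π c := by
      have : π x₀ * (π c)⁻¹ * (π x₀)⁻¹ = (π x₀ * π c * (π x₀)⁻¹)⁻¹ := by group
      rw [this, h3, inv_inv]
    rw [e2, h3] at e
    simpa using e.symm
  have h5 : π (c * c) = 1 := by
    rw [map_mul]
    nth_rewrite 1 [← h4]
    group
  have h6 : c * c ∈ QQ X := (QuotientGroup.eq_one_iff _).mp h5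
  obtain ⟨m, hm⟩ := QQ_isPGroup (X := X) ⟨c * c, h6⟩
  have hm' : (c * c) ^ (2 ^ m) = 1 := by
    have := congrArg Subtype.val hm
    simpa using this
  have hm'' : c ^ (2 ^ (m + 1)) = 1 := by
    rw [pow_succ, mul_comm, pow_mul, pow_two]; exact hm'
  exact c₀.lt.mem_QQ_of_two_elt hy hm''

end XCfg

namespace LT

variable {T K : Subgroup X}

/-- `K ∩ C = O₂(K)` for a `J(T)`-component `K`. -/
theorem inf_CC_le_pCoreOf {x : X} {A₁ : Subgroup (Gam (VV X))} (c : KLoc T K x A₁) :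
    K ⊓ CC X ≤ Cfsg.pCoreOf 2 K := by
  set R := Cfsg.pCoreOf 2 K with hR
  have hRK : R ≤ K := Cfsg.Agent.Lib.H14.pCoreOf_le 2 K
  have hle : R ≤ K ⊓ CC X := le_inf hRK c.hRC
  have hmul := Subgroup.relIndex_mul_relIndex R (K ⊓ CC X) K hle inf_le_left
  rw [c.comp.2.2.1] at hmul
  have hne : (K ⊓ CC X).relIndex K ≠ 1 := by
    intro h1
    rw [Subgroup.relIndex_eq_one] at h1
    exact c.hxC (h1 c.hxK).2
  have hd : (K ⊓ CC X).relIndex K ∣ 3 := Dvd.intro_left _ hmul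
  have h3 : (K ⊓ CC X).relIndex K = 3 := by
    rcases (Nat.dvd_prime Nat.prime_three).mp hd with h | h
    · exact absurd h hne
    · exact h
  rw [h3] at hmul
  rw [← Subgroup.relIndex_eq_one]
  omega

theorem pCoreOf_le_QQ {x : X} {A₁ : Subgroup (Gam (VV X))} (c : KLoc T K x A₁) :
    Cfsg.pCoreOf 2 K ≤ QQ X := by
  intro r hr
  obtain ⟨m, hm⟩ := Cfsg.Agent.Lib.H14.pCoreOf_isPGroup 2 K ⟨r, hr⟩
  have hm' : r ^ (2 ^ m) = 1 := by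
    have := congrArg Subtype.val hm
    simpa using this
  exact c.lt.mem_QQ_of_two_elt (c.hRC hr) hm'

/-- Uniqueness: a `J(T)`-component `K` with `K C = K₁` equals the constructed one. -/
theorem eq_KK_of_sup_eq {K₁ A : Subgroup X} {x₀ a : X} (c₀ : XCfg T K₁ A x₀ a)
    (hK : Cfsg.IsJComponent T K) (hsup : K ⊔ CC X = K₁) : K = KK x₀ := by
  have h := c₀.lt
  obtain ⟨x, A₁, c⟩ := h.exists_KLoc hK
  set R := Cfsg.pCoreOf 2 K with hR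
  have hRQ : R ≤ QQ X := pCoreOf_le_QQ c
  have hQN : QQ X ≤ Subgroup.normalizer (K : Set X) := QQ_le_CC.trans c.hCN
  have hKK₁ : K ≤ K₁ := by rw [← hsup]; exact le_sup_left
  have haJ : a ∈ Cfsg.thompsonSubgroupOf 2 T := c₀.a_mem_J
  have haK : a ∈ Subgroup.normalizer (K : Set X) :=
    le_normalizer_of_commutator_eq c.comp.2.1 haJ
  have hCn : (CC X).Normal := CC_normal
  -- a generator `y ∈ {x, x⁻¹}` with `y ≡ x₀` modulo `C`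
  obtain ⟨y, hyK, hyC, hy3, hyx₀, hyx⟩ : ∃ y ∈ K, y ∉ CC X ∧ y ^ 3 = 1 ∧ y * x₀⁻¹ ∈ CC X ∧
      (y = x ∨ y = x⁻¹) := by
    rcases trichotomy hCn c₀.hidx c₀.hx c₀.hxC (hKK₁ c.hxK) with h1 | h1 | h1
    · exact absurd h1 c.hxC
    · exact ⟨x, c.hxK, c.hxC, c.hx3, h1, Or.inl rfl⟩
    · refine ⟨x⁻¹, Subgroup.inv_mem _ c.hxK, fun hh => c.hxC (by simpa using Subgroup.inv_mem _ hh),
        by rw [inv_pow, c.hx3, inv_one], ?_, Or.inr rfl⟩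
      have h2 : x₀ * (x * x₀) * x₀⁻¹ ∈ CC X := hCn.conj_mem _ h1 x₀
      have e : x⁻¹ * x₀⁻¹ = (x₀ * (x * x₀) * x₀⁻¹)⁻¹ := by group
      rw [e]; exact Subgroup.inv_mem _ h2
  -- `a y a⁻¹ = r y⁻¹` with `r ∈ R`
  have hayK : a * y * a⁻¹ ∈ K := (Subgroup.mem_normalizer_iff.mp haK y).mp hyK
  have hr : a * y * a⁻¹ * y ∈ K ⊓ CC X := by
    refine Subgroup.mem_inf.mpr ⟨Subgroup.mul_mem _ hayK hyK, ?_⟩
    -- modulo `C`: `a y a⁻¹ ≡ a x₀ a⁻¹ = x₀⁻¹ ≡ y⁻¹`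
    have h1 : a * (y * x₀⁻¹) * a⁻¹ ∈ CC X := hCn.conj_mem _ hyx₀ a
    have h2 : x₀⁻¹ * (y * x₀⁻¹) * x₀⁻¹⁻¹ ∈ CC X := hCn.conj_mem _ hyx₀ x₀⁻¹
    have e : a * y * a⁻¹ * y = (a * (y * x₀⁻¹) * a⁻¹) * ((a * x₀ * a⁻¹) * x₀) *
        (x₀⁻¹ * (y * x₀⁻¹) * x₀⁻¹⁻¹) := by group
    rw [e, c₀.hax, inv_mul_cancel, mul_one]
    exact Subgroup.mul_mem _ h1 h2
  have hrQ : a * y * a⁻¹ * y ∈ QQ X := hRQ (inf_CC_le_pCoreOf c hr)
  have hay : a * y * a⁻¹ = (a * y * a⁻¹ * y) * y⁻¹ := by group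
  have hcQ : y * x₀⁻¹ ∈ QQ X := c₀.mem_QQ_of_generator hyx₀ hrQ hay
  -- `y ∈ Q x₀`, `x₀ ∈ Q y`
  have hyY : y ∈ YY x₀ := by
    have e : y = (y * x₀⁻¹) * x₀ := by group
    rw [e]
    exact Subgroup.mul_mem _ (QQ_le_YY x₀ hcQ) (x_mem_YY x₀)
  have hxY : x ∈ YY x₀ := by
    rcases hyx with h1 | h1
    · rw [← h1]; exact hyY
    · have : x = y⁻¹ := by rw [h1, inv_inv]
      rw [this]; exact Subgroup.inv_mem _ hyY
  have hKY : K ≤ YY x₀ := by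
    rw [c.hK]
    exact sup_le (hRQ.trans (QQ_le_YY x₀)) (by rw [Subgroup.zpowers_le]; exact hxY)
  apply le_antisymm
  · conv_lhs => rw [← hK.1]
    unfold KK
    apply Subgroup.closure_mono
    intro g hg
    exact ⟨hKY hg.1, hg.2⟩
  · unfold KK
    rw [Subgroup.closure_le]
    intro g hg
    have hx₀ : x₀ ∈ K ⊔ QQ X := by
      have e : x₀ = (y * x₀⁻¹)⁻¹ * y := by group
      rw [e, sup_comm]
      exact Subgroup.mul_mem_sup (Subgroup.inv_mem _ hcQ) hyK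
    have hYle : YY x₀ ≤ K ⊔ QQ X :=
      sup_le le_sup_right (by rw [Subgroup.zpowers_le]; exact hx₀)
    exact mem_of_odd_of_mem_sup QQ_isPGroup hQN (hYle hg.1) hg.2

end LT

end Cfsg.Agent.Lib.H15.JC
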