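import Mathlib
import Cfsg.Agent.Lib.H15.JCU

/-!
helper15: two `J(T)`-components whose `W`'s meet nontrivially are equal; `T ≤ N(K)` when
`Z(T) ∩ W_K ≠ 1` (local set-up `LT T`).
-/

set_option autoImplicit false

namespace Cfsg.Agent.Lib.H15.JC

open scoped commutatorElement
open Cfsg.Agent.Lib.H15
open Cfsg.Agent.Lib.H5 (IsSylowIn)
open Cfsg.Agent.Lib.H26 (maxEA JJ)
open Cfsg.Agent.Lib.H3 (FFS MO)
open Cfsg.Agent.Lib.H3.QT (Gam Vh hat toGam)

variable {X : Type*} [Group X] [Finite X]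

namespace LT

variable {T K K' : Subgroup X}

/-- Uniqueness of the `J(T)`-component above `K₁(A₁)`. -/
theorem eq_of_sup_eq {A₁ : Subgroup (Gam (VV X))} (h : LT T) (m : MO 2 (Vh (VV X)) (HH X) A₁)
    (hK : Cfsg.IsJComponent T K) (hK' : Cfsg.IsJComponent T K')
    (hs : K ⊔ CC X = KK₁ A₁) (hs' : K' ⊔ CC X = KK₁ A₁) : K = K' := by
  obtain ⟨A, hA, a, ha, k, hk, hak⟩ := h.exists_act m
  obtain ⟨x₀, c₀⟩ := exists_XCfg h (CC_le_KK₁ A₁) (h.pullback m).2.2 (h.J_le_normalizer_KK₁ m)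
    hA ha hk hak
  rw [eq_KK_of_sup_eq c₀ hK hs, eq_KK_of_sup_eq c₀ hK' hs']

theorem DD_le_of_E_eq {A₁ A₁' : Subgroup (Gam (VV X))} (h : LT T)
    (m : MO 2 (Vh (VV X)) (HH X) A₁) (m' : MO 2 (Vh (VV X)) (HH X) A₁')
    (hE : DD A₁ ⊔ A₁ = DD A₁' ⊔ A₁') : DD A₁ ≤ DD A₁' := by
  haveI : Fact (Nat.Prime 2) := ⟨Nat.prime_two⟩
  intro d hd
  have h1 : d ∈ ⁅Qh X, A₁'⁆ ⊔ A₁' := by
    have : d ∈ DD A₁ ⊔ A₁ := (le_sup_left : DD A₁ ≤ _) hd
    rw [hE] at this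
    exact this
  exact h.ffs.mem_comm_of_pow m' h1 (by decide : Nat.Coprime 3 2) (h.pow_three_DD m hd)

theorem KK₁_eq_of_wOf_inf {x x' : X} {A₁ A₁' : Subgroup (Gam (VV X))}
    (c : KLoc T K x A₁) (c' : KLoc T K' x' A₁') (hne : Cfsg.wOf K ⊓ Cfsg.wOf K' ≠ ⊥) :
    KK₁ A₁ = KK₁ A₁' := by
  haveI : Fact (Nat.Prime 2) := ⟨Nat.prime_two⟩
  have h := c.lt
  have hWV : Cfsg.wOf K ≤ VV X := by
    rw [c.hW]
    exact Subgroup.commutator_le_left _ _
  have h1 : up (Cfsg.wOf K ⊓ Cfsg.wOf K') ≠ ⊥ := by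
    intro hh
    exact hne ((up_eq_bot_iff (inf_le_left.trans hWV)).mp hh)
  rw [up_inf, c.hWup, c'.hWup] at h1
  have hE : DD A₁ ⊔ A₁ = DD A₁' ⊔ A₁' := h.ffs.E_eq_of_W_inf_ne_bot c.mo c'.mo h1
  have hD : DD A₁ = DD A₁' :=
    le_antisymm (h.DD_le_of_E_eq c.mo c'.mo hE) (h.DD_le_of_E_eq c'.mo c.mo hE.symm)
  unfold KK₁
  rw [hD]

/-- Two `J(T)`-components whose `W`'s meet nontrivially are equal. -/
theorem eq_of_wOf_inf_ne_bot (h : LT T) (hK : Cfsg.IsJComponent T K)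
    (hK' : Cfsg.IsJComponent T K') (hne : Cfsg.wOf K ⊓ Cfsg.wOf K' ≠ ⊥) : K = K' := by
  obtain ⟨x, A₁, c⟩ := h.exists_KLoc hK
  obtain ⟨x', A₁', c'⟩ := h.exists_KLoc hK'
  have h1 := KK₁_eq_of_wOf_inf c c' hne
  exact h.eq_of_sup_eq c.mo hK hK' c.hsup (by rw [h1]; exact c'.hsup)

/-- `T` normalizes `K` when `Z(T)` meets `W_K`. -/
theorem le_normalizer_of_center (h : LT T) (hK : Cfsg.IsJComponent T K)
    (hZW : T ⊓ Subgroup.centralizer (T : Set X) ⊓ Cfsg.wOf K ≠ ⊥) :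
    T ≤ Subgroup.normalizer (K : Set X) := by
  intro t ht
  set f : X →* X := (MulAut.conj t).toMonoidHom with hf
  have hfi : Function.Injective f := (MulAut.conj t).injective
  have hTf : T.map f = T := by
    apply le_antisymm
    · rintro _ ⟨s, hs, rfl⟩
      simp only [hf, MulEquiv.coe_toMonoidHom, MulAut.conj_apply]
      exact Subgroup.mul_mem _ (Subgroup.mul_mem _ ht hs) (Subgroup.inv_mem _ ht)
    · intro s hs
      refine ⟨t⁻¹ * s * t, Subgroup.mul_mem _ (Subgroup.mul_mem _ (Subgroup.inv_mem _ ht) hs) ht, ?_⟩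
      simp only [hf, MulEquiv.coe_toMonoidHom, MulAut.conj_apply]
      group
  have hK' : Cfsg.IsJComponent T (K.map f) := by
    have := (isJComponent_map_iff f hfi T K).mpr hK
    rwa [hTf] at this
  obtain ⟨⟨z, hz⟩, hz1'⟩ := (Subgroup.ne_bot_iff_exists_ne_one).1 hZW
  have hz1 : z ≠ 1 := fun h1 => hz1' (Subtype.ext h1)
  have hzc : t * z * t⁻¹ = z := by
    have := Subgroup.mem_centralizer_iff.mp hz.1.2 t ht
    rw [this]; group
  have hne : Cfsg.wOf K ⊓ Cfsg.wOf (K.map f) ≠ ⊥ := by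
    intro hh
    have : z ∈ Cfsg.wOf K ⊓ Cfsg.wOf (K.map f) := by
      refine ⟨hz.2, ?_⟩
      rw [wOf_map f hfi]
      exact ⟨z, hz.2, by simp only [hf, MulEquiv.coe_toMonoidHom, MulAut.conj_apply]; exact hzc⟩
    rw [hh, Subgroup.mem_bot] at this
    exact hz1 this
  have hKK : K = K.map f := h.eq_of_wOf_inf_ne_bot hK hK' hne
  rw [Subgroup.mem_normalizer_iff]
  intro k
  constructor
  · intro hk
    rw [hKK]
    exact ⟨k, hk, by simp [hf]⟩
  · intro hk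
    rw [hKK] at hk
    obtain ⟨k', hk', hkk⟩ := hk
    simp only [hf, MulEquiv.coe_toMonoidHom, MulAut.conj_apply] at hkk
    have : k = k' := by
      have h2 : t * k' = t * k := by
        have := congrArg (fun g => g * t) hkk
        simpa [mul_assoc] using this
      exact (mul_left_cancel h2).symm
    rw [this]; exact hk'

end LT

end Cfsg.Agent.Lib.H15.JC
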