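import Mathlib
import Cfsg.Agent.Lib.H15.JCU2
import Cfsg.Agent.Lib.H15.JCStar

/-!
helper15: `J(T)`-components `K` with `W_K` normal in `X`, part 1: conjugates of the local set-up,
`K^n C = K C`, `T ≤ N(K)`.
-/

set_option autoImplicit false

namespace Cfsg.Agent.Lib.H15.JC

open scoped commutatorElement
open Cfsg.Agent.Lib.H15
open Cfsg.Agent.Lib.H5 (IsSylowIn)
open Cfsg.Agent.Lib.H26 (maxEA JJ)
open Cfsg.Agent.Lib.H3 (FFS MO)
open Cfsg.Agent.Lib.H3.QT (Gam Vh hat toGam)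

variable {X : Type*} [Group X] [Finite X]

theorem cj_normal (n : X) (N : Subgroup X) [hN : N.Normal] : cj n N = N := by
  apply mem_normalizer_iff_cj_eq.mp
  rw [Subgroup.normalizer_eq_top]
  exact Subgroup.mem_top n

/-- `IsJComponent T K` only depends on `J(T)`. -/
theorem isJComponent_congr {T T' K : Subgroup X}
    (hJ : Cfsg.thompsonSubgroupOf 2 T = Cfsg.thompsonSubgroupOf 2 T') :
    Cfsg.IsJComponent T K ↔ Cfsg.IsJComponent T' K := by
  unfold Cfsg.IsJComponent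
  rw [hJ]

theorem isJComponent_cj {T K : Subgroup X} (n : X) (hK : Cfsg.IsJComponent T K) :
    Cfsg.IsJComponent (cj n T) (cj n K) :=
  (isJComponent_map_iff (MulAut.conj n).toMonoidHom (MulAut.conj n).injective T K).mpr hK

theorem wOf_cj (n : X) (K : Subgroup X) : Cfsg.wOf (cj n K) = cj n (Cfsg.wOf K) :=
  wOf_map (MulAut.conj n).toMonoidHom (MulAut.conj n).injective K

namespace LT

variable {T T' K K' : Subgroup X}

/-- The local set-up is invariant under conjugation. -/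
theorem cj (h : LT T) (n : X) : LT (cj n T) where
  hT := h.hT.map _
  hmax := by
    intro S hS hTS
    have h1 : T ≤ Cfsg.Agent.Lib.H15.cj n⁻¹ S := (cj_le_iff n).mp hTS
    have h2 := h.hmax _ (hS.map _) h1
    rw [← h2, cj_cj_inv]
  solv := h.solv
  char2 := h.char2
  hJ := by
    intro hle
    apply h.hJ
    rw [thompsonSubgroupOf_cj, cj_le_iff, cj_normal] at hle
    exact hle
  hCT := by
    rw [normalizer_cj]
    have := cj_mono n h.hCT
    rwa [cj_normal] at this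

theorem KK₁_eq_of_wOf_inf' {x x' : X} {A₁ A₁' : Subgroup (Gam (VV X))}
    (c : KLoc T K x A₁) (c' : KLoc T' K' x' A₁') (hne : Cfsg.wOf K ⊓ Cfsg.wOf K' ≠ ⊥) :
    KK₁ A₁ = KK₁ A₁' := by
  haveI : Fact (Nat.Prime 2) := ⟨Nat.prime_two⟩
  have h := c.lt
  have hWV : Cfsg.wOf K ≤ VV X := by
    rw [c.hW]
    exact Subgroup.commutator_le_left _ _
  have h1 : up (Cfsg.wOf K ⊓ Cfsg.wOf K') ≠ ⊥ := by
    intro hh
    exact hne ((up_eq_bot_iff (inf_le_left.trans hWV)).mp hh)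
  rw [up_inf, c.hWup, c'.hWup] at h1
  have hE : DD A₁ ⊔ A₁ = DD A₁' ⊔ A₁' := h.ffs.E_eq_of_W_inf_ne_bot c.mo c'.mo h1
  have hD : DD A₁ = DD A₁' :=
    le_antisymm (h.DD_le_of_E_eq c.mo c'.mo hE) (h.DD_le_of_E_eq c'.mo c.mo hE.symm)
  unfold KK₁
  rw [hD]

theorem wOf_ne_bot (hK : Cfsg.IsJComponent T K) : Cfsg.wOf K ≠ ⊥ := by
  intro h0
  have := hK.2.2.2.2.1
  rw [h0, Subgroup.card_bot] at this
  omega

/-- If `n` normalizes `W_K` then `K^n C = K C`. -/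
theorem sup_CC_eq_of_cj {x : X} {A₁ : Subgroup (Gam (VV X))} (c : KLoc T K x A₁) {n : X}
    (hn : Cfsg.Agent.Lib.H15.cj n (Cfsg.wOf K) = Cfsg.wOf K) :
    Cfsg.Agent.Lib.H15.cj n K ⊔ CC X = KK₁ A₁ := by
  have hK' := isJComponent_cj n c.comp
  obtain ⟨x', A₁', c'⟩ := (c.lt.cj n).exists_KLoc hK'
  have hne : Cfsg.wOf K ⊓ Cfsg.wOf (Cfsg.Agent.Lib.H15.cj n K) ≠ ⊥ := by
    rw [wOf_cj, hn, inf_idem]
    exact wOf_ne_bot c.comp
  rw [KK₁_eq_of_wOf_inf' c c' hne]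
  exact c'.hsup

/-- If `t ∈ N(J(T))` normalizes `W_K` then it normalizes `K`. -/
theorem mem_normalizer_of_normalizer_J (h : LT T) (hK : Cfsg.IsJComponent T K) {t : X}
    (ht : t ∈ Subgroup.normalizer (Cfsg.thompsonSubgroupOf 2 T : Set X))
    (hn : Cfsg.Agent.Lib.H15.cj t (Cfsg.wOf K) = Cfsg.wOf K) :
    t ∈ Subgroup.normalizer (K : Set X) := by
  have hK' : Cfsg.IsJComponent T (Cfsg.Agent.Lib.H15.cj t K) := by
    have h1 := isJComponent_cj t hK
    refine (isJComponent_congr ?_).mp h1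
    rw [thompsonSubgroupOf_cj]
    exact mem_normalizer_iff_cj_eq.mp ht
  have hne : Cfsg.wOf K ⊓ Cfsg.wOf (Cfsg.Agent.Lib.H15.cj t K) ≠ ⊥ := by
    rw [wOf_cj, hn, inf_idem]
    exact wOf_ne_bot hK
  have := h.eq_of_wOf_inf_ne_bot hK hK' hne
  exact mem_normalizer_iff_cj_eq.mpr this.symm

theorem le_normalizer_of_wOf_normal (h : LT T) (hK : Cfsg.IsJComponent T K)
    (hW : ∀ n : X, Cfsg.Agent.Lib.H15.cj n (Cfsg.wOf K) = Cfsg.wOf K) :
    T ≤ Subgroup.normalizer (K : Set X) := fun t ht =>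
  h.mem_normalizer_of_normalizer_J hK
    (le_normalizer_thompson T ht) (hW t)

end LT

end Cfsg.Agent.Lib.H15.JC
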