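import Mathlib
import Cfsg.Agent.Lib.H15.JCN1
import Cfsg.Agent.Lib.H15.SylowNormal

/-!
helper15: `J(T)`-components `K` with `W_K` normal in `X`, part 2: the preimage `Ê` of `E`.
-/

set_option autoImplicit false

namespace Cfsg.Agent.Lib.H15.JC

open scoped commutatorElement
open Cfsg.Agent.Lib.H15
open Cfsg.Agent.Lib.H5 (IsSylowIn)
open Cfsg.Agent.Lib.H26 (maxEA JJ)
open Cfsg.Agent.Lib.H3 (FFS MO)
open Cfsg.Agent.Lib.H3.QT (Gam Vh hat toGam)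

section general

variable {G : Type*} [Group G] [Finite G] {p : ℕ} [Fact p.Prime]

/-- Sylow subgroups of `H` meet `H`-invariant subgroups of `H` in Sylow subgroups. -/
theorem isSylowIn_inf_of_le_normalizer {S H N : Subgroup G} (hS : IsSylowIn p S H) (hNH : N ≤ H)
    (hn : H ≤ Subgroup.normalizer (N : Set G)) : IsSylowIn p (S ⊓ N) N := by
  refine ⟨inf_le_right, hS.2.1.to_le inf_le_left, ?_⟩
  intro Q hQ hPQ hQN
  obtain ⟨S₂, hS₂, hQS₂⟩ := Cfsg.Agent.Lib.H5.exists_isSylowIn_ge hQ (hQN.trans hNH)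
  obtain ⟨z, hz, rfl⟩ := hS.exists_conj hS₂
  have h1 : cj z⁻¹ Q ≤ S ⊓ N := by
    refine le_inf ?_ ?_
    · have := cj_mono z⁻¹ hQS₂
      rwa [cj_inv_cj] at this
    · have := cj_mono z⁻¹ hQN
      rwa [mem_normalizer_iff_cj_eq.mp (hn (Subgroup.inv_mem _ hz))] at this
  have h2 : Nat.card Q ≤ Nat.card (S ⊓ N : Subgroup G) := by
    rw [← card_cj z⁻¹ Q]; exact card_le_card_of_le' h1
  exact (eq_of_le_of_card_le' hPQ h2).symm

theorem isSylowIn_not_dvd_relIndex {S H : Subgroup G} (hS : IsSylowIn p S H) :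
    ¬ p ∣ S.relIndex H := by
  obtain ⟨S', rfl⟩ := hS.exists_sylow
  have h1 := S'.not_dvd_index
  have h2 : ((S' : Subgroup ↥H).map H.subtype).relIndex H = (S' : Subgroup ↥H).index := by
    unfold Subgroup.relIndex
    congr 1
    ext x
    rw [Subgroup.mem_subgroupOf]
    constructor
    · rintro ⟨y, hy, hyx⟩
      have : y = x := Subtype.ext hyx
      rw [← this]; exact hy
    · intro hx
      exact ⟨x, hx, rfl⟩
  rw [h2]
  exact h1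

/-- a subgroup between `A` and `B`, of prime index in `B`... -/
theorem eq_of_relIndex_prime {A F B : Subgroup G} {q : ℕ} (hq : q.Prime) (hAF : A ≤ F)
    (hFB : F ≤ B) (hidx : A.relIndex B = q) (hne : ¬ F ≤ A) : F = B := by
  have h1 := Subgroup.relIndex_mul_relIndex A F B hAF hFB
  rw [hidx] at h1
  have h2 : A.relIndex F ≠ 1 := by
    intro h
    exact hne (Subgroup.relIndex_eq_one.mp h)
  have h3 : A.relIndex F ∣ q := Dvd.intro _ h1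
  rcases (Nat.dvd_prime hq).mp h3 with h | h
  · exact absurd h h2
  · rw [h] at h1
    have h4 : F.relIndex B = 1 := by
      have := hq.pos
      nlinarith
    exact le_antisymm hFB (Subgroup.relIndex_eq_one.mp h4)

end general

variable {X : Type*} [Group X] [Finite X]

namespace LT

variable {T K : Subgroup X} {A₁ : Subgroup (Gam (VV X))}

theorem card_EE (h : LT T) (m : MO 2 (Vh (VV X)) (HH X) A₁) :
    Nat.card ↥(DD A₁ ⊔ A₁ : Subgroup (Gam (VV X))) = 6 := by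
  haveI : Fact (Nat.Prime 2) := ⟨Nat.prime_two⟩
  obtain ⟨-, ⟨e⟩⟩ := h.ffs.E_iso m
  have h1 := Nat.card_congr e.toEquiv
  rw [Cfsg.Agent.Lib.H12.card_SL2, ZMod.card] at h1
  exact h1

theorem relIndex_CC_EE₁ (h : LT T) (m : MO 2 (Vh (VV X)) (HH X) A₁) :
    (CC X).relIndex (EE₁ A₁) = 6 := by
  haveI : Fact (Nat.Prime 2) := ⟨Nat.prime_two⟩
  obtain ⟨-, -, -, hn, ⟨e⟩⟩ := Cfsg.Agent.Lib.H3.QT.pullback_props (VV X) (JX X) (DD A₁ ⊔ A₁)
    (h.ffs.E_le m.le) (h.ffs.H_le_normalizer_E h.hS3 m)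
  have h4 : (CC X).relIndex (EE₁ A₁) = ((CC X).subgroupOf (EE₁ A₁)).index := rfl
  rw [h4, Subgroup.index_eq_card]
  have h5 := Nat.card_congr e.toEquiv
  rw [h.card_EE m] at h5
  exact h5

theorem CC_le_EE₁ (A₁ : Subgroup (Gam (VV X))) : CC X ≤ EE₁ A₁ :=
  (CC_le_KK₁ A₁).trans (KK₁_le_EE₁ A₁)

theorem relIndex_KK₁_EE₁ (h : LT T) (m : MO 2 (Vh (VV X)) (HH X) A₁) :
    (KK₁ A₁).relIndex (EE₁ A₁) = 2 := by
  have h1 := Subgroup.relIndex_mul_relIndex (CC X) (KK₁ A₁) (EE₁ A₁) (CC_le_KK₁ A₁)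
    (KK₁_le_EE₁ A₁)
  rw [(h.pullback m).2.2, h.relIndex_CC_EE₁ m] at h1
  omega

theorem isSylowIn_inf_EE₁ (h : LT T) (m : MO 2 (Vh (VV X)) (HH X) A₁) :
    IsSylowIn 2 (T ⊓ EE₁ A₁) (EE₁ A₁) := by
  haveI : Fact (Nat.Prime 2) := ⟨Nat.prime_two⟩
  have hN₁ : (JX X ⊔ CC X).Normal := Subgroup.sup_normal _ _
  have h1 : IsSylowIn 2 (T ⊓ (JX X ⊔ CC X)) (JX X ⊔ CC X) :=
    isSylowIn_inf_normal h.sylow (JX X ⊔ CC X)
  obtain ⟨hE1, hE2⟩ := h.EE₁_props m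
  have h2 := isSylowIn_inf_of_le_normalizer h1 hE1 hE2
  have e : T ⊓ (JX X ⊔ CC X) ⊓ EE₁ A₁ = T ⊓ EE₁ A₁ := by
    rw [inf_assoc, inf_eq_right.mpr hE1]
  rwa [e] at h2

theorem exists_mem_not_mem (h : LT T) (m : MO 2 (Vh (VV X)) (HH X) A₁) :
    ∃ b ∈ T ⊓ EE₁ A₁, b ∉ KK₁ A₁ := by
  haveI : Fact (Nat.Prime 2) := ⟨Nat.prime_two⟩
  by_contra hcon
  push Not at hcon
  have hle : T ⊓ EE₁ A₁ ≤ KK₁ A₁ := hcon
  have h1 := Subgroup.relIndex_mul_relIndex (T ⊓ EE₁ A₁) (KK₁ A₁) (EE₁ A₁) hle (KK₁_le_EE₁ A₁)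
  rw [h.relIndex_KK₁_EE₁ m] at h1
  apply isSylowIn_not_dvd_relIndex (h.isSylowIn_inf_EE₁ m)
  rw [← h1]
  exact Dvd.intro_left _ rfl

theorem EE₁_eq_sup (h : LT T) (m : MO 2 (Vh (VV X)) (HH X) A₁) :
    KK₁ A₁ ⊔ (T ⊓ EE₁ A₁) = EE₁ A₁ := by
  obtain ⟨b, hb, hbK⟩ := h.exists_mem_not_mem m
  apply eq_of_relIndex_prime Nat.prime_two le_sup_left (sup_le (KK₁_le_EE₁ A₁) inf_le_right)
    (h.relIndex_KK₁_EE₁ m)
  intro hle
  exact hbK (hle ((le_sup_right : T ⊓ EE₁ A₁ ≤ _) hb))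

end LT

end Cfsg.Agent.Lib.H15.JC
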