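import Mathlib
import Cfsg.Agent.Lib.H15.JCN2

/-!
helper15: `J(T)`-components `K` with `W_K` normal in `X`, part 3: elements of `Ê ∖ K₁` invert
`K₁ / C`; uniqueness of the component with a common inverting element.
-/

set_option autoImplicit false

namespace Cfsg.Agent.Lib.H15.JC

open scoped commutatorElement
open Cfsg.Agent.Lib.H15
open Cfsg.Agent.Lib.H5 (IsSylowIn)
open Cfsg.Agent.Lib.H26 (maxEA JJ)
open Cfsg.Agent.Lib.H3 (FFS MO)
open Cfsg.Agent.Lib.H3.QT (Gam Vh hat toGam)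

variable {X : Type*} [Group X] [Finite X]

namespace LT

variable {T T' K K' : Subgroup X} {A₁ A₁' : Subgroup (Gam (VV X))}

theorem DD_cases (h : LT T) (m : MO 2 (Vh (VV X)) (HH X) A₁) {ξ d : Gam (VV X)}
    (hξ : ξ ∈ DD A₁) (hξ1 : ξ ≠ 1) (hd : d ∈ DD A₁) : d = 1 ∨ d = ξ ∨ d = ξ⁻¹ := by
  have hidx : (⊥ : Subgroup (Gam (VV X))).relIndex (DD A₁) = 3 := by
    rw [Subgroup.relIndex_bot_left, h.card_DD m]
  have hξ' : ξ ∉ (⊥ : Subgroup (Gam (VV X))) := by
    rw [Subgroup.mem_bot]; exact hξ1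
  rcases trichotomy (Subgroup.normal_bot) hidx hξ hξ' hd with h1 | h1 | h1
  · left; exact Subgroup.mem_bot.mp h1
  · right; left
    have := Subgroup.mem_bot.mp h1
    exact mul_inv_eq_one.mp this
  · right; right
    have := Subgroup.mem_bot.mp h1
    exact eq_inv_of_mul_eq_one_left this

theorem DD_comm (h : LT T) (m : MO 2 (Vh (VV X)) (HH X) A₁) {ξ d : Gam (VV X)}
    (hξ : ξ ∈ DD A₁) (hd : d ∈ DD A₁) : d * ξ = ξ * d := by
  haveI : Fact (Nat.Prime 3) := ⟨Nat.prime_three⟩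
  haveI : IsCyclic ↥(DD A₁) := isCyclic_of_prime_card (h.card_DD m)
  have := IsCyclic.commGroup.mul_comm (⟨d, hd⟩ : ↥(DD A₁)) ⟨ξ, hξ⟩
  exact congrArg Subtype.val this

theorem relIndex_DD_EE (h : LT T) (m : MO 2 (Vh (VV X)) (HH X) A₁) :
    (DD A₁).relIndex (DD A₁ ⊔ A₁) = 2 := by
  have h1 := Cfsg.Agent.Lib.H7.card_mul_relIndex_of_le (le_sup_left : DD A₁ ≤ DD A₁ ⊔ A₁)
  rw [h.card_DD m, h.card_EE m] at h1
  omega

/-- elements of `Ê ∖ K₁` invert `K₁ / C`. -/
theorem inverts {x : X} (c : KLoc T K x A₁) {b : X} (hbE : b ∈ EE₁ A₁) (hbK : b ∉ KK₁ A₁) :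
    b * x * b⁻¹ * x ∈ CC X := by
  haveI : Fact (Nat.Prime 2) := ⟨Nat.prime_two⟩
  have h := c.lt
  have m := c.mo
  set β := toGam (VV X) b with hβ
  set ξ := toGam (VV X) x with hξ
  have hβE : β ∈ DD A₁ ⊔ A₁ := hbE
  have hβD : β ∉ DD A₁ := hbK
  have hξD : ξ ∈ DD A₁ := c.hξ
  have hξ1 : ξ ≠ 1 := fun h1 => c.hxC (toGam_eq_one_iff.mp h1)
  have hβN : β ∈ Subgroup.normalizer ((DD A₁ : Subgroup (Gam (VV X))) : Set (Gam (VV X))) :=
    h.HH_le_normalizer_DD m (h.ffs.E_le m.le hβE)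
  have hz : β * ξ * β⁻¹ ∈ DD A₁ := (Subgroup.mem_normalizer_iff.mp hβN ξ).mp hξD
  rcases h.DD_cases m hξD hξ1 hz with h1 | h1 | h1
  · exfalso
    apply hξ1
    have : ξ = β⁻¹ * (β * ξ * β⁻¹) * β := by group
    rw [this, h1]; group
  · exfalso
    have hcomm : β * ξ = ξ * β := by
      calc β * ξ = (β * ξ * β⁻¹) * β := by group
        _ = ξ * β := by rw [h1]
    set F := DD A₁ ⊔ Subgroup.zpowers β with hF
    have hFE : F = DD A₁ ⊔ A₁ := by
      apply eq_of_relIndex_prime Nat.prime_two le_sup_left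
        (sup_le le_sup_left (by rw [Subgroup.zpowers_le]; exact hβE)) (h.relIndex_DD_EE m)
      intro hle
      exact hβD (hle ((le_sup_right : Subgroup.zpowers β ≤ F) (Subgroup.mem_zpowers β)))
    have hFC : F ≤ Subgroup.centralizer ({ξ} : Set (Gam (VV X))) := by
      apply sup_le
      · intro d hd
        rw [Subgroup.mem_centralizer_iff]
        intro g hg
        rw [Set.mem_singleton_iff] at hg
        rw [hg]
        exact (h.DD_comm m hξD hd).symm
      · rw [Subgroup.zpowers_le, Subgroup.mem_centralizer_iff]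
        intro g hg
        rw [Set.mem_singleton_iff] at hg
        rw [hg]
        exact hcomm.symm
    apply h.not_commute m
    intro t ht d hd
    have htC : t ∈ Subgroup.centralizer ({ξ} : Set (Gam (VV X))) := by
      apply hFC
      rw [hFE]
      exact (le_sup_right : A₁ ≤ _) ht
    have htξ : ξ * t = t * ξ := Subgroup.mem_centralizer_iff.mp htC ξ rfl
    rcases h.DD_cases m hξD hξ1 hd with h2 | h2 | h2
    · rw [h2, mul_one, one_mul]
    · rw [h2]; exact htξ.symm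
    · rw [h2]
      calc t * ξ⁻¹ = ξ⁻¹ * (ξ * t) * ξ⁻¹ := by group
        _ = ξ⁻¹ * (t * ξ) * ξ⁻¹ := by rw [htξ]
        _ = ξ⁻¹ * t := by group
  · apply toGam_eq_one_iff.mp
    rw [map_mul, map_mul, map_mul, map_inv, ← hβ, ← hξ, h1]
    group

/-- core computation, general form: `b ∈ T` inverting `x` and `y` modulo `Q`, with `y ≡ x` modulo
`C`; then `y ≡ x` modulo `Q`. -/
theorem mem_QQ_of_generator' (h : LT T) {b x y : X} (hb : b ∈ T) (hx3 : x ^ 3 = 1)
    (hbx : b * x * b⁻¹ * x ∈ QQ X) (hy : y * x⁻¹ ∈ CC X) (hby : b * y * b⁻¹ * y ∈ QQ X) :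
    y * x⁻¹ ∈ QQ X := by
  set c := y * x⁻¹ with hc
  have hyc : y = c * x := by rw [hc]; group
  set π := QuotientGroup.mk' (QQ X) with hπ
  have hcomm : π b * π c = π c * π b := by
    have h1 := h.comm_mem hy hb
    have h2 : π (c * b * c⁻¹ * b⁻¹) = 1 := (QuotientGroup.eq_one_iff _).mpr h1
    rw [map_mul, map_mul, map_mul, map_inv, map_inv] at h2
    have : π c * π b = (π c * π b * (π c)⁻¹ * (π b)⁻¹) * (π b * π c) := by group
    rw [this, h2, one_mul]
  have h1 : π b * π y * (π b)⁻¹ = (π y)⁻¹ := by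
    have h2 : π (b * y * b⁻¹ * y) = 1 := (QuotientGroup.eq_one_iff _).mpr hby
    rw [map_mul, map_mul, map_mul, map_inv] at h2
    exact eq_inv_of_mul_eq_one_left h2
  have h2 : π b * π x * (π b)⁻¹ = (π x)⁻¹ := by
    have h2 : π (b * x * b⁻¹ * x) = 1 := (QuotientGroup.eq_one_iff _).mpr hbx
    rw [map_mul, map_mul, map_mul, map_inv] at h2
    exact eq_inv_of_mul_eq_one_left h2
  have h3 : π x * π c * (π x)⁻¹ = (π c)⁻¹ := by
    rw [hyc, map_mul] at h1
    have e1 : π b * (π c * π x) * (π b)⁻¹ = (π b * π c) * (π b)⁻¹ * (π b * π x * (π b)⁻¹) := by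
      group
    rw [e1, hcomm, h2] at h1
    have e2 : π c * π b * (π b)⁻¹ * (π x)⁻¹ = π c * (π x)⁻¹ := by group
    rw [e2, mul_inv_rev] at h1
    calc π x * π c * (π x)⁻¹ = π x * (π c * (π x)⁻¹) := by group
      _ = π x * ((π x)⁻¹ * (π c)⁻¹) := by rw [h1]
      _ = (π c)⁻¹ := by group
  have hx3' : (π x) ^ 3 = 1 := by rw [← map_pow, hx3, map_one]
  have h4 : (π c)⁻¹ = π c := by
    have e : (π x) ^ 3 * π c * ((π x) ^ 3)⁻¹ =
        π x * (π x * (π x * π c * (π x)⁻¹) * (π x)⁻¹) * (π x)⁻¹ := by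
      rw [pow_succ, pow_two]; group
    rw [hx3', h3] at e
    have e2 : π x * (π c)⁻¹ * (π x)⁻¹ = π c := by
      have : π x * (π c)⁻¹ * (π x)⁻¹ = (π x * π c * (π x)⁻¹)⁻¹ := by group
      rw [this, h3, inv_inv]
    rw [e2, h3] at e
    simpa using e.symm
  have h5 : π (c * c) = 1 := by
    rw [map_mul]
    nth_rewrite 1 [← h4]
    group
  have h6 : c * c ∈ QQ X := (QuotientGroup.eq_one_iff _).mp h5
  obtain ⟨m, hm⟩ := QQ_isPGroup (X := X) ⟨c * c, h6⟩
  have hm' : (c * c) ^ (2 ^ m) = 1 := by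
    have := congrArg Subtype.val hm
    simpa using this
  have hm'' : c ^ (2 ^ (m + 1)) = 1 := by
    rw [pow_succ, mul_comm, pow_mul, pow_two]; exact hm'
  exact h.mem_QQ_of_two_elt hy hm''

end LT

end Cfsg.Agent.Lib.H15.JC
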