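import Mathlib
import Cfsg.Agent.Lib.H15.JCN3

/-!
helper15: `J(T)`-components `K` with `W_K` normal in `X` are normal in `X`.
-/

set_option autoImplicit false

namespace Cfsg.Agent.Lib.H15.JC

open scoped commutatorElement
open Cfsg.Agent.Lib.H15
open Cfsg.Agent.Lib.H5 (IsSylowIn)
open Cfsg.Agent.Lib.H26 (maxEA JJ)
open Cfsg.Agent.Lib.H3 (FFS MO)
open Cfsg.Agent.Lib.H3.QT (Gam Vh hat toGam)

variable {X : Type*} [Group X] [Finite X]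

namespace LT

variable {T T' K K' : Subgroup X} {A₁ A₁' : Subgroup (Gam (VV X))} {x x' : X}

/-- a generator `y ∈ {x', x'⁻¹}` of `K'` congruent to `x` modulo `C`. -/
theorem exists_generator (c : KLoc T K x A₁) (c' : KLoc T' K' x' A₁')
    (hsup : K' ⊔ CC X = K ⊔ CC X) :
    ∃ y ∈ K', y * x⁻¹ ∈ CC X ∧ (y = x' ∨ y = x'⁻¹) := by
  have hCn : (CC X).Normal := CC_normal
  have hidx : (CC X).relIndex (KK₁ A₁) = 3 := (c.lt.pullback c.mo).2.2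
  have hxK₁ : x ∈ KK₁ A₁ := by rw [← c.hsup]; exact (le_sup_left : K ≤ _) c.hxK
  have hx'K₁ : x' ∈ KK₁ A₁ := by
    rw [← c.hsup, ← hsup]; exact (le_sup_left : K' ≤ _) c'.hxK
  rcases trichotomy hCn hidx hxK₁ c.hxC hx'K₁ with h1 | h1 | h1
  · exact absurd h1 c'.hxC
  · exact ⟨x', c'.hxK, h1, Or.inl rfl⟩
  · refine ⟨x'⁻¹, Subgroup.inv_mem _ c'.hxK, ?_, Or.inr rfl⟩
    have h2 : x * (x' * x) * x⁻¹ ∈ CC X := hCn.conj_mem _ h1 x
    have e : x'⁻¹ * x⁻¹ = (x * (x' * x) * x⁻¹)⁻¹ := by group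
    rw [e]; exact Subgroup.inv_mem _ h2

theorem le_of_inverter (c : KLoc T K x A₁) (c' : KLoc T' K' x' A₁')
    (hsup : K' ⊔ CC X = K ⊔ CC X) {b : X} (hbT : b ∈ T)
    (hbK : b ∈ Subgroup.normalizer (K : Set X)) (hbK' : b ∈ Subgroup.normalizer (K' : Set X))
    (hinv : b * x * b⁻¹ * x ∈ CC X) : K' ≤ K := by
  have h := c.lt
  have hCn : (CC X).Normal := CC_normal
  obtain ⟨y, hyK', hyx, hy⟩ := exists_generator c c' hsup
  have hQN : QQ X ≤ Subgroup.normalizer (K : Set X) := QQ_le_CC.trans c.hCN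
  -- `b x b⁻¹ x ∈ Q`
  have hbx : b * x * b⁻¹ * x ∈ QQ X := by
    apply pCoreOf_le_QQ c
    apply inf_CC_le_pCoreOf c
    exact ⟨Subgroup.mul_mem _ ((Subgroup.mem_normalizer_iff.mp hbK x).mp c.hxK) c.hxK, hinv⟩
  -- `b y b⁻¹ y ∈ Q`
  have hby : b * y * b⁻¹ * y ∈ QQ X := by
    apply pCoreOf_le_QQ c'
    apply inf_CC_le_pCoreOf c'
    refine ⟨Subgroup.mul_mem _ ((Subgroup.mem_normalizer_iff.mp hbK' y).mp hyK') hyK', ?_⟩
    have e : b * y * b⁻¹ * y = (b * (y * x⁻¹) * b⁻¹) * (b * x * b⁻¹ * x) *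
        (x⁻¹ * (y * x⁻¹) * x⁻¹⁻¹) := by group
    rw [e]
    exact Subgroup.mul_mem _ (Subgroup.mul_mem _ (hCn.conj_mem _ hyx b) hinv)
      (hCn.conj_mem _ hyx x⁻¹)
  have hcQ : y * x⁻¹ ∈ QQ X := h.mem_QQ_of_generator' hbT c.hx3 hbx hyx hby
  have hyKQ : y ∈ K ⊔ QQ X := by
    have e : y = (y * x⁻¹) * x := by group
    rw [e, sup_comm]
    exact Subgroup.mul_mem_sup hcQ c.hxK
  have hx'KQ : x' ∈ K ⊔ QQ X := by
    rcases hy with h1 | h1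
    · rw [← h1]; exact hyKQ
    · have : x' = y⁻¹ := by rw [h1, inv_inv]
      rw [this]; exact Subgroup.inv_mem _ hyKQ
  have hK'le : K' ≤ K ⊔ QQ X := by
    rw [c'.hK]
    exact sup_le ((pCoreOf_le_QQ c').trans le_sup_right) (by rw [Subgroup.zpowers_le]; exact hx'KQ)
  conv_lhs => rw [← c'.comp.1]
  rw [Subgroup.closure_le]
  intro g hg
  exact mem_of_odd_of_mem_sup QQ_isPGroup hQN (hK'le hg.1) hg.2

theorem inverts_of_inverts (c : KLoc T K x A₁) (c' : KLoc T' K' x' A₁')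
    (hsup : K' ⊔ CC X = K ⊔ CC X) {b : X} (hinv : b * x * b⁻¹ * x ∈ CC X) :
    b * x' * b⁻¹ * x' ∈ CC X := by
  have hCn : (CC X).Normal := CC_normal
  obtain ⟨y, hyK', hyx, hy⟩ := exists_generator c c' hsup
  have h1 : b * y * b⁻¹ * y ∈ CC X := by
    have e : b * y * b⁻¹ * y = (b * (y * x⁻¹) * b⁻¹) * (b * x * b⁻¹ * x) *
        (x⁻¹ * (y * x⁻¹) * x⁻¹⁻¹) := by group
    rw [e]
    exact Subgroup.mul_mem _ (Subgroup.mul_mem _ (hCn.conj_mem _ hyx b) hinv)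
      (hCn.conj_mem _ hyx x⁻¹)
  rcases hy with h2 | h2
  · rw [← h2]; exact h1
  · -- `b x' b⁻¹ x' = (y (b y b⁻¹ y) y⁻¹)⁻¹` with `x' = y⁻¹`
    have hx' : x' = y⁻¹ := by rw [h2, inv_inv]
    have e : b * x' * b⁻¹ * x' = (y * (b * y * b⁻¹ * y) * y⁻¹)⁻¹ := by
      rw [hx']; group
    rw [e]
    exact Subgroup.inv_mem _ (hCn.conj_mem _ h1 y)

theorem eq_of_inverter (c : KLoc T K x A₁) (c' : KLoc T' K' x' A₁')
    (hsup : K' ⊔ CC X = K ⊔ CC X) {b : X} (hbT : b ∈ T) (hbT' : b ∈ T')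
    (hbK : b ∈ Subgroup.normalizer (K : Set X)) (hbK' : b ∈ Subgroup.normalizer (K' : Set X))
    (hinv : b * x * b⁻¹ * x ∈ CC X) : K' = K :=
  le_antisymm (le_of_inverter c c' hsup hbT hbK hbK' hinv)
    (le_of_inverter c' c hsup.symm hbT' hbK' hbK (inverts_of_inverts c c' hsup hinv))

/-- A `J(T)`-component `K` with `W_K ⊴ X` is normal in `X`. -/
theorem cj_eq_of_wOf_normal (h : LT T) (hK : Cfsg.IsJComponent T K)
    (hW : ∀ n : X, Cfsg.Agent.Lib.H15.cj n (Cfsg.wOf K) = Cfsg.wOf K) (n : X) :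
    Cfsg.Agent.Lib.H15.cj n K = K := by
  haveI : Fact (Nat.Prime 2) := ⟨Nat.prime_two⟩
  obtain ⟨x, A₁, c⟩ := h.exists_KLoc hK
  have m := c.mo
  have hTK : T ≤ Subgroup.normalizer (K : Set X) := h.le_normalizer_of_wOf_normal hK hW
  -- `Ê ≤ N(K)`
  have hK₁N : KK₁ A₁ ≤ Subgroup.normalizer (K : Set X) := by
    rw [← c.hsup]; exact sup_le Subgroup.le_normalizer c.hCN
  have hEN : EE₁ A₁ ≤ Subgroup.normalizer (K : Set X) := by
    rw [← h.EE₁_eq_sup m]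
    exact sup_le hK₁N (inf_le_left.trans hTK)
  -- Sylow conjugation inside `Ê`
  have hn := h.cj n
  have hs1 := h.isSylowIn_inf_EE₁ m
  have hs2 := hn.isSylowIn_inf_EE₁ m
  obtain ⟨e, he, hee⟩ := hs2.exists_conj hs1
  -- `T ∩ Ê = (T^{e n}) ∩ Ê`
  have heE : Cfsg.Agent.Lib.H15.cj e (EE₁ A₁) = EE₁ A₁ := cj_eq_self_of_mem he
  have hee' : T ⊓ EE₁ A₁ ≤ Cfsg.Agent.Lib.H15.cj (e * n) T := by
    rw [hee, ← cj_cj]
    exact cj_mono e inf_le_left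
  set n' := e * n with hn'
  have hK' := isJComponent_cj n' hK
  have hLT' := h.cj n'
  obtain ⟨x', A₁', c'⟩ := hLT'.exists_KLoc hK'
  have hsup : Cfsg.Agent.Lib.H15.cj n' K ⊔ CC X = K ⊔ CC X := by
    rw [sup_CC_eq_of_cj c (hW n'), c.hsup]
  have hW' : ∀ l : X, Cfsg.Agent.Lib.H15.cj l (Cfsg.wOf (Cfsg.Agent.Lib.H15.cj n' K)) =
      Cfsg.wOf (Cfsg.Agent.Lib.H15.cj n' K) := by
    intro l
    rw [wOf_cj, hW n', hW l]
  have hTK' : Cfsg.Agent.Lib.H15.cj n' T ≤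
      Subgroup.normalizer ((Cfsg.Agent.Lib.H15.cj n' K : Subgroup X) : Set X) :=
    hLT'.le_normalizer_of_wOf_normal hK' hW'
  obtain ⟨b, hb, hbK₁⟩ := h.exists_mem_not_mem m
  have hbT : b ∈ T := hb.1
  have hbT' : b ∈ Cfsg.Agent.Lib.H15.cj n' T := hee' hb
  have hinv := inverts c hb.2 hbK₁
  have heq := eq_of_inverter c c' hsup hbT hbT' (hTK hbT) (hTK' hbT') hinv
  -- `K^n = K^{e⁻¹} = K`
  have h1 : Cfsg.Agent.Lib.H15.cj n K = Cfsg.Agent.Lib.H15.cj e⁻¹ (Cfsg.Agent.Lib.H15.cj n' K) := by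
    rw [cj_cj, hn']
    congr 1
    group
  rw [h1, heq]
  exact mem_normalizer_iff_cj_eq.mp (Subgroup.inv_mem _ (hEN he))

end LT

end Cfsg.Agent.Lib.H15.JC
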