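import Mathlib
import Cfsg.Agent.Lib.H15.JCN4

/-!
helper15: `K ∈ 𝒦₀(T)`: `N_G(K) = N_G(W_K)` and `K` is a `J(T^g)`-component whenever
`J(T^g) ≤ N_G(W_K)` (ambient group `G` of characteristic `2` type with solvable `2`-locals).
-/

set_option autoImplicit false

namespace Cfsg.Agent.Lib.H15.JC

open scoped commutatorElement
open Cfsg.Agent.Lib.H15
open Cfsg.Agent.Lib.H5 (IsSylowIn)
open Cfsg.Agent.Lib.H26 (maxEA JJ)

variable {G : Type*} [Group G] [Finite G]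

theorem maxEA_cj {p : ℕ} {P A : Subgroup G} (u : G) (hA : A ∈ maxEA p P) :
    cj u A ∈ maxEA p (cj u P) := by
  refine ⟨cj_mono u hA.1, ?_, ?_⟩
  · exact (Cfsg.Agent.Lib.H26.isElementaryAbelian_map_iff p (MulAut.conj u).toMonoidHom
      (MulAut.conj u).injective A).mpr hA.2.1
  · intro B hB hBe
    have h1 : cj u⁻¹ B ≤ P := by
      have := cj_mono u⁻¹ hB
      rwa [cj_inv_cj] at this
    have h2 : Cfsg.IsElementaryAbelian p (cj u⁻¹ B) :=
      (Cfsg.Agent.Lib.H26.isElementaryAbelian_map_iff p (MulAut.conj u⁻¹).toMonoidHom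
        (MulAut.conj u⁻¹).injective B).mpr hBe
    have h3 := hA.2.2 _ h1 h2
    rwa [card_cj, ← card_cj u A] at h3

/-- If `J(S₁) = J(T)` and `J(T)^u ≤ S₁` then `J(T)^u = J(T)`. -/
theorem cj_thompson_eq_of_le {T S₁ : Subgroup G} {u : G}
    (hJS : Cfsg.thompsonSubgroupOf 2 S₁ = Cfsg.thompsonSubgroupOf 2 T)
    (hle : cj u (Cfsg.thompsonSubgroupOf 2 T) ≤ S₁) :
    cj u (Cfsg.thompsonSubgroupOf 2 T) = Cfsg.thompsonSubgroupOf 2 T := by
  apply cj_eq_of_cj_le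
  have h1 : cj u (Cfsg.thompsonSubgroupOf 2 T) = JJ 2 (cj u T) := by
    rw [← thompsonSubgroupOf_cj, Cfsg.Agent.Lib.H26.thompsonSubgroupOf_eq]
  have h2 : Cfsg.thompsonSubgroupOf 2 T = JJ 2 S₁ := by
    rw [← hJS, Cfsg.Agent.Lib.H26.thompsonSubgroupOf_eq]
  have h3 : Cfsg.thompsonSubgroupOf 2 T = JJ 2 T := Cfsg.Agent.Lib.H26.thompsonSubgroupOf_eq 2 T
  rw [h1] at hle ⊢
  rw [h2]
  apply sSup_le
  intro A' hA'
  apply le_sSup
  refine ⟨(le_JJ hA').trans hle, hA'.2.1, ?_⟩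
  intro B hB hBe
  obtain ⟨B₀, hB₀⟩ := maxEA_nonempty 2 S₁
  have h4 : Nat.card B ≤ Nat.card B₀ := hB₀.2.2 B hB hBe
  have h5 : B₀ ≤ T := by
    have : B₀ ≤ JJ 2 S₁ := le_JJ hB₀
    rw [← h2, h3] at this
    exact this.trans (Cfsg.Agent.Lib.H26.JJ_le 2 T)
  have h6 : cj u⁻¹ A' ∈ maxEA 2 T := by
    have := maxEA_cj u⁻¹ hA'
    rwa [cj_inv_cj] at this
  have h7 := h6.2.2 B₀ h5 hB₀.2.1
  rw [card_cj] at h7
  exact h4.trans h7

/-- transfer of normalizing from `↥L` to `G`. -/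
theorem mem_normalizer_of_subgroupOf {K L : Subgroup G} (hKL : K ≤ L) {t : G} (htL : t ∈ L)
    (h1 : (⟨t, htL⟩ : ↥L) ∈ Subgroup.normalizer ((K.subgroupOf L : Subgroup ↥L) : Set ↥L)) :
    t ∈ Subgroup.normalizer (K : Set G) := by
  rw [Subgroup.mem_normalizer_iff] at h1 ⊢
  intro k
  constructor
  · intro hk
    have := (h1 ⟨k, hKL hk⟩).mp (Subgroup.mem_subgroupOf.mpr hk)
    exact Subgroup.mem_subgroupOf.mp this
  · intro hk
    have hkL : k ∈ L := by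
      have h2 : t⁻¹ * (t * k * t⁻¹) * t ∈ L :=
        Subgroup.mul_mem _ (Subgroup.mul_mem _ (Subgroup.inv_mem _ htL) (hKL hk)) htL
      have e : t⁻¹ * (t * k * t⁻¹) * t = k := by group
      rwa [e] at h2
    have := (h1 ⟨k, hkL⟩).mpr (Subgroup.mem_subgroupOf.mpr hk)
    exact Subgroup.mem_subgroupOf.mp this

theorem wOf_isPGroup {T K : Subgroup G} (hK : Cfsg.IsJComponent T K) :
    IsPGroup 2 ↥(Cfsg.wOf K) := by
  haveI : Fact (Nat.Prime 2) := ⟨Nat.prime_two⟩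
  exact IsPGroup.of_card (n := 2) (by rw [hK.2.2.2.2.1]; norm_num)

theorem le_normalizer_wOf {T K : Subgroup G} (hK : Cfsg.IsJComponent T K) :
    K ≤ Subgroup.normalizer (Cfsg.wOf K : Set G) :=
  Subgroup.le_normalizer.trans (normalizer_le_normalizer_wOf K)

theorem thompson_le_normalizer_wOf {T K : Subgroup G} (hK : Cfsg.IsJComponent T K) :
    Cfsg.thompsonSubgroupOf 2 T ≤ Subgroup.normalizer (Cfsg.wOf K : Set G) :=
  (le_normalizer_of_commutator_eq hK.2.1).trans (normalizer_le_normalizer_wOf K)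

/-- a `J(T)`-component is not a `2`-group. -/
theorem not_isPGroup_of_isJComponent {T K : Subgroup G} (hK : Cfsg.IsJComponent T K) :
    ¬ IsPGroup 2 ↥K := by
  intro h2
  have h1 : K ≤ Cfsg.pCoreOf 2 K := le_pcoreOf le_rfl Subgroup.le_normalizer h2
  have h3 := hK.2.2.1
  rw [Subgroup.relIndex_eq_one.mpr h1] at h3
  omega

/-- The set-up in `N_G(W_K)` for `K ∈ 𝒦₀(T)`. -/
theorem exists_sylow_setup (hL : Cfsg.IsCharacteristicTwoType G)
    {T K : Subgroup G} (hT : IsPGroup 2 ↥T) (hT1 : T ≠ ⊥) (hK : K ∈ Cfsg.jComponentsZero T) :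
    ∃ S₁ : Subgroup G, IsSylowIn 2 S₁ (Subgroup.normalizer (Cfsg.wOf K : Set G)) ∧
      Cfsg.thompsonSubgroupOf 2 T ≤ S₁ ∧
      Cfsg.thompsonSubgroupOf 2 S₁ = Cfsg.thompsonSubgroupOf 2 T ∧
      Subgroup.normalizer (Cfsg.wOf K : Set G) ∈ Cfsg.jOvergroups S₁ ∧ S₁ ≠ ⊥ := by
  haveI : Fact (Nat.Prime 2) := ⟨Nat.prime_two⟩
  set N := Subgroup.normalizer (Cfsg.wOf K : Set G) with hN
  set J := Cfsg.thompsonSubgroupOf 2 T with hJ
  have hJ2 : IsPGroup 2 ↥J := hT.to_le (thompson_le T)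
  have hJN : J ≤ N := thompson_le_normalizer_wOf hK.1
  obtain ⟨S₁, hS₁, hJS₁⟩ := Cfsg.Agent.Lib.H5.exists_isSylowIn_ge hJ2 hJN
  have hS₁' : Cfsg.IsSylowTwoIn S₁ N := isSylowTwoIn_iff_isSylowIn.mpr hS₁
  have hJeq : Cfsg.thompsonSubgroupOf 2 S₁ = J := hK.2 S₁ hJS₁ hS₁'
  have hS₁ne : S₁ ≠ ⊥ := by
    intro h0
    apply thompson_ne_bot hT hT1
    rw [eq_bot_iff, ← h0]
    exact hJS₁
  have h2loc : Cfsg.IsTwoLocal N :=
    isTwoLocal_normalizer (wOf_isPGroup hK.1) (LT.wOf_ne_bot hK.1)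
  refine ⟨S₁, hS₁, hJS₁, hJeq, ⟨hS₁', ?_, centralizer_pCoreOf_le hL h2loc⟩, hS₁ne⟩
  rw [hJeq]
  intro hle
  apply not_isPGroup_of_isJComponent hK.1
  have hKN : K ≤ N := le_normalizer_wOf hK.1
  have h1 : K ≤ Cfsg.pCoreOf 2 N := by
    rw [← hK.1.2.1, Subgroup.commutator_le]
    intro k hk j hj
    have hkn := pcoreOf_normalized 2 N (hKN hk)
    have h3 : k * j * k⁻¹ ∈ Cfsg.pCoreOf 2 N := (Subgroup.mem_normalizer_iff.mp hkn j).mp (hle hj)
    rw [commutatorElement_def]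
    exact Subgroup.mul_mem _ h3 (Subgroup.inv_mem _ (hle hj))
  exact (pcoreOf_isPGroup 2 N).to_le h1

/-- `N_G(K) = N_G(W_K)` for `K ∈ 𝒦₀(T)`. -/
theorem normalizer_eq_normalizer_wOf (hL : Cfsg.IsCharacteristicTwoType G)
    (hN : ∀ N : Subgroup G, Cfsg.IsTwoLocal N → Group.IsSolvable ↥N)
    (hZ : ∀ S : Sylow 2 G, Subgroup.centralizer (Cfsg.omegaCenterOf (S : Subgroup G) : Set G) ≤
      Subgroup.normalizer ((S : Subgroup G) : Set G))
    {T K : Subgroup G} (hT : IsPGroup 2 ↥T) (hT1 : T ≠ ⊥) (hK : K ∈ Cfsg.jComponentsZero T) :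
    Subgroup.normalizer (K : Set G) = Subgroup.normalizer (Cfsg.wOf K : Set G) := by
  apply le_antisymm (normalizer_le_normalizer_wOf K)
  obtain ⟨S₁, hS₁, hJS₁, hJeq, hmem, hS₁ne⟩ := exists_sylow_setup hL hT hT1 hK
  set N := Subgroup.normalizer (Cfsg.wOf K : Set G) with hNdef
  have hlt := lt_of_mem_jOvergroups hN hZ hS₁ne hmem
  have hKN : K ≤ N := le_normalizer_wOf hK.1
  have hK₁ : Cfsg.IsJComponent S₁ K := (isJComponent_congr hJeq.symm).mp hK.1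
  have hK' := isJComponent_subgroupOf hS₁.1 hKN hK₁
  have hWeq : Cfsg.wOf (K.subgroupOf N) = (Cfsg.wOf K).subgroupOf N := by
    have h1 : (Cfsg.wOf (K.subgroupOf N)).map N.subtype = Cfsg.wOf K := by
      rw [← wOf_map N.subtype N.subtype_injective, map_subgroupOf_subtype hKN]
    rw [← h1]
    unfold Subgroup.subgroupOf
    rw [Subgroup.comap_map_eq_self_of_injective N.subtype_injective]
  have hWn : ((Cfsg.wOf K).subgroupOf N).Normal := Subgroup.normal_in_normalizer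
  have hW : ∀ n : ↥N, cj n (Cfsg.wOf (K.subgroupOf N)) = Cfsg.wOf (K.subgroupOf N) := by
    intro n
    rw [hWeq]
    exact cj_normal n _
  intro n hn
  have h1 := hlt.cj_eq_of_wOf_normal hK' hW ⟨n, hn⟩
  exact mem_normalizer_of_subgroupOf hKN hn (mem_normalizer_iff_cj_eq.mpr h1)

/-- `K ∈ 𝒦₀(T)` is a `J(T^g)`-component whenever `J(T^g) ≤ N_G(W_K)`. -/
theorem isJComponent_cj_of_le (hL : Cfsg.IsCharacteristicTwoType G)
    (hN : ∀ N : Subgroup G, Cfsg.IsTwoLocal N → Group.IsSolvable ↥N)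
    (hZ : ∀ S : Sylow 2 G, Subgroup.centralizer (Cfsg.omegaCenterOf (S : Subgroup G) : Set G) ≤
      Subgroup.normalizer ((S : Subgroup G) : Set G))
    {T K : Subgroup G} (hT : IsPGroup 2 ↥T) (hT1 : T ≠ ⊥) (hK : K ∈ Cfsg.jComponentsZero T)
    {g : G} (hg : Cfsg.thompsonSubgroupOf 2 (cj g T) ≤ Subgroup.normalizer (Cfsg.wOf K : Set G)) :
    Cfsg.IsJComponent (cj g T) K := by
  haveI : Fact (Nat.Prime 2) := ⟨Nat.prime_two⟩
  obtain ⟨S₁, hS₁, hJS₁, hJeq, hmem, hS₁ne⟩ := exists_sylow_setup hL hT hT1 hK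
  have hNK := normalizer_eq_normalizer_wOf hL hN hZ hT hT1 hK
  set N := Subgroup.normalizer (Cfsg.wOf K : Set G) with hNdef
  set J := Cfsg.thompsonSubgroupOf 2 T with hJ
  have hJ'2 : IsPGroup 2 ↥(Cfsg.thompsonSubgroupOf 2 (cj g T)) :=
    (hT.map _).to_le (thompson_le _)
  obtain ⟨S₂, hS₂, hJS₂⟩ := Cfsg.Agent.Lib.H5.exists_isSylowIn_ge hJ'2 hg
  obtain ⟨n, hn, rfl⟩ := hS₁.exists_conj hS₂
  -- `J^{n⁻¹ g} ≤ S₁`
  have h1 : cj (n⁻¹ * g) J ≤ S₁ := by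
    rw [← cj_cj, cj_le_iff, inv_inv, hJ, ← thompsonSubgroupOf_cj]
    exact hJS₂
  have h2 := cj_thompson_eq_of_le hJeq h1
  have h3 : Cfsg.thompsonSubgroupOf 2 (cj g T) = Cfsg.thompsonSubgroupOf 2 (cj n T) := by
    rw [thompsonSubgroupOf_cj, thompsonSubgroupOf_cj]
    have e : cj g J = cj n (cj (n⁻¹ * g) J) := by
      rw [cj_cj]; congr 1; group
    rw [← hJ, e, h2]
  rw [isJComponent_congr h3]
  have h4 := isJComponent_cj n hK.1
  have h5 : cj n K = K := by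
    apply mem_normalizer_iff_cj_eq.mp
    rw [hNK]; exact hn
  rwa [h5] at h4

end Cfsg.Agent.Lib.H15.JC
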