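import Mathlib
import Cfsg.Agent.Lib.H15.JComp2
import Cfsg.Agent.Lib.H14.Subnormal2

/-!
helper15: automorphisms of an elementary abelian `2`-group `U` with a "plane" commutator
(`φ³ = 1`, `[U, φ] ⊆ W`, `|W| = 4`, `φ` fixed-point-free on `W`).  Two such automorphisms lying
in a common `3`-group of automorphisms commute, and their planes are equal or mutually centralized.
-/

set_option autoImplicit false

namespace Cfsg.Agent.Lib.H15.Plane

open Cfsg.Agent.Lib.H15

variable {U : Type*} [Group U]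

/-- plane datum. -/
structure PD (φ : MulAut U) (W : Subgroup U) : Prop where
  pow3 : ∀ u, φ (φ (φ u)) = u
  comm : ∀ u, φ u * u ∈ W
  card : Nat.card W = 4
  fix : ∀ w ∈ W, φ w = w → w = 1

section

variable (hc : ∀ a b : U, a * b = b * a) (h2 : ∀ u : U, u * u = 1)
variable {φ φ' ψ : MulAut U} {W W' : Subgroup U}

include h2 in
theorem PD.map_mem (h : PD φ W) {w : U} (hw : w ∈ W) : φ w ∈ W := by
  have := W.mul_mem (h.comm w) hw
  rwa [mul_assoc, h2, mul_one] at this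

include hc h2 in
theorem PD.norm_eq_one (h : PD φ W) {w : U} (hw : w ∈ W) : w * φ w * φ (φ w) = 1 := by
  apply h.fix _ (W.mul_mem (W.mul_mem hw (h.map_mem h2 hw)) (h.map_mem h2 (h.map_mem h2 hw)))
  rw [map_mul, map_mul, h.pow3, hc (φ w * φ (φ w)) w, mul_assoc]

include hc h2 in
theorem PD.inv_formula (h : PD φ W) {w : U} (hw : w ∈ W) : φ (φ w) * φ w = w := by
  have h1 := h.norm_eq_one hc h2 hw
  have h3 : w * (φ (φ w) * φ w) = 1 := by
    rw [hc (φ (φ w)) (φ w), ← mul_assoc]; exact h1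
  have h4 : φ (φ w) * φ w = w⁻¹ := (inv_eq_of_mul_eq_one_right h3).symm
  rw [h4]
  exact inv_eq_of_mul_eq_one_right (h2 w)

include hc h2 in
/-- an automorphism commuting with `φ` preserves the plane of `φ`. -/
theorem PD.map_mem_of_comm (h : PD φ W) (hcm : ∀ u, φ (ψ u) = ψ (φ u)) {w : U} (hw : w ∈ W) :
    ψ w ∈ W := by
  have h1 : ψ w = φ (ψ (φ w)) * ψ (φ w) := by
    conv_lhs => rw [← h.inv_formula hc h2 hw]
    rw [map_mul, hcm]
  rw [h1]
  exact h.comm _

theorem PD.conj (h : PD φ W) (ψ : MulAut U) : PD (ψ * φ * ψ⁻¹) (W.map ψ.toMonoidHom) := by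
  refine ⟨?_, ?_, ?_, ?_⟩
  · intro u
    simp only [MulAut.mul_apply, MulAut.inv_apply_self, h.pow3, MulAut.apply_inv_self]
  · intro u
    refine ⟨φ (ψ⁻¹ u) * ψ⁻¹ u, h.comm _, ?_⟩
    simp only [MulEquiv.coe_toMonoidHom, map_mul, MulAut.mul_apply, MulAut.apply_inv_self]
  · rw [Subgroup.card_map_of_injective ψ.injective]
    exact h.card
  · rintro _ ⟨w, hw, rfl⟩ hfix
    simp only [MulEquiv.coe_toMonoidHom, MulAut.mul_apply, MulAut.inv_apply_self] at hfix
    have := h.fix w hw (ψ.injective hfix)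
    rw [this]
    simp

include hc h2 in
theorem PD.le_of_not_fix [Finite U] (h : PD φ W) (h' : PD φ' W')
    (hcm : ∀ u, φ (φ' u) = φ' (φ u)) {w₁ : U} (hw₁ : w₁ ∈ W) (hne : φ' w₁ ≠ w₁) : W ≤ W' := by
  set c := φ' w₁ * w₁ with hcdef
  have hcW' : c ∈ W' := h'.comm w₁
  have hcW : c ∈ W := W.mul_mem (h.map_mem_of_comm hc h2 hcm hw₁) hw₁
  have hc1 : c ≠ 1 := by
    intro e
    apply hne
    have : φ' w₁ = w₁⁻¹ := eq_inv_of_mul_eq_one_left e
    rw [this]
    exact inv_eq_of_mul_eq_one_right (h2 w₁)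
  have hφcW : φ c ∈ W := h.map_mem h2 hcW
  have hφcW' : φ c ∈ W' := h'.map_mem_of_comm hc h2 (fun u => (hcm u).symm) hcW'
  have hφc1 : φ c ≠ 1 := by
    intro e
    exact hc1 ((map_eq_one_iff φ φ.injective).mp e)
  have hφcc : φ c ≠ c := fun e => hc1 (h.fix c hcW e)
  intro w hw
  rcases four_group_cases h.card (fun w _ => h2 w) hcW hφcW hc1 hφc1 hφcc w hw with
    rfl | rfl | rfl | rfl
  · exact W'.one_mem
  · exact hcW'
  · exact hφcW'
  · exact W'.mul_mem hcW' hφcW'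

include hc h2 in
/-- commuting plane automorphisms: same plane, or each centralizes the plane of the other. -/
theorem PD.eq_or_orth [Finite U] (h : PD φ W) (h' : PD φ' W')
    (hcm : ∀ u, φ (φ' u) = φ' (φ u)) :
    W = W' ∨ ((∀ w ∈ W, φ' w = w) ∧ (∀ w ∈ W', φ w = w)) := by
  by_cases h1 : ∀ w ∈ W, φ' w = w
  · by_cases h3 : ∀ w ∈ W', φ w = w
    · exact Or.inr ⟨h1, h3⟩
    · push Not at h3
      obtain ⟨w₁, hw₁, hne⟩ := h3
      left
      have hle : W' ≤ W := h'.le_of_not_fix hc h2 h (fun u => (hcm u).symm) hw₁ hne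
      exact (eq_of_le_of_card_le' hle (by rw [h.card, h'.card])).symm
  · push Not at h1
    obtain ⟨w₁, hw₁, hne⟩ := h1
    left
    have hle : W ≤ W' := h.le_of_not_fix hc h2 h' hcm hw₁ hne
    exact eq_of_le_of_card_le' hle (by rw [h.card, h'.card])

theorem PD.exists_ne_one (h : PD φ W) : ∃ w ∈ W, w ≠ 1 := by
  have hne : W ≠ ⊥ := by
    intro e
    have := h.card
    rw [e, Subgroup.card_bot] at this
    omega
  exact (Subgroup.ne_bot_iff_exists_ne_one.mp hne).elim fun w hw => ⟨w.1, w.2, fun e => hw (Subtype.ext e)⟩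

include hc h2 in
/-- an automorphism `θ` of order dividing `3` with `[U, θ] ⊆ W`, commuting with `φ` and fixing a
nontrivial element of the plane `W` of `φ`, is trivial. -/
theorem PD.eq_one_of_fix [Finite U] (h : PD φ W) {θ : MulAut U} (hθ3 : θ ^ 3 = 1)
    (hθW : ∀ u, θ u * u ∈ W) (hcm : ∀ u, θ (φ u) = φ (θ u)) {w : U} (hw : w ∈ W) (hw1 : w ≠ 1)
    (hfix : θ w = w) : θ = 1 := by
  have hφw : φ w ∈ W := h.map_mem h2 hw
  have hφw1 : φ w ≠ 1 := fun e => hw1 ((map_eq_one_iff φ φ.injective).mp e)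
  have hφww : φ w ≠ w := fun e => hw1 (h.fix w hw e)
  have hfixW : ∀ v ∈ W, θ v = v := by
    intro v hv
    rcases four_group_cases h.card (fun w _ => h2 w) hw hφw hw1 hφw1 hφww v hv with
      rfl | rfl | rfl | rfl
    · exact map_one θ
    · exact hfix
    · rw [hcm, hfix]
    · rw [map_mul, hcm, hfix]
  have hsq : ∀ u, θ (θ u) = u := by
    intro u
    have he : θ u = (θ u * u) * u := by rw [mul_assoc, h2, mul_one]
    have h1 : θ (θ u * u) = θ u * u := hfixW _ (hθW u)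
    calc θ (θ u) = θ ((θ u * u) * u) := by rw [← he]
      _ = (θ u * u) * θ u := by rw [map_mul, h1]
      _ = u := by rw [hc (θ u) u, mul_assoc, h2, mul_one]
  ext u
  have h3 : θ (θ (θ u)) = u := by
    have := congrArg (fun f : MulAut U => f u) hθ3
    simpa [pow_succ, MulAut.mul_apply] using this
  rw [hsq] at h3
  rw [MulAut.one_apply]
  exact h3

theorem PD.pow_three (h : PD φ W) : φ ^ 3 = 1 := by
  ext u
  simp [pow_succ, MulAut.mul_apply, h.pow3]

include hc h2 in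
/-- commuting plane automorphisms with the same plane: `φ₁ = φ` or `φ₁ = φ²`. -/
theorem PD.same_plane [Finite U] (h : PD φ W) {φ₁ : MulAut U} (h₁ : PD φ₁ W)
    (hC : Commute φ₁ φ) : φ₁ = φ ∨ φ₁ = φ * φ := by
  have hcm : ∀ u, φ₁ (φ u) = φ (φ₁ u) := by
    intro u
    have := congrArg (fun f : MulAut U => f u) hC.eq
    simpa [MulAut.mul_apply] using this
  obtain ⟨w, hw, hw1⟩ := h.exists_ne_one
  have hφw : φ w ∈ W := h.map_mem h2 hw
  have hφw1 : φ w ≠ 1 := fun e => hw1 ((map_eq_one_iff φ φ.injective).mp e)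
  have hφww : φ w ≠ w := fun e => hw1 (h.fix w hw e)
  have hφ₁w : φ₁ w ∈ W := h₁.map_mem h2 hw
  have e3 : φ ^ 3 = 1 := h.pow_three
  have e3' : φ₁ ^ 3 = 1 := h₁.pow_three
  have hWφ : ∀ u, φ (φ u) * u ∈ W := by
    intro u
    have : φ (φ u) * u = (φ (φ u) * φ u) * (φ u * u) := by
      rw [mul_assoc, ← mul_assoc (φ u), h2, one_mul]
    rw [this]
    exact W.mul_mem (h.comm _) (h.comm _)
  rcases four_group_cases h.card (fun w _ => h2 w) hw hφw hw1 hφw1 hφww _ hφ₁w with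
    e | e | e | e
  · exact absurd ((map_eq_one_iff φ₁ φ₁.injective).mp e) hw1
  · exact absurd (h₁.fix w hw e) hw1
  · -- `φ₁ w = φ w`
    left
    have hθ : φ₁ * φ ^ 2 = 1 := by
      apply h.eq_one_of_fix hc h2 (w := w) _ _ _ hw hw1
      · simp only [pow_succ, pow_zero, one_mul, MulAut.mul_apply]
        rw [hcm, hcm, e, h.pow3]
      · rw [(hC.pow_right 2).mul_pow, e3', one_mul, ← pow_mul, mul_comm 2 3, pow_mul, e3, one_pow]
      · intro u
        simp only [pow_succ, pow_zero, one_mul, MulAut.mul_apply]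
        have : φ₁ (φ (φ u)) * u = (φ₁ (φ (φ u)) * φ (φ u)) * (φ (φ u) * u) := by
          rw [mul_assoc, ← mul_assoc (φ (φ u)), h2, one_mul]
        rw [this]
        exact W.mul_mem (h₁.comm _) (hWφ u)
      · intro u
        simp only [pow_succ, pow_zero, one_mul, MulAut.mul_apply]
        rw [hcm]
    have : φ₁ = (φ ^ 2)⁻¹ := eq_inv_of_mul_eq_one_left hθ
    rw [this]
    apply inv_eq_of_mul_eq_one_left
    rw [← pow_succ']
    exact e3
  · -- `φ₁ w = w * φ w = φ² w`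
    right
    have e' : φ₁ w = φ (φ w) := by
      rw [e]
      have := h.inv_formula hc h2 hw
      calc w * φ w = (φ (φ w) * φ w) * φ w := by rw [this]
        _ = φ (φ w) := by rw [mul_assoc, h2, mul_one]
    have hθ : φ₁ * φ = 1 := by
      apply h.eq_one_of_fix hc h2 (w := w) _ _ _ hw hw1
      · simp only [MulAut.mul_apply]
        rw [hcm, e', h.pow3]
      · rw [hC.mul_pow, e3', e3, one_mul]
      · intro u
        simp only [MulAut.mul_apply]
        have : φ₁ (φ u) * u = (φ₁ (φ u) * φ u) * (φ u * u) := by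
          rw [mul_assoc, ← mul_assoc (φ u), h2, one_mul]
        rw [this]
        exact W.mul_mem (h₁.comm _) (h.comm u)
      · intro u
        simp only [MulAut.mul_apply]
        rw [hcm]
    have : φ₁ = φ⁻¹ := eq_inv_of_mul_eq_one_left hθ
    rw [this]
    apply inv_eq_of_mul_eq_one_left
    rw [← pow_two, ← pow_succ]
    exact e3

include hc h2 in
/-- the orthogonal case is impossible for a conjugate by a plane automorphism. -/
theorem PD.not_orth [Finite U] (h : PD φ W) (h' : PD ψ W')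
    (ho1 : ∀ w ∈ W, (ψ * φ * ψ⁻¹) w = w) (ho2 : ∀ w ∈ W.map ψ.toMonoidHom, φ w = w) : False := by
  have hinv : ∀ u, ψ⁻¹ u = ψ (ψ u) := by
    intro u
    conv_lhs => rw [← h'.pow3 u]
    simp
  have o1 : ∀ w ∈ W, φ (ψ (ψ w)) = ψ (ψ w) := by
    intro w hw
    have := ho1 w hw
    simp only [MulAut.mul_apply] at this
    have h3 : φ (ψ⁻¹ w) = ψ⁻¹ w := ψ.injective (by rw [this, MulAut.apply_inv_self])
    rw [hinv w] at h3
    exact h3
  have o2 : ∀ w ∈ W, φ (ψ w) = ψ w := fun w hw => ho2 _ ⟨w, hw, rfl⟩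
  have hc'W : ∀ v ∈ W, ψ (ψ v) * ψ v ∈ W' := fun v _ => h'.comm (ψ v)
  have hc'fix : ∀ v ∈ W, φ (ψ (ψ v) * ψ v) = ψ (ψ v) * ψ v := by
    intro v hv
    rw [map_mul, o1 v hv, o2 v hv]
  have hc'1 : ∀ v ∈ W, ψ (ψ v) * ψ v = 1 → v = 1 := by
    intro v hv e
    have e1 : ψ (ψ v) = (ψ v)⁻¹ := eq_inv_of_mul_eq_one_left e
    rw [inv_eq_of_mul_eq_one_right (h2 (ψ v))] at e1
    have e2 : ψ v = v := ψ.injective e1
    apply h.fix v hv
    have := o2 v hv
    rwa [e2] at this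
  obtain ⟨w, hw, hw1⟩ := h.exists_ne_one
  have hφw : φ w ∈ W := h.map_mem h2 hw
  have hφw1 : φ w ≠ 1 := fun e => hw1 ((map_eq_one_iff φ φ.injective).mp e)
  have ha1 : ψ (ψ w) * ψ w ≠ 1 := fun e => hw1 (hc'1 w hw e)
  have hb1 : ψ (ψ (φ w)) * ψ (φ w) ≠ 1 := fun e => hφw1 (hc'1 _ hφw e)
  have hba : ψ (ψ (φ w)) * ψ (φ w) ≠ ψ (ψ w) * ψ w := by
    intro e
    have e1 : ψ (ψ (φ w * w)) * ψ (φ w * w) = 1 := by
      simp only [map_mul]
      calc ψ (ψ (φ w)) * ψ (ψ w) * (ψ (φ w) * ψ w)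
          = (ψ (ψ (φ w)) * ψ (φ w)) * (ψ (ψ w) * ψ w) := by
            rw [mul_assoc, ← mul_assoc (ψ (ψ w)), hc (ψ (ψ w)) (ψ (φ w)), mul_assoc, mul_assoc]
        _ = 1 := by rw [e, h2]
    have e2 := hc'1 _ (W.mul_mem hφw hw) e1
    have e3 : φ w = w⁻¹ := eq_inv_of_mul_eq_one_left e2
    rw [inv_eq_of_mul_eq_one_right (h2 w)] at e3
    exact hw1 (h.fix w hw e3)
  have hfixW' : ∀ v ∈ W', φ v = v := by
    intro v hv
    rcases four_group_cases h'.card (fun w _ => h2 w) (hc'W w hw) (hc'W _ hφw) ha1 hb1 hba v hv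
      with rfl | rfl | rfl | rfl
    · exact map_one φ
    · exact hc'fix w hw
    · exact hc'fix _ hφw
    · rw [map_mul, hc'fix w hw, hc'fix _ hφw]
  have hcfix := hfixW' _ (h'.comm w)
  rw [map_mul, o2 w hw] at hcfix
  have := mul_left_cancel hcfix
  exact hw1 (h.fix w hw this)

include hc h2 in
/-- **Plane automorphisms in a common `3`-group commute.** -/
theorem commute_of_PD [Finite U] : ∀ (n : ℕ) (Γ : Subgroup (MulAut U)), Nat.card Γ = n →
    IsPGroup 3 Γ → ∀ (φ ψ : MulAut U) (W W' : Subgroup U), φ ∈ Γ → ψ ∈ Γ → PD φ W → PD ψ W' →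
      Commute ψ φ := by
  intro n
  induction n using Nat.strong_induction_on with
  | _ n IH =>
    intro Γ hn hΓ φ ψ W W' hφ hψ h h'
    haveI : Fact (Nat.Prime 3) := ⟨Nat.prime_three⟩
    set φ₁ := ψ * φ * ψ⁻¹ with hφ₁
    have h₁ : PD φ₁ (W.map ψ.toMonoidHom) := h.conj ψ
    have hC : Commute φ₁ φ := by
      rcases eq_top_or_exists_le_coatom (Subgroup.zpowers (⟨φ, hφ⟩ : ↥Γ)) with htop | ⟨M, hM, hle⟩
      · have hmem : (⟨ψ, hψ⟩ : ↥Γ) ∈ Subgroup.zpowers (⟨φ, hφ⟩ : ↥Γ) := by rw [htop]; trivial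
        obtain ⟨k, hk⟩ := Subgroup.mem_zpowers_iff.mp hmem
        have hk' : φ ^ k = ψ := by
          have := congrArg Subtype.val hk
          simpa using this
        have hcomm : Commute ψ φ := by rw [← hk']; exact (Commute.refl φ).zpow_left k
        have : φ₁ = φ := by rw [hφ₁, hcomm.eq, mul_inv_cancel_right]
        rw [this]
      · haveI : Group.IsNilpotent ↥Γ := hΓ.isNilpotent
        have hMn : M.Normal :=
          Subgroup.NormalizerCondition.normal_of_coatom M Group.normalizerCondition_of_isNilpotent hM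
        have hcard : Nat.card (M.map Γ.subtype) < n := by
          rw [Subgroup.card_map_of_injective Γ.subtype_injective, ← hn]
          exact Cfsg.Agent.Lib.H14.card_lt_of_lt_top M (lt_top_iff_ne_top.mpr hM.1)
        have hM₁ : IsPGroup 3 (M.map Γ.subtype) := hΓ.to_le (Subgroup.map_subtype_le M)
        have hφM : φ ∈ M.map Γ.subtype := ⟨⟨φ, hφ⟩, hle (Subgroup.mem_zpowers _), rfl⟩
        have hφ₁M : φ₁ ∈ M.map Γ.subtype :=
          ⟨⟨ψ, hψ⟩ * ⟨φ, hφ⟩ * ⟨ψ, hψ⟩⁻¹, hMn.conj_mem _ (hle (Subgroup.mem_zpowers _)) _, rfl⟩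
        exact IH _ hcard (M.map Γ.subtype) rfl hM₁ φ φ₁ W _ hφM hφ₁M h h₁
    have hcm : ∀ u, φ (φ₁ u) = φ₁ (φ u) := by
      intro u
      have := congrArg (fun f : MulAut U => f u) hC.eq
      simpa [MulAut.mul_apply] using this.symm
    rcases h.eq_or_orth hc h2 h₁ hcm with heq | ⟨ho1, ho2⟩
    · rw [← heq] at h₁
      rcases h.same_plane hc h2 h₁ hC with e | e
      · exact mul_inv_eq_iff_eq_mul.mp e
      · have e3 : φ ^ 3 = 1 := h.pow_three
        have hinv : φ * φ = φ⁻¹ := by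
          apply eq_inv_of_mul_eq_one_left
          rw [← pow_two, ← pow_succ]; exact e3
        have hs1 : SemiconjBy ψ φ φ⁻¹ := by
          show ψ * φ = φ⁻¹ * ψ
          rw [← hinv, ← e, hφ₁, inv_mul_cancel_right]
        have hs2 : SemiconjBy ψ φ⁻¹ φ := by
          have := hs1.inv_right
          rwa [inv_inv] at this
        have hC2 : Commute (ψ * ψ) φ := hs2.mul_left hs1
        obtain ⟨k, hk⟩ := hΓ ⟨ψ, hψ⟩
        have hk' : ψ ^ (3 ^ k) = 1 := by
          have := congrArg Subtype.val hk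
          simpa using this
        obtain ⟨m, hm⟩ : Odd (3 ^ k) := Odd.pow (by decide)
        have hψ : ψ = ((ψ * ψ) ^ m)⁻¹ := by
          apply eq_inv_of_mul_eq_one_right
          rw [← pow_two, ← pow_mul, ← pow_succ, ← hm]
          exact hk'
        rw [hψ]
        exact (hC2.pow_left m).inv_left
    · exact (h.not_orth hc h2 h' ho1 ho2).elim

end

end Cfsg.Agent.Lib.H15.Plane
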