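import Mathlib
import Cfsg.Agent.Lib.H15.Plane1

/-!
helper15: transfer of the plane-automorphism lemmas to conjugation actions inside a group `G`:
`V` elementary abelian, `x` of order `3` with `[V, x] ≤ W`, `|W| = 4`, fixed-point-free on `W`;
if `x` and `y x y⁻¹` lie in a subgroup `P ≤ N(V)` acting on `V` as a `3`-group, then
`W^y = W` or (`x` centralizes `W^y` and `x^y` centralizes `W`).
-/

set_option autoImplicit false

namespace Cfsg.Agent.Lib.H15.Plane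

open Cfsg.Agent.Lib.H15

variable {G : Type*} [Group G]

theorem nmh_apply {V : Subgroup G} (z : ↥(Subgroup.normalizer (V : Set G))) (v : ↥V) :
    ((V.normalizerMonoidHom z) v : G) = (z : G) * v * (z : G)⁻¹ := rfl

theorem orth_of_setup [Finite G] {V W P : Subgroup G} {x y : G}
    (hVc : ∀ a ∈ V, ∀ b ∈ V, a * b = b * a) (hV2 : ∀ v ∈ V, v * v = 1)
    (hWV : W ≤ V) (hW4 : Nat.card W = 4) (hx3 : x ^ 3 = 1)
    (hxW : ∀ v ∈ V, x * v * x⁻¹ * v⁻¹ ∈ W) (hfix : ∀ w ∈ W, x * w * x⁻¹ = w → w = 1)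
    (hPV : P ≤ Subgroup.normalizer (V : Set G))
    (hP : ∀ z ∈ P, ∃ k : ℕ, z ^ (3 ^ k) ∈ Subgroup.centralizer (V : Set G))
    (hxP : x ∈ P) (hyV : y ∈ Subgroup.normalizer (V : Set G)) (hyP : y * x * y⁻¹ ∈ P) :
    cj y W = W ∨ ((∀ w ∈ W, (y * x * y⁻¹) * w * (y * x * y⁻¹)⁻¹ = w) ∧
      (∀ w ∈ cj y W, x * w * x⁻¹ = w)) := by
  have hc : ∀ a b : ↥V, a * b = b * a := fun a b => Subtype.ext (hVc a a.2 b b.2)
  have h2 : ∀ u : ↥V, u * u = 1 := fun u => Subtype.ext (hV2 u u.2)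
  set ν := V.normalizerMonoidHom with hν
  set Γ : Subgroup (MulAut ↥V) := (P.subgroupOf (Subgroup.normalizer (V : Set G))).map ν with hΓdef
  have hΓ : IsPGroup 3 Γ := by
    rintro ⟨γ, z, hz, rfl⟩
    obtain ⟨k, hk⟩ := hP z hz
    refine ⟨k, Subtype.ext ?_⟩
    show (ν z) ^ (3 ^ k) = 1
    rw [← map_pow]
    ext v
    rw [nmh_apply, MulAut.one_apply]
    have := Subgroup.mem_centralizer_iff.mp hk v v.2
    rw [Subgroup.coe_pow, ← this]
    group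
  set xN : ↥(Subgroup.normalizer (V : Set G)) := ⟨x, hPV hxP⟩ with hxN
  set yN : ↥(Subgroup.normalizer (V : Set G)) := ⟨y, hyV⟩ with hyN
  set φ := ν xN with hφ
  set ψ₀ := ν yN with hψ₀
  have hφΓ : φ ∈ Γ := ⟨xN, hxP, rfl⟩
  have hψΓ : ψ₀ * φ * ψ₀⁻¹ ∈ Γ := by
    refine ⟨yN * xN * yN⁻¹, ?_, ?_⟩
    · show ((yN * xN * yN⁻¹ : ↥(Subgroup.normalizer (V : Set G))) : G) ∈ P
      exact hyP
    · rw [map_mul, map_mul, map_inv]
  have hvinv : ∀ v ∈ V, v⁻¹ = v := fun v hv => inv_eq_of_mul_eq_one_right (hV2 v hv)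
  have hPD : PD φ (W.subgroupOf V) := by
    refine ⟨?_, ?_, ?_, ?_⟩
    · intro u
      apply Subtype.ext
      rw [nmh_apply, nmh_apply, nmh_apply]
      show x * (x * (x * (u : G) * x⁻¹) * x⁻¹) * x⁻¹ = u
      have hx3' : x * x * x = 1 := by rw [← hx3, pow_succ, pow_succ, pow_one]
      calc x * (x * (x * (u : G) * x⁻¹) * x⁻¹) * x⁻¹ = (x * x * x) * u * (x * x * x)⁻¹ := by group
        _ = u := by rw [hx3']; group
    · intro u
      rw [Subgroup.mem_subgroupOf]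
      show x * (u : G) * x⁻¹ * u ∈ W
      have := hxW u u.2
      rwa [hvinv u u.2] at this
    · rw [← hW4]
      exact Nat.card_congr (Subgroup.subgroupOfEquivOfLe hWV).toEquiv
    · intro w hw hfx
      apply Subtype.ext
      rw [Subgroup.mem_subgroupOf] at hw
      apply hfix _ hw
      have := congrArg Subtype.val hfx
      exact this
  have hPD' : PD (ψ₀ * φ * ψ₀⁻¹) ((W.subgroupOf V).map ψ₀.toMonoidHom) := hPD.conj ψ₀
  have hC : Commute (ψ₀ * φ * ψ₀⁻¹) φ :=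
    commute_of_PD hc h2 _ Γ rfl hΓ φ (ψ₀ * φ * ψ₀⁻¹) _ _ hφΓ hψΓ hPD hPD'
  have hcm : ∀ u, φ ((ψ₀ * φ * ψ₀⁻¹) u) = (ψ₀ * φ * ψ₀⁻¹) (φ u) := by
    intro u
    have := congrArg (fun f : MulAut ↥V => f u) hC.eq
    simpa only [MulAut.mul_apply] using this.symm
  have hψapp : ∀ u : ↥V, (((ψ₀ * φ * ψ₀⁻¹) u : ↥V) : G) = (y * x * y⁻¹) * u * (y * x * y⁻¹)⁻¹ := by
    intro u
    have e : ψ₀ * φ * ψ₀⁻¹ = ν (yN * xN * yN⁻¹) := by rw [map_mul, map_mul, map_inv]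
    rw [e, nmh_apply]
    rfl
  rcases hPD.eq_or_orth hc h2 hPD' hcm with heq | ⟨ho1, ho2⟩
  · left
    apply cj_eq_of_cj_le
    rintro _ ⟨w, hw, rfl⟩
    have h1 : ψ₀ ⟨w, hWV hw⟩ ∈ (W.subgroupOf V).map ψ₀.toMonoidHom :=
      ⟨⟨w, hWV hw⟩, Subgroup.mem_subgroupOf.mpr hw, rfl⟩
    rw [← heq, Subgroup.mem_subgroupOf] at h1
    exact h1
  · right
    refine ⟨?_, ?_⟩
    · intro w hw
      have := ho1 ⟨w, hWV hw⟩ (by rw [Subgroup.mem_subgroupOf]; exact hw)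
      have h3 := congrArg Subtype.val this
      rw [hψapp] at h3
      exact h3
    · rintro _ ⟨w, hw, rfl⟩
      have h1 : ψ₀ ⟨w, hWV hw⟩ ∈ (W.subgroupOf V).map ψ₀.toMonoidHom :=
        ⟨⟨w, hWV hw⟩, Subgroup.mem_subgroupOf.mpr hw, rfl⟩
      have := ho2 _ h1
      have h3 := congrArg Subtype.val this
      exact h3

end Cfsg.Agent.Lib.H15.Plane
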