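import Mathlib
import Cfsg.Agent.Lib.H15.Plane2
import Cfsg.Agent.Lib.H15.Card
import Cfsg.Agent.Lib.H15.CD
import Cfsg.Agent.Lib.H15.JComp4
import Cfsg.Agent.Lib.H1.Complement

/-!
helper15: the counting argument.  `V` elementary abelian `2`-group, `W ≤ V` a plane on which `x`
acts fixed-point-freely, `A` an elementary abelian `2`-group normalizing `V` such that the
`A`-conjugates of `W` are equal or "orthogonal" to `W`.  If no elementary abelian `2`-subgroup of
`⟨A, V⟩` is larger than `A`, then `A` normalizes `W`.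
-/

set_option autoImplicit false

namespace Cfsg.Agent.Lib.H15.Plane

open Cfsg.Agent.Lib.H15

variable {G : Type*} [Group G]

/-- configuration for the counting argument. -/
structure Cfg (V W A : Subgroup G) (x : G) : Prop where
  hVc : ∀ a ∈ V, ∀ b ∈ V, a * b = b * a
  hV2 : ∀ v ∈ V, v * v = 1
  hWV : W ≤ V
  hW4 : Nat.card W = 4
  hfix : ∀ w ∈ W, x * w * x⁻¹ = w → w = 1
  hAV : A ≤ Subgroup.normalizer (V : Set G)
  hAc : ∀ a ∈ A, ∀ b ∈ A, a * b = b * a
  hA2 : ∀ a ∈ A, a * a = 1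
  horth : ∀ a ∈ A, cj a W = W ∨ ((∀ w ∈ W, (a * x * a⁻¹) * w * (a * x * a⁻¹)⁻¹ = w) ∧
      (∀ w ∈ cj a W, x * w * x⁻¹ = w))

namespace Cfg

variable {V W A : Subgroup G} {x : G}

theorem pl_le (c : Cfg V W A x) {a : G} (ha : a ∈ A) : cj a W ≤ V := by
  have := cj_le_of_mem_normalizer (c.hAV ha)
  rw [← this]
  exact cj_mono a c.hWV

theorem hW2 (c : Cfg V W A x) : ∀ w ∈ W, w * w = 1 := fun w hw => c.hV2 w (c.hWV hw)

theorem orth2 (c : Cfg V W A x) {a b : G} (ha : a ∈ A) (hb : b ∈ A) :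
    cj a W = cj b W ∨ ∀ w ∈ cj b W, (a * x * a⁻¹) * w * (a * x * a⁻¹)⁻¹ = w := by
  have hd : a⁻¹ * b ∈ A := A.mul_mem (A.inv_mem ha) hb
  rcases c.horth _ hd with h | ⟨_, h⟩
  · left
    have := congrArg (cj a) h
    rw [cj_cj, mul_inv_cancel_left] at this
    exact this.symm
  · right
    intro w hw
    have hw' : a⁻¹ * w * a ∈ cj (a⁻¹ * b) W := by
      rw [mem_cj_iff] at hw ⊢
      have : (a⁻¹ * b)⁻¹ * (a⁻¹ * w * a) * (a⁻¹ * b) = b⁻¹ * w * b := by group
      rw [this]; exact hw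
    have := h _ hw'
    calc (a * x * a⁻¹) * w * (a * x * a⁻¹)⁻¹ = a * (x * (a⁻¹ * w * a) * x⁻¹) * a⁻¹ := by group
      _ = w := by rw [this]; group

theorem fix_pl (c : Cfg V W A x) {a w : G} (hw : w ∈ cj a W)
    (hfx : (a * x * a⁻¹) * w * (a * x * a⁻¹)⁻¹ = w) : w = 1 := by
  rw [mem_cj_iff] at hw
  have h1 : x * (a⁻¹ * w * a) * x⁻¹ = a⁻¹ * w * a := by
    calc x * (a⁻¹ * w * a) * x⁻¹ = a⁻¹ * ((a * x * a⁻¹) * w * (a * x * a⁻¹)⁻¹) * a := by group
      _ = a⁻¹ * w * a := by rw [hfx]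
  have := c.hfix _ hw h1
  calc w = a * (a⁻¹ * w * a) * a⁻¹ := by group
    _ = 1 := by rw [this]; group

section ind

variable {ι : Type*} [DecidableEq ι] (f : ι → G)

theorem ind [Finite G] (c : Cfg V W A x) (hf : ∀ i, f i ∈ A)
    (hinj : ∀ i j, cj (f i) W = cj (f j) W → i = j) (S : Finset ι) :
    (∀ u ∈ S.sup (fun i => cj (f i) W),
      (∀ i ∈ S, (f i * x * (f i)⁻¹) * u * (f i * x * (f i)⁻¹)⁻¹ = u) → u = 1) ∧
    4 ^ S.card ≤ Nat.card ↥(S.sup (fun i => cj (f i) W)) := by
  classical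
  induction S using Finset.induction_on with
  | empty =>
    refine ⟨?_, ?_⟩
    · intro u hu _
      rw [Finset.sup_empty, Subgroup.mem_bot] at hu
      exact hu
    · rw [Finset.sup_empty, Finset.card_empty, Subgroup.card_bot]
      norm_num
  | insert a S ha IH =>
    obtain ⟨IH1, IH2⟩ := IH
    set US := S.sup (fun i => cj (f i) W) with hUS
    set Wa := cj (f a) W with hWa
    set xa := f a * x * (f a)⁻¹ with hxa
    have hUSV : US ≤ V := Finset.sup_le fun i _ => c.pl_le (hf i)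
    have hWaV : Wa ≤ V := c.pl_le (hf a)
    -- `xa` centralizes `US`
    have hcent : ∀ u ∈ US, xa * u * xa⁻¹ = u := by
      have : US ≤ Subgroup.centralizer {xa} := by
        apply Finset.sup_le
        intro i hi w hw
        rw [Subgroup.mem_centralizer_iff]
        intro h hh
        rw [Set.mem_singleton_iff] at hh
        subst hh
        rcases c.orth2 (hf a) (hf i) with e | e
        · exact absurd (hinj a i e) (fun e' => ha (e' ▸ hi))
        · have := e w hw
          calc xa * w = (xa * w * xa⁻¹) * xa := by group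
            _ = w * xa := by rw [this]
      intro u hu
      have := Subgroup.mem_centralizer_iff.mp (this hu) xa rfl
      calc xa * u * xa⁻¹ = (xa * u) * xa⁻¹ := rfl
        _ = (u * xa) * xa⁻¹ := by rw [this]
        _ = u := by group
    have hdisj : Wa ⊓ US = ⊥ := by
      rw [eq_bot_iff]
      intro w hw
      rw [Subgroup.mem_bot]
      exact c.fix_pl hw.1 (hcent w hw.2)
    have hsup : (insert a S).sup (fun i => cj (f i) W) = Wa ⊔ US := Finset.sup_insert
    rw [hsup]
    refine ⟨?_, ?_⟩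
    · intro u hu hfx
      have hnorm : US ≤ Subgroup.normalizer (Wa : Set G) := by
        refine le_trans ?_ (Subgroup.centralizer_le_normalizer _)
        intro u hu
        rw [Subgroup.mem_centralizer_iff]
        intro h hh
        exact c.hVc h (hWaV hh) u (hUSV hu)
      obtain ⟨w, hw, u', hu', rfl⟩ := Cfsg.Agent.Lib.H1.mem_sup_of_le_normalizer hnorm hu
      have h1 := hfx a (Finset.mem_insert_self a S)
      have h2 := hcent u' hu'
      have h3 : xa * w * xa⁻¹ = w := by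
        have : xa * (w * u') * xa⁻¹ = (xa * w * xa⁻¹) * (xa * u' * xa⁻¹) := by group
        rw [this, h2] at h1
        exact mul_right_cancel h1
      have hw1 : w = 1 := c.fix_pl hw h3
      rw [hw1, one_mul]
      apply IH1 u' hu'
      intro i hi
      have := hfx i (Finset.mem_insert_of_mem hi)
      rwa [hw1, one_mul] at this
    · rw [Finset.card_insert_of_notMem ha, pow_succ]
      have h1 := card_mul_card_le Wa US
      rw [hdisj, Subgroup.card_bot, one_mul] at h1
      have h2 : Nat.card Wa = 4 := by rw [hWa, card_cj]; exact c.hW4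
      rw [h2] at h1
      calc 4 ^ S.card * 4 ≤ Nat.card US * 4 := Nat.mul_le_mul_right 4 IH2
        _ = 4 * Nat.card US := mul_comm _ _
        _ ≤ _ := h1

end ind

theorem lt_four_pow (m : ℕ) : m + 2 < 4 ^ (m + 1) := by
  induction m with
  | zero => norm_num
  | succ m ih => rw [pow_succ]; omega

/-- The `δ`-analysis: `|N_A(W) : C_A(W)| ≤ |W₀|` for a subgroup `W₀ ≤ W` without nontrivial
`N_A(W)`-fixed points. -/
theorem exists_W₀ [Finite G] (c : Cfg V W A x) :
    ∃ W₀ : Subgroup G, W₀ ≤ W ∧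
      Nat.card ↥(A ⊓ Subgroup.normalizer (W : Set G)) ≤
        Nat.card ↥(A ⊓ Subgroup.centralizer (W : Set G)) * Nat.card ↥W₀ ∧
      ∀ w ∈ W₀, (∀ b ∈ A ⊓ Subgroup.normalizer (W : Set G), b * w * b⁻¹ = w) → w = 1 := by
  by_cases hcase : A ⊓ Subgroup.normalizer (W : Set G) ≤ Subgroup.centralizer (W : Set G)
  · refine ⟨⊥, bot_le, ?_, ?_⟩
    · rw [Subgroup.card_bot, mul_one]
      exact Subgroup.card_le_of_le (le_inf inf_le_left hcase)
    · intro w hw _
      exact Subgroup.mem_bot.mp hw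
  · obtain ⟨a₀, ha₀, ha₀C⟩ := SetLike.not_le_iff_exists.mp hcase
    have ha₀A : a₀ ∈ A := ha₀.1
    have ha₀N : a₀ ∈ Subgroup.normalizer (W : Set G) := ha₀.2
    rw [Subgroup.mem_centralizer_iff] at ha₀C
    push Not at ha₀C
    obtain ⟨w₁, hw₁, hw₁a⟩ := ha₀C
    set w₂ := a₀ * w₁ * a₀⁻¹ with hw₂def
    have hw₂ : w₂ ∈ W := (Subgroup.mem_normalizer_iff.mp ha₀N w₁).mp hw₁
    have hne : w₂ ≠ w₁ := by
      intro e
      apply hw₁a
      calc w₁ * a₀ = (a₀ * w₁ * a₀⁻¹) * a₀ := by rw [← hw₂def, e]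
        _ = a₀ * w₁ := by group
    have ha₀inv : a₀⁻¹ = a₀ := inv_eq_of_mul_eq_one_right (c.hA2 a₀ ha₀A)
    have hw₂a : a₀ * w₂ * a₀⁻¹ = w₁ := by
      calc a₀ * w₂ * a₀⁻¹ = (a₀ * a₀) * w₁ * (a₀ * a₀)⁻¹ := by rw [hw₂def]; group
        _ = w₁ := by rw [c.hA2 a₀ ha₀A]; group
    have hw₁1 : w₁ ≠ 1 := by
      intro e
      apply hne
      rw [hw₂def, e]; group
    have hw₂1 : w₂ ≠ 1 := by
      intro e
      apply hw₁1
      rw [← hw₂a, e]; group
    have hcases := four_group_cases c.hW4 c.hW2 hw₁ hw₂ hw₁1 hw₂1 hne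
    have hw₁₂ : w₁ * w₂ = w₂ * w₁ := c.hVc w₁ (c.hWV hw₁) w₂ (c.hWV hw₂)
    -- action of `N_A(W)` on `w₁, w₂`
    have key : ∀ b ∈ A ⊓ Subgroup.normalizer (W : Set G),
        (b * w₁ * b⁻¹ = w₁ ∧ b * w₂ * b⁻¹ = w₂) ∨ (b * w₁ * b⁻¹ = w₂ ∧ b * w₂ * b⁻¹ = w₁) := by
      intro b hb
      have hcomm : b * a₀ = a₀ * b := c.hAc b hb.1 a₀ ha₀A
      have ht : b * w₁ * b⁻¹ ∈ W := (Subgroup.mem_normalizer_iff.mp hb.2 w₁).mp hw₁
      have h2 : b * w₂ * b⁻¹ = a₀ * (b * w₁ * b⁻¹) * a₀⁻¹ := by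
        calc b * w₂ * b⁻¹ = (b * a₀) * w₁ * (b * a₀)⁻¹ := by rw [hw₂def]; group
          _ = (a₀ * b) * w₁ * (a₀ * b)⁻¹ := by rw [hcomm]
          _ = a₀ * (b * w₁ * b⁻¹) * a₀⁻¹ := by group
      rcases hcases _ ht with e | e | e | e
      · exact absurd (conj_eq_one_iff.mp e) hw₁1
      · left; exact ⟨e, by rw [h2, e]⟩
      · right; exact ⟨e, by rw [h2, e, hw₂a]⟩
      · exfalso
        apply hne
        have h3 : b * w₂ * b⁻¹ = b * w₁ * b⁻¹ := by
          rw [h2, e]
          calc a₀ * (w₁ * w₂) * a₀⁻¹ = (a₀ * w₁ * a₀⁻¹) * (a₀ * w₂ * a₀⁻¹) := by group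
            _ = w₁ * w₂ := by rw [hw₂a, ← hw₂def, hw₁₂]
        have : b⁻¹ * (b * w₂ * b⁻¹) * b = b⁻¹ * (b * w₁ * b⁻¹) * b := by rw [h3]
        have e1 : b⁻¹ * (b * w₂ * b⁻¹) * b = w₂ := by group
        have e2 : b⁻¹ * (b * w₁ * b⁻¹) * b = w₁ := by group
        rw [e1, e2] at this
        exact this
    have hcent : ∀ b : G, b * w₁ * b⁻¹ = w₁ → b * w₂ * b⁻¹ = w₂ →
        b ∈ Subgroup.centralizer (W : Set G) := by
      intro b h1 h2
      have c1 : w₁ * b = b * w₁ := by
        calc w₁ * b = (b * w₁ * b⁻¹) * b := by rw [h1]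
          _ = b * w₁ := by group
      have c2 : w₂ * b = b * w₂ := by
        calc w₂ * b = (b * w₂ * b⁻¹) * b := by rw [h2]
          _ = b * w₂ := by group
      rw [Subgroup.mem_centralizer_iff]
      intro h hh
      rcases hcases h hh with rfl | rfl | rfl | rfl
      · simp
      · exact c1
      · exact c2
      · rw [mul_assoc, c2, ← mul_assoc, c1, mul_assoc]
    have ha₀notC : a₀ ∉ Subgroup.centralizer (W : Set G) := by
      intro h
      exact hw₁a (Subgroup.mem_centralizer_iff.mp h w₁ hw₁)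
    refine ⟨Subgroup.zpowers w₁, ?_, ?_, ?_⟩
    · rw [Subgroup.zpowers_le]; exact hw₁
    · -- index two
      set A₀ := A ⊓ Subgroup.normalizer (W : Set G) with hA₀
      set C := A ⊓ Subgroup.centralizer (W : Set G) with hC
      have hCA₀ : C ≤ A₀ := inf_le_inf_left A (Subgroup.centralizer_le_normalizer _)
      have hidx : (C.subgroupOf A₀).index = 2 := by
        rw [Subgroup.index_eq_two_iff]
        refine ⟨⟨a₀, ha₀⟩, ?_⟩
        intro b
        rcases key b b.2 with ⟨h1, h2⟩ | ⟨h1, h2⟩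
        · right
          refine ⟨?_, ?_⟩
          · rw [Subgroup.mem_subgroupOf]
            exact ⟨b.2.1, hcent b h1 h2⟩
          · rw [Subgroup.mem_subgroupOf]
            intro h
            apply ha₀notC
            have hb : (b : G) ∈ Subgroup.centralizer (W : Set G) := hcent b h1 h2
            have := Subgroup.mul_mem _ (Subgroup.inv_mem _ hb) h.2
            simpa using this
        · left
          refine ⟨?_, ?_⟩
          · rw [Subgroup.mem_subgroupOf]
            refine ⟨A.mul_mem b.2.1 ha₀A, ?_⟩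
            apply hcent
            · calc (b : G) * a₀ * w₁ * ((b : G) * a₀)⁻¹ = b * (a₀ * w₁ * a₀⁻¹) * (b : G)⁻¹ := by
                    group
                _ = w₁ := by rw [← hw₂def, h2]
            · calc (b : G) * a₀ * w₂ * ((b : G) * a₀)⁻¹ = b * (a₀ * w₂ * a₀⁻¹) * (b : G)⁻¹ := by
                    group
                _ = w₂ := by rw [hw₂a, h1]
          · rw [Subgroup.mem_subgroupOf]
            intro h
            apply hne
            have := Subgroup.mem_centralizer_iff.mp h.2 w₁ hw₁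
            rw [← h1]
            calc (b : G) * w₁ * (b : G)⁻¹ = (w₁ * b) * (b : G)⁻¹ := by rw [this]
              _ = w₁ := by group
      have h1 := Subgroup.card_mul_index (C.subgroupOf A₀)
      rw [hidx] at h1
      have h2 : Nat.card (C.subgroupOf A₀) = Nat.card C :=
        Nat.card_congr (Subgroup.subgroupOfEquivOfLe hCA₀).toEquiv
      rw [h2] at h1
      rw [← h1]
      apply Nat.mul_le_mul_left
      have : Subgroup.zpowers w₁ ≠ ⊥ := Subgroup.zpowers_ne_bot.mpr hw₁1
      have := (Subgroup.one_lt_card_iff_ne_bot (Subgroup.zpowers w₁)).mpr this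
      omega
    · intro w hw hfixall
      obtain ⟨k, rfl⟩ := Subgroup.mem_zpowers_iff.mp hw
      have hsq : w₁ ^ (2 : ℤ) = 1 := by rw [zpow_two]; exact c.hW2 w₁ hw₁
      rcases Int.even_or_odd' k with ⟨m, rfl | rfl⟩
      · rw [zpow_mul, hsq, one_zpow]
      · exfalso
        have e : w₁ ^ (2 * m + 1) = w₁ := by rw [zpow_add_one, zpow_mul, hsq, one_zpow, one_mul]
        rw [e] at hfixall
        have := hfixall a₀ ha₀
        rw [← hw₂def] at this
        exact hne this

/-- **The counting argument.** -/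
theorem le_normalizer [Finite G] (c : Cfg V W A x)
    (hmax : ∀ B : Subgroup G, B ≤ A ⊔ V → Cfsg.IsElementaryAbelian 2 B →
      Nat.card B ≤ Nat.card A) :
    A ≤ Subgroup.normalizer (W : Set G) := by
  classical
  set A₀ := A ⊓ Subgroup.normalizer (W : Set G) with hA₀
  set C := A ⊓ Subgroup.centralizer (W : Set G) with hC
  obtain ⟨W₀, hW₀W, hcardA₀, hW₀fix⟩ := c.exists_W₀
  set N₀ : Subgroup ↥A := A₀.subgroupOf A with hN₀
  haveI : Fintype (↥A ⧸ N₀) := Fintype.ofFinite _
  let f : ↥A ⧸ N₀ → G := fun q => ((Quotient.out q : ↥A) : G)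
  have hf : ∀ q, f q ∈ A := fun q => (Quotient.out q : ↥A).2
  have hiff : ∀ a b : G, a⁻¹ * b ∈ Subgroup.normalizer (W : Set G) ↔ cj a W = cj b W := by
    intro a b
    rw [mem_normalizer_iff_cj_eq]
    constructor
    · intro h
      have := congrArg (cj a) h
      rw [cj_cj, mul_inv_cancel_left] at this
      exact this.symm
    · intro h
      rw [← cj_cj, ← h, cj_inv_cj]
  have hmemN₀ : ∀ a b : ↥A, a⁻¹ * b ∈ N₀ ↔ cj (a : G) W = cj (b : G) W := by
    intro a b
    rw [← hiff, hN₀, Subgroup.mem_subgroupOf, hA₀, Subgroup.mem_inf]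
    constructor
    · intro h; exact h.2
    · intro h; exact ⟨(a⁻¹ * b).2, h⟩
  have hinj : ∀ q q', cj (f q) W = cj (f q') W → q = q' := by
    intro q q' h
    have h1 := (hmemN₀ (Quotient.out q) (Quotient.out q')).mpr h
    have h2 : (QuotientGroup.mk (Quotient.out q) : ↥A ⧸ N₀) = QuotientGroup.mk (Quotient.out q') :=
      QuotientGroup.eq.mpr h1
    rwa [QuotientGroup.out_eq', QuotientGroup.out_eq'] at h2
  have hfmk : ∀ a : ↥A, cj (f (QuotientGroup.mk a)) W = cj (a : G) W := by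
    intro a
    apply (hmemN₀ _ _).mp
    apply QuotientGroup.eq.mp
    rw [QuotientGroup.out_eq']
  set q₁ : ↥A ⧸ N₀ := QuotientGroup.mk (1 : ↥A) with hq₁
  set S : Finset (↥A ⧸ N₀) := Finset.univ.erase q₁ with hS
  obtain ⟨hind, hcardU⟩ := c.ind f hf hinj S
  set U'' := S.sup (fun q => cj (f q) W) with hU''
  have hSne : ∀ q ∈ S, cj (f q) W ≠ W := by
    intro q hq e
    apply (Finset.mem_erase.mp hq).1
    apply hinj
    rw [e, hq₁, hfmk]
    simp [cj_one]
  have hpl : ∀ a ∈ A, a ∉ Subgroup.normalizer (W : Set G) → cj a W ≤ U'' := by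
    intro a ha hna
    have hq : (QuotientGroup.mk (⟨a, ha⟩ : ↥A) : ↥A ⧸ N₀) ∈ S := by
      rw [hS, Finset.mem_erase]
      refine ⟨?_, Finset.mem_univ _⟩
      intro e
      apply hna
      have h1 := congrArg (fun q => cj (f q) W) e
      simp only [hq₁, hfmk] at h1
      rw [mem_normalizer_iff_cj_eq]
      simpa [cj_one] using h1
    rw [← hfmk ⟨a, ha⟩]
    exact Finset.le_sup (f := fun q => cj (f q) W) hq
  have hU''V : U'' ≤ V := Finset.sup_le fun q _ => c.pl_le (hf q)
  have hxU'' : ∀ u ∈ U'', x * u * x⁻¹ = u := by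
    have hle : U'' ≤ Subgroup.centralizer {x} := by
      apply Finset.sup_le
      intro q hq w hw
      rcases c.horth (f q) (hf q) with e | ⟨_, e⟩
      · exact absurd e (hSne q hq)
      · rw [Subgroup.mem_centralizer_iff]
        intro h hh
        rw [Set.mem_singleton_iff] at hh
        subst hh
        have := e w hw
        calc h * w = (h * w * h⁻¹) * h := by group
          _ = w * h := by rw [this]
    intro u hu
    have := Subgroup.mem_centralizer_iff.mp (hle hu) x rfl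
    calc x * u * x⁻¹ = (u * x) * x⁻¹ := by rw [this]
      _ = u := by group
  have hWU'' : W ⊓ U'' = ⊥ := by
    rw [eq_bot_iff]
    intro w hw
    rw [Subgroup.mem_bot]
    exact c.hfix w hw.1 (hxU'' w hw.2)
  have hcjU'' : ∀ b ∈ A₀, ∀ u ∈ U'', b * u * b⁻¹ ∈ U'' := by
    intro b hb
    have hle : cj b U'' ≤ U'' := by
      rw [cj_le_iff]
      apply Finset.sup_le
      intro q hq
      rw [← cj_le_iff, cj_cj]
      apply hpl (b * f q) (A.mul_mem hb.1 (hf q))
      intro hn
      have h1 : f q ∈ Subgroup.normalizer (W : Set G) := by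
        have := Subgroup.mul_mem _ (Subgroup.inv_mem _ hb.2) hn
        rwa [inv_mul_cancel_left] at this
      exact hSne q hq (cj_le_of_mem_normalizer h1)
    intro u hu
    exact hle (conj_mem_cj hu)
  -- the big elementary abelian subgroup
  set M := W₀ ⊔ U'' with hM
  have hW₀V : W₀ ≤ V := hW₀W.trans c.hWV
  have hMV : M ≤ V := sup_le hW₀V hU''V
  have hMC : M ≤ Subgroup.centralizer (C : Set G) := by
    apply sup_le
    · intro w hw
      rw [Subgroup.mem_centralizer_iff]
      intro a ha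
      exact (Subgroup.mem_centralizer_iff.mp ha.2 w (hW₀W hw)).symm
    · apply Finset.sup_le
      intro q hq w hw
      obtain ⟨w₀, hw₀, rfl⟩ := hw
      rw [Subgroup.mem_centralizer_iff]
      intro a ha
      have h1 : a * f q = f q * a := c.hAc a ha.1 (f q) (hf q)
      have h2 : w₀ * a = a * w₀ := Subgroup.mem_centralizer_iff.mp ha.2 w₀ hw₀
      simp only [MulEquiv.coe_toMonoidHom, MulAut.conj_apply]
      have h1' : a * (f q)⁻¹ = (f q)⁻¹ * a := by
        calc a * (f q)⁻¹ = (f q)⁻¹ * (f q * a) * (f q)⁻¹ := by group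
          _ = (f q)⁻¹ * (a * f q) * (f q)⁻¹ := by rw [h1]
          _ = (f q)⁻¹ * a := by group
      calc a * (f q * w₀ * (f q)⁻¹) = (a * f q) * w₀ * (f q)⁻¹ := by group
        _ = (f q * a) * w₀ * (f q)⁻¹ := by rw [h1]
        _ = f q * (a * w₀) * (f q)⁻¹ := by group
        _ = f q * (w₀ * a) * (f q)⁻¹ := by rw [h2]
        _ = f q * w₀ * (a * (f q)⁻¹) := by group
        _ = f q * w₀ * ((f q)⁻¹ * a) := by rw [h1']
        _ = f q * w₀ * (f q)⁻¹ * a := by group
  set B := C ⊔ M with hB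
  have hBcomm : ∀ a ∈ B, ∀ b ∈ B, a * b = b * a := by
    have hle : B ≤ Subgroup.centralizer (B : Set G) := by
      rw [hB, centralizer_sup]
      apply sup_le
      · apply le_inf
        · intro a ha
          rw [Subgroup.mem_centralizer_iff]
          intro b hb
          exact c.hAc b hb.1 a ha.1
        · intro a ha
          rw [Subgroup.mem_centralizer_iff]
          intro m hm
          exact (Subgroup.mem_centralizer_iff.mp (hMC hm) a ha).symm
      · apply le_inf hMC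
        intro m hm
        rw [Subgroup.mem_centralizer_iff]
        intro m' hm'
        exact c.hVc m' (hMV hm') m (hMV hm)
    intro a ha b hb
    exact (Subgroup.mem_centralizer_iff.mp (hle hb) a ha)
  have hBsq : ∀ b ∈ B, b * b = 1 := by
    intro b hb
    have hnorm : M ≤ Subgroup.normalizer (C : Set G) :=
      hMC.trans (Subgroup.centralizer_le_normalizer _)
    obtain ⟨a, ha, m, hm, rfl⟩ := Cfsg.Agent.Lib.H1.mem_sup_of_le_normalizer hnorm hb
    have h1 : m * a = a * m := Subgroup.mem_centralizer_iff.mp (hMC hm) a ha |>.symm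
    calc a * m * (a * m) = a * (m * a) * m := by group
      _ = (a * a) * (m * m) := by rw [h1]; group
      _ = 1 := by rw [c.hA2 a ha.1, c.hV2 m (hMV hm), one_mul]
  have hBle : B ≤ A ⊔ V := sup_le (inf_le_left.trans le_sup_left) (hMV.trans le_sup_right)
  have hBcard := hmax B hBle (elemAb_two_of_sq hBcomm hBsq)
  -- disjointness
  have hd2 : W₀ ⊓ U'' = ⊥ := by
    rw [eq_bot_iff, ← hWU'']
    exact inf_le_inf_right _ hW₀W
  have hd1 : C ⊓ M = ⊥ := by
    rw [eq_bot_iff]
    intro u hu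
    rw [Subgroup.mem_bot]
    have huA : u ∈ A := hu.1.1
    have hnorm : U'' ≤ Subgroup.normalizer (W₀ : Set G) := by
      refine le_trans ?_ (Subgroup.centralizer_le_normalizer _)
      intro u hu
      rw [Subgroup.mem_centralizer_iff]
      intro h hh
      exact c.hVc h (hW₀V hh) u (hU''V hu)
    obtain ⟨w₀, hw₀, u'', hu'', rfl⟩ := Cfsg.Agent.Lib.H1.mem_sup_of_le_normalizer hnorm hu.2
    have hw₀1 : w₀ = 1 := by
      apply hW₀fix w₀ hw₀
      intro b hb
      have hcomm : b * (w₀ * u'') = (w₀ * u'') * b := c.hAc b hb.1 _ huA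
      have h1 : b * w₀ * b⁻¹ ∈ W := (Subgroup.mem_normalizer_iff.mp hb.2 w₀).mp (hW₀W hw₀)
      have h2 : b * u'' * b⁻¹ ∈ U'' := hcjU'' b hb u'' hu''
      have h3 : (b * w₀ * b⁻¹) * (b * u'' * b⁻¹) = w₀ * u'' := by
        calc (b * w₀ * b⁻¹) * (b * u'' * b⁻¹) = (b * (w₀ * u'')) * b⁻¹ := by group
          _ = w₀ * u'' := by rw [hcomm]; group
      have h4 : w₀⁻¹ * (b * w₀ * b⁻¹) = u'' * (b * u'' * b⁻¹)⁻¹ := by
        have : b * w₀ * b⁻¹ = w₀ * u'' * (b * u'' * b⁻¹)⁻¹ := by
          rw [← h3]; group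
        rw [this]; group
      have h5 : w₀⁻¹ * (b * w₀ * b⁻¹) ∈ W ⊓ U'' := by
        refine ⟨W.mul_mem (W.inv_mem (hW₀W hw₀)) h1, ?_⟩
        rw [h4]
        exact U''.mul_mem hu'' (U''.inv_mem h2)
      rw [hWU'', Subgroup.mem_bot] at h5
      have : b * w₀ * b⁻¹ = w₀ * (w₀⁻¹ * (b * w₀ * b⁻¹)) := by group
      rw [this, h5, mul_one]
    rw [hw₀1, one_mul] at huA ⊢
    apply hind u'' hu''
    intro q hq
    have hcomm : f q * u'' = u'' * f q := c.hAc _ (hf q) _ huA
    have e1 : (f q)⁻¹ * u'' * f q = u'' := by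
      calc (f q)⁻¹ * u'' * f q = (f q)⁻¹ * (u'' * f q) := by group
        _ = u'' := by rw [← hcomm]; group
    calc (f q * x * (f q)⁻¹) * u'' * (f q * x * (f q)⁻¹)⁻¹
        = f q * (x * ((f q)⁻¹ * u'' * f q) * x⁻¹) * (f q)⁻¹ := by group
      _ = f q * u'' * (f q)⁻¹ := by rw [e1, hxU'' u'' hu'']
      _ = u'' := by rw [hcomm]; group
  -- counting
  have hc1 := card_mul_card_le C M
  rw [hd1, Subgroup.card_bot, one_mul] at hc1
  have hc2 := card_mul_card_le W₀ U''
  rw [hd2, Subgroup.card_bot, one_mul] at hc2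
  have hcardA : Nat.card A = Nat.card (↥A ⧸ N₀) * Nat.card A₀ := by
    have h1 := Subgroup.card_eq_card_quotient_mul_card_subgroup N₀
    have h2 : Nat.card N₀ = Nat.card A₀ :=
      Nat.card_congr (Subgroup.subgroupOfEquivOfLe (inf_le_left : A₀ ≤ A)).toEquiv
    rw [h2] at h1
    exact h1
  have hcardι : Nat.card (↥A ⧸ N₀) = S.card + 1 := by
    rw [Nat.card_eq_fintype_card, hS, Finset.card_erase_of_mem (Finset.mem_univ _),
      Finset.card_univ]
    have : 0 < Fintype.card (↥A ⧸ N₀) := Fintype.card_pos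
    omega
  by_contra hcon
  obtain ⟨a, ha, hna⟩ := SetLike.not_le_iff_exists.mp hcon
  have hSpos : 0 < S.card := by
    rw [Finset.card_pos]
    refine ⟨QuotientGroup.mk (⟨a, ha⟩ : ↥A), ?_⟩
    rw [hS, Finset.mem_erase]
    refine ⟨?_, Finset.mem_univ _⟩
    intro e
    apply hna
    have h1 := congrArg (fun q => cj (f q) W) e
    simp only [hq₁, hfmk] at h1
    rw [mem_normalizer_iff_cj_eq]
    simpa [cj_one] using h1
  obtain ⟨m, hm⟩ : ∃ m, S.card = m + 1 := ⟨S.card - 1, by omega⟩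
  have hlt := lt_four_pow m
  have hCpos : 0 < Nat.card C := Nat.card_pos
  have hW₀pos : 0 < Nat.card W₀ := Nat.card_pos
  -- chain of inequalities
  have h1 : Nat.card C * (Nat.card W₀ * 4 ^ S.card) ≤ Nat.card A := by
    calc Nat.card C * (Nat.card W₀ * 4 ^ S.card)
        ≤ Nat.card C * (Nat.card W₀ * Nat.card U'') :=
          Nat.mul_le_mul_left _ (Nat.mul_le_mul_left _ hcardU)
      _ ≤ Nat.card C * Nat.card M := Nat.mul_le_mul_left _ hc2
      _ ≤ Nat.card B := hc1
      _ ≤ Nat.card A := hBcard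
  have h2 : Nat.card A ≤ (S.card + 1) * (Nat.card C * Nat.card W₀) := by
    rw [hcardA, hcardι]
    exact Nat.mul_le_mul_left _ hcardA₀
  have h3 : (Nat.card C * Nat.card W₀) * 4 ^ S.card ≤ (Nat.card C * Nat.card W₀) * (S.card + 1) := by
    calc (Nat.card C * Nat.card W₀) * 4 ^ S.card = Nat.card C * (Nat.card W₀ * 4 ^ S.card) := by ring
      _ ≤ Nat.card A := h1
      _ ≤ (S.card + 1) * (Nat.card C * Nat.card W₀) := h2
      _ = (Nat.card C * Nat.card W₀) * (S.card + 1) := by ring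
  have h4 : 4 ^ S.card ≤ S.card + 1 :=
    Nat.le_of_mul_le_mul_left h3 (Nat.mul_pos hCpos hW₀pos)
  rw [hm] at h4
  omega

end Cfg

end Cfsg.Agent.Lib.H15.Plane
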