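import Mathlib
import Cfsg.Agent.Lib.H15.JCN5
import Cfsg.Agent.Lib.H15.Plane3
import Cfsg.Agent.Lib.H14.Subnormal2

/-!
helper15: a member `K` of `𝒦₀(T₁)` that is subnormal in `Y = ⟨K, J⟩`: the elementary abelian
normal subgroup `V = Ω₁(Z(O₂(Y)))` of `Y` contains `W_K`, `[V, x] ≤ W_K` for `x ∈ K` of order `3`,
and the `Y`-conjugates of `x` lie in a subgroup acting on `V` as a `3`-group.
-/

set_option autoImplicit false

namespace Cfsg.Agent.Lib.H15.JC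

open scoped commutatorElement
open Cfsg.Agent.Lib.H15
open Cfsg.Agent.Lib.H5 (IsSylowIn)
open Cfsg.Agent.Lib.H26 (maxEA JJ)

variable {G : Type*} [Group G]

/-- three commuting involutions. -/
theorem inv3 {a b d : G} (hab : a * b = b * a) (had : a * d = d * a) (hbd : b * d = d * b)
    (ha : a * a = 1) (hb : b * b = 1) (hd : d * d = 1) :
    (b * a * (b * d)) * (b * a * (d * a)) = b * a := by
  calc (b * a * (b * d)) * (b * a * (d * a))
      = b * (a * b) * (d * b) * (a * d) * a := by group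
    _ = b * (b * a) * (b * d) * (d * a) * a := by rw [hab, ← hbd, had]
    _ = (b * b) * (a * b) * (d * d) * (a * a) := by group
    _ = b * a := by rw [hb, hd, ha, hab]; group

/-- `O₂(Y)` normalizes a subnormal subgroup generated by elements of odd order. -/
theorem pcoreOf_le_normalizer_of_subnormal [Finite G] {K Y : Subgroup G} (hKY : K ≤ Y)
    (hodd : Subgroup.closure {g : G | g ∈ K ∧ Odd (orderOf g)} = K)
    (hsn : (K.subgroupOf Y).IsSubnormal) :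
    Cfsg.pCoreOf 2 Y ≤ Subgroup.normalizer (K : Set G) := by
  haveI : Fact (Nat.Prime 2) := ⟨Nat.prime_two⟩
  have hpres : Cfsg.Agent.Lib.H14.presOf 2 (K.subgroupOf Y) = K.subgroupOf Y := by
    apply le_antisymm (Cfsg.Agent.Lib.H14.presOf_le 2 _)
    have hle : K ≤ (Cfsg.Agent.Lib.H14.presOf 2 (K.subgroupOf Y)).map Y.subtype := by
      conv_lhs => rw [← hodd]
      rw [Subgroup.closure_le]
      rintro g ⟨hgK, hgodd⟩
      refine ⟨⟨g, hKY hgK⟩, Subgroup.subset_closure ⟨Subgroup.mem_subgroupOf.mpr hgK, ?_⟩, rfl⟩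
      rw [Nat.coprime_two_right]
      have : orderOf (⟨g, hKY hgK⟩ : ↥Y) = orderOf g := by
        rw [← Subgroup.orderOf_coe]
      rw [this]; exact hgodd
    intro k hk
    obtain ⟨z, hz, hzk⟩ := hle (Subgroup.mem_subgroupOf.mp hk)
    have : z = k := Subtype.ext hzk
    rw [← this]; exact hz
  intro q hq
  obtain ⟨hqY, hq'⟩ := mem_pcoreOf_iff.mp hq
  have hnorm := Cfsg.Agent.Lib.H14.pCore_le_normalizer_presOf 2 (K.subgroupOf Y) hsn hq'
  rw [hpres] at hnorm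
  apply mem_normalizer_of_cj_le
  rintro _ ⟨k, hk, rfl⟩
  have h1 := (Subgroup.mem_normalizer_iff.mp hnorm ⟨k, hKY hk⟩).mp (Subgroup.mem_subgroupOf.mpr hk)
  exact Subgroup.mem_subgroupOf.mp h1

/-- `O₂(K) ≤ O₂(Y)` for `K` subnormal in `Y`. -/
theorem pcoreOf_le_pcoreOf_of_subnormal {K Y : Subgroup G} (hKY : K ≤ Y)
    (hsn : (K.subgroupOf Y).IsSubnormal) : Cfsg.pCoreOf 2 K ≤ Cfsg.pCoreOf 2 Y := by
  haveI : Fact (Nat.Prime 2) := ⟨Nat.prime_two⟩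
  set R := Cfsg.pCoreOf 2 K with hR
  have hRK : R ≤ K := pcoreOf_le 2 K
  have hKR : K ≤ Subgroup.normalizer (R : Set G) := pcoreOf_normalized 2 K
  have hle : R.subgroupOf Y ≤ K.subgroupOf Y := by
    intro y hy
    rw [Subgroup.mem_subgroupOf] at hy ⊢
    exact hRK hy
  have hnormal : ((R.subgroupOf Y).subgroupOf (K.subgroupOf Y)).Normal := by
    constructor
    intro n hn g
    rw [Subgroup.mem_subgroupOf, Subgroup.mem_subgroupOf] at hn ⊢
    have hgK : ((g : ↥Y) : G) ∈ K := Subgroup.mem_subgroupOf.mp g.2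
    have := (Subgroup.mem_normalizer_iff.mp (hKR hgK) _).mp hn
    exact this
  have hsub : (R.subgroupOf Y).IsSubnormal := Subgroup.IsSubnormal.step _ _ hle hsn hnormal
  have h2 : IsPGroup 2 ↥(R.subgroupOf Y) := (pcoreOf_isPGroup 2 K).comap_subtype
  have h3 := Cfsg.Agent.Lib.H14.le_pCore_of_isSubnormal_of_isPGroup 2 _ hsub h2
  intro r hr
  rw [mem_pcoreOf_iff]
  exact ⟨hKY (hRK hr), h3 (Subgroup.mem_subgroupOf.mpr hr)⟩

/-- The conjugates of `x` lie in a subgroup `P` with `P O₂(Y)/O₂(Y)` a `3`-group. -/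
theorem exists_three_group [Finite G] {K Y R : Subgroup G} {x : G} (hKY : K ≤ Y)
    (hsn : (K.subgroupOf Y).IsSubnormal) (hRQ : R ≤ Cfsg.pCoreOf 2 Y)
    (hxK : x ∈ K) (hx3 : x ^ 3 = 1) (hxR : x ∈ Subgroup.normalizer (R : Set G))
    (hKx : K = R ⊔ Subgroup.zpowers x) :
    ∃ P : Subgroup G, P ≤ Y ∧ (∀ z ∈ P, ∃ k : ℕ, z ^ (3 ^ k) ∈ Cfsg.pCoreOf 2 Y) ∧
      ∀ y ∈ Y, y * x * y⁻¹ ∈ P := by
  haveI : Fact (Nat.Prime 3) := ⟨Nat.prime_three⟩
  set Q' := Cfsg.pCore 2 ↥Y with hQ'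
  haveI hQn : Q'.Normal := Cfsg.Agent.Lib.H1.pCore_normal 2 ↥Y
  set π := QuotientGroup.mk' Q' with hπ
  set x' : ↥Y := ⟨x, hKY hxK⟩ with hx'
  have hx'3 : x' ^ 3 = 1 := Subtype.ext (by rw [Subgroup.coe_pow]; exact hx3)
  have hπx3 : (π x') ^ 3 = 1 := by rw [← map_pow, hx'3, map_one]
  -- the image of `K` is generated by the image of `x`
  have hKim : (K.subgroupOf Y).map π ≤ Subgroup.zpowers (π x') := by
    rintro _ ⟨k, hk, rfl⟩
    have hkK : (k : G) ∈ R ⊔ Subgroup.zpowers x := by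
      rw [← hKx]; exact Subgroup.mem_subgroupOf.mp hk
    have hzn : Subgroup.zpowers x ≤ Subgroup.normalizer (R : Set G) := by
      rw [Subgroup.zpowers_le]; exact hxR
    obtain ⟨r, hr, t, ht, hkrt⟩ := Cfsg.Agent.Lib.H1.mem_sup_of_le_normalizer hzn hkK
    obtain ⟨i, rfl⟩ := Subgroup.mem_zpowers_iff.mp ht
    have hrY : r ∈ Y := (pcoreOf_le 2 Y) (hRQ hr)
    have hrQ' : (⟨r, hrY⟩ : ↥Y) ∈ Q' := coe_mem_pcoreOf_iff.mp (hRQ hr)
    have hk' : k = ⟨r, hrY⟩ * x' ^ i := by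
      apply Subtype.ext
      rw [Subgroup.coe_mul, Subgroup.coe_zpow]
      exact hkrt
    rw [hk', map_mul, map_zpow]
    have : π ⟨r, hrY⟩ = 1 := (QuotientGroup.eq_one_iff _).mpr hrQ'
    rw [this, one_mul]
    exact Subgroup.zpow_mem _ (Subgroup.mem_zpowers _) i
  have h3grp : IsPGroup 3 ↥((K.subgroupOf Y).map π) := by
    rintro ⟨g, hg⟩
    refine ⟨1, Subtype.ext ?_⟩
    obtain ⟨i, hi⟩ := Subgroup.mem_zpowers_iff.mp (hKim hg)
    show g ^ (3 ^ 1) = 1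
    rw [pow_one, ← hi, ← zpow_natCast, ← zpow_mul, mul_comm, zpow_mul, zpow_natCast, hπx3, one_zpow]
  have hsn' : ((K.subgroupOf Y).map π).IsSubnormal :=
    hsn.map (QuotientGroup.mk'_surjective Q')
  have hle3 := Cfsg.Agent.Lib.H14.le_pCore_of_isSubnormal_of_isPGroup 3 _ hsn' h3grp
  set O3 := Cfsg.pCore 3 (↥Y ⧸ Q') with hO3
  have hO3n : O3.Normal := Cfsg.Agent.Lib.H1.pCore_normal 3 _
  have hO3p : IsPGroup 3 ↥O3 := Cfsg.Agent.Lib.H1.pCore_isPGroup 3 _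
  have hπx : π x' ∈ O3 := hle3 ⟨x', Subgroup.mem_subgroupOf.mpr hxK, rfl⟩
  refine ⟨(O3.comap π).map Y.subtype, Subgroup.map_subtype_le _, ?_, ?_⟩
  · rintro _ ⟨z, hz, rfl⟩
    have hz' : π z ∈ O3 := hz
    obtain ⟨k, hk⟩ := hO3p ⟨π z, hz'⟩
    refine ⟨k, ?_⟩
    have hk' : (π z) ^ (3 ^ k) = 1 := by
      have := congrArg Subtype.val hk
      simpa using this
    rw [← map_pow] at hk'
    have hmem : z ^ (3 ^ k) ∈ Q' := (QuotientGroup.eq_one_iff _).mp hk'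
    have := coe_mem_pcoreOf_iff.mpr hmem
    simpa using this
  · intro y hy
    refine ⟨⟨y, hy⟩ * x' * ⟨y, hy⟩⁻¹, ?_, rfl⟩
    show π (⟨y, hy⟩ * x' * ⟨y, hy⟩⁻¹) ∈ O3
    rw [map_mul, map_mul, map_inv]
    exact hO3n.conj_mem _ hπx _

/-- **The set-up inside `Y = ⟨K, J⟩`** for a `J(T₁)`-component `K` subnormal in `Y`. -/
theorem exists_setup [Finite G] {T₁ K J : Subgroup G} (hT₁ : IsPGroup 2 ↥T₁)
    (hK : Cfsg.IsJComponent T₁ K) (hsn : (K.subgroupOf (K ⊔ J)).IsSubnormal) :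
    ∃ (V P : Subgroup G) (x : G),
      (∀ a ∈ V, ∀ b ∈ V, a * b = b * a) ∧ (∀ v ∈ V, v * v = 1) ∧ Cfsg.wOf K ≤ V ∧ V ≤ K ⊔ J ∧
      K ⊔ J ≤ Subgroup.normalizer (V : Set G) ∧ x ∈ K ∧ x ^ 3 = 1 ∧
      (∀ v ∈ V, x * v * x⁻¹ * v⁻¹ ∈ Cfsg.wOf K) ∧
      (∀ w ∈ Cfsg.wOf K, x * w * x⁻¹ = w → w = 1) ∧
      P ≤ K ⊔ J ∧ (∀ z ∈ P, ∃ k : ℕ, z ^ (3 ^ k) ∈ Subgroup.centralizer (V : Set G)) ∧
      ∀ y ∈ K ⊔ J, y * x * y⁻¹ ∈ P := by
  haveI : Fact (Nat.Prime 2) := ⟨Nat.prime_two⟩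
  obtain ⟨S, hD⟩ := exists_JCD hT₁ hK
  obtain ⟨x, hxK, hxR, hx3, hKx⟩ := hD.exists_x
  set Y := K ⊔ J with hY
  set R := Cfsg.pCoreOf 2 K with hR
  set W := Cfsg.wOf K with hW
  set Q := Cfsg.pCoreOf 2 Y with hQ
  set V := Cfsg.omegaCenterOf Q with hV
  have hKY : K ≤ Y := le_sup_left
  have hQK : Q ≤ Subgroup.normalizer (K : Set G) :=
    pcoreOf_le_normalizer_of_subnormal hKY hK.1 hsn
  have hRQ : R ≤ Q := pcoreOf_le_pcoreOf_of_subnormal hKY hsn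
  have hYQ : Y ≤ Subgroup.normalizer (Q : Set G) := pcoreOf_normalized 2 Y
  have hYV : Y ≤ Subgroup.normalizer (V : Set G) :=
    hYQ.trans (normalizer_le_normalizer_omegaCenterOf Q)
  have hQ2 : IsPGroup 2 ↥Q := pcoreOf_isPGroup 2 Y
  have hKR : K ≤ Subgroup.normalizer (R : Set G) := pcoreOf_normalized 2 K
  have hQKR : Q ⊓ K ≤ R := by
    apply le_pcoreOf inf_le_right _ (hQ2.to_le inf_le_left)
    intro k hk
    apply mem_normalizer_of_cj_le
    rintro _ ⟨y, hy, rfl⟩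
    refine ⟨?_, ?_⟩
    · exact (Subgroup.mem_normalizer_iff.mp (hYQ (hKY hk)) y).mp hy.1
    · exact K.mul_mem (K.mul_mem hk hy.2) (K.inv_mem hk)
  have hNW : Subgroup.normalizer (K : Set G) ≤ Subgroup.normalizer (W : Set G) :=
    normalizer_le_normalizer_wOf K
  have hQW : Q ≤ Subgroup.normalizer (W : Set G) := hQK.trans hNW
  have hWR : W ≤ R := hD.hWR
  have hWQ : W ≤ Q := hWR.trans hRQ
  have hW2grp : IsPGroup 2 ↥W := wOf_isPGroup hK
  have hW1 : W ≠ ⊥ := hD.W_ne_bot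
  have hW4 : Nat.card W = 4 := hD.hW4
  have hW2 : ∀ w ∈ W, w * w = 1 := hD.hW2
  have hfix : ∀ w ∈ W, x * w * x⁻¹ = w → w = 1 := fun w hw h => hD.fixed_eq_one hxK hx3 hKx hw h
  have hxY : x ∈ Y := hKY hxK
  have hxNW : x ∈ Subgroup.normalizer (W : Set G) := hNW (Subgroup.le_normalizer hxK)
  have hxNQ : x ∈ Subgroup.normalizer (Q : Set G) := hYQ hxY
  -- `W ≤ C(Q)`
  have hWCQ : W ≤ Subgroup.centralizer (Q : Set G) := by
    have hF1 := Cfsg.Agent.Lib.H14.inf_centralizer_ne_bot_of_isPGroup W Q hW2grp hQ2 hW1 hQW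
    obtain ⟨f, hf1⟩ := (Subgroup.ne_bot_iff_exists_ne_one.mp hF1)
    have hf1' : (f : G) ≠ 1 := fun e => hf1 (Subtype.ext e)
    have hfW : (f : G) ∈ W := f.2.1
    have hfC : (f : G) ∈ Subgroup.centralizer (Q : Set G) := f.2.2
    have hinvC : ∀ g ∈ Subgroup.centralizer (Q : Set G), x * g * x⁻¹ ∈
        Subgroup.centralizer (Q : Set G) := by
      intro g hg
      rw [Subgroup.mem_centralizer_iff]
      intro q hq
      have hq' : x⁻¹ * q * x ∈ Q := by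
        have := (Subgroup.mem_normalizer_iff.mp (Subgroup.inv_mem _ hxNQ) q).mp hq
        simpa using this
      have := Subgroup.mem_centralizer_iff.mp hg _ hq'
      calc q * (x * g * x⁻¹) = x * ((x⁻¹ * q * x) * g) * x⁻¹ := by group
        _ = x * (g * (x⁻¹ * q * x)) * x⁻¹ := by rw [this]
        _ = x * g * x⁻¹ * q := by group
    have hxf : x * f * x⁻¹ ∈ W := (Subgroup.mem_normalizer_iff.mp hxNW f).mp hfW
    have hxfC : x * f * x⁻¹ ∈ Subgroup.centralizer (Q : Set G) := hinvC f hfC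
    have hxf1 : x * f * x⁻¹ ≠ 1 := fun e => hf1' (conj_eq_one_iff.mp e)
    have hxff : x * f * x⁻¹ ≠ f := fun e => hf1' (hfix f hfW e)
    intro w hw
    rcases four_group_cases hW4 hW2 hfW hxf hf1' hxf1 hxff w hw with rfl | rfl | rfl | rfl
    · exact Subgroup.one_mem _
    · exact hfC
    · exact hxfC
    · exact Subgroup.mul_mem _ hfC hxfC
  have hWV : W ≤ V := by
    intro w hw
    rw [hV, mem_omegaCenterOf_iff]
    exact ⟨hWQ hw, hWCQ hw, by rw [pow_two]; exact hW2 w hw⟩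
  have hVc : ∀ a ∈ V, ∀ b ∈ V, a * b = b * a := by
    intro a ha b hb
    exact (Subgroup.mem_centralizer_iff.mp (omegaCenterOf_le_centralizer Q hb) a
      (omegaCenterOf_le Q ha))
  have hV2 : ∀ v ∈ V, v * v = 1 := fun v hv => omegaCenterOf_sq hv
  have hVY : V ≤ Y := (omegaCenterOf_le Q).trans (pcoreOf_le 2 Y)
  have hVCQ : V ≤ Subgroup.centralizer (Q : Set G) := omegaCenterOf_le_centralizer Q
  have hvinv : ∀ v ∈ V, v⁻¹ = v := fun v hv => inv_eq_of_mul_eq_one_right (hV2 v hv)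
  have hx3' : x * x * x = 1 := by rw [← hx3, pow_succ, pow_succ, pow_one]
  have hxNV : x ∈ Subgroup.normalizer (V : Set G) := hYV hxY
  -- `[V, x] ≤ W`
  have hxW : ∀ v ∈ V, x * v * x⁻¹ * v⁻¹ ∈ W := by
    intro a ha
    set b := x * a * x⁻¹ with hb
    set d := x * b * x⁻¹ with hd
    have hbV : b ∈ V := (Subgroup.mem_normalizer_iff.mp hxNV a).mp ha
    have hdV : d ∈ V := (Subgroup.mem_normalizer_iff.mp hxNV b).mp hbV
    have hxd : x * d * x⁻¹ = a := by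
      calc x * d * x⁻¹ = (x * x * x) * a * (x * x * x)⁻¹ := by rw [hd, hb]; group
        _ = a := by rw [hx3']; group
    set c := b * a⁻¹ with hc
    have hcV : c ∈ V := V.mul_mem hbV (V.inv_mem ha)
    have hcK : c ∈ K := by
      have h1 : a * x⁻¹ * a⁻¹ ∈ K :=
        (Subgroup.mem_normalizer_iff.mp (hQK (omegaCenterOf_le Q ha)) x⁻¹).mp (K.inv_mem hxK)
      have : c = x * (a * x⁻¹ * a⁻¹) := by rw [hc, hb]; group
      rw [this]; exact K.mul_mem hxK h1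
    have hcR : c ∈ R := hQKR ⟨omegaCenterOf_le Q hcV, hcK⟩
    have hcZ : c ∈ Cfsg.omegaCenterOf R := by
      rw [mem_omegaCenterOf_iff]
      refine ⟨hcR, ?_, by rw [pow_two]; exact hV2 c hcV⟩
      exact Subgroup.centralizer_le (fun r hr => hRQ hr) (hVCQ hcV)
    have ht1 : ⁅c, x⁆ ∈ W := Subgroup.commutator_mem_commutator hcZ hxK
    have ht2 : ⁅c, x * x⁆ ∈ W := Subgroup.commutator_mem_commutator hcZ (K.mul_mem hxK hxK)
    have e1 : ⁅c, x⁆ = b * a⁻¹ * (b * d⁻¹) := by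
      rw [commutatorElement_def, hc, hd, hb]; group
    have e2 : ⁅c, x * x⁆ = b * a⁻¹ * (d * ((x * x * x) * a * (x * x * x)⁻¹)⁻¹) := by
      rw [commutatorElement_def, hc, hd, hb]; group
    rw [hx3'] at e2
    have e3 : (1 : G) * a * 1⁻¹ = a := by group
    rw [e3, hvinv a ha] at e2
    rw [hvinv a ha, hvinv d hdV] at e1
    have key := inv3 (hVc a ha b hbV) (hVc a ha d hdV) (hVc b hbV d hdV) (hV2 a ha) (hV2 b hbV)
      (hV2 d hdV)
    have : c = ⁅c, x⁆ * ⁅c, x * x⁆ := by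
      rw [e1, e2, key, hc, hvinv a ha]
    rw [this]
    exact W.mul_mem ht1 ht2
  obtain ⟨P, hPY, hP3, hPx⟩ := exists_three_group hKY hsn hRQ hxK hx3 (hKR hxK) hKx
  refine ⟨V, P, x, hVc, hV2, hWV, hVY, hYV, hxK, hx3, hxW, hfix, hPY, ?_, hPx⟩
  intro z hz
  obtain ⟨k, hk⟩ := hP3 z hz
  refine ⟨k, ?_⟩
  rw [Subgroup.mem_centralizer_iff]
  intro v hv
  exact (Subgroup.mem_centralizer_iff.mp (hVCQ hv) _ hk).symm

/-- a `p`-subgroup of `H` is `H`-conjugate into a given Sylow `p`-subgroup of `H`. -/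
theorem exists_cj_le_of_isSylowIn [Finite G] {p : ℕ} [Fact p.Prime] {P H Q : Subgroup G}
    (hP : IsSylowIn p P H) (hQ : IsPGroup p ↥Q) (hQH : Q ≤ H) : ∃ h ∈ H, cj h Q ≤ P := by
  have hQ' : IsPGroup p ↥(Q.subgroupOf H) := hQ.comap_subtype
  obtain ⟨S', hS'⟩ := hQ'.exists_le_sylow
  have hS'syl : IsSylowIn p ((S' : Subgroup ↥H).map H.subtype) H :=
    Cfsg.Agent.Lib.H5.isSylowIn_of_sylow S'
  obtain ⟨z, hz, hPz⟩ := hS'syl.exists_conj hP
  refine ⟨z, hz, ?_⟩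
  rw [hPz]
  apply cj_mono
  intro q hq
  exact ⟨⟨q, hQH hq⟩, hS' (Subgroup.mem_subgroupOf.mpr hq), rfl⟩

/-- **`J(T) ≤ N_G(W_K)`** for `K ∈ 𝒦(T₁)` subnormal in `⟨K, J(T)⟩`, when `T` is a Sylow
`2`-subgroup of some `L ≥ ⟨K, T⟩`. -/
theorem thompson_le_normalizer_wOf_of_subnormal [Finite G] {T T₁ K L : Subgroup G}
    (hT₁ : IsPGroup 2 ↥T₁) (hK : Cfsg.IsJComponent T₁ K) (hTL : IsSylowIn 2 T L) (hKL : K ≤ L)
    (hsn : (K.subgroupOf (K ⊔ Cfsg.thompsonSubgroupOf 2 T)).IsSubnormal) :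
    Cfsg.thompsonSubgroupOf 2 T ≤ Subgroup.normalizer (Cfsg.wOf K : Set G) := by
  haveI : Fact (Nat.Prime 2) := ⟨Nat.prime_two⟩
  obtain ⟨V, P, x, hVc, hV2, hWV, hVY, hYV, hxK, hx3, hxW, hfix, hPY, hP3, hPx⟩ :=
    exists_setup hT₁ hK hsn
  set J := Cfsg.thompsonSubgroupOf 2 T with hJ
  set W := Cfsg.wOf K with hW
  have hJT : J ≤ T := thompson_le T
  have hYL : K ⊔ J ≤ L := sup_le hKL (hJT.trans hTL.1)
  have hxP : x ∈ P := by
    have := hPx 1 (Subgroup.one_mem _)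
    simpa using this
  have hW4 : Nat.card W = 4 := hK.2.2.2.2.1
  rw [hJ, Cfsg.Agent.Lib.H26.thompsonSubgroupOf_eq]
  apply sSup_le
  intro A hA
  have hAJ : A ≤ J := by
    rw [hJ, Cfsg.Agent.Lib.H26.thompsonSubgroupOf_eq]; exact le_sSup hA
  have hAY : A ≤ K ⊔ J := hAJ.trans le_sup_right
  have hAc : ∀ a ∈ A, ∀ b ∈ A, a * b = b * a := by
    intro a ha b hb
    have := hA.2.1.1
    exact setLike_mul_comm (s := A) ha hb
  have hA2 : ∀ a ∈ A, a * a = 1 := by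
    intro a ha
    have := hA.2.1.2 a ha
    rwa [pow_two] at this
  have hcfg : Plane.Cfg V W A x := by
    refine ⟨hVc, hV2, hWV, hW4, hfix, hAY.trans hYV, hAc, hA2, ?_⟩
    intro a ha
    exact Plane.orth_of_setup hVc hV2 hWV hW4 hx3 hxW hfix (hPY.trans hYV) hP3 hxP
      (hYV (hAY ha)) (hPx a (hAY ha))
  apply hcfg.le_normalizer
  intro B hB hBe
  have hBL : B ≤ L := hB.trans ((sup_le hAY hVY).trans hYL)
  have hB2 : IsPGroup 2 ↥B := by
    intro b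
    refine ⟨1, Subtype.ext ?_⟩
    rw [pow_one, Subgroup.coe_pow]
    exact hBe.2 b b.2
  obtain ⟨l, _, hl⟩ := exists_cj_le_of_isSylowIn hTL hB2 hBL
  have h1 := hA.2.2 (cj l B) hl
    ((Cfsg.Agent.Lib.H26.isElementaryAbelian_map_iff 2 (MulAut.conj l).toMonoidHom
      (MulAut.conj l).injective B).mpr hBe)
  rwa [card_cj] at h1

end Cfsg.Agent.Lib.H15.JC
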