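import Cfsg.Agent.S0058

/-!
# Lemma D (diagonal conjugation), a tool for S3814

`T = ⟨z, m⟩ ≅ C_t × C_t` acts on a `t'`-group `V`; `⟨m⟩` has no fixed point on `V`, and all the other
subgroups of order `t` of `T` are conjugate to `⟨z⟩` under `⟨h⟩` (`h⁻¹ z h = z m^j`, `t ∤ j`, `h` commuting with
`m` and normalising `V`).  Then `z` has a fixed point on `V`, unless `V = 1` (coprime generation, S0058).
-/

set_option autoImplicit false

namespace Cfsg.Agent.H15.DiagConj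

variable {G : Type*} [Group G]

/-- the subgroup `{z^i m^k}` for commuting `z`, `m` -/
def pairSub (z m : G) (hzm : Commute z m) : Subgroup G where
  carrier := {g | ∃ i k : ℤ, g = z ^ i * m ^ k}
  one_mem' := ⟨0, 0, by simp⟩
  mul_mem' := by
    rintro a b ⟨i, k, rfl⟩ ⟨i', k', rfl⟩
    refine ⟨i + i', k + k', ?_⟩
    have h1 : Commute (m ^ k) (z ^ i') := (hzm.zpow_zpow i' k).symm
    calc z ^ i * m ^ k * (z ^ i' * m ^ k') = z ^ i * (m ^ k * z ^ i') * m ^ k' := by group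
      _ = z ^ i * (z ^ i' * m ^ k) * m ^ k' := by rw [h1.eq]
      _ = z ^ (i + i') * m ^ (k + k') := by rw [zpow_add, zpow_add]; group
  inv_mem' := by
    rintro a ⟨i, k, rfl⟩
    refine ⟨-i, -k, ?_⟩
    have h1 : Commute (m ^ (-k)) (z ^ (-i)) := (hzm.zpow_zpow (-i) (-k)).symm
    calc (z ^ i * m ^ k)⁻¹ = m ^ (-k) * z ^ (-i) := by group
      _ = z ^ (-i) * m ^ (-k) := h1.eq

theorem mem_pairSub {z m : G} (hzm : Commute z m) {g : G} :
    g ∈ pairSub z m hzm ↔ ∃ i k : ℤ, g = z ^ i * m ^ k := Iff.rfl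

theorem z_mem {z m : G} (hzm : Commute z m) : z ∈ pairSub z m hzm := ⟨1, 0, by simp⟩
theorem m_mem {z m : G} (hzm : Commute z m) : m ∈ pairSub z m hzm := ⟨0, 1, by simp⟩

instance pairSub_comm (z m : G) (hzm : Commute z m) : IsMulCommutative (pairSub z m hzm) := by
  refine ⟨⟨?_⟩⟩
  rintro ⟨a, i, k, rfl⟩ ⟨b, i', k', rfl⟩
  apply Subtype.ext
  show z ^ i * m ^ k * (z ^ i' * m ^ k') = z ^ i' * m ^ k' * (z ^ i * m ^ k)
  have h1 : Commute (m ^ k) (z ^ i') := (hzm.zpow_zpow i' k).symm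
  have h2 : Commute (m ^ k') (z ^ i) := (hzm.zpow_zpow i k').symm
  calc z ^ i * m ^ k * (z ^ i' * m ^ k') = z ^ i * (m ^ k * z ^ i') * m ^ k' := by group
    _ = z ^ i * (z ^ i' * m ^ k) * m ^ k' := by rw [h1.eq]
    _ = z ^ (i + i') * m ^ (k + k') := by rw [zpow_add, zpow_add]; group
    _ = z ^ (i' + i) * m ^ (k' + k) := by rw [add_comm i, add_comm k]
    _ = z ^ i' * (z ^ i * m ^ k') * m ^ k := by rw [zpow_add, zpow_add]; group
    _ = z ^ i' * (m ^ k' * z ^ i) * m ^ k := by rw [h2.eq]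
    _ = z ^ i' * m ^ k' * (z ^ i * m ^ k) := by group

/-- every element of `pairSub` has `t`-th power one -/
theorem pow_eq_one_of_mem {z m : G} (hzm : Commute z m) {t : ℕ} (hz : z ^ t = 1) (hm : m ^ t = 1)
    {g : G} (hg : g ∈ pairSub z m hzm) : g ^ t = 1 := by
  obtain ⟨i, k, rfl⟩ := hg
  have h1 : Commute (z ^ i) (m ^ k) := hzm.zpow_zpow i k
  rw [h1.mul_pow, ← zpow_natCast, ← zpow_natCast, ← zpow_mul, ← zpow_mul, mul_comm i, mul_comm k,
    zpow_mul, zpow_mul, zpow_natCast, zpow_natCast, hz, hm]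
  simp

/-- iterated conjugation -/
theorem conj_pow {z m h : G} (hhm : Commute h m) (hzm : Commute z m) {j : ℕ}
    (hconj : h⁻¹ * z * h = z * m ^ j) (s : ℕ) : (h ^ s)⁻¹ * z * h ^ s = z * m ^ (j * s) := by
  induction s with
  | zero => simp
  | succ s ih =>
    have h1 : h⁻¹ * m ^ (j * s) * h = m ^ (j * s) := by
      have : Commute h (m ^ (j * s)) := hhm.pow_right _
      rw [mul_assoc, ← this.eq, ← mul_assoc, inv_mul_cancel, one_mul]
    calc (h ^ (s + 1))⁻¹ * z * h ^ (s + 1) = h⁻¹ * ((h ^ s)⁻¹ * z * h ^ s) * h := by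
          rw [pow_succ]; group
      _ = h⁻¹ * (z * m ^ (j * s)) * h := by rw [ih]
      _ = (h⁻¹ * z * h) * (h⁻¹ * m ^ (j * s) * h) := by group
      _ = z * m ^ j * m ^ (j * s) := by rw [hconj, h1]
      _ = z * m ^ (j * (s + 1)) := by rw [mul_assoc, ← pow_add, mul_add, mul_one, add_comm]

/-- inverting an exponent prime to `t` -/
theorem exists_zpow_inv {t : ℕ} (ht : t.Prime) {k : ℤ} (hk : ¬ (t : ℤ) ∣ k) :
    ∃ v : ℤ, ∀ x : G, x ^ t = 1 → (x ^ k) ^ v = x := by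
  have h1 : ¬ t ∣ k.natAbs := fun h => hk (Int.natCast_dvd.mpr h)
  have h2 : Nat.Coprime t k.natAbs := (Nat.Prime.coprime_iff_not_dvd ht).mpr h1
  have h3 : IsCoprime (t : ℤ) k := by
    rw [Int.isCoprime_iff_gcd_eq_one]
    simpa [Int.gcd] using h2
  obtain ⟨u, v, huv⟩ := h3
  refine ⟨v, fun x hx => ?_⟩
  have h4 : k * v = 1 - u * t := by linarith
  rw [← zpow_mul, h4, sub_eq_add_neg, zpow_add, zpow_one, ← neg_mul, mul_comm, zpow_mul, zpow_natCast,
    hx, one_zpow, mul_one]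

/-- replacing an integer exponent by a natural one -/
theorem zpow_eq_pow_toNat {t : ℕ} (ht0 : t ≠ 0) {y : G} (hy : y ^ t = 1) (s0 : ℤ) :
    y ^ s0 = y ^ (s0 % (t : ℤ)).toNat := by
  have h1 : ((s0 % (t : ℤ)).toNat : ℤ) = s0 % (t : ℤ) :=
    Int.toNat_of_nonneg (Int.emod_nonneg _ (by exact_mod_cast ht0))
  have h2 : s0 = (t : ℤ) * (s0 / (t : ℤ)) + s0 % (t : ℤ) := (Int.mul_ediv_add_emod s0 t).symm
  generalize (s0 % (t : ℤ)).toNat = r at h1 ⊢
  rw [← h1] at h2
  rw [h2, zpow_add, zpow_mul, zpow_natCast, hy, one_zpow, one_mul, zpow_natCast]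

/-- **Lemma D.** -/
theorem diag [Finite G] (V : Subgroup G) {t : ℕ} (ht : t.Prime)
    (hcop : (Nat.card V).Coprime t)
    (z m h : G) (hz : orderOf z = t) (hm : orderOf m = t) (hzm : Commute z m)
    (hnot : z ∉ Subgroup.zpowers m)
    (hzV : z ∈ Subgroup.normalizer (V : Set G)) (hmV : m ∈ Subgroup.normalizer (V : Set G))
    (hhV : h ∈ Subgroup.normalizer (V : Set G))
    (j : ℕ) (hj : ¬ t ∣ j) (hhm : Commute h m) (hconj : h⁻¹ * z * h = z * m ^ j)
    (hCm : V ⊓ Subgroup.centralizer {m} = ⊥) (hCz : V ⊓ Subgroup.centralizer {z} = ⊥) : V = ⊥ := by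
  classical
  have : Fact t.Prime := ⟨ht⟩
  have hzt : z ^ t = 1 := hz ▸ pow_orderOf_eq_one z
  have hmt : m ^ t = 1 := hm ▸ pow_orderOf_eq_one m
  have hTp : IsPGroup t (pairSub z m hzm) := by
    intro g
    refine ⟨1, ?_⟩
    apply Subtype.ext
    simpa using pow_eq_one_of_mem hzm hzt hmt g.2
  -- `T` is not cyclic
  have hTnc : ¬ IsCyclic (pairSub z m hzm) := by
    intro hc
    obtain ⟨g, hg⟩ := hc.exists_generator
    have hgt : g ^ t = 1 := by
      apply Subtype.ext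
      simpa using pow_eq_one_of_mem hzm hzt hmt g.2
    have h1 : Nat.card (pairSub z m hzm) = orderOf g := by
      rw [← Nat.card_zpowers]
      have : Subgroup.zpowers g = ⊤ := (Subgroup.eq_top_iff' _).mpr hg
      rw [this]
      exact (Subgroup.card_top).symm
    have h2 : orderOf g ≤ t := Nat.le_of_dvd ht.pos (orderOf_dvd_of_pow_eq_one hgt)
    have h3 : Subgroup.zpowers z ≤ pairSub z m hzm := by
      rw [Subgroup.zpowers_le]; exact z_mem hzm
    have h4 : Nat.card (Subgroup.zpowers z) = t := by rw [Nat.card_zpowers, hz]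
    have h5 : Subgroup.zpowers z = pairSub z m hzm :=
      Subgroup.eq_of_le_of_card_ge h3 (by rw [h4, h1]; exact h2)
    have h6 : m ∈ Subgroup.zpowers z := by rw [h5]; exact m_mem hzm
    have h7 : Subgroup.zpowers m ≤ Subgroup.zpowers z := by rw [Subgroup.zpowers_le]; exact h6
    have h8 : Subgroup.zpowers m = Subgroup.zpowers z :=
      Subgroup.eq_of_le_of_card_ge h7 (by rw [h4, Nat.card_zpowers, hm])
    exact hnot (h8 ▸ Subgroup.mem_zpowers z)
  have hTV : pairSub z m hzm ≤ Subgroup.normalizer (V : Set G) := by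
    rintro g ⟨i, k, rfl⟩
    exact mul_mem (zpow_mem hzV i) (zpow_mem hmV k)
  have hcopT : (Nat.card (pairSub z m hzm)).Coprime (Nat.card V) := by
    obtain ⟨n, hn⟩ := IsPGroup.iff_card.mp hTp
    rw [hn]
    exact Nat.Coprime.pow_left n hcop.symm
  have key := Cfsg.Agent.S0058.result (pairSub z m hzm) V hTnc hTV hcopT
  rw [← key, eq_bot_iff]
  apply iSup₂_le
  rintro a ⟨haT, ha1⟩
  obtain ⟨i, k, rfl⟩ := haT
  intro v hv
  obtain ⟨hvV, hvC⟩ := Subgroup.mem_inf.mp hv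
  have hva : Commute v (z ^ i * m ^ k) := by
    have := Subgroup.mem_centralizer_iff.mp hvC (z ^ i * m ^ k) (Set.mem_singleton _)
    exact this.symm
  rw [Subgroup.mem_bot]
  by_cases hi : (t : ℤ) ∣ i
  · -- `a = m ^ k`
    have hzi : z ^ i = 1 := by
      rw [← hz] at hi
      exact orderOf_dvd_iff_zpow_eq_one.mp hi
    rw [hzi, one_mul] at hva ha1
    have hk : ¬ (t : ℤ) ∣ k := by
      intro hk
      apply ha1
      rw [← hm] at hk
      exact orderOf_dvd_iff_zpow_eq_one.mp hk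
    obtain ⟨w, hw⟩ := exists_zpow_inv (G := G) ht hk
    have h1 : Commute v m := by
      have := hva.zpow_right w
      rwa [hw m hmt] at this
    have h2 : v ∈ V ⊓ Subgroup.centralizer {m} := by
      refine Subgroup.mem_inf.mpr ⟨hvV, ?_⟩
      rw [Subgroup.mem_centralizer_iff]
      intro x hx
      rw [Set.mem_singleton_iff.mp hx]
      exact h1.symm.eq
    rw [hCm] at h2
    exact Subgroup.mem_bot.mp h2
  · -- `a ^ u = z * m ^ (k u)`
    obtain ⟨u, hu⟩ := exists_zpow_inv (G := G) ht hi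
    have hjz : ¬ (t : ℤ) ∣ (j : ℤ) := fun hh => hj (Int.natCast_dvd_natCast.mp hh)
    obtain ⟨w, hw⟩ := exists_zpow_inv (G := G) ht hjz
    have hcomm : Commute (z ^ i) (m ^ k) := hzm.zpow_zpow i k
    have h1 : (z ^ i * m ^ k) ^ u = z * m ^ (k * u) := by
      rw [hcomm.mul_zpow, hu z hzt, zpow_mul]
    -- the natural exponent
    have hmj : (m ^ j) ^ t = 1 := by rw [← pow_mul, mul_comm, pow_mul, hmt, one_pow]
    have h2 : m ^ (k * u) = m ^ (j * ((w * (k * u)) % (t : ℤ)).toNat) := by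
      have e1 : m ^ (j * ((w * (k * u)) % (t : ℤ)).toNat) = (m ^ j) ^ (w * (k * u)) := by
        rw [pow_mul, ← zpow_eq_pow_toNat ht.ne_zero hmj]
      have e2 : (m ^ j) ^ (w * (k * u)) = ((m ^ (j : ℤ)) ^ w) ^ (k * u) := by
        rw [zpow_natCast, ← zpow_mul]
      rw [e1, e2, hw m hmt]
    have h3 := conj_pow hhm hzm hconj ((w * (k * u)) % (t : ℤ)).toNat
    set s := ((w * (k * u)) % (t : ℤ)).toNat with hs
    have h4 : Commute v ((h ^ s)⁻¹ * z * h ^ s) := by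
      rw [h3, ← h2, ← h1]
      exact hva.zpow_right u
    have hsV : h ^ s ∈ Subgroup.normalizer (V : Set G) := pow_mem hhV s
    have h5 : h ^ s * v * (h ^ s)⁻¹ ∈ V := (Subgroup.mem_normalizer_iff.mp hsV v).mp hvV
    have h6 : Commute (h ^ s * v * (h ^ s)⁻¹) z := by
      have e := h4.eq
      show h ^ s * v * (h ^ s)⁻¹ * z = z * (h ^ s * v * (h ^ s)⁻¹)
      calc h ^ s * v * (h ^ s)⁻¹ * z = h ^ s * (v * ((h ^ s)⁻¹ * z * h ^ s)) * (h ^ s)⁻¹ := by group
        _ = h ^ s * (((h ^ s)⁻¹ * z * h ^ s) * v) * (h ^ s)⁻¹ := by rw [e]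
        _ = z * (h ^ s * v * (h ^ s)⁻¹) := by group
    have h7 : h ^ s * v * (h ^ s)⁻¹ ∈ V ⊓ Subgroup.centralizer {z} := by
      refine Subgroup.mem_inf.mpr ⟨h5, ?_⟩
      rw [Subgroup.mem_centralizer_iff]
      intro x hx
      rw [Set.mem_singleton_iff.mp hx]
      exact h6.symm.eq
    rw [hCz, Subgroup.mem_bot] at h7
    have h8 : v = (h ^ s)⁻¹ * (h ^ s * v * (h ^ s)⁻¹) * h ^ s := by group
    rw [h8, h7]
    group

end Cfsg.Agent.H15.DiagConj
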