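import Cfsg.Agent.Lib.H10.S4415BadDefs

/-!
helper15: S4415 BAD block, piece (B7'): a maximal `R<b>`-normal `XS`-subgroup `X` of `R`
has `C_R(X) = {1,z}` (given LEMMA E+ = `B2Stmt` as a hypothesis).
-/

set_option autoImplicit false

namespace Cfsg.Agent.Lib.H15.S4415B7p

open Cfsg.Agent.Lib.H10.S4415

universe u v

section generic

variable {S : Type*} [Group S]

/-- The product set `X X'` as a subgroup, when `X'` centralises `X`. -/
def prodSub (X X' : Subgroup S) (hc : ∀ x ∈ X, ∀ y ∈ X', x * y = y * x) : Subgroup S where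
  carrier := {g | ∃ x ∈ X, ∃ y ∈ X', g = x * y}
  one_mem' := ⟨1, X.one_mem, 1, X'.one_mem, by simp⟩
  mul_mem' := by
    rintro _ _ ⟨x₁, hx₁, y₁, hy₁, rfl⟩ ⟨x₂, hx₂, y₂, hy₂, rfl⟩
    refine ⟨x₁ * x₂, X.mul_mem hx₁ hx₂, y₁ * y₂, X'.mul_mem hy₁ hy₂, ?_⟩
    have := hc x₂ hx₂ y₁ hy₁
    calc x₁ * y₁ * (x₂ * y₂) = x₁ * (y₁ * x₂) * y₂ := by group
      _ = x₁ * (x₂ * y₁) * y₂ := by rw [this]
      _ = x₁ * x₂ * (y₁ * y₂) := by group
  inv_mem' := by
    rintro _ ⟨x, hx, y, hy, rfl⟩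
    refine ⟨x⁻¹, X.inv_mem hx, y⁻¹, X'.inv_mem hy, ?_⟩
    have := hc x⁻¹ (X.inv_mem hx) y⁻¹ (X'.inv_mem hy)
    rw [this]; group

/-- Elements of `X ⊔ X'` are products when `X'` centralises `X`. -/
theorem mem_sup_comm {X X' : Subgroup S} (hc : ∀ x ∈ X, ∀ y ∈ X', x * y = y * x)
    {g : S} (hg : g ∈ X ⊔ X') : ∃ x ∈ X, ∃ y ∈ X', g = x * y := by
  have h1 : X ⊔ X' ≤ prodSub X X' hc := by
    refine sup_le ?_ ?_
    · intro x hx; exact ⟨x, hx, 1, X'.one_mem, by simp⟩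
    · intro y hy; exact ⟨1, X.one_mem, y, hy, by simp⟩
  exact h1 hg

/-- `{1,z}` is closed under products when `z * z = 1`. -/
theorem one_or_z_mul {z a c : S} (hz : z * z = 1) (ha : a = 1 ∨ a = z) (hc : c = 1 ∨ c = z) :
    a * c = 1 ∨ a * c = z := by
  rcases ha with rfl | rfl <;> rcases hc with rfl | rfl
  · left; simp
  · right; simp
  · right; simp
  · left; exact hz

/-- The commutator of products of commuting pairs splits. -/
theorem comm_split {x x' y y' : S} (e1 : y * x' = x' * y)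
    (e2 : (y * y' * y⁻¹) * x⁻¹ = x⁻¹ * (y * y' * y⁻¹))
    (e3 : (y * y' * y⁻¹ * y'⁻¹) * x'⁻¹ = x'⁻¹ * (y * y' * y⁻¹ * y'⁻¹)) :
    (x * y) * (x' * y') * (x * y)⁻¹ * (x' * y')⁻¹ =
      (x * x' * x⁻¹ * x'⁻¹) * (y * y' * y⁻¹ * y'⁻¹) := by
  calc (x * y) * (x' * y') * (x * y)⁻¹ * (x' * y')⁻¹
      = x * (y * x') * (y' * y⁻¹) * x⁻¹ * y'⁻¹ * x'⁻¹ := by group
    _ = x * (x' * y) * (y' * y⁻¹) * x⁻¹ * y'⁻¹ * x'⁻¹ := by rw [e1]
    _ = x * x' * ((y * y' * y⁻¹) * x⁻¹) * y'⁻¹ * x'⁻¹ := by group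
    _ = x * x' * (x⁻¹ * (y * y' * y⁻¹)) * y'⁻¹ * x'⁻¹ := by rw [e2]
    _ = x * x' * x⁻¹ * ((y * y' * y⁻¹ * y'⁻¹) * x'⁻¹) := by group
    _ = x * x' * x⁻¹ * (x'⁻¹ * (y * y' * y⁻¹ * y'⁻¹)) := by rw [e3]
    _ = (x * x' * x⁻¹ * x'⁻¹) * (y * y' * y⁻¹ * y'⁻¹) := by group

/-- Central product: the join of two commuting `XS`-subgroups with the same `z` is `XS`. -/
theorem xs_sup {z : S} {X X' : Subgroup S} (hX : XS z X) (hX' : XS z X')
    (hc : ∀ x ∈ X, ∀ y ∈ X', x * y = y * x) : XS z (X ⊔ X') := by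
  have hc' : ∀ x ∈ X, ∀ y ∈ X', y * x = x * y := fun x hx y hy => (hc x hx y hy).symm
  refine ⟨(le_sup_left : X ≤ X ⊔ X') hX.zX, hX.z_ne, hX.z_sq, ?_, ?_, ?_, ?_, ?_⟩
  · intro g hg
    obtain ⟨x, hx, y, hy, rfl⟩ := mem_sup_comm hc hg
    calc x * y * z = x * (y * z) := by group
      _ = x * (z * y) := by rw [hX'.z_central y hy]
      _ = (x * z) * y := by group
      _ = (z * x) * y := by rw [hX.z_central x hx]
      _ = z * (x * y) := by group
  · intro g hg
    obtain ⟨x, hx, y, hy, rfl⟩ := mem_sup_comm hc hg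
    have e : x * y * (x * y) = (x * x) * (y * y) := by
      calc x * y * (x * y) = x * (y * x) * y := by group
        _ = x * (x * y) * y := by rw [hc' x hx y hy]
        _ = (x * x) * (y * y) := by group
    rw [e]
    exact one_or_z_mul hX.z_sq (hX.sq x hx) (hX'.sq y hy)
  · intro g hg h hh
    obtain ⟨x, hx, y, hy, rfl⟩ := mem_sup_comm hc hg
    obtain ⟨x', hx', y', hy', rfl⟩ := mem_sup_comm hc hh
    rw [comm_split (hc' x' hx' y hy)
      (hc' x⁻¹ (X.inv_mem hx) _ (X'.mul_mem (X'.mul_mem hy hy') (X'.inv_mem hy)))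
      (hc' x'⁻¹ (X.inv_mem hx') _
        (X'.mul_mem (X'.mul_mem (X'.mul_mem hy hy') (X'.inv_mem hy)) (X'.inv_mem hy')))]
    exact one_or_z_mul hX.z_sq (hX.comm x hx x' hx') (hX'.comm y hy y' hy')
  · intro g hg hcen
    obtain ⟨x, hx, y, hy, rfl⟩ := mem_sup_comm hc hg
    have hx1 : x = 1 ∨ x = z := by
      refine hX.center x hx ?_
      intro h hh
      have h1 := hcen h ((le_sup_left : X ≤ X ⊔ X') hh)
      have h2 := hc' h hh y hy
      -- x * y * h = h * (x * y), y * h = h * y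
      have h3 : x * h * y = h * x * y := by
        calc x * h * y = x * (h * y) := by group
          _ = x * (y * h) := by rw [h2]
          _ = x * y * h := by group
          _ = h * (x * y) := h1
          _ = h * x * y := by group
      exact mul_right_cancel h3
    have hy1 : y = 1 ∨ y = z := by
      refine hX'.center y hy ?_
      intro k hk
      have h1 := hcen k ((le_sup_right : X' ≤ X ⊔ X') hk)
      have h2 := hc x hx k hk
      have h3 : x * (y * k) = x * (k * y) := by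
        calc x * (y * k) = x * y * k := by group
          _ = k * (x * y) := h1
          _ = (k * x) * y := by group
          _ = (x * k) * y := by rw [h2]
          _ = x * (k * y) := by group
      exact mul_left_cancel h3
    exact one_or_z_mul hX.z_sq hx1 hy1
  · obtain ⟨g, hg, h1, h2⟩ := hX.big
    exact ⟨g, (le_sup_left : X ≤ X ⊔ X') hg, h1, h2⟩

/-- The join of two subgroups normalised by `G` is normalised by `G` (elementwise form, for
commuting subgroups). -/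
theorem normBy_sup {G X X' : Subgroup S} (hc : ∀ x ∈ X, ∀ y ∈ X', x * y = y * x)
    (h1 : NormBy G X) (h2 : NormBy G X') : NormBy G (X ⊔ X') := by
  intro g hg a ha
  obtain ⟨x, hx, y, hy, rfl⟩ := mem_sup_comm hc ha
  have e : g * (x * y) * g⁻¹ = (g * x * g⁻¹) * (g * y * g⁻¹) := by group
  rw [e]
  exact Subgroup.mul_mem _ ((le_sup_left : X ≤ X ⊔ X') (h1 g hg x hx))
    ((le_sup_right : X' ≤ X ⊔ X') (h2 g hg y hy))

/-- `R<b>` normalises `R`. -/
theorem normBy_R {R : Subgroup S} {b : S} (hb3 : orderOf b = 3)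
    (hbn : ∀ r ∈ R, b * r * b⁻¹ ∈ R) : NormBy (RB R b) R := by
  have hb : b ∈ Subgroup.normalizer (R : Set S) := by
    rw [Subgroup.mem_normalizer_iff]
    intro h
    refine ⟨hbn h, ?_⟩
    intro hh
    have h3 : b ^ 3 = 1 := by rw [← hb3]; exact pow_orderOf_eq_one b
    have h3' : b * b * b = 1 := by rw [← pow_three']; exact h3
    have h1 := hbn _ (hbn _ hh)
    have e : b * (b * (b * h * b⁻¹) * b⁻¹) * b⁻¹ = h := by
      have : b * (b * (b * h * b⁻¹) * b⁻¹) * b⁻¹ = (b * b * b) * h * (b * b * b)⁻¹ := by group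
      rw [this, h3']; group
    rw [← e]
    exact h1
  have hle : RB R b ≤ Subgroup.normalizer (R : Set S) := by
    unfold RB
    refine sup_le Subgroup.le_normalizer ?_
    rw [Subgroup.zpowers_le]
    exact hb
  intro g hg a ha
  exact (Subgroup.mem_normalizer_iff.mp (hle hg) a).mp ha

/-- The centraliser in `R` of an `R<b>`-normal subgroup is `R<b>`-normal. -/
theorem normBy_centralizer {G R X : Subgroup S} (hR : NormBy G R) (hX : NormBy G X) :
    NormBy G (R ⊓ Subgroup.centralizer (X : Set S)) := by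
  intro g hg a ha
  obtain ⟨haR, haC⟩ := Subgroup.mem_inf.mp ha
  refine Subgroup.mem_inf.mpr ⟨hR g hg a haR, ?_⟩
  rw [Subgroup.mem_centralizer_iff] at haC ⊢
  intro x hx
  have hx' : g⁻¹ * x * g⁻¹⁻¹ ∈ X := hX g⁻¹ (G.inv_mem hg) x hx
  have h1 := haC _ hx'
  calc x * (g * a * g⁻¹) = g * ((g⁻¹ * x * g⁻¹⁻¹) * a) * g⁻¹ := by group
    _ = g * (a * (g⁻¹ * x * g⁻¹⁻¹)) * g⁻¹ := by rw [h1]
    _ = g * a * g⁻¹ * x := by group

end generic

/-- (B7') a maximal `R<b>`-normal `XS`-subgroup `X` of `R` has `C_R(X) = {1,z}`. -/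
theorem b7' (h2 : B2Stmt.{u, v}) : B7'Stmt.{u, v} := by
  intro S _ _ E _ _ _ ρ R b W z X hL hOdd hAb hzR hneg hW hXR hXn hXS hmax c hcR hcX
  by_contra hne
  have hRn : NormBy (RB R b) R := normBy_R hL.b_ord hL.b_norm
  have hCn : NormBy (RB R b) (R ⊓ Subgroup.centralizer (X : Set S)) :=
    normBy_centralizer hRn hXn
  have hcC : c ∈ R ⊓ Subgroup.centralizer (X : Set S) := by
    refine Subgroup.mem_inf.mpr ⟨hcR, ?_⟩
    rw [Subgroup.mem_centralizer_iff]
    intro g hg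
    exact (hcX g hg).symm
  obtain ⟨X', hX'C, hX'n, hX'S⟩ := h2 ρ R b W z hL hOdd hAb hzR hneg hW
    (R ⊓ Subgroup.centralizer (X : Set S)) inf_le_left hCn (fun h => hne (h c hcC))
  have hc : ∀ x ∈ X, ∀ y ∈ X', x * y = y * x := by
    intro x hx y hy
    have := (Subgroup.mem_inf.mp (hX'C hy)).2
    rw [Subgroup.mem_centralizer_iff] at this
    exact this x hx
  have hsupR : X ⊔ X' ≤ R := sup_le hXR (hX'C.trans inf_le_left)
  have hle := hmax (X ⊔ X') hsupR (normBy_sup hc hXn hX'n) (xs_sup hXS hX'S hc)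
  have heq : X = X ⊔ X' := Subgroup.eq_of_le_of_card_ge le_sup_left hle
  obtain ⟨g, hg, hg1, hgz⟩ := hX'S.big
  have hgX : g ∈ X := by rw [heq]; exact (le_sup_right : X' ≤ X ⊔ X') hg
  rcases hXS.center g hgX (fun h hh => (hc h hh g hg).symm) with h | h
  · exact hg1 h
  · exact hgz h

end Cfsg.Agent.Lib.H15.S4415B7p
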