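import Cfsg.Agent.Lib.H15.SUGenF

/-!
# Generation of `SU_n(q)`, `n ≥ 4`, `q ≥ 3`: two generators
-/

set_option autoImplicit false
set_option linter.unusedSectionVars false
set_option linter.unusedVariables false
set_option linter.unusedSimpArgs false

namespace Cfsg.Agent.Lib.H15.SUGen

open Matrix Cfsg.Agent.Lib.H4 Cfsg.Agent.Lib.H2.Unitary Cfsg.Agent.Lib.H2.Herm

variable {F : Type*} [Field F] [Fintype F] {q n : ℕ}

/-! ### rotations: algebra -/

theorem rotSU_mul (hF : Fintype.card F = q ^ 2) {l l' : F} {u u' : Fin n → F} (hl0 : l ≠ 0)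
    (hl : l ^ q = l) (hl'0 : l' ≠ 0) (hl' : l' ^ q = l') (hu : hf q u u = 0)
    (hu' : hf q u' u' = 0) (huu' : hf q u u' = 1) :
    rotSU hF l u u' * rotSU hF l' u u' = rotSU hF (l * l') u u' := by
  have hu'u : hf q u' u = 1 := by rw [← hf_conj hF, huu', one_pow]
  apply ext_act
  intro x
  rw [act_mul, rotSU_act hF hl'0 hl' hu hu' huu', rotSU_act hF hl0 hl hu hu' huu',
    rotSU_act hF (mul_ne_zero hl0 hl'0) (by rw [mul_pow, hl, hl']) hu hu' huu']
  simp only [hf_add_left, hf_smul_left, hu, hu', huu', hu'u, mul_inv]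
  module

theorem rotSU_one (hF : Fintype.card F = q ^ 2) {u u' : Fin n → F} (hu : hf q u u = 0)
    (hu' : hf q u' u' = 0) (huu' : hf q u u' = 1) : rotSU hF (1 : F) u u' = 1 := by
  apply ext_act
  intro x
  rw [rotSU_act hF one_ne_zero (one_pow q) hu hu' huu', act_one]
  simp

theorem rotSU_pow (hF : Fintype.card F = q ^ 2) {l : F} {u u' : Fin n → F} (hl0 : l ≠ 0)
    (hl : l ^ q = l) (hu : hf q u u = 0) (hu' : hf q u' u' = 0) (huu' : hf q u u' = 1) (k : ℕ) :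
    rotSU hF l u u' ^ k = rotSU hF (l ^ k) u u' := by
  induction k with
  | zero => rw [pow_zero, pow_zero, rotSU_one hF hu hu' huu']
  | succ k ih =>
    rw [pow_succ, ih, rotSU_mul hF (pow_ne_zero _ hl0)
      (by rw [← pow_mul, mul_comm, pow_mul, hl]) hl0 hl hu hu' huu', pow_succ]

/-- facts about the standard hyperbolic pair of a coordinate plane -/
theorem hyp_pair_facts (hF : Fintype.card F = q ^ 2) {i j : Fin n} (hij : i ≠ j) {ω l κ : F}
    (hω : ω * ω ^ q = -1) (hl : l * l ^ q = 1) (hκ2 : κ * (1 - l) = 1) (hκ1 : κ ^ q = -l * κ) :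
    hf q (pv i j 1 ω) (pv i j 1 ω) = 0 ∧
      hf q (pv i j κ (κ * ω * l)) (pv i j κ (κ * ω * l)) = 0 ∧
      hf q (pv i j 1 ω) (pv i j κ (κ * ω * l)) = 1 := by
  refine ⟨?_, ?_, ?_⟩
  · rw [hf_pv_pv hF hij, one_pow]; linear_combination hω
  · rw [hf_pv_pv hF hij, mul_pow, mul_pow]
    linear_combination (κ * κ ^ q * (l * l ^ q)) * hω - (κ * κ ^ q) * hl
  · rw [hf_pv_pv hF hij, mul_pow, mul_pow, hκ1]
    linear_combination (-l * κ * l ^ q) * hω + κ * hl + hκ2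

/-- a non-zero element of trace zero -/
theorem exists_tz (hF : Fintype.card F = q ^ 2) : ∃ c : F, c ≠ 0 ∧ c + c ^ q = 0 := by
  have hq2 := two_le_q hF
  obtain ⟨g, hg⟩ := exists_gen hF
  refine ⟨(g : F) - (g : F) ^ q, ?_, ?_⟩
  · intro h
    have h1 : (g : F) ^ q = (g : F) := by linear_combination -h
    have h2 : g ^ (q - 1) = 1 := by
      apply Units.ext
      rw [Units.val_pow_eq_pow_val, Units.val_one]
      have h3 : (g : F) * (g : F) ^ (q - 1) = (g : F) * 1 := by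
        rw [← pow_succ', Nat.sub_add_cancel (by omega), h1, mul_one]
      exact mul_left_cancel₀ g.ne_zero h3
    have h3 := orderOf_dvd_of_pow_eq_one h2
    rw [hg] at h3
    have h4 := Nat.le_of_dvd (by omega) h3
    have : q ^ 2 ≥ 2 * q := by nlinarith
    omega
  · rw [fr_sub hF, fr_fr hF]; ring

/-! ### indices -/

variable {m : ℕ}

theorem fv0 : ((0 : Fin (m + 3 + 1)) : ℕ) = 0 := rfl
theorem fv1 : ((1 : Fin (m + 3 + 1)) : ℕ) = 1 := by
  show 1 % (m + 3 + 1) = 1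
  exact Nat.mod_eq_of_lt (by omega)
theorem fv2 : ((2 : Fin (m + 3 + 1)) : ℕ) = 2 := by
  show 2 % (m + 3 + 1) = 2
  exact Nat.mod_eq_of_lt (by omega)
theorem fv3 : ((3 : Fin (m + 3 + 1)) : ℕ) = 3 := by
  show 3 % (m + 3 + 1) = 3
  exact Nat.mod_eq_of_lt (by omega)

theorem f01 : (0 : Fin (m + 3 + 1)) ≠ 1 := by rw [Ne, Fin.ext_iff, fv0, fv1]; omega
theorem f02 : (0 : Fin (m + 3 + 1)) ≠ 2 := by rw [Ne, Fin.ext_iff, fv0, fv2]; omega
theorem f03 : (0 : Fin (m + 3 + 1)) ≠ 3 := by rw [Ne, Fin.ext_iff, fv0, fv3]; omega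
theorem f12 : (1 : Fin (m + 3 + 1)) ≠ 2 := by rw [Ne, Fin.ext_iff, fv1, fv2]; omega
theorem f13 : (1 : Fin (m + 3 + 1)) ≠ 3 := by rw [Ne, Fin.ext_iff, fv1, fv3]; omega
theorem f23 : (2 : Fin (m + 3 + 1)) ≠ 3 := by rw [Ne, Fin.ext_iff, fv2, fv3]; omega

theorem fs01 : (0 : Fin (m + 3 + 1)) + 1 = 1 := zero_add 1
theorem fs12 : (1 : Fin (m + 3 + 1)) + 1 = 2 := by
  apply Fin.ext
  rw [Fin.val_add, fv1, fv2]
  exact Nat.mod_eq_of_lt (by omega)
theorem fs23 : (2 : Fin (m + 3 + 1)) + 1 = 3 := by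
  apply Fin.ext
  rw [Fin.val_add, fv1, fv2, fv3]
  exact Nat.mod_eq_of_lt (by omega)

/-- the diagonal entries `(θ, θ, θ⁻¹, θ⁻¹, 1, …)` -/
def dth (m : ℕ) (θ : F) (k : Fin (m + 3 + 1)) : F :=
  (if k = 0 then θ else 1) * (if k = 1 then θ else 1) * (if k = 2 then θ⁻¹ else 1) *
    (if k = 3 then θ⁻¹ else 1)

theorem dth_0 (θ : F) : dth m θ 0 = θ := by
  unfold dth
  rw [if_pos rfl, if_neg f01, if_neg f02, if_neg f03]; ring
theorem dth_1 (θ : F) : dth m θ 1 = θ := by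
  unfold dth
  rw [if_neg f01.symm, if_pos rfl, if_neg f12, if_neg f13]; ring
theorem dth_2 (θ : F) : dth m θ 2 = θ⁻¹ := by
  unfold dth
  rw [if_neg f02.symm, if_neg f12.symm, if_pos rfl, if_neg f23]; ring
theorem dth_3 (θ : F) : dth m θ 3 = θ⁻¹ := by
  unfold dth
  rw [if_neg f03.symm, if_neg f13.symm, if_neg f23.symm, if_pos rfl]; ring

theorem norm_ite {θ : F} (hθ : θ * θ ^ q = 1) (c : Prop) [Decidable c] :
    (if c then θ else 1) * (if c then θ else 1) ^ q = 1 := by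
  split_ifs
  · exact hθ
  · rw [one_pow, mul_one]

theorem norm_mul {a b : F} (ha : a * a ^ q = 1) (hb : b * b ^ q = 1) :
    (a * b) * (a * b) ^ q = 1 := by
  rw [mul_pow]; linear_combination (b * b ^ q) * ha + hb

theorem dth_norm {θ : F} (hθ : θ * θ ^ q = 1) (k : Fin (m + 3 + 1)) :
    dth m θ k * dth m θ k ^ q = 1 := by
  have hθ' : θ⁻¹ * θ⁻¹ ^ q = 1 := by rw [inv_pow, ← mul_inv, hθ, inv_one]
  unfold dth
  exact norm_mul (norm_mul (norm_mul (norm_ite hθ _) (norm_ite hθ _)) (norm_ite hθ' _))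
    (norm_ite hθ' _)

theorem dth_prod {θ : F} (hθ0 : θ ≠ 0) : ∏ k, dth m θ k = 1 := by
  unfold dth
  rw [Finset.prod_mul_distrib, Finset.prod_mul_distrib, Finset.prod_mul_distrib,
    Finset.prod_ite_eq' Finset.univ (0 : Fin (m + 3 + 1)),
    Finset.prod_ite_eq' Finset.univ (1 : Fin (m + 3 + 1)),
    Finset.prod_ite_eq' Finset.univ (2 : Fin (m + 3 + 1)),
    Finset.prod_ite_eq' Finset.univ (3 : Fin (m + 3 + 1))]
  simp only [Finset.mem_univ, if_true]
  field_simp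

end Cfsg.Agent.Lib.H15.SUGen
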