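/-
UP2 (unitary phase 2, helper15): toolkit.  Elements of `SU_n(q)` as elements of `GL (Fin n) F` lying in
`GU n F q ⊓ specialLinear (Fin n) F`: unitary transvections `utv`, diagonal elements `udg`; isotropic vectors span;
a matrix commuting with all unitary transvections is scalar.
-/
import Cfsg.Agent.Lib.H15.SUGenG
import Cfsg.Agent.Lib.H28.GLBasic

set_option autoImplicit false
set_option linter.unusedSectionVars false
set_option linter.unusedVariables false

namespace Cfsg.Agent.Lib.H15.UP2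

open Cfsg Cfsg.Geo Cfsg.Agent.Lib.H15.SUGen Cfsg.Agent.Lib.H2.Herm
open scoped MatrixGroups Matrix

variable {F : Type*} [Field F] [Fintype F] {n q : ℕ}

/-- The element of `GL` of an element of `Cfsg.SU` (a subgroup of `SL`). -/
def suGL (g : ↥(Cfsg.SU n F q)) : GL (Fin n) F :=
  Matrix.SpecialLinearGroup.toGL (g : Matrix.SpecialLinearGroup (Fin n) F)

theorem suGL_val (g : ↥(Cfsg.SU n F q)) :
    ((suGL g : GL (Fin n) F) : Matrix (Fin n) (Fin n) F) =
      ((g : Matrix.SpecialLinearGroup (Fin n) F) : Matrix (Fin n) (Fin n) F) := rfl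

theorem suGL_mulVec (g : ↥(Cfsg.SU n F q)) (x : Fin n → F) :
    ((suGL g : GL (Fin n) F) : Matrix (Fin n) (Fin n) F) *ᵥ x = act g x := rfl

theorem suGL_mul (g h : ↥(Cfsg.SU n F q)) : suGL (g * h) = suGL g * suGL h := by
  unfold suGL
  rw [Subgroup.coe_mul, map_mul]

theorem suGL_mem (g : ↥(Cfsg.SU n F q)) : suGL g ∈ GU n F q ⊓ specialLinear (Fin n) F := by
  refine ⟨?_, ?_⟩
  · exact g.2
  · exact (Cfsg.Agent.Lib.H28.mem_specialLinear_iff _).2 (g : Matrix.SpecialLinearGroup (Fin n) F).2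

theorem mem_GU_iff (g : GL (Fin n) F) :
    g ∈ GU n F q ↔ ∀ u v, hermForm n F q ((g : Matrix (Fin n) (Fin n) F) *ᵥ u)
      ((g : Matrix (Fin n) (Fin n) F) *ᵥ v) = hermForm n F q u v := Iff.rfl

/-- The unitary transvection `x ↦ x + (a * f x v) • v` (`a + a ^ q = 0`, `f v v = 0`; the identity otherwise). -/
noncomputable def utv (hF : Fintype.card F = q ^ 2) (a : F) (v : Fin n → F) : GL (Fin n) F :=
  suGL (tv hF v a)

theorem utv_mem (hF : Fintype.card F = q ^ 2) (a : F) (v : Fin n → F) :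
    utv hF a v ∈ GU n F q ⊓ specialLinear (Fin n) F := suGL_mem _

theorem utv_mulVec (hF : Fintype.card F = q ^ 2) {a : F} {v : Fin n → F} (ha : a + a ^ q = 0)
    (hv : hermForm n F q v v = 0) (x : Fin n → F) :
    ((utv hF a v : GL (Fin n) F) : Matrix (Fin n) (Fin n) F) *ᵥ x = x + (a * hermForm n F q x v) • v := by
  unfold utv
  rw [suGL_mulVec, tv_act hF hv ha]

/-- The diagonal element `diagonal d` of `SU` (`d i * d i ^ q = 1`, `∏ d i = 1`). -/
noncomputable def udg (d : Fin n → F) (hd : ∀ i, d i * d i ^ q = 1) (hdet : ∏ i, d i = 1) : GL (Fin n) F :=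
  suGL (dgSU (q := q) d hd hdet)

theorem udg_mem (d : Fin n → F) (hd : ∀ i, d i * d i ^ q = 1) (hdet : ∏ i, d i = 1) :
    udg (q := q) d hd hdet ∈ GU n F q ⊓ specialLinear (Fin n) F := suGL_mem _

theorem udg_mulVec (d : Fin n → F) (hd : ∀ i, d i * d i ^ q = 1) (hdet : ∏ i, d i = 1) (x : Fin n → F)
    (i : Fin n) : (((udg (q := q) d hd hdet : GL (Fin n) F) : Matrix (Fin n) (Fin n) F) *ᵥ x) i = d i * x i := by
  unfold udg
  rw [suGL_mulVec, dgSU_act]

theorem udg_val (d : Fin n → F) (hd : ∀ i, d i * d i ^ q = 1) (hdet : ∏ i, d i = 1) :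
    ((udg (q := q) d hd hdet : GL (Fin n) F) : Matrix (Fin n) (Fin n) F) = Matrix.diagonal d := by
  apply Matrix.toLin'.injective
  apply LinearMap.ext
  intro x
  funext i
  rw [Matrix.toLin'_apply, Matrix.toLin'_apply, udg_mulVec, Matrix.mulVec_diagonal]

/-! ### scalars of the field -/

/-- a non-zero element of trace zero -/
theorem exists_tr0 (hF : Fintype.card F = q ^ 2) : ∃ a : F, a ≠ 0 ∧ a + a ^ q = 0 := exists_tz hF

/-- the norm `x ↦ x * x ^ q` is onto the fixed field of `x ↦ x ^ q` -/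
theorem exists_norm (hF : Fintype.card F = q ^ 2) (c : F) (hc : c ^ q = c) : ∃ x : F, x * x ^ q = c := by
  by_cases hc0 : c = 0
  · exact ⟨0, by rw [zero_mul, hc0]⟩
  · have h := card_N_fiber hF c hc0 hc
    have hne : Nonempty {x : F // N q x = c} := by
      rw [← Finite.card_pos_iff, h]; omega
    obtain ⟨x, hx⟩ := hne
    exact ⟨x, hx⟩

/-- two different elements of norm `c ≠ 0` -/
theorem exists_norm_pair (hF : Fintype.card F = q ^ 2) (c : F) (hc0 : c ≠ 0) (hc : c ^ q = c) :
    ∃ x y : F, x ≠ y ∧ x * x ^ q = c ∧ y * y ^ q = c := by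
  have h := card_N_fiber hF c hc0 hc
  have hq := two_le_q hF
  have : Nontrivial {x : F // N q x = c} := by
    rw [← Finite.one_lt_card_iff_nontrivial, h]; omega
  obtain ⟨x, y, hxy⟩ := exists_pair_ne {x : F // N q x = c}
  exact ⟨x.1, y.1, fun h => hxy (Subtype.ext h), x.2, y.2⟩

/-! ### isotropic vectors -/

theorem herm_nondeg (hF : Fintype.card F = q ^ 2) {v : Fin n → F} (hv : v ≠ 0) :
    ∃ y : Fin n → F, hermForm n F q y v ≠ 0 := by
  obtain ⟨i, hi⟩ : ∃ i, v i ≠ 0 := by
    by_contra h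
    push Not at h
    exact hv (funext h)
  refine ⟨Pi.single i 1, ?_⟩
  show hf q (Pi.single i 1) v ≠ 0
  rw [hf_single_left hF]
  exact pow_ne_zero _ hi

/-- the isotropic vectors span the space (`n ≥ 2`) -/
theorem span_isotropic (hF : Fintype.card F = q ^ 2) (hn : 2 ≤ n) :
    Submodule.span F {v : Fin n → F | hermForm n F q v v = 0} = ⊤ := by
  have hm1 : ((-1 : F)) ^ q = -1 := by rw [fr_neg hF, one_pow]
  obtain ⟨c, c', hcc', hc, hc'⟩ := exists_norm_pair hF (-1 : F) (by simp) hm1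
  set S := Submodule.span F {v : Fin n → F | hermForm n F q v v = 0} with hS
  have hpair : ∀ i j : Fin n, i ≠ j → (Pi.single j 1 : Fin n → F) ∈ S := by
    intro i j hij
    have h1 : pv i j 1 c ∈ S := by
      apply Submodule.subset_span
      show hf q (pv i j 1 c) (pv i j 1 c) = 0
      rw [hf_pv_pv hF hij, one_pow, one_mul, hc]; ring
    have h2 : pv i j 1 c' ∈ S := by
      apply Submodule.subset_span
      show hf q (pv i j 1 c') (pv i j 1 c') = 0
      rw [hf_pv_pv hF hij, one_pow, one_mul, hc']; ring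
    have h3 : (c - c') • (Pi.single j 1 : Fin n → F) ∈ S := by
      have : (c - c') • (Pi.single j 1 : Fin n → F) = pv i j 1 c - pv i j 1 c' := by
        unfold pv
        rw [sub_smul]
        abel
      rw [this]
      exact S.sub_mem h1 h2
    have hne : c - c' ≠ 0 := sub_ne_zero.2 hcc'
    have := S.smul_mem (c - c')⁻¹ h3
    rwa [smul_smul, inv_mul_cancel₀ hne, one_smul] at this
  rw [eq_top_iff]
  intro x _
  have hx : x = ∑ j, x j • (Pi.single j 1 : Fin n → F) := by
    funext k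
    simp [Finset.sum_apply, Pi.single_apply]
  rw [hx]
  refine S.sum_mem fun j _ => S.smul_mem _ ?_
  obtain ⟨i, hij⟩ : ∃ i : Fin n, i ≠ j := by
    by_cases h0 : j = ⟨0, by omega⟩
    · exact ⟨⟨1, by omega⟩, by rw [h0]; intro h; simpa [Fin.ext_iff] using h⟩
    · exact ⟨⟨0, by omega⟩, fun h => h0 h.symm⟩
  exact hpair i j hij

/-- every proper subspace misses an isotropic vector -/
theorem exists_isotropic_notMem (hF : Fintype.card F = q ^ 2) (hn : 2 ≤ n) (W : Submodule F (Fin n → F))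
    (hW : W ≠ ⊤) : ∃ v : Fin n → F, hermForm n F q v v = 0 ∧ v ∉ W := by
  by_contra h
  push Not at h
  apply hW
  rw [eq_top_iff, ← span_isotropic hF hn, Submodule.span_le]
  intro v hv
  exact h v hv

/-- a non-zero isotropic vector -/
theorem exists_isotropic_ne_zero (hF : Fintype.card F = q ^ 2) (hn : 2 ≤ n) :
    ∃ v : Fin n → F, hermForm n F q v v = 0 ∧ v ≠ 0 := by
  obtain ⟨v, hv, hv0⟩ := exists_isotropic_notMem hF hn (⊥ : Submodule F (Fin n → F)) (by
    intro h
    have h1 : (Pi.single (⟨0, by omega⟩ : Fin n) (1 : F)) ∈ (⊥ : Submodule F (Fin n → F)) := by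
      rw [h]; exact Submodule.mem_top
    rw [Submodule.mem_bot] at h1
    have := congrFun h1 ⟨0, by omega⟩
    simp at this)
  exact ⟨v, hv, fun h => hv0 (by rw [h]; exact Submodule.zero_mem _)⟩

/-- the sum of two isotropic vectors can be made isotropic -/
theorem exists_isotropic_add (hF : Fintype.card F = q ^ 2) (v v' : Fin n → F)
    (hv : hermForm n F q v v = 0) (hv' : hermForm n F q v' v' = 0) :
    ∃ c : F, c ≠ 0 ∧ hermForm n F q (v + c • v') (v + c • v') = 0 := by
  have key : ∀ c : F, hermForm n F q (v + c • v') (v + c • v') =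
      c * hermForm n F q v' v + (c * hermForm n F q v' v) ^ q := by
    intro c
    show hf q (v + c • v') (v + c • v') = c * hf q v' v + (c * hf q v' v) ^ q
    have h1 : hf q v v = 0 := hv
    have h2 : hf q v' v' = 0 := hv'
    rw [hf_add_left, hf_add_right hF, hf_add_right hF, hf_smul_right, hf_smul_left, hf_smul_left,
      hf_smul_right, h1, h2, mul_pow, hf_conj hF]
    ring
  by_cases hβ : hermForm n F q v' v = 0
  · refine ⟨1, one_ne_zero, ?_⟩
    rw [key, hβ, mul_zero, fr_zero hF, add_zero]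
  · obtain ⟨a, ha0, ha⟩ := exists_tr0 hF
    refine ⟨a / hermForm n F q v' v, div_ne_zero ha0 hβ, ?_⟩
    rw [key, div_mul_cancel₀ _ hβ, ha]

/-! ### matrices commuting with all unitary transvections -/

theorem eigen_of_comm_utv (hF : Fintype.card F = q ^ 2) (x : Matrix (Fin n) (Fin n) F)
    (h : ∀ (a : F) (v : Fin n → F), a + a ^ q = 0 → hermForm n F q v v = 0 →
      x * ((utv hF a v : GL (Fin n) F) : Matrix (Fin n) (Fin n) F) =
        ((utv hF a v : GL (Fin n) F) : Matrix (Fin n) (Fin n) F) * x)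
    (v : Fin n → F) (hv : hermForm n F q v v = 0) : ∃ l : F, x *ᵥ v = l • v := by
  by_cases hv0 : v = 0
  · exact ⟨0, by rw [hv0, Matrix.mulVec_zero, smul_zero]⟩
  obtain ⟨a, ha0, ha⟩ := exists_tr0 hF
  obtain ⟨y, hy⟩ := herm_nondeg hF hv0
  have h1 := congrArg (fun M : Matrix (Fin n) (Fin n) F => M *ᵥ y) (h a v ha hv)
  simp only [← Matrix.mulVec_mulVec] at h1
  rw [utv_mulVec hF ha hv, utv_mulVec hF ha hv, Matrix.mulVec_add, Matrix.mulVec_smul] at h1
  have h2 : (a * hermForm n F q y v) • (x *ᵥ v) = (a * hermForm n F q (x *ᵥ y) v) • v :=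
    add_left_cancel h1
  have hne : a * hermForm n F q y v ≠ 0 := mul_ne_zero ha0 hy
  refine ⟨(a * hermForm n F q y v)⁻¹ * (a * hermForm n F q (x *ᵥ y) v), ?_⟩
  rw [mul_smul, ← h2, smul_smul, inv_mul_cancel₀ hne, one_smul]

/-- A matrix commuting with every unitary transvection is scalar (`n ≥ 2`). -/
theorem scalar_of_comm_utv (hF : Fintype.card F = q ^ 2) (hn : 2 ≤ n) (x : Matrix (Fin n) (Fin n) F)
    (h : ∀ (a : F) (v : Fin n → F), a + a ^ q = 0 → hermForm n F q v v = 0 →
      x * ((utv hF a v : GL (Fin n) F) : Matrix (Fin n) (Fin n) F) =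
        ((utv hF a v : GL (Fin n) F) : Matrix (Fin n) (Fin n) F) * x) :
    ∃ c : F, x = c • (1 : Matrix (Fin n) (Fin n) F) := by
  obtain ⟨v₀, hv₀, hv₀0⟩ := exists_isotropic_ne_zero hF hn
  obtain ⟨l₀, hl₀⟩ := eigen_of_comm_utv hF x h v₀ hv₀
  refine ⟨l₀, ?_⟩
  have hall : ∀ v : Fin n → F, hermForm n F q v v = 0 → x *ᵥ v = l₀ • v := by
    intro v hv
    obtain ⟨l, hl⟩ := eigen_of_comm_utv hF x h v hv
    by_cases hdep : ∃ μ : F, v = μ • v₀
    · obtain ⟨μ, rfl⟩ := hdep
      rw [Matrix.mulVec_smul, hl₀, smul_comm]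
    · push Not at hdep
      obtain ⟨c, hc0, hc⟩ := exists_isotropic_add hF v₀ v hv₀ hv
      obtain ⟨l', hl'⟩ := eigen_of_comm_utv hF x h _ hc
      rw [Matrix.mulVec_add, Matrix.mulVec_smul, hl₀, hl, smul_add] at hl'
      -- (l₀ - l') v₀ + c (l - l') v = 0
      have h3 : (l₀ - l') • v₀ = (c * (l' - l)) • v := by
        rw [← sub_eq_zero]
        have e : (l₀ - l') • v₀ - (c * (l' - l)) • v =
            (l₀ • v₀ + c • l • v) - (l' • v₀ + l' • c • v) := by module
        rw [e, hl', sub_self]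
      by_cases hll : l' = l
      · -- then (l₀ - l') v₀ = 0
        rw [hll, sub_self, mul_zero, zero_smul] at h3
        have h4 : l₀ - l = 0 := by
          by_contra hne
          apply hv₀0
          have := congrArg (fun w => (l₀ - l)⁻¹ • w) h3
          simpa [smul_smul, inv_mul_cancel₀ hne] using this
        rw [hl, sub_eq_zero.1 h4]
      · exfalso
        apply hdep ((c * (l' - l))⁻¹ * (l₀ - l'))
        have hne : c * (l' - l) ≠ 0 := mul_ne_zero hc0 (sub_ne_zero.2 hll)
        rw [mul_smul, h3, smul_smul, inv_mul_cancel₀ hne, one_smul]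
  apply Matrix.toLin'.injective
  apply LinearMap.ext_on_range (v := fun v : {v : Fin n → F // hermForm n F q v v = 0} => v.1)
  · rw [Subtype.range_coe_subtype]
    exact span_isotropic hF hn
  · rintro ⟨v, hv⟩
    rw [Matrix.toLin'_apply, Matrix.toLin'_apply, hall v hv, Matrix.smul_mulVec, Matrix.one_mulVec]

end Cfsg.Agent.Lib.H15.UP2
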