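import Cfsg.Agent.Lib.H15.BSWEnd12

set_option autoImplicit false

/-!
helper15: Brauer–Suzuki–Wall (S3282), second half, part 13: Step 5 and the final theorem.
-/

namespace Cfsg.Agent.Lib.H15.BSWEnd

open Cfsg.Agent.Lib.H8 Cfsg.Agent.Lib.H15 Finset
open scoped Classical

variable {G : Type*} [Group G] [Fintype G]

/-- the last part of the conclusion, about `D` -/
def Tail (D : Subgroup G) : Prop :=
  IsMulCommutative ↥D ∧ ∀ X : Subgroup G, X ≤ D → X ≠ ⊥ →
    Subgroup.normalizer (X : Set G) = Subgroup.normalizer (D : Set G) ∧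
    ∃ u : G, orderOf u = 2 ∧ u ∉ D ∧ (∀ d ∈ D, u * d * u⁻¹ = d⁻¹) ∧
      Subgroup.normalizer (D : Set G) = D ⊔ Subgroup.zpowers u

theorem exists_ne_one_of_ne_bot {X : Subgroup G} (hX : X ≠ ⊥) : ∃ y ∈ X, y ≠ 1 := by
  rcases X.bot_or_exists_ne_one with e | e
  · exact absurd e hX
  · exact e

variable {t s : G} {K : Subgroup G} {δ : ℤ} {q : ℕ} {ξ : G → ℤ}

/-- the tail for `D = K` -/
theorem tail_K (h : BSWHyp t K s) : Tail K := by
  have hNX : ∀ X : Subgroup G, X ≤ K → X ≠ ⊥ →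
      Subgroup.normalizer (X : Set G) = Subgroup.centralizer ({t} : Set G) := by
    intro X hXK hX
    obtain ⟨y, hy, hy1⟩ := exists_ne_one_of_ne_bot hX
    apply le_antisymm
    · intro g hg
      have h1 : g * y * g⁻¹ ∈ X := (Subgroup.mem_normalizer_iff.1 hg y).1 hy
      exact TI h (hXK hy) hy1 (hXK h1)
    · intro g hg
      apply mem_normalizer_of_cj_le
      rintro _ ⟨c, hc, rfl⟩
      show g * c * g⁻¹ ∈ X
      by_cases hgK : g ∈ K
      · have : g * c * g⁻¹ = c := by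
          rw [comm_K h hgK (hXK hc)]; group
        rw [this]; exact hc
      · rw [(HK h hg hgK).2 c (hXK hc)]; exact X.inv_mem hc
  have hKne : K ≠ ⊥ := by
    intro e
    have := h.htK
    rw [e, Subgroup.mem_bot] at this
    exact t_ne_one h this
  refine ⟨h.hKab, fun X hXK hX => ?_⟩
  refine ⟨by rw [hNX X hXK hX, hNX K le_rfl hKne], s, h.hs, h.hsK, h.hinv, ?_⟩
  rw [hNX K le_rfl hKne, h.hH]

section Hyp

variable (h : BSWHyp t K s) (x : XD K δ q ξ) (fd : FD K q ξ)
include h x fd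

theorem exists_two : ∃ Q ∈ Fam K ξ, ∃ Q' ∈ Fam K ξ, Q ≠ Q' := by
  have : 1 < (Fam K ξ).card := by rw [fd.card_F]; have := three_le_q' h x fd; omega
  exact Finset.one_lt_card.1 this

/-- the common part of the conclusion -/
theorem conclusion_of_tail {Q Q' : Subgroup G} (hQ : Q ∈ Fam K ξ) (hQ' : Q' ∈ Fam K ξ)
    (hne : Q ≠ Q') (hT : Tail (DD Q Q')) : BSWConclusion G := by
  have hcQ := fd.card_mem Q hQ
  have hq3 := three_le_q' h x fd
  refine ⟨Q, DD Q Q', ?_, fd.cent Q hQ, hT.1, ?_, Q_inf_D h x fd hQ hQ' hne,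
    N_eq_sup h x fd hQ hQ' hne, hT.2⟩
  · rw [hcQ, two_card_G h x]
    obtain ⟨m, rfl⟩ : ∃ m, q = m + 1 := ⟨q - 1, by omega⟩
    simp only [Nat.add_sub_cancel]
    have : (m + 1) ^ 2 = (m + 1 + 1) * m + 1 := by ring
    rw [this, Nat.add_sub_cancel]
    ring
  · rw [hcQ]; exact card_D h x fd hQ hQ' hne

/-! ### the case `δ = 1` -/

theorem exists_pair_pos (hδ : δ = 1) :
    ∃ Q ∈ Fam K ξ, ∃ Q' ∈ Fam K ξ, Q ≠ Q' ∧ t ∈ DD Q Q' := by
  obtain ⟨Q₀, hQ₀, Q₀', hQ₀', hne⟩ := exists_two h x fd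
  have hcD := card_D h x fd hQ₀ hQ₀' hne
  have hqeq : (q : ℤ) = 2 * (Nat.card K : ℤ) + 1 := by have := x.hq; rwa [hδ] at this
  have hqeq' : q = 2 * Nat.card K + 1 := by exact_mod_cast hqeq
  have hDcard : Nat.card (DD Q₀ Q₀') = Nat.card K := by omega
  have h2 : 2 ∣ Nat.card (DD Q₀ Q₀') := by rw [hDcard]; exact even_card_K h
  obtain ⟨u', hu'⟩ := exists_prime_orderOf_dvd_card' 2 h2
  have hu'2 : orderOf (u' : G) = 2 := by rw [Subgroup.orderOf_coe]; exact hu'
  obtain ⟨g, hg⟩ := isConj_iff.1 (h.hconj t u' h.ht hu'2)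
  have hu'D := mem_DD.1 u'.2
  refine ⟨cj g⁻¹ Q₀, Fam_conj h x hQ₀ g⁻¹, cj g⁻¹ Q₀', Fam_conj h x hQ₀' g⁻¹, ?_, ?_⟩
  · intro e
    apply hne
    have := congrArg (cj g) e
    rwa [cj_cj_inv, cj_cj_inv] at this
  · rw [mem_DD]
    have key : ∀ P : Subgroup G, cj (u' : G) P = P → cj t (cj g⁻¹ P) = cj g⁻¹ P := by
      intro P hP
      rw [cj_cj]
      have : t * g⁻¹ = g⁻¹ * (g * t * g⁻¹) := by group
      rw [this, hg, ← cj_cj, hP]
    exact ⟨key Q₀ hu'D.1, key Q₀' hu'D.2⟩

theorem tail_pos (hδ : δ = 1) {Q Q' : Subgroup G} (hQ : Q ∈ Fam K ξ) (hQ' : Q' ∈ Fam K ξ)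
    (hne : Q ≠ Q') (ht : t ∈ DD Q Q') : Tail (DD Q Q') := by
  have hq3 := three_le_q' h x fd
  have hcQ := fd.card_mem Q hQ
  -- a non-identity element of Q
  have : 1 < Nat.card Q := by rw [hcQ]; omega
  haveI : Nontrivial Q := (Finite.one_lt_card_iff_nontrivial).1 this
  obtain ⟨⟨y, hy⟩, hy1⟩ := exists_ne (1 : Q)
  have hy1' : y ≠ 1 := fun e => hy1 (Subtype.ext e)
  -- involutions of N(Q) invert Q
  have hinvQ : ∀ u : G, orderOf u = 2 → u ∈ Subgroup.normalizer (Q : Set G) →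
      ∀ c ∈ Q, u * c * u⁻¹ = c⁻¹ := by
    intro u hu huN
    apply inverts_of_normalizes h hu
    · intro c hc
      exact (Subgroup.mem_normalizer_iff.1 huN c).1 hc
    · intro c hc hc1
      exact Fam_avoid h x hQ hc hc1
  have htN : t ∈ Subgroup.normalizer (Q : Set G) := (Subgroup.mem_inf.1 ht).1
  -- t is the only involution of D
  have huniq : ∀ u ∈ DD Q Q', orderOf u = 2 → u = t := by
    intro u hu hu2
    have h1 := hinvQ u hu2 (Subgroup.mem_inf.1 hu).1 y hy
    have h2 := hinvQ t h.ht htN y hy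
    have h3 : Commute (u * t) y := by
      show u * t * y = y * (u * t)
      have e1 : t * y = y⁻¹ * t := by
        calc t * y = (t * y * t⁻¹) * t := by group
          _ = y⁻¹ * t := by rw [h2]
      have e2 : u * y⁻¹ = y * u := by
        have : u * y⁻¹ * u⁻¹ = y := by
          calc u * y⁻¹ * u⁻¹ = (u * y * u⁻¹)⁻¹ := by group
            _ = y := by rw [h1, inv_inv]
        calc u * y⁻¹ = (u * y⁻¹ * u⁻¹) * u := by group
          _ = y * u := by rw [this]
      calc u * t * y = u * (t * y) := by group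
        _ = u * (y⁻¹ * t) := by rw [e1]
        _ = (u * y⁻¹) * t := by group
        _ = y * u * t := by rw [e2]
        _ = y * (u * t) := by group
    have h4 : u * t ∈ Q := by
      rw [← fd.cent Q hQ y hy hy1', memC]; exact h3
    have h5 : u * t ∈ Q ⊓ DD Q Q' :=
      Subgroup.mem_inf.2 ⟨h4, Subgroup.mul_mem _ hu ht⟩
    rw [Q_inf_D h x fd hQ hQ' hne, Subgroup.mem_bot] at h5
    calc u = (u * t) * t⁻¹ := by group
      _ = t := by rw [h5, t_inv h, one_mul]
  -- D ≤ H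
  have hDH : DD Q Q' ≤ Subgroup.centralizer ({t} : Set G) := by
    intro d hd
    rw [mem_H_iff h]
    have h1 : d * t * d⁻¹ ∈ DD Q Q' :=
      Subgroup.mul_mem _ (Subgroup.mul_mem _ hd ht) (Subgroup.inv_mem _ hd)
    have h2 : orderOf (d * t * d⁻¹) = 2 := by rw [orderOf_cj]; exact h.ht
    have h3 := huniq _ h1 h2
    calc d * t = (d * t * d⁻¹) * d := by group
      _ = t * d := by rw [h3]
  -- D ≤ K
  have hDK : DD Q Q' ≤ K := by
    intro d hd
    by_contra hdK
    have h1 := (HK h (hDH hd) hdK).1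
    exact hdK (huniq d hd h1 ▸ h.htK)
  -- D = K
  have hcD := card_D h x fd hQ hQ' hne
  have hqeq : (q : ℤ) = 2 * (Nat.card K : ℤ) + 1 := by have := x.hq; rwa [hδ] at this
  have hqeq' : q = 2 * Nat.card K + 1 := by exact_mod_cast hqeq
  have hDeq : DD Q Q' = K := eq_of_le_of_card_le' hDK (by omega)
  rw [hDeq]
  exact tail_K h

/-! ### the case `δ = -1` -/

theorem tail_neg (hδ : δ = -1) {Q Q' : Subgroup G} (hQ : Q ∈ Fam K ξ) (hQ' : Q' ∈ Fam K ξ)
    (hne : Q ≠ Q') : Tail (DD Q Q') := by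
  have hcD := card_D h x fd hQ hQ' hne
  have hqeq := q_eq_neg h x hδ
  have hn2 := two_le_card_K h
  have hqeq' : q + 1 = 2 * Nat.card K := by
    have : ((q + 1 : ℕ) : ℤ) = ((2 * Nat.card K : ℕ) : ℤ) := by push_cast; linarith
    exact_mod_cast this
  have hDcard : Nat.card (DD Q Q') + 1 = Nat.card K := by omega
  by_cases hD : DD Q Q' = ⊥
  · rw [hD]
    refine ⟨?_, fun X hX hX1 => absurd (le_bot_iff.1 hX) hX1⟩
    rw [isMulCommutative_iff]
    intro a b
    apply Subtype.ext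
    have ha := Subgroup.mem_bot.1 a.2
    have hb := Subgroup.mem_bot.1 b.2
    simp only [Subgroup.coe_mul, ha, hb]
  -- elements of D \ 1 lie in R
  have hDR : ∀ d ∈ DD Q Q', d ≠ 1 → d ∈ Rs K δ ξ := by
    intro d hd hd1
    have hdK : d ∉ calK K := by
      intro hc
      have h1 := order_dvd_of_calK h hc
      have h2 : orderOf d ∣ Nat.card (DD Q Q') := (DD Q Q').orderOf_dvd_natCard hd
      have h3 : orderOf d ∣ 1 := by
        have := (Nat.dvd_sub h1 h2)
        rwa [← hDcard, Nat.add_sub_cancel_left] at this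
      exact hd1 (orderOf_eq_one_iff.1 (Nat.dvd_one.1 h3))
    rcases Zs_or_Rs h x hdK hd1 with hZ | hR
    · exfalso
      have hdQ := P1 h x (fd.card_mem Q hQ) hZ (Subgroup.mem_inf.1 hd).1
      have : d ∈ Q ⊓ DD Q Q' := Subgroup.mem_inf.2 ⟨hdQ, hd⟩
      rw [Q_inf_D h x fd hQ hQ' hne, Subgroup.mem_bot] at this
      exact hd1 this
    · exact hR
  -- centralizers
  have hcentle : ∀ d ∈ DD Q Q', d ≠ 1 → Subgroup.centralizer ({d} : Set G) ≤ DD Q Q' := by
    intro d hd hd1 c hc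
    rw [memC] at hc
    have hdR := hDR d hd hd1
    have hdG0 := mem_Rs.1 hdR
    have hodd := odd_order_of_cent h hdG0.1 hdG0.2.1 hc
    obtain ⟨k, hk⟩ := hodd
    have hdD := mem_DD.1 hd
    -- c permutes {Q, Q'}
    have hperm : ∀ P : Subgroup G, P ∈ Fam K ξ → cj d P = P → cj c P = Q ∨ cj c P = Q' := by
      intro P hP hdP
      apply fix_two h x fd hQ hQ' hne hd hd1 (Fam_conj h x hP c)
      rw [mem_normalizer_iff_cj_eq, cj_cj, ← hc.eq, ← cj_cj, hdP]
    have hcpow : c = (c * c) ^ (k + 1) := by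
      rw [← pow_two, ← pow_mul]
      have : 2 * (k + 1) = orderOf c + 1 := by omega
      rw [this, pow_succ, pow_orderOf_eq_one, one_mul]
    have hpowN : ∀ P : Subgroup G, cj (c * c) P = P → cj c P = P := by
      intro P hP
      have h1 : c * c ∈ Subgroup.normalizer (P : Set G) := mem_normalizer_iff_cj_eq.2 hP
      have h2 : (c * c) ^ (k + 1) ∈ Subgroup.normalizer (P : Set G) := Subgroup.pow_mem _ h1 _
      rw [← hcpow] at h2
      exact mem_normalizer_iff_cj_eq.1 h2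
    have hinj : cj c Q ≠ cj c Q' := by
      intro e
      apply hne
      have := congrArg (cj c⁻¹) e
      rwa [cj_inv_cj, cj_inv_cj] at this
    rw [mem_DD]
    rcases hperm Q hQ hdD.1 with e1 | e1
    · refine ⟨e1, ?_⟩
      rcases hperm Q' hQ' hdD.2 with e2 | e2
      · exact absurd (e1.trans e2.symm) hinj
      · exact e2
    · exfalso
      rcases hperm Q' hQ' hdD.2 with e2 | e2
      · have : cj (c * c) Q = Q := by rw [← cj_cj, e1, e2]
        have := hpowN Q this
        exact hne (this.symm.trans e1)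
      · exact hinj (e1.trans e2.symm)
  have hcenteq : ∀ d ∈ DD Q Q', d ≠ 1 → Subgroup.centralizer ({d} : Set G) = DD Q Q' := by
    intro d hd hd1
    apply eq_of_le_of_card_le' (hcentle d hd hd1)
    obtain ⟨-, -, -, -, -, hcard⟩ := Rs_struct h x (hDR d hd hd1)
    rw [hδ] at hcard
    have : ((Nat.card (Subgroup.centralizer ({d} : Set G)) + 1 : ℕ) : ℤ) =
        ((Nat.card K : ℕ) : ℤ) := by push_cast; linarith
    have : Nat.card (Subgroup.centralizer ({d} : Set G)) + 1 = Nat.card K := by exact_mod_cast this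
    omega
  obtain ⟨d₀, hd₀, hd₀1⟩ := exists_ne_one_of_ne_bot hD
  obtain ⟨u, hu2, hud₀, huinv, hab, -⟩ := Rs_struct h x (hDR d₀ hd₀ hd₀1)
  have hC₀ := hcenteq d₀ hd₀ hd₀1
  have hmemD : ∀ c, c ∈ DD Q Q' ↔ Commute c d₀ := by
    intro c; rw [← hC₀, memC]
  have hcommD : ∀ a ∈ DD Q Q', ∀ b ∈ DD Q Q', a * b = b * a := by
    intro a ha b hb
    exact (hab a b ((hmemD a).1 ha) ((hmemD b).1 hb)).eq
  have huD : ∀ d ∈ DD Q Q', u * d * u⁻¹ = d⁻¹ := fun d hd => huinv d ((hmemD d).1 hd)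
  have hd₀G0 := mem_Rs.1 (hDR d₀ hd₀ hd₀1)
  have hunotD : u ∉ DD Q Q' := by
    intro hc
    have := odd_order_of_cent h hd₀G0.1 hd₀G0.2.1 ((hmemD u).1 hc)
    rw [hu2] at this
    exact absurd this (by decide)
  have hui := inv_eq_self hu2
  have huu := (inv_iff.1 hu2).2
  -- the normalizer of D
  have huN : u ∈ Subgroup.normalizer ((DD Q Q' : Subgroup G) : Set G) := by
    apply mem_normalizer_of_cj_le
    rintro _ ⟨c, hc, rfl⟩
    show u * c * u⁻¹ ∈ DD Q Q'
    rw [huD c hc]; exact Subgroup.inv_mem _ hc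
  -- g ∈ N(D) permutes {Q, Q'}
  have hpermN : ∀ g ∈ Subgroup.normalizer ((DD Q Q' : Subgroup G) : Set G), ∀ P ∈ Fam K ξ,
      cj d₀ P = P → cj g P = Q ∨ cj g P = Q' := by
    intro g hg P hP hdP
    have hd₁ : g * d₀ * g⁻¹ ∈ DD Q Q' := (Subgroup.mem_normalizer_iff.1 hg d₀).1 hd₀
    have hd₁1 : g * d₀ * g⁻¹ ≠ 1 := by
      intro e
      apply hd₀1
      have : d₀ = g⁻¹ * (g * d₀ * g⁻¹) * g := by group
      rw [this, e]; group
    apply fix_two h x fd hQ hQ' hne hd₁ hd₁1 (Fam_conj h x hP g)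
    rw [mem_normalizer_iff_cj_eq, cj_cj]
    have : g * d₀ * g⁻¹ * g = g * d₀ := by group
    rw [this, ← cj_cj, hdP]
  have hd₀D := mem_DD.1 hd₀
  have hinjg : ∀ g : G, cj g Q ≠ cj g Q' := by
    intro g e
    apply hne
    have := congrArg (cj g⁻¹) e
    rwa [cj_inv_cj, cj_inv_cj] at this
  have hcases : ∀ g ∈ Subgroup.normalizer ((DD Q Q' : Subgroup G) : Set G),
      (cj g Q = Q ∧ cj g Q' = Q') ∨ (cj g Q = Q' ∧ cj g Q' = Q) := by
    intro g hg
    rcases hpermN g hg Q hQ hd₀D.1 with e1 | e1 <;> rcases hpermN g hg Q' hQ' hd₀D.2 with e2 | e2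
    · exact absurd (e1.trans e2.symm) (hinjg g)
    · left; exact ⟨e1, e2⟩
    · right; exact ⟨e1, e2⟩
    · exact absurd (e1.trans e2.symm) (hinjg g)
  have huswap : cj u Q = Q' ∧ cj u Q' = Q := by
    rcases hcases u huN with e | e
    · exact absurd (mem_DD.2 e) hunotD
    · exact e
  have hND : Subgroup.normalizer ((DD Q Q' : Subgroup G) : Set G) = DD Q Q' ⊔ Subgroup.zpowers u := by
    apply le_antisymm
    · intro g hg
      rcases hcases g hg with e | e
      · exact Subgroup.mem_sup_left (mem_DD.2 e)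
      · have h1 : u * g ∈ DD Q Q' := by
          rw [mem_DD, ← cj_cj, ← cj_cj, e.1, e.2]
          exact ⟨huswap.2, huswap.1⟩
        have : g = u * (u * g) := by
          calc g = (u * u) * g := by rw [huu, one_mul]
            _ = u * (u * g) := by group
        rw [this]
        exact Subgroup.mul_mem _ (Subgroup.mem_sup_right (Subgroup.mem_zpowers u))
          (Subgroup.mem_sup_left h1)
    · exact sup_le Subgroup.le_normalizer (Subgroup.zpowers_le.2 huN)
  refine ⟨?_, fun X hXD hX => ⟨?_, u, hu2, hunotD, huD, hND⟩⟩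
  · rw [isMulCommutative_iff]
    intro a b
    apply Subtype.ext
    simp only [Subgroup.coe_mul]
    exact hcommD a.1 a.2 b.1 b.2
  · obtain ⟨y, hy, hy1⟩ := exists_ne_one_of_ne_bot hX
    apply le_antisymm
    · intro g hg
      have h1 : g * y * g⁻¹ ∈ X := (Subgroup.mem_normalizer_iff.1 hg y).1 hy
      have h11 : g * y * g⁻¹ ≠ 1 := by
        intro e
        apply hy1
        have : y = g⁻¹ * (g * y * g⁻¹) * g := by group
        rw [this, e]; group
      have h2 := hcenteq _ (hXD h1) h11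
      have h3 := hcenteq y (hXD hy) hy1
      rw [← cj_centralizer, h3] at h2
      exact mem_normalizer_iff_cj_eq.2 h2
    · rw [hND]
      apply sup_le
      · intro d hd
        apply mem_normalizer_of_cj_le
        rintro _ ⟨c, hc, rfl⟩
        show d * c * d⁻¹ ∈ X
        have : d * c * d⁻¹ = c := by
          rw [hcommD d hd c (hXD hc)]; group
        rw [this]; exact hc
      · rw [Subgroup.zpowers_le]
        apply mem_normalizer_of_cj_le
        rintro _ ⟨c, hc, rfl⟩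
        show u * c * u⁻¹ ∈ X
        rw [huD c (hXD hc)]; exact X.inv_mem hc

end Hyp

/-- **The second half of the Brauer–Suzuki–Wall theorem.** -/
theorem bsw_of_charData_fintype (h : BSWHyp t K s) {δ : ℤ} {q : ℕ} {X : G → ℂ}
    (hd : BSWCharData K δ q X) : BSWConclusion G := by
  obtain ⟨ξ, x⟩ := exists_XD h hd
  rcases x.hδ with hδ | hδ
  · have fd := FD_of_pos h x hδ
    obtain ⟨Q, hQ, Q', hQ', hne, ht⟩ := exists_pair_pos h x fd hδ
    exact conclusion_of_tail h x fd hQ hQ' hne (tail_pos h x fd hδ hQ hQ' hne ht)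
  · have fd := FD_of_neg h x hδ
    obtain ⟨Q, hQ, Q', hQ', hne⟩ := exists_two h x fd
    exact conclusion_of_tail h x fd hQ hQ' hne (tail_neg h x fd hδ hQ hQ' hne)

end Cfsg.Agent.Lib.H15.BSWEnd

namespace Cfsg.Agent.Lib.H15.BSWEnd

open Cfsg.Agent.Lib.H8

/-- **The second half of the Brauer–Suzuki–Wall theorem**, in the form asked for. -/
theorem bsw_of_charData {G : Type*} [Group G] [Finite G] {t s : G} {K : Subgroup G}
    (h : BSWHyp t K s) {δ : ℤ} {q : ℕ} {X : G → ℂ}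
    (hd : BSWCharData K δ q X) : BSWConclusion G := by
  classical
  haveI : Fintype G := Fintype.ofFinite G
  exact bsw_of_charData_fintype h hd

end Cfsg.Agent.Lib.H15.BSWEnd
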