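import Mathlib
import Cfsg.Agent.Lib.H17.GHDefs

/-!
S4402 pieces **N2a / N2b** (helper15), core forms with N1's conclusion as a hypothesis:
an element normalizing `P` permutes `{A1, A2}`, permutes `Om` and normalizes `As`.
-/

set_option autoImplicit false
set_option linter.dupNamespace false

namespace Cfsg.Agent.Lib.H15.GH

open Subgroup Cfsg.Agent.Lib.H17.GH

/-- The conclusion of N1 as a hypothesis. -/
def N1Hyp {S : Type*} [Group S] {P : Subgroup S} (D : Data P) : Prop :=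
  ∀ V : Subgroup S, V ≤ P → (∀ g ∈ P, ∀ v ∈ V, g * v * g⁻¹ ∈ V) → (∀ v ∈ V, v * v = 1) →
    Nat.card V = 16 → V = D.A1 ∨ V = D.A2

/-- the conjugate `g V g⁻¹` -/
noncomputable def cj {S : Type*} [Group S] (g : S) (V : Subgroup S) : Subgroup S :=
  V.map (MulAut.conj g).toMonoidHom

theorem mem_cj {S : Type*} [Group S] (g : S) (V : Subgroup S) (x : S) :
    x ∈ cj g V ↔ ∃ a ∈ V, g * a * g⁻¹ = x := by
  unfold cj
  rw [Subgroup.mem_map]
  simp [MulAut.conj_apply]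

theorem conj_mem_cj {S : Type*} [Group S] (g : S) (V : Subgroup S) {a : S} (ha : a ∈ V) :
    g * a * g⁻¹ ∈ cj g V := (mem_cj g V _).2 ⟨a, ha, rfl⟩

theorem card_cj {S : Type*} [Group S] (g : S) (V : Subgroup S) :
    Nat.card (cj g V) = Nat.card V := by
  unfold cj
  exact (Nat.card_congr (V.equivMapOfInjective _ (MulAut.conj g).injective).toEquiv).symm

theorem cj_injective {S : Type*} [Group S] (g : S) : Function.Injective (cj (S := S) g) := by
  intro V W h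
  unfold cj at h
  exact Subgroup.map_injective (MulAut.conj g).injective h

theorem inv_mem_normalizer' {S : Type*} [Group S] {P : Subgroup S} {g : S}
    (hg : g ∈ normalizer (P : Set S)) : g⁻¹ ∈ normalizer (P : Set S) := inv_mem hg

theorem conj_mem_of_mem_normalizer {S : Type*} [Group S] {P : Subgroup S} {g : S}
    (hg : g ∈ normalizer (P : Set S)) {x : S} (hx : x ∈ P) : g * x * g⁻¹ ∈ P :=
  (Subgroup.mem_normalizer_iff.mp hg x).mp hx

theorem conj_inv_mem_of_mem_normalizer {S : Type*} [Group S] {P : Subgroup S} {g : S}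
    (hg : g ∈ normalizer (P : Set S)) {x : S} (hx : x ∈ P) : g⁻¹ * x * g ∈ P := by
  have := conj_mem_of_mem_normalizer (inv_mem_normalizer' hg) hx
  simpa using this

/-- the conjugate of a `P`-normal elementary abelian subgroup of order 16 of `P` by an element of `N_S(P)`
is again one. -/
theorem cj_good {S : Type*} [Group S] {P : Subgroup S} (g : S) (hg : g ∈ normalizer (P : Set S))
    (V : Subgroup S) (hVP : V ≤ P) (hVn : ∀ h ∈ P, ∀ v ∈ V, h * v * h⁻¹ ∈ V)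
    (hV2 : ∀ v ∈ V, v * v = 1) (hVc : Nat.card V = 16) :
    cj g V ≤ P ∧ (∀ h ∈ P, ∀ v ∈ cj g V, h * v * h⁻¹ ∈ cj g V) ∧ (∀ v ∈ cj g V, v * v = 1) ∧
      Nat.card (cj g V) = 16 := by
  refine ⟨?_, ?_, ?_, ?_⟩
  · intro x hx
    obtain ⟨a, ha, rfl⟩ := (mem_cj g V x).1 hx
    exact conj_mem_of_mem_normalizer hg (hVP ha)
  · intro h hh v hv
    obtain ⟨a, ha, rfl⟩ := (mem_cj g V v).1 hv
    have h1 : g⁻¹ * h * g ∈ P := conj_inv_mem_of_mem_normalizer hg hh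
    have h2 := hVn _ h1 a ha
    have h3 := conj_mem_cj g V h2
    have : g * (g⁻¹ * h * g * a * (g⁻¹ * h * g)⁻¹) * g⁻¹ = h * (g * a * g⁻¹) * h⁻¹ := by group
    rwa [this] at h3
  · intro v hv
    obtain ⟨a, ha, rfl⟩ := (mem_cj g V v).1 hv
    have := hV2 a ha
    calc g * a * g⁻¹ * (g * a * g⁻¹) = g * (a * a) * g⁻¹ := by group
      _ = 1 := by rw [this]; group
  · rw [card_cj, hVc]

/-- N2a, core. -/
theorem conj_A_of {S : Type*} [Group S] {P : Subgroup S} (D : Data P) (hN1 : N1Hyp D) (g : S)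
    (hg : g ∈ normalizer (P : Set S)) :
    ((∀ a ∈ D.A1, g * a * g⁻¹ ∈ D.A1) ∧ (∀ a ∈ D.A2, g * a * g⁻¹ ∈ D.A2)) ∨
      ((∀ a ∈ D.A1, g * a * g⁻¹ ∈ D.A2) ∧ (∀ a ∈ D.A2, g * a * g⁻¹ ∈ D.A1)) := by
  obtain ⟨a1, a2, a3, a4⟩ := cj_good g hg D.A1 D.A1_le D.A1_conj D.A1_sq D.A1_card
  obtain ⟨b1, b2, b3, b4⟩ := cj_good g hg D.A2 D.A2_le D.A2_conj D.A2_sq D.A2_card
  have hne : cj g D.A1 ≠ cj g D.A2 := fun h => D.A1_ne_A2 (cj_injective g h)
  rcases hN1 _ a1 a2 a3 a4 with h1 | h1 <;> rcases hN1 _ b1 b2 b3 b4 with h2 | h2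
  · exact absurd (h1.trans h2.symm) hne
  · left
    exact ⟨fun a ha => h1 ▸ conj_mem_cj g _ ha, fun a ha => h2 ▸ conj_mem_cj g _ ha⟩
  · right
    exact ⟨fun a ha => h1 ▸ conj_mem_cj g _ ha, fun a ha => h2 ▸ conj_mem_cj g _ ha⟩
  · exact absurd (h1.trans h2.symm) hne

/-- N2b, core. -/
theorem conj_Om_of {S : Type*} [Group S] {P : Subgroup S} (D : Data P) (hN1 : N1Hyp D) (g : S)
    (hg : g ∈ normalizer (P : Set S)) :
    (∀ x ∈ D.Om, g * x * g⁻¹ ∈ D.Om) ∧ (∀ a ∈ D.As, g * a * g⁻¹ ∈ D.As) := by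
  have hOm : ∀ x ∈ D.Om, g * x * g⁻¹ ∈ D.Om := by
    intro x hx
    obtain ⟨hxP, hx2, hxn⟩ := (D.Om_iff x).1 hx
    refine (D.Om_iff _).2 ⟨conj_mem_of_mem_normalizer hg hxP, ?_, ?_⟩
    · calc g * x * g⁻¹ * (g * x * g⁻¹) = g * (x * x) * g⁻¹ := by group
        _ = 1 := by rw [hx2]; group
    · rintro ⟨a, ha, b, hb, hab⟩
      apply hxn
      have hx' : x = (g⁻¹ * a * g⁻¹⁻¹) * (g⁻¹ * b * g⁻¹⁻¹) := by
        have : x = g⁻¹ * (g * x * g⁻¹) * g := by group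
        rw [this, hab]; group
      rcases conj_A_of D hN1 g⁻¹ (inv_mem_normalizer' hg) with ⟨k1, k2⟩ | ⟨k1, k2⟩
      · exact ⟨_, k1 a ha, _, k2 b hb, hx'⟩
      · -- `x = a' b'` with `a' ∈ A2`, `b' ∈ A1`: `x = b' (b'⁻¹ a' b')`
        set a' := g⁻¹ * a * g⁻¹⁻¹ with ha'
        set b' := g⁻¹ * b * g⁻¹⁻¹ with hb'
        have ha'2 : a' ∈ D.A2 := k1 a ha
        have hb'1 : b' ∈ D.A1 := k2 b hb
        have hb'P : b'⁻¹ ∈ P := inv_mem (D.A1_le hb'1)
        have h3 := D.A2_conj _ hb'P a' ha'2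
        refine ⟨b', hb'1, b'⁻¹ * a' * b'⁻¹⁻¹, h3, ?_⟩
        rw [hx']; group
  refine ⟨hOm, ?_⟩
  intro a ha
  rw [D.As_eq] at ha ⊢
  induction ha using Subgroup.closure_induction with
  | mem x hx => exact Subgroup.subset_closure (hOm x hx)
  | one => simp
  | mul x y _ _ hx hy =>
    have : g * (x * y) * g⁻¹ = (g * x * g⁻¹) * (g * y * g⁻¹) := by group
    rw [this]; exact mul_mem hx hy
  | inv x _ hx =>
    have : g * x⁻¹ * g⁻¹ = (g * x * g⁻¹)⁻¹ := by group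
    rw [this]; exact inv_mem hx

end Cfsg.Agent.Lib.H15.GH
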