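import Mathlib
import Cfsg.Agent.Lib.H17.GHDefs
import Cfsg.Agent.Lib.H20.GHN1
import Cfsg.Agent.Lib.H15.GHN2Core

/-!
S4402 pieces **N2a `conj_A`** and **N2b `conj_Om`** (helper15), exact signatures of
`tools/blueprints/S4402_sigs.lean` (cores in `GHN2Core.lean`, N1 = `Cfsg.Agent.Lib.H20.GH.eq_A1_or_eq_A2`).
-/

set_option autoImplicit false
set_option linter.dupNamespace false

namespace Cfsg.Agent.Lib.H15.GH

open Subgroup Cfsg.Agent.Lib.H17.GH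

theorem n1Hyp {S : Type*} [Group S] {P : Subgroup S} (D : Data P) : N1Hyp D :=
  fun V hVP hVn hV2 hVc => Cfsg.Agent.Lib.H20.GH.eq_A1_or_eq_A2 D V hVP hVn hV2 hVc

/-- N2a. -/
theorem conj_A {S : Type*} [Group S] {P : Subgroup S} (D : Data P) (g : S)
    (hg : g ∈ normalizer (P : Set S)) :
    ((∀ a ∈ D.A1, g * a * g⁻¹ ∈ D.A1) ∧ (∀ a ∈ D.A2, g * a * g⁻¹ ∈ D.A2)) ∨
      ((∀ a ∈ D.A1, g * a * g⁻¹ ∈ D.A2) ∧ (∀ a ∈ D.A2, g * a * g⁻¹ ∈ D.A1)) :=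
  conj_A_of D (n1Hyp D) g hg

/-- N2b. -/
theorem conj_Om {S : Type*} [Group S] {P : Subgroup S} (D : Data P) (g : S)
    (hg : g ∈ normalizer (P : Set S)) :
    (∀ x ∈ D.Om, g * x * g⁻¹ ∈ D.Om) ∧ (∀ a ∈ D.As, g * a * g⁻¹ ∈ D.As) :=
  conj_Om_of D (n1Hyp D) g hg

end Cfsg.Agent.Lib.H15.GH
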