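import Mathlib
import Cfsg.Agent.Lib.H17.GHDefs
import Cfsg.Agent.Lib.H15.GHN2Core

/-!
S4402 piece **N6a** (helper15), core form with N2b's conclusion (`N_S(P)` normalizes `As`) as a hypothesis:
if `u ∈ N_S(P) ∖ P` normalizes both `A1` and `A2` and `|N_S(P) : P| = 2`, then `N_S(P) / As` is abelian.
-/

set_option autoImplicit false
set_option linter.dupNamespace false

namespace Cfsg.Agent.Lib.H15.GH

open Subgroup Cfsg.Agent.Lib.H17.GH

/-- General: if `N = ⟨K⟩` normalizes `T` and the elements of `K` commute modulo `T`, then all commutators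
`g h g⁻¹ h⁻¹` of `N` lie in `T`. -/
theorem comm_mem_of_closure {S : Type*} [Group S] (N T : Subgroup S) (K : Set S)
    (hK : N ≤ closure K) (hKN : K ⊆ (N : Set S))
    (hNT : ∀ g ∈ N, ∀ t ∈ T, g * t * g⁻¹ ∈ T)
    (hKT : ∀ a ∈ K, ∀ b ∈ K, a * b * a⁻¹ * b⁻¹ ∈ T) :
    ∀ g ∈ N, ∀ h ∈ N, g * h * g⁻¹ * h⁻¹ ∈ T := by
  -- the relation `R x y : x, y ∈ N ∧ x y x⁻¹ y⁻¹ ∈ T`
  have hclN : closure K ≤ N := (closure_le N).2 hKN
  have key : ∀ x ∈ closure K, ∀ y ∈ closure K, x * y * x⁻¹ * y⁻¹ ∈ T := by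
    intro x hx y hy
    induction hx, hy using Subgroup.closure_induction₂ with
    | mem x y hx hy => exact hKT x hx y hy
    | one_left x hx => simp
    | one_right x hx => simp
    | mul_left x y z hx hy hz h1 h2 =>
      -- [xy, z] = x [y,z] x⁻¹ [x,z]
      have e : x * y * z * (x * y)⁻¹ * z⁻¹ = (x * (y * z * y⁻¹ * z⁻¹) * x⁻¹) * (x * z * x⁻¹ * z⁻¹) := by
        group
      rw [e]
      exact mul_mem (hNT x (hclN hx) _ h2) h1
    | mul_right y z x hy hz hx h1 h2 =>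
      -- [x, yz] = [x,y] y [x,z] y⁻¹
      have e : x * (y * z) * x⁻¹ * (y * z)⁻¹ = (x * y * x⁻¹ * y⁻¹) * (y * (x * z * x⁻¹ * z⁻¹) * y⁻¹) := by
        group
      rw [e]
      exact mul_mem h1 (hNT y (hclN hy) _ h2)
    | inv_left x y hx hy h =>
      -- [x⁻¹, y] = x⁻¹ [x,y]⁻¹ x
      have e : x⁻¹ * y * x⁻¹⁻¹ * y⁻¹ = x⁻¹ * (x * y * x⁻¹ * y⁻¹)⁻¹ * x⁻¹⁻¹ := by group
      rw [e]
      exact hNT x⁻¹ (inv_mem (hclN hx)) _ (inv_mem h)
    | inv_right x y hx hy h =>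
      -- [x, y⁻¹] = y⁻¹ [x,y]⁻¹ y
      have e : x * y⁻¹ * x⁻¹ * y⁻¹⁻¹ = y⁻¹ * (x * y * x⁻¹ * y⁻¹)⁻¹ * y⁻¹⁻¹ := by group
      rw [e]
      exact hNT y⁻¹ (inv_mem (hclN hy)) _ (inv_mem h)
  intro g hg h hh
  exact key g (hK hg) h (hK hh)

/-- `As ≤ P`. -/
theorem As_le {S : Type*} [Group S] {P : Subgroup S} (D : Data P) : D.As ≤ P := by
  rw [D.As_eq, closure_le]
  intro x hx
  exact ((D.Om_iff x).1 hx).1

/-- `[u, a] ∈ As` for `a` in a subgroup `A ≤ P` normalized by `u` with `A ∩ As` of index `≤ 2` in `A`. -/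
theorem comm_mem_As_aux {S : Type*} [Group S] {P : Subgroup S} (D : Data P)
    (hAs : ∀ g ∈ normalizer (P : Set S), ∀ a ∈ D.As, g * a * g⁻¹ ∈ D.As)
    (A : Subgroup S) (hAP : A ≤ P)
    (hidx : ∀ a ∈ A, ∀ a' ∈ A, a ∉ D.As → a' ∉ D.As → a⁻¹ * a' ∈ D.As)
    (u : S) (hu : u ∈ normalizer (P : Set S)) (h1 : ∀ a ∈ A, u * a * u⁻¹ ∈ A) :
    ∀ a ∈ A, u * a * u⁻¹ * a⁻¹ ∈ D.As := by
  intro a ha
  by_cases haAs : a ∈ D.As
  · exact mul_mem (hAs u hu a haAs) (inv_mem haAs)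
  · have hua : u * a * u⁻¹ ∉ D.As := by
      intro h
      apply haAs
      have := hAs u⁻¹ (inv_mem hu) _ h
      have e : u⁻¹ * (u * a * u⁻¹) * u⁻¹⁻¹ = a := by group
      rwa [e] at this
    have h3 := hidx a ha _ (h1 a ha) haAs hua
    -- `u a u⁻¹ a⁻¹ = a (a⁻¹ u a u⁻¹) a⁻¹`
    have haN : a ∈ normalizer (P : Set S) := Subgroup.le_normalizer (hAP ha)
    have h4 := hAs a haN _ h3
    have e : a * (a⁻¹ * (u * a * u⁻¹)) * a⁻¹ = u * a * u⁻¹ * a⁻¹ := by group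
    rwa [e] at h4

/-- N6a, core. -/
theorem comm_mem_As_of_norm_both_of {S : Type*} [Group S] {P : Subgroup S} (D : Data P)
    (hAs : ∀ g ∈ normalizer (P : Set S), ∀ a ∈ D.As, g * a * g⁻¹ ∈ D.As)
    (hidx : P.relIndex (normalizer (P : Set S)) = 2) (u : S) (hu : u ∈ normalizer (P : Set S))
    (huP : u ∉ P) (h1 : ∀ a ∈ D.A1, u * a * u⁻¹ ∈ D.A1) (h2 : ∀ a ∈ D.A2, u * a * u⁻¹ ∈ D.A2) :
    ∀ g ∈ normalizer (P : Set S), ∀ h ∈ normalizer (P : Set S), g * h * g⁻¹ * h⁻¹ ∈ D.As := by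
  set N := normalizer (P : Set S) with hN
  have hPN : P ≤ N := Subgroup.le_normalizer
  let K : Set S := {x | (x ∈ D.A1 ∨ x ∈ D.A2 ∨ x ∈ D.As) ∨ x = u}
  have hKP : ∀ x, (x ∈ D.A1 ∨ x ∈ D.A2 ∨ x ∈ D.As) → x ∈ P := by
    rintro x (h | h | h)
    · exact D.A1_le h
    · exact D.A2_le h
    · exact As_le D h
  have hKN : K ⊆ (N : Set S) := by
    rintro x (h | rfl)
    · exact hPN (hKP x h)
    · exact hu
  -- `P ≤ closure K`
  have hPcl : P ≤ closure K := by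
    intro p hp
    obtain ⟨a, ha, b, hb, c, hc, rfl⟩ := D.prod p hp
    exact mul_mem (mul_mem (subset_closure (Or.inl (Or.inl ha)))
      (subset_closure (Or.inl (Or.inr (Or.inl hb))))) (subset_closure (Or.inl (Or.inr (Or.inr hc))))
  have hucl : u ∈ closure K := subset_closure (Or.inr rfl)
  -- `N ≤ closure K` by index 2
  have hNcl : N ≤ closure K := by
    intro n hn
    by_cases hnP : n ∈ P
    · exact hPcl hnP
    · -- `u⁻¹ n ∈ P`
      have hidx' : (P.subgroupOf N).index = 2 := hidx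
      have hmem := Subgroup.mul_mem_iff_of_index_two hidx'
        (a := (⟨u⁻¹, inv_mem hu⟩ : N)) (b := (⟨n, hn⟩ : N))
      have h3 : (⟨u⁻¹, inv_mem hu⟩ : N) * ⟨n, hn⟩ ∈ P.subgroupOf N := by
        rw [hmem]
        simp only [Subgroup.mem_subgroupOf]
        constructor
        · intro h; exact absurd (by simpa using inv_mem h) huP
        · intro h; exact absurd h hnP
      have h4 : u⁻¹ * n ∈ P := by simpa [Subgroup.mem_subgroupOf] using h3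
      have e : n = u * (u⁻¹ * n) := by group
      rw [e]
      exact mul_mem hucl (hPcl h4)
  -- commutators of generators
  have hcomm_sym : ∀ a b : S, a ∈ N → a * b * a⁻¹ * b⁻¹ ∈ D.As → b * a * b⁻¹ * a⁻¹ ∈ D.As := by
    intro a b _ h
    have := inv_mem h
    have e : (a * b * a⁻¹ * b⁻¹)⁻¹ = b * a * b⁻¹ * a⁻¹ := by group
    rwa [e] at this
  have huA1 := comm_mem_As_aux D hAs D.A1 D.A1_le D.A1_idx u hu h1
  have huA2 := comm_mem_As_aux D hAs D.A2 D.A2_le D.A2_idx u hu h2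
  have huAs : ∀ a ∈ D.As, u * a * u⁻¹ * a⁻¹ ∈ D.As := fun a ha =>
    mul_mem (hAs u hu a ha) (inv_mem ha)
  have hu_all : ∀ x, (x ∈ D.A1 ∨ x ∈ D.A2 ∨ x ∈ D.As) → u * x * u⁻¹ * x⁻¹ ∈ D.As := by
    rintro x (h | h | h)
    · exact huA1 x h
    · exact huA2 x h
    · exact huAs x h
  have hKT : ∀ a ∈ K, ∀ b ∈ K, a * b * a⁻¹ * b⁻¹ ∈ D.As := by
    rintro a (ha | rfl) b (hb | rfl)
    · exact D.comm_P a (hKP a ha) b (hKP b hb)
    · exact hcomm_sym _ _ hu (hu_all a ha)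
    · exact hu_all b hb
    · simp
  exact comm_mem_of_closure N D.As K hNcl hKN hAs hKT

end Cfsg.Agent.Lib.H15.GH
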