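import Mathlib
import Cfsg.Agent.Lib.H17.GHDefs
import Cfsg.Agent.Lib.H15.GHN2
import Cfsg.Agent.Lib.H15.GHN6aCore

/-!
S4402 piece **N6a `comm_mem_As_of_norm_both`** (helper15), exact signature of
`tools/blueprints/S4402_sigs.lean` (core in `GHN6aCore.lean`, N2b = `conj_Om`).
-/

set_option autoImplicit false
set_option linter.dupNamespace false

namespace Cfsg.Agent.Lib.H15.GH

open Subgroup Cfsg.Agent.Lib.H17.GH

/-- N6a. -/
theorem comm_mem_As_of_norm_both {S : Type*} [Group S] [Finite S] {P : Subgroup S} (D : Data P)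
    (hidx : P.relIndex (normalizer (P : Set S)) = 2) (u : S) (hu : u ∈ normalizer (P : Set S))
    (huP : u ∉ P) (h1 : ∀ a ∈ D.A1, u * a * u⁻¹ ∈ D.A1) (h2 : ∀ a ∈ D.A2, u * a * u⁻¹ ∈ D.A2) :
    ∀ g ∈ normalizer (P : Set S), ∀ h ∈ normalizer (P : Set S), g * h * g⁻¹ * h⁻¹ ∈ D.As :=
  comm_mem_As_of_norm_both_of D (fun g hg => (conj_Om D g hg).2) hidx u hu huP h1 h2

end Cfsg.Agent.Lib.H15.GH
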