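import Mathlib
import Cfsg.Agent.Lib.H2.KRDEFS
import Cfsg.Agent.Lib.L0.BlockRankTrace

/-!
S4651 piece (K1) `sum_inner0_eq_blockRank_of_closed` (helper15): lead's `L0.BlockRankTrace.sum_inner0_eq_blockRank` for a union
of blocks `U` instead of one block (copy-edit of lead's proof).
-/

set_option autoImplicit false

namespace Cfsg.Agent.Lib.H15.KR

open Cfsg Cfsg.Agent.Lib.H2.KR Cfsg.Agent.Lib.H23 Cfsg.Agent.Lib.H24 Cfsg.Agent.Lib.L0.BlockRankTrace
open scoped Classical ComplexConjugate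

variable {K : Type*} [Group K] [Fintype K] {p : ℕ} {M : Ideal AlgInt}

/-- For `ξ'` in the union of blocks `U`: `ξ'⁰ = ∑_{ξ ∈ U} ⟨ξ', ξ⟩⁰ ξ⁰`. -/
theorem pRegularPart_eq_sum_of_closed (hM : IsPModular p M) [Fintype (IrrCharacter K)]
    (U : Set (IrrCharacter K)) (hU : ∀ ζ ∈ U, blockOf M (ζ : K → ℂ) ⊆ U)
    {ξ' : IrrCharacter K} (hξ' : ξ' ∈ U) :
    pRegularPart p (ξ' : K → ℂ) = ∑ ξ ∈ Finset.univ.filter (· ∈ U),
      inner0 p (ξ' : K → ℂ) (ξ : K → ℂ) • pRegularPart p (ξ : K → ℂ) := by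
  haveI hPr := isPrime_of_isPModular hM
  have hcf : IsClassFunction K (pRegularPart p (ξ' : K → ℂ)) :=
    pRegularPart_isClassFunction p (irr_isClassFunction ξ')
  have h1 := classFunction_expansion _ hcf
  simp only [classInner_pRegularPart] at h1
  have h2 : ∑ ξ : IrrCharacter K, inner0 p (ξ' : K → ℂ) (ξ : K → ℂ) • (ξ : K → ℂ) =
      ∑ ξ ∈ Finset.univ.filter (· ∈ U),
        inner0 p (ξ' : K → ℂ) (ξ : K → ℂ) • (ξ : K → ℂ) := by
    rw [Finset.sum_filter]
    refine Finset.sum_congr rfl fun ξ _ => ?_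
    split_ifs with h
    · rfl
    · have hns : ¬ SameBlock M (ξ' : K → ℂ) (ξ : K → ℂ) := fun hs =>
        h (hU ξ' hξ' hs)
      unfold inner0
      rw [sum_pRegular_mul_conj_eq_zero hM ξ' ξ hns, mul_zero, zero_smul]
  rw [h2] at h1
  have h3 := congrArg (pRegL p) h1
  rw [pRegL_apply, pRegularPart_idem, map_sum] at h3
  rw [h3]
  refine Finset.sum_congr rfl fun ξ _ => ?_
  rw [map_smul, pRegL_apply]

/-- (K1 RANKTR) `sum_inner0_eq_blockRank` for a union of blocks. -/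
theorem sum_inner0_eq_blockRank_of_closed (hM : IsPModular p M) [Fintype (IrrCharacter K)]
    (U : Set (IrrCharacter K)) (hU : ∀ ζ ∈ U, blockOf M (ζ : K → ℂ) ⊆ U) :
    ∑ ξ ∈ Finset.univ.filter (· ∈ U), inner0 p (ξ : K → ℂ) (ξ : K → ℂ) = (blockRank p U : ℂ) := by
  set bf := Finset.univ.filter (· ∈ U) with hbf
  set V : Submodule ℂ (K → ℂ) :=
    Submodule.span ℂ ((fun χ : IrrCharacter K => pRegularPart p (χ : K → ℂ)) '' U) with hV
  set T : (K → ℂ) →ₗ[ℂ] (K → ℂ) :=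
    ∑ ξ ∈ bf, (inner0L p (ξ : K → ℂ)).smulRight (pRegularPart p (ξ : K → ℂ)) with hT
  have hTapply : ∀ f : K → ℂ, T f = ∑ ξ ∈ bf, inner0 p f (ξ : K → ℂ) •
      pRegularPart p (ξ : K → ℂ) := by
    intro f
    rw [hT, LinearMap.sum_apply]
    rfl
  have hproj : LinearMap.IsProj V T := by
    refine ⟨fun f => ?_, fun f hf => ?_⟩
    · rw [hTapply]
      refine Submodule.sum_mem _ fun ξ hξ => Submodule.smul_mem _ _ (Submodule.subset_span ?_)
      exact ⟨ξ, (Finset.mem_filter.mp hξ).2, rfl⟩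
    · refine Submodule.span_induction (p := fun f _ => T f = f) ?_ ?_ ?_ ?_ hf
      · rintro _ ⟨ξ', hξ', rfl⟩
        rw [hTapply]
        simp only [inner0_pRegularPart_left]
        exact (pRegularPart_eq_sum_of_closed hM U hU hξ').symm
      · exact map_zero T
      · intro f g _ _ h1 h2
        rw [map_add, h1, h2]
      · intro c f _ h1
        rw [map_smul, h1]
  have h1 := hproj.trace
  rw [hT, map_sum] at h1
  simp only [LinearMap.trace_smulRight, inner0L_apply, inner0_pRegularPart_left] at h1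
  rw [h1]
  rfl

end Cfsg.Agent.Lib.H15.KR
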