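import Mathlib
import Cfsg.Prelude.Def_OddOrderLocal
import Cfsg.Prelude.Def_CaseTheorems
import Cfsg.Prelude.Def_PLocal
import Cfsg.Agent.Lib.H19.R2Defs

/-!
# S3888 piece ALPHAMC (`alpha_MC`), helper15

Exact signature of `tools/blueprints/S3888_sigs.lean`.
-/

set_option autoImplicit false

namespace Cfsg.Agent.Lib.H15.R2

open Cfsg Cfsg.Agent.Lib.H19.R2
open scoped commutatorElement

universe u

variable {p : ℕ} [Fact p.Prime] {G : Type u} [Group G] [Finite G]

/-- a subgroup of index `p` of a `p`-group is normal -/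
theorem amc_normal_of_index (hG : IsPGroup p G) (M : Subgroup G) (hM : M.index = p) : M.Normal := by
  have hp : p.Prime := Fact.out
  obtain ⟨k, hk⟩ := IsPGroup.iff_card.mp hG
  have hk0 : k ≠ 0 := by
    rintro rfl
    have h1 : M.index ∣ Nat.card G := Subgroup.index_dvd_card M
    rw [hk, hM, pow_zero, Nat.dvd_one] at h1
    exact hp.one_lt.ne' h1
  apply Subgroup.normal_of_index_eq_minFac_card
  rw [hM, hk, hp.pow_minFac hk0]

/-- a subgroup of index `p` of a `p`-group contains the commutator subgroup -/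
theorem amc_commutator_le (hG : IsPGroup p G) (M : Subgroup G) (hM : M.index = p) :
    commutator G ≤ M := by
  have hp : p.Prime := Fact.out
  haveI := amc_normal_of_index hG M hM
  have hcard : Nat.card (G ⧸ M) = p := by rw [← Subgroup.index_eq_card]; exact hM
  haveI : IsCyclic (G ⧸ M) := isCyclic_of_prime_card hcard
  rw [commutator_def, Subgroup.commutator_le]
  intro a _ b _
  rw [← QuotientGroup.eq_one_iff, commutatorElement_def]
  simp only [QuotientGroup.mk_mul, QuotientGroup.mk_inv]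
  have hc : ((a : G ⧸ M)) * (b : G ⧸ M) = (b : G ⧸ M) * (a : G ⧸ M) :=
    IsCyclic.commGroup.mul_comm _ _
  rw [hc]
  group

/-- ALPHAMC. -/
theorem alpha_MC (hG : IsPGroup p G) {N : Subgroup G} (h : H2 p G N) {n : ℕ} (h5 : 5 ≤ n)
    (hcard : Nat.card G = p ^ n) (M : Subgroup G) (hM : M.index = p) (hNM : N ≤ M)
    (hZM : ∀ g ∈ M, (∀ m ∈ M, g * m = m * g) → g ∈ N ⊓ Subgroup.center G)
    (Z : Subgroup G) [Z.Normal] (hZ : Z = N ⊓ Subgroup.center G) (hZp : Nat.card Z = p)
    (hq : MC p (n - 1) (G ⧸ Z)) : MC p n G := by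
  obtain ⟨hp3, _, hne⟩ := hq
  refine ⟨hp3, by omega, ?_⟩
  intro hbot
  apply hne
  -- `L = lcs (n - 3)` is central
  have hn2 : n - 2 = (n - 3) + 1 := by omega
  have hLc : (⊤ : Subgroup G).lowerCentralSeries (n - 3) ≤ Subgroup.center G := by
    rw [hn2, Subgroup.lowerCentralSeries_succ, Subgroup.commutator_eq_bot_iff_le_centralizer] at hbot
    rwa [Subgroup.coe_top, Subgroup.centralizer_univ] at hbot
  -- `L ≤ G' ≤ M`
  have hLM : (⊤ : Subgroup G).lowerCentralSeries (n - 3) ≤ M := by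
    have h1 : (⊤ : Subgroup G).lowerCentralSeries (n - 3) ≤ (⊤ : Subgroup G).lowerCentralSeries 1 :=
      Subgroup.lowerCentralSeries_antitone _ (by omega)
    rw [Subgroup.top_lowerCentralSeries_one] at h1
    exact h1.trans (amc_commutator_le hG M hM)
  -- `L ≤ Z`
  have hLZ : (⊤ : Subgroup G).lowerCentralSeries (n - 3) ≤ Z := by
    intro g hg
    rw [hZ]
    refine hZM g (hLM hg) ?_
    intro m _
    exact (Subgroup.mem_center_iff.mp (hLc hg) m).symm
  have hn13 : n - 1 - 2 = n - 3 := by omega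
  rw [hn13]
  have htop : (⊤ : Subgroup G).map (QuotientGroup.mk' Z) = ⊤ := by
    rw [← MonoidHom.range_eq_map, MonoidHom.range_eq_top.mpr (QuotientGroup.mk'_surjective Z)]
  rw [← htop, ← Subgroup.map_lowerCentralSeries, Subgroup.map_eq_bot_iff, QuotientGroup.ker_mk']
  exact hLZ

end Cfsg.Agent.Lib.H15.R2
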