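import Cfsg.Agent.Lib.H13.OrthSum
import Cfsg.Agent.Lib.H11.IsoReindex

/-!
# S3589 farm-out, tasks T6a / T6b (for helper11): orthogonal sums of the standard forms.
-/

set_option autoImplicit false

namespace Cfsg.Agent.Lib.H15.S8O

open Matrix
open scoped MatrixGroups

variable {F : Type*} [Field F]

/-- the block embedding of `GL × GL` is injective -/
theorem blkGL_injective (ι₁ ι₂ : Type) [Fintype ι₁] [DecidableEq ι₁] [Fintype ι₂] [DecidableEq ι₂] :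
    Function.Injective (Cfsg.Agent.Lib.H13.OrthSum.blkGL ι₁ ι₂ F) := by
  intro p q hpq
  have h := congrArg (fun g : GL (ι₁ ⊕ ι₂) F => (g : Matrix (ι₁ ⊕ ι₂) (ι₁ ⊕ ι₂) F)) hpq
  simp only [Cfsg.Agent.Lib.H13.OrthSum.blkGL_coe] at h
  rw [Matrix.fromBlocks_inj] at h
  exact Prod.ext (Units.ext h.1) (Units.ext h.2.2.2)

/-- general orthogonal sum principle: if `Q` splits along `e : ι₁ ⊕ ι₂ ≃ κ` as `Q₁ ⊥ Q₂`, element
orders of `O(Q₁)` and `O(Q₂)` combine to their lcm in `O(Q)`. -/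
theorem sum_general {ι₁ ι₂ κ : Type} [Fintype ι₁] [DecidableEq ι₁] [Fintype ι₂] [DecidableEq ι₂]
    [Fintype κ] [DecidableEq κ] (e : ι₁ ⊕ ι₂ ≃ κ)
    (Q₁ : (ι₁ → F) → F) (Q₂ : (ι₂ → F) → F) (Q : (κ → F) → F)
    (hQ : ∀ v : κ → F, Q v = Q₁ (fun i => v (e (Sum.inl i))) + Q₂ (fun i => v (e (Sum.inr i))))
    (n₁ n₂ : ℕ)
    (h₁ : ∃ h ∈ Cfsg.isometryGroup F Q₁, orderOf h = n₁)
    (h₂ : ∃ h ∈ Cfsg.isometryGroup F Q₂, orderOf h = n₂) :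
    ∃ h ∈ Cfsg.isometryGroup F Q, orderOf h = Nat.lcm n₁ n₂ := by
  obtain ⟨g₁, hg₁, ho₁⟩ := h₁
  obtain ⟨g₂, hg₂, ho₂⟩ := h₂
  refine ⟨Cfsg.Agent.Lib.H11.IsoReindex.glReindex e
    (Cfsg.Agent.Lib.H13.OrthSum.blkGL ι₁ ι₂ F (g₁, g₂)), ?_, ?_⟩
  · rw [Cfsg.Agent.Lib.H11.IsoReindex.mem_iso_iff']
    intro x
    rw [Cfsg.Agent.Lib.H11.IsoReindex.glReindex_mulVec, hQ, hQ x,
      Cfsg.Agent.Lib.H13.OrthSum.blkGL_coe, Cfsg.Agent.Lib.H13.OrthSum.fromBlocks_diag_mulVec]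
    have e1 : (fun i : ι₁ => ((Sum.elim ((g₁ : Matrix ι₁ ι₁ F) *ᵥ ((x ∘ e) ∘ Sum.inl))
        ((g₂ : Matrix ι₂ ι₂ F) *ᵥ ((x ∘ e) ∘ Sum.inr))) ∘ e.symm) (e (Sum.inl i)))
        = (g₁ : Matrix ι₁ ι₁ F) *ᵥ (fun i => x (e (Sum.inl i))) := by
      funext i
      simp only [Function.comp_apply, Equiv.symm_apply_apply, Sum.elim_inl]
      rfl
    have e2 : (fun i : ι₂ => ((Sum.elim ((g₁ : Matrix ι₁ ι₁ F) *ᵥ ((x ∘ e) ∘ Sum.inl))
        ((g₂ : Matrix ι₂ ι₂ F) *ᵥ ((x ∘ e) ∘ Sum.inr))) ∘ e.symm) (e (Sum.inr i)))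
        = (g₂ : Matrix ι₂ ι₂ F) *ᵥ (fun i => x (e (Sum.inr i))) := by
      funext i
      simp only [Function.comp_apply, Equiv.symm_apply_apply, Sum.elim_inr]
      rfl
    rw [e1, e2, (Cfsg.Agent.Lib.H11.IsoReindex.mem_iso_iff' _ _).mp hg₁,
      (Cfsg.Agent.Lib.H11.IsoReindex.mem_iso_iff' _ _).mp hg₂]
  · rw [MulEquiv.orderOf_eq, orderOf_injective _ (blkGL_injective ι₁ ι₂), Prod.orderOf, ho₁, ho₂]

/-- the index equivalence for `minus k₁ ⊥ plus k₂ = minus (k₁ + k₂)` -/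
def eMinus (k₁ k₂ : ℕ) :
    ((Fin k₁ ⊕ Fin k₁) ⊕ Fin 2) ⊕ (Fin k₂ ⊕ Fin k₂) ≃ (Fin (k₁ + k₂) ⊕ Fin (k₁ + k₂)) ⊕ Fin 2 where
  toFun s := match s with
    | Sum.inl (Sum.inl (Sum.inl i)) => Sum.inl (Sum.inl (Fin.castAdd k₂ i))
    | Sum.inl (Sum.inl (Sum.inr i)) => Sum.inl (Sum.inr (Fin.castAdd k₂ i))
    | Sum.inl (Sum.inr j) => Sum.inr j
    | Sum.inr (Sum.inl i) => Sum.inl (Sum.inl (Fin.natAdd k₁ i))
    | Sum.inr (Sum.inr i) => Sum.inl (Sum.inr (Fin.natAdd k₁ i))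
  invFun s := match s with
    | Sum.inl (Sum.inl i) => Sum.elim (fun i => Sum.inl (Sum.inl (Sum.inl i)))
        (fun i => Sum.inr (Sum.inl i)) (finSumFinEquiv.symm i)
    | Sum.inl (Sum.inr i) => Sum.elim (fun i => Sum.inl (Sum.inl (Sum.inr i)))
        (fun i => Sum.inr (Sum.inr i)) (finSumFinEquiv.symm i)
    | Sum.inr j => Sum.inl (Sum.inr j)
  left_inv s := by
    rcases s with ((i | i) | j) | (i | i) <;> simp [finSumFinEquiv_symm_apply_castAdd,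
      finSumFinEquiv_symm_apply_natAdd]
  right_inv s := by
    rcases s with (i | i) | j
    · refine Fin.addCases (fun i => ?_) (fun i => ?_) i <;>
        simp [finSumFinEquiv_symm_apply_castAdd, finSumFinEquiv_symm_apply_natAdd]
    · refine Fin.addCases (fun i => ?_) (fun i => ?_) i <;>
        simp [finSumFinEquiv_symm_apply_castAdd, finSumFinEquiv_symm_apply_natAdd]
    · rfl

/-- the index equivalence for `plus k₁ ⊥ plus k₂ = plus (k₁ + k₂)` -/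
def ePlus (k₁ k₂ : ℕ) :
    (Fin k₁ ⊕ Fin k₁) ⊕ (Fin k₂ ⊕ Fin k₂) ≃ Fin (k₁ + k₂) ⊕ Fin (k₁ + k₂) where
  toFun s := match s with
    | Sum.inl (Sum.inl i) => Sum.inl (Fin.castAdd k₂ i)
    | Sum.inl (Sum.inr i) => Sum.inr (Fin.castAdd k₂ i)
    | Sum.inr (Sum.inl i) => Sum.inl (Fin.natAdd k₁ i)
    | Sum.inr (Sum.inr i) => Sum.inr (Fin.natAdd k₁ i)
  invFun s := match s with
    | Sum.inl i => Sum.elim (fun i => Sum.inl (Sum.inl i))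
        (fun i => Sum.inr (Sum.inl i)) (finSumFinEquiv.symm i)
    | Sum.inr i => Sum.elim (fun i => Sum.inl (Sum.inr i))
        (fun i => Sum.inr (Sum.inr i)) (finSumFinEquiv.symm i)
  left_inv s := by
    rcases s with (i | i) | (i | i) <;> simp [finSumFinEquiv_symm_apply_castAdd,
      finSumFinEquiv_symm_apply_natAdd]
  right_inv s := by
    rcases s with i | i
    · refine Fin.addCases (fun i => ?_) (fun i => ?_) i <;>
        simp [finSumFinEquiv_symm_apply_castAdd, finSumFinEquiv_symm_apply_natAdd]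
    · refine Fin.addCases (fun i => ?_) (fun i => ?_) i <;>
        simp [finSumFinEquiv_symm_apply_castAdd, finSumFinEquiv_symm_apply_natAdd]

/-- **T6a** -/
theorem sum_minus_plus [Fintype F] (k₁ k₂ : ℕ) (a b : F) (n₁ n₂ : ℕ)
    (h₁ : ∃ h ∈ Cfsg.isometryGroup F (Cfsg.quadFormMinus k₁ F a b), orderOf h = n₁)
    (h₂ : ∃ h ∈ Cfsg.isometryGroup F (Cfsg.quadFormPlus k₂ F), orderOf h = n₂) :
    ∃ h ∈ Cfsg.isometryGroup F (Cfsg.quadFormMinus (k₁ + k₂) F a b),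
      orderOf h = Nat.lcm n₁ n₂ := by
  refine sum_general (eMinus k₁ k₂) _ _ _ ?_ n₁ n₂ h₁ h₂
  intro v
  unfold Cfsg.quadFormMinus Cfsg.quadFormPlus
  rw [Fin.sum_univ_add]
  simp only [eMinus, Equiv.coe_fn_mk]
  ring

/-- **T6b** -/
theorem sum_plus_plus [Fintype F] (k₁ k₂ : ℕ) (n₁ n₂ : ℕ)
    (h₁ : ∃ h ∈ Cfsg.isometryGroup F (Cfsg.quadFormPlus k₁ F), orderOf h = n₁)
    (h₂ : ∃ h ∈ Cfsg.isometryGroup F (Cfsg.quadFormPlus k₂ F), orderOf h = n₂) :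
    ∃ h ∈ Cfsg.isometryGroup F (Cfsg.quadFormPlus (k₁ + k₂) F),
      orderOf h = Nat.lcm n₁ n₂ := by
  refine sum_general (ePlus k₁ k₂) _ _ _ ?_ n₁ n₂ h₁ h₂
  intro v
  unfold Cfsg.quadFormPlus
  rw [Fin.sum_univ_add]
  simp only [ePlus, Equiv.coe_fn_mk]

end Cfsg.Agent.Lib.H15.S8O
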