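import Cfsg.Agent.Lib.H11.IsoReindex

/-!
# S3589 farm-out, tasks T3a / T3b (for helper11): unipotent isometries of order 2, 4 of the
standard minus-type forms in characteristic 2.
-/

set_option autoImplicit false

namespace Cfsg.Agent.Lib.H15.S8O

open Matrix
open scoped MatrixGroups

variable {F : Type*} [Field F]

/-- an endomorphism `f` preserving `Q` with `f ^ 2^(k+1) = 1`, `f ^ 2^k ≠ 1` gives an isometry of
order `2^(k+1)`. -/
theorem exists_of_end {ι : Type} [Fintype ι] [DecidableEq ι] (Q : (ι → F) → F)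
    (f : Module.End F (ι → F)) (hQ : ∀ v, Q (f v) = Q v) (k : ℕ)
    (h1 : f ^ (2 ^ (k + 1)) = 1) (h2 : f ^ (2 ^ k) ≠ 1) :
    ∃ u ∈ Cfsg.isometryGroup F Q, orderOf u = 2 ^ (k + 1) := by
  have hn : 2 ^ (k + 1) ≠ 0 := by positivity
  let U : (Module.End F (ι → F))ˣ := Units.ofPowEqOne f _ h1 hn
  have hU : (U : Module.End F (ι → F)) = f := rfl
  let Φ : (Module.End F (ι → F))ˣ ≃* GL ι F :=
    Units.mapEquiv (LinearMap.toMatrixAlgEquiv' (R := F) (n := ι)).toMulEquiv
  have hΦ : ((Φ U : GL ι F) : Matrix ι ι F) = LinearMap.toMatrix' f := rfl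
  refine ⟨Φ U, ?_, ?_⟩
  · rw [Cfsg.Agent.Lib.H11.IsoReindex.mem_iso_iff']
    intro x
    rw [hΦ, LinearMap.toMatrix'_mulVec, hQ]
  · rw [MulEquiv.orderOf_eq]
    haveI : Fact (Nat.Prime 2) := ⟨Nat.prime_two⟩
    apply orderOf_eq_prime_pow
    · intro h
      apply h2
      have := congrArg (fun V : (Module.End F (ι → F))ˣ => (V : Module.End F (ι → F))) h
      simpa [hU] using this
    · apply Units.ext
      rw [Units.val_pow_eq_pow_val, hU, h1]
      rfl

section T3a

/-- the unipotent map `(z₁, z₂) ↦ (z₁ + a z₂, z₂)` -/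
def fA (a : F) : Module.End F ((Fin 0 ⊕ Fin 0) ⊕ Fin 2 → F) where
  toFun v := fun s => match s with
    | Sum.inl (Sum.inl i) => i.elim0
    | Sum.inl (Sum.inr i) => i.elim0
    | Sum.inr j => if j = 0 then v (Sum.inr 0) + a * v (Sum.inr 1) else v (Sum.inr 1)
  map_add' v w := by
    funext s
    rcases s with (i | i) | j
    · exact i.elim0
    · exact i.elim0
    · by_cases hj : j = 0 <;> simp [hj] <;> ring
  map_smul' c v := by
    funext s
    rcases s with (i | i) | j
    · exact i.elim0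
    · exact i.elim0
    · by_cases hj : j = 0 <;> simp [hj] <;> ring

theorem fA_zero (a : F) (v : (Fin 0 ⊕ Fin 0) ⊕ Fin 2 → F) :
    fA a v (Sum.inr 0) = v (Sum.inr 0) + a * v (Sum.inr 1) := rfl

theorem fA_one (a : F) (v : (Fin 0 ⊕ Fin 0) ⊕ Fin 2 → F) :
    fA a v (Sum.inr 1) = v (Sum.inr 1) := rfl

/-- **T3a** -/
theorem exists_unip_minus0 [Fintype F] [CharP F 2] (a b : F) (ha : a ≠ 0) :
    ∃ u ∈ Cfsg.isometryGroup F (Cfsg.quadFormMinus 0 F a b), orderOf u = 2 := by
  have h2 : (2 : F) = 0 := CharTwo.two_eq_zero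
  have key := exists_of_end (Cfsg.quadFormMinus 0 F a b) (fA a) ?_ 0 ?_ ?_
  · simpa using key
  · intro v
    unfold Cfsg.quadFormMinus
    rw [fA_zero, fA_one]
    simp only [Finset.univ_eq_empty, Finset.sum_empty, zero_add]
    linear_combination (a * v (Sum.inr 0) * v (Sum.inr 1) + a ^ 2 * v (Sum.inr 1) ^ 2) * h2
  · apply LinearMap.ext
    intro v
    funext s
    rcases s with (i | i) | j
    · exact i.elim0
    · exact i.elim0
    · have hj : j = 0 ∨ j = 1 := by fin_cases j <;> simp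
      rcases hj with rfl | rfl
      · simp only [zero_add, pow_one, pow_two, Module.End.mul_apply, Module.End.one_apply, fA_zero,
          fA_one]
        linear_combination (a * v (Sum.inr 1)) * h2
      · simp only [zero_add, pow_one, pow_two, Module.End.mul_apply, Module.End.one_apply, fA_one]
  · intro h
    have h3 := congrFun (LinearMap.congr_fun h (fun s => if s = Sum.inr 1 then 1 else 0)) (Sum.inr 0)
    simp only [pow_zero, pow_one, Module.End.one_apply, fA_zero] at h3
    simp at h3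
    exact ha h3

end T3a

section T3b

/-- the unipotent map of T3b -/
def fB (a b : F) : Module.End F ((Fin 1 ⊕ Fin 1) ⊕ Fin 2 → F) where
  toFun v := fun s => match s with
    | Sum.inl (Sum.inl _) => v (Sum.inl (Sum.inl 0)) + b * v (Sum.inl (Sum.inr 0))
        + a * v (Sum.inr 0) + a ^ 2 * v (Sum.inr 1)
    | Sum.inl (Sum.inr _) => v (Sum.inl (Sum.inr 0))
    | Sum.inr j => if j = 0 then v (Sum.inr 0) + a * v (Sum.inr 1)
        else v (Sum.inr 1) + v (Sum.inl (Sum.inr 0))
  map_add' v w := by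
    funext s
    rcases s with (i | i) | j
    · simp; ring
    · simp
    · by_cases hj : j = 0 <;> simp [hj] <;> ring
  map_smul' c v := by
    funext s
    rcases s with (i | i) | j
    · simp; ring
    · simp
    · by_cases hj : j = 0 <;> simp [hj] <;> ring

theorem fB_x (a b : F) (v : (Fin 1 ⊕ Fin 1) ⊕ Fin 2 → F) :
    fB a b v (Sum.inl (Sum.inl 0)) = v (Sum.inl (Sum.inl 0)) + b * v (Sum.inl (Sum.inr 0))
        + a * v (Sum.inr 0) + a ^ 2 * v (Sum.inr 1) := rfl

theorem fB_y (a b : F) (v : (Fin 1 ⊕ Fin 1) ⊕ Fin 2 → F) :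
    fB a b v (Sum.inl (Sum.inr 0)) = v (Sum.inl (Sum.inr 0)) := rfl

theorem fB_z1 (a b : F) (v : (Fin 1 ⊕ Fin 1) ⊕ Fin 2 → F) :
    fB a b v (Sum.inr 0) = v (Sum.inr 0) + a * v (Sum.inr 1) := rfl

theorem fB_z2 (a b : F) (v : (Fin 1 ⊕ Fin 1) ⊕ Fin 2 → F) :
    fB a b v (Sum.inr 1) = v (Sum.inr 1) + v (Sum.inl (Sum.inr 0)) := rfl

/-- the square of `fB` -/
theorem fB_sq [CharP F 2] (a b : F) (v : (Fin 1 ⊕ Fin 1) ⊕ Fin 2 → F) :
    fB a b (fB a b v) = fun s => match s with
      | Sum.inl (Sum.inl _) => v (Sum.inl (Sum.inl 0)) + a ^ 2 * v (Sum.inr 1)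
          + a ^ 2 * v (Sum.inl (Sum.inr 0))
      | Sum.inl (Sum.inr _) => v (Sum.inl (Sum.inr 0))
      | Sum.inr j => if j = 0 then v (Sum.inr 0) + a * v (Sum.inl (Sum.inr 0)) else v (Sum.inr 1) := by
  have h2 : (2 : F) = 0 := CharTwo.two_eq_zero
  funext s
  rcases s with (i | i) | j
  · have hi : i = 0 := Subsingleton.elim _ _
    subst hi
    simp only [fB_x, fB_y, fB_z1, fB_z2]
    linear_combination (b * v (Sum.inl (Sum.inr 0)) + a * v (Sum.inr 0) + a ^ 2 * v (Sum.inr 1)) * h2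
  · have hi : i = 0 := Subsingleton.elim _ _
    subst hi
    simp only [fB_y]
  · have hj : j = 0 ∨ j = 1 := by fin_cases j <;> simp
    rcases hj with rfl | rfl
    · simp only [fB_y, fB_z1, fB_z2, if_true]
      linear_combination (a * v (Sum.inr 1)) * h2
    · simp only [fB_y, fB_z2]
      simp only [Fin.isValue, one_ne_zero, if_false]
      linear_combination (v (Sum.inl (Sum.inr 0))) * h2

/-- **T3b** -/
theorem exists_unip_minus1 [Fintype F] [CharP F 2] (a b : F) (ha : a ≠ 0) :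
    ∃ u ∈ Cfsg.isometryGroup F (Cfsg.quadFormMinus 1 F a b), orderOf u = 4 := by
  have h2 : (2 : F) = 0 := CharTwo.two_eq_zero
  have key := exists_of_end (Cfsg.quadFormMinus 1 F a b) (fB a b) ?_ 1 ?_ ?_
  · simpa using key
  · intro v
    unfold Cfsg.quadFormMinus
    simp only [Finset.univ_unique, Fin.default_eq_zero, Finset.sum_singleton]
    rw [fB_x, fB_y, fB_z1, fB_z2]
    linear_combination (b * v (Sum.inl (Sum.inr 0)) ^ 2 + a * v (Sum.inr 0) * v (Sum.inl (Sum.inr 0))
      + a ^ 2 * v (Sum.inr 1) * v (Sum.inl (Sum.inr 0)) + a * v (Sum.inr 0) * v (Sum.inr 1)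
      + a ^ 2 * v (Sum.inr 1) ^ 2 + b * v (Sum.inr 1) * v (Sum.inl (Sum.inr 0))) * h2
  · apply LinearMap.ext
    intro v
    have e4 : (fB a b ^ 2 ^ (1 + 1)) v = fB a b (fB a b (fB a b (fB a b v))) := by
      norm_num [pow_succ, Module.End.mul_apply]
    rw [e4, fB_sq, fB_sq, Module.End.one_apply]
    funext s
    rcases s with (i | i) | j
    · have hi : i = 0 := Subsingleton.elim _ _
      subst hi
      simp only [Fin.isValue, one_ne_zero, if_false]
      linear_combination (a ^ 2 * v (Sum.inr 1) + a ^ 2 * v (Sum.inl (Sum.inr 0))) * h2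
    · have hi : i = 0 := Subsingleton.elim _ _
      subst hi
      rfl
    · have hj : j = 0 ∨ j = 1 := by fin_cases j <;> simp
      rcases hj with rfl | rfl
      · simp only [if_true]
        linear_combination (a * v (Sum.inl (Sum.inr 0))) * h2
      · simp only [Fin.isValue, one_ne_zero, if_false]
  · intro h
    have e2 : ∀ v, (fB a b ^ 2 ^ 1) v = fB a b (fB a b v) := by
      intro v
      norm_num [pow_succ, Module.End.mul_apply]
    have h3 := congrFun (LinearMap.congr_fun h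
      (fun s => if s = Sum.inl (Sum.inr 0) then 1 else 0)) (Sum.inr 0)
    rw [e2, fB_sq, Module.End.one_apply] at h3
    simp at h3
    exact ha h3

end T3b

end Cfsg.Agent.Lib.H15.S8O
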