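import Cfsg.Agent.Lib.H15.S8OUnipA

/-!
# S3589 farm-out, task T3c (for helper11): a unipotent isometry of order 8 of the standard
minus-type form in dimension 6, characteristic 2.
-/

set_option autoImplicit false

namespace Cfsg.Agent.Lib.H15.S8O

open Matrix
open scoped MatrixGroups

variable {F : Type*} [Field F]

local notation "VC" => ((Fin 2 ⊕ Fin 2) ⊕ Fin 2 → F)

/-- the auxiliary quantity `X = x₁ + b y₁ + a z₁ + a² z₂` -/
def XC (a b : F) (v : VC) : F :=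
  v (Sum.inl (Sum.inl 1)) + b * v (Sum.inl (Sum.inr 1)) + a * v (Sum.inr 0) + a ^ 2 * v (Sum.inr 1)

/-- the unipotent map of T3c -/
def fC (a b : F) : Module.End F VC where
  toFun v := fun s => match s with
    | Sum.inl (Sum.inl i) => if i = 0 then v (Sum.inl (Sum.inl 0)) + XC a b v else XC a b v
    | Sum.inl (Sum.inr i) => if i = 0 then v (Sum.inl (Sum.inr 0))
        else v (Sum.inl (Sum.inr 1)) + v (Sum.inl (Sum.inr 0))
    | Sum.inr j => if j = 0 then v (Sum.inr 0) + a * v (Sum.inr 1)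
        else v (Sum.inr 1) + v (Sum.inl (Sum.inr 1))
  map_add' v w := by
    funext s
    rcases s with (i | i) | j
    · by_cases hi : i = 0 <;> simp [hi, XC] <;> ring
    · by_cases hi : i = 0 <;> simp [hi] <;> ring
    · by_cases hj : j = 0 <;> simp [hj] <;> ring
  map_smul' c v := by
    funext s
    rcases s with (i | i) | j
    · by_cases hi : i = 0 <;> simp [hi, XC] <;> ring
    · by_cases hi : i = 0 <;> simp [hi] <;> ring
    · by_cases hj : j = 0 <;> simp [hj] <;> ring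

theorem fC_x0 (a b : F) (v : VC) :
    fC a b v (Sum.inl (Sum.inl 0)) = v (Sum.inl (Sum.inl 0)) + XC a b v := rfl
theorem fC_x1 (a b : F) (v : VC) : fC a b v (Sum.inl (Sum.inl 1)) = XC a b v := rfl
theorem fC_y0 (a b : F) (v : VC) :
    fC a b v (Sum.inl (Sum.inr 0)) = v (Sum.inl (Sum.inr 0)) := rfl
theorem fC_y1 (a b : F) (v : VC) :
    fC a b v (Sum.inl (Sum.inr 1)) = v (Sum.inl (Sum.inr 1)) + v (Sum.inl (Sum.inr 0)) := rfl
theorem fC_z1 (a b : F) (v : VC) :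
    fC a b v (Sum.inr 0) = v (Sum.inr 0) + a * v (Sum.inr 1) := rfl
theorem fC_z2 (a b : F) (v : VC) :
    fC a b v (Sum.inr 1) = v (Sum.inr 1) + v (Sum.inl (Sum.inr 1)) := rfl

/-- build a vector from its six coordinates -/
def mk6 (x0 y0 x1 y1 z1 z2 : F) : VC := fun s => match s with
  | Sum.inl (Sum.inl i) => if i = 0 then x0 else x1
  | Sum.inl (Sum.inr i) => if i = 0 then y0 else y1
  | Sum.inr j => if j = 0 then z1 else z2

theorem mk6_x0 (x0 y0 x1 y1 z1 z2 : F) : mk6 x0 y0 x1 y1 z1 z2 (Sum.inl (Sum.inl 0)) = x0 := rfl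
theorem mk6_x1 (x0 y0 x1 y1 z1 z2 : F) : mk6 x0 y0 x1 y1 z1 z2 (Sum.inl (Sum.inl 1)) = x1 := rfl
theorem mk6_y0 (x0 y0 x1 y1 z1 z2 : F) : mk6 x0 y0 x1 y1 z1 z2 (Sum.inl (Sum.inr 0)) = y0 := rfl
theorem mk6_y1 (x0 y0 x1 y1 z1 z2 : F) : mk6 x0 y0 x1 y1 z1 z2 (Sum.inl (Sum.inr 1)) = y1 := rfl
theorem mk6_z1 (x0 y0 x1 y1 z1 z2 : F) : mk6 x0 y0 x1 y1 z1 z2 (Sum.inr 0) = z1 := rfl
theorem mk6_z2 (x0 y0 x1 y1 z1 z2 : F) : mk6 x0 y0 x1 y1 z1 z2 (Sum.inr 1) = z2 := rfl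

theorem ext6 {v w : VC} (h1 : v (Sum.inl (Sum.inl 0)) = w (Sum.inl (Sum.inl 0)))
    (h2 : v (Sum.inl (Sum.inr 0)) = w (Sum.inl (Sum.inr 0)))
    (h3 : v (Sum.inl (Sum.inl 1)) = w (Sum.inl (Sum.inl 1)))
    (h4 : v (Sum.inl (Sum.inr 1)) = w (Sum.inl (Sum.inr 1)))
    (h5 : v (Sum.inr 0) = w (Sum.inr 0)) (h6 : v (Sum.inr 1) = w (Sum.inr 1)) : v = w := by
  funext s
  rcases s with (i | i) | j
  · have hi : i = 0 ∨ i = 1 := by fin_cases i <;> simp
    rcases hi with rfl | rfl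
    · exact h1
    · exact h3
  · have hi : i = 0 ∨ i = 1 := by fin_cases i <;> simp
    rcases hi with rfl | rfl
    · exact h2
    · exact h4
  · have hj : j = 0 ∨ j = 1 := by fin_cases j <;> simp
    rcases hj with rfl | rfl
    · exact h5
    · exact h6

/-- the square of `fC` -/
def gC (a b : F) (v : VC) : VC :=
  mk6 (v (Sum.inl (Sum.inl 0)) + b * v (Sum.inl (Sum.inr 1)) + a * v (Sum.inr 0)
        + b * v (Sum.inl (Sum.inr 0)) + a ^ 2 * v (Sum.inl (Sum.inr 1)))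
      (v (Sum.inl (Sum.inr 0)))
      (v (Sum.inl (Sum.inl 1)) + b * v (Sum.inl (Sum.inr 0)) + a ^ 2 * v (Sum.inr 1)
        + a ^ 2 * v (Sum.inl (Sum.inr 1)))
      (v (Sum.inl (Sum.inr 1)))
      (v (Sum.inr 0) + a * v (Sum.inl (Sum.inr 1)))
      (v (Sum.inr 1) + v (Sum.inl (Sum.inr 0)))

/-- the fourth power of `fC` -/
def kC (a : F) (v : VC) : VC :=
  mk6 (v (Sum.inl (Sum.inl 0)) + a ^ 2 * v (Sum.inl (Sum.inr 1)))
      (v (Sum.inl (Sum.inr 0)))
      (v (Sum.inl (Sum.inl 1)) + a ^ 2 * v (Sum.inl (Sum.inr 0)))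
      (v (Sum.inl (Sum.inr 1)))
      (v (Sum.inr 0))
      (v (Sum.inr 1))

theorem fC_sq [CharP F 2] (a b : F) (v : VC) : fC a b (fC a b v) = gC a b v := by
  have h2 : (2 : F) = 0 := CharTwo.two_eq_zero
  apply ext6
  · simp only [fC_x0, gC, mk6_x0, XC, fC_x1, fC_y1, fC_z1, fC_z2]
    linear_combination (v (Sum.inl (Sum.inl 1)) + b * v (Sum.inl (Sum.inr 1)) + a * v (Sum.inr 0)
      + 2 * a ^ 2 * v (Sum.inr 1)) * h2
  · simp only [fC_y0, gC, mk6_y0]
  · simp only [fC_x1, gC, mk6_x1, XC, fC_y1, fC_z1, fC_z2]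
    linear_combination (b * v (Sum.inl (Sum.inr 1)) + a * v (Sum.inr 0)
      + a ^ 2 * v (Sum.inr 1)) * h2
  · simp only [fC_y1, fC_y0, gC, mk6_y1]
    linear_combination (v (Sum.inl (Sum.inr 0))) * h2
  · simp only [fC_z1, fC_z2, gC, mk6_z1]
    linear_combination (a * v (Sum.inr 1)) * h2
  · simp only [fC_z2, fC_y1, gC, mk6_z2]
    linear_combination (v (Sum.inl (Sum.inr 1))) * h2

theorem gC_sq [CharP F 2] (a b : F) (v : VC) : gC a b (gC a b v) = kC a v := by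
  have h2 : (2 : F) = 0 := CharTwo.two_eq_zero
  apply ext6
  · simp only [gC, kC, mk6_x0, mk6_y0, mk6_y1, mk6_z1]
    linear_combination (b * v (Sum.inl (Sum.inr 1)) + a * v (Sum.inr 0)
      + b * v (Sum.inl (Sum.inr 0)) + a ^ 2 * v (Sum.inl (Sum.inr 1))) * h2
  · simp only [gC, kC, mk6_y0]
  · simp only [gC, kC, mk6_x1, mk6_y0, mk6_y1, mk6_z2]
    linear_combination (b * v (Sum.inl (Sum.inr 0)) + a ^ 2 * v (Sum.inr 1)
      + a ^ 2 * v (Sum.inl (Sum.inr 1))) * h2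
  · simp only [gC, kC, mk6_y1]
  · simp only [gC, kC, mk6_z1, mk6_y1]
    linear_combination (a * v (Sum.inl (Sum.inr 1))) * h2
  · simp only [gC, kC, mk6_z2, mk6_y0]
    linear_combination (v (Sum.inl (Sum.inr 0))) * h2

theorem kC_sq [CharP F 2] (a : F) (v : VC) : kC a (kC a v) = v := by
  have h2 : (2 : F) = 0 := CharTwo.two_eq_zero
  apply ext6
  · simp only [kC, mk6_x0, mk6_y1]
    linear_combination (a ^ 2 * v (Sum.inl (Sum.inr 1))) * h2
  · simp only [kC, mk6_y0]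
  · simp only [kC, mk6_x1, mk6_y0]
    linear_combination (a ^ 2 * v (Sum.inl (Sum.inr 0))) * h2
  · simp only [kC, mk6_y1]
  · simp only [kC, mk6_z1]
  · simp only [kC, mk6_z2]

/-- **T3c** -/
theorem exists_unip_minus2 [Fintype F] [CharP F 2] (a b : F) (ha : a ≠ 0) :
    ∃ u ∈ Cfsg.isometryGroup F (Cfsg.quadFormMinus 2 F a b), orderOf u = 8 := by
  have h2 : (2 : F) = 0 := CharTwo.two_eq_zero
  have key := exists_of_end (Cfsg.quadFormMinus 2 F a b) (fC a b) ?_ 2 ?_ ?_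
  · simpa using key
  · intro v
    unfold Cfsg.quadFormMinus
    simp only [Fin.sum_univ_two]
    rw [fC_x0, fC_x1, fC_y0, fC_y1, fC_z1, fC_z2]
    unfold XC
    linear_combination (b * v (Sum.inl (Sum.inr 1)) ^ 2
      + a * v (Sum.inr 0) * v (Sum.inl (Sum.inr 1))
      + a ^ 2 * v (Sum.inr 1) * v (Sum.inl (Sum.inr 1))
      + a * v (Sum.inr 0) * v (Sum.inr 1) + a ^ 2 * v (Sum.inr 1) ^ 2
      + b * v (Sum.inr 1) * v (Sum.inl (Sum.inr 1))
      + (v (Sum.inl (Sum.inl 1)) + b * v (Sum.inl (Sum.inr 1)) + a * v (Sum.inr 0)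
          + a ^ 2 * v (Sum.inr 1)) * v (Sum.inl (Sum.inr 0))) * h2
  · apply LinearMap.ext
    intro v
    have e8 : (fC a b ^ 2 ^ (2 + 1)) v = fC a b (fC a b (fC a b (fC a b
        (fC a b (fC a b (fC a b (fC a b v))))))) := by
      norm_num [pow_succ, Module.End.mul_apply]
    rw [e8, Module.End.one_apply]
    simp only [fC_sq, gC_sq, kC_sq]
  · intro h
    have e4 : ∀ v, (fC a b ^ 2 ^ 2) v = fC a b (fC a b (fC a b (fC a b v))) := by
      intro v
      norm_num [pow_succ, Module.End.mul_apply]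
    have h3 := congrFun (LinearMap.congr_fun h (mk6 0 0 0 1 0 0)) (Sum.inl (Sum.inl 0))
    rw [e4, Module.End.one_apply] at h3
    simp only [fC_sq, gC_sq] at h3
    simp only [kC, mk6_x0, mk6_y1] at h3
    simp at h3
    exact ha h3

end Cfsg.Agent.Lib.H15.S8O
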