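import Cfsg.Agent.S0942
import Cfsg.Agent.Lib.H23.PPart
import Cfsg.Agent.Lib.L0.CharBasic

/-!
# S1951 piece F2 / CONST (helper15, 2nd seat): characters of the principal block are constant on the
`p`-singular elements when all nonidentity elements of an elementary abelian Sylow `p`-subgroup are conjugate
and the centralizers of its elements of order `p` have normal `p`-complements.
-/

set_option autoImplicit false

namespace Cfsg.Agent.Lib.H15.AE

open Cfsg

/-- an element of order prime to `p` of a group with a normal `p`-complement `N` lies in `N`. -/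
theorem mem_of_isComplement'_of_not_dvd {C : Type*} [Group C] [Finite C] {p : ℕ} [Fact p.Prime]
    (S : Sylow p C) (N : Subgroup C) [N.Normal] (hNS : N.IsComplement' (S : Subgroup C))
    (w : C) (hw : ¬ p ∣ orderOf w) : w ∈ N := by
  have hp : p.Prime := Fact.out
  have hcard : Nat.card N * Nat.card (S : Subgroup C) = Nat.card C := hNS.card_mul_card
  have hidx : N.index = Nat.card (S : Subgroup C) := by
    have h1 := N.card_mul_index
    have hN0 : 0 < Nat.card N := Nat.card_pos
    exact Nat.eq_of_mul_eq_mul_left hN0 (h1.trans hcard.symm)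
  obtain ⟨k, hk⟩ := (S.2 : IsPGroup p (S : Subgroup C)).exists_card_eq
  -- order of the image of w in C / N
  have h1 : orderOf (QuotientGroup.mk' N w) ∣ orderOf w := orderOf_map_dvd _ _
  have h2 : orderOf (QuotientGroup.mk' N w) ∣ p ^ k := by
    have : orderOf (QuotientGroup.mk' N w) ∣ Nat.card (C ⧸ N) := orderOf_dvd_natCard _
    rw [← Subgroup.index_eq_card, hidx, hk] at this
    exact this
  obtain ⟨j, _, hj⟩ := (Nat.dvd_prime_pow hp).1 h2
  have hj0 : j = 0 := by
    by_contra hne
    have : p ∣ orderOf (QuotientGroup.mk' N w) := by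
      rw [hj]; exact dvd_pow_self p hne
    exact hw (this.trans h1)
  rw [hj0, pow_zero, orderOf_eq_one_iff] at hj
  exact (QuotientGroup.eq_one_iff w).1 hj

/-- a normal `p`-complement lies in the `p'`-core. -/
theorem le_pPrimeCore_of_isComplement' {C : Type*} [Group C] [Finite C] {p : ℕ} [Fact p.Prime]
    (S : Sylow p C) (N : Subgroup C) [N.Normal] (hNS : N.IsComplement' (S : Subgroup C)) :
    N ≤ pPrimeCore p C := by
  have hp : p.Prime := Fact.out
  have hcard : Nat.card N * Nat.card (S : Subgroup C) = Nat.card C := hNS.card_mul_card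
  have hS : Nat.card (S : Subgroup C) = p ^ (Nat.card C).factorization p := S.card_eq_multiplicity
  have hC0 : Nat.card C ≠ 0 := Nat.card_pos.ne'
  have hcop : (Nat.card N).Coprime p := by
    have h0 : Nat.card C = Nat.card N * p ^ (Nat.card C).factorization p := by
      rw [← hS]; exact hcard.symm
    have h1 : Nat.card N = Nat.card C / p ^ (Nat.card C).factorization p :=
      (Nat.div_eq_of_eq_mul_left (pow_pos hp.pos _) h0).symm
    rw [h1]
    exact (Nat.coprime_ordCompl hp hC0).symm
  exact le_sSup ⟨inferInstance, hcop⟩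

/-- (F2 / CONST, core) every irreducible character of the principal `p`-block takes the same value at all
`p`-singular elements. -/
theorem principalBlock_const_on_pSingular {G : Type*} [Group G] [Finite G] {p : ℕ} [Fact p.Prime]
    (M : Ideal AlgInt) (hM : IsPModular p M) (P : Sylow p G)
    (hPe : IsElementaryAbelian p (P : Subgroup G))
    (hconj : ∀ x ∈ (P : Subgroup G), ∀ y ∈ (P : Subgroup G), x ≠ 1 → y ≠ 1 → ∃ g : G, g * x * g⁻¹ = y)
    (hb : ∀ x ∈ (P : Subgroup G), orderOf x = p →
      HasNormalPComplement p ↥(Subgroup.centralizer ({x} : Set G)))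
    (a : G) (haP : a ∈ (P : Subgroup G)) (ha1 : a ≠ 1)
    (χ : IrrCharacter G) (hχ : χ ∈ principalBlock M G)
    (g : G) (hg : p ∣ orderOf g) : (χ : G → ℂ) g = (χ : G → ℂ) a := by
  have hp : p.Prime := Fact.out
  have hcf : IsClassFunction G (χ : G → ℂ) :=
    Cfsg.Agent.Lib.L0.isClassFunction_of_isCharacter (Cfsg.Agent.Lib.L0.isCharacter_of_irr χ.2)
  obtain ⟨u, v, huv, hcomm, ⟨k, hk⟩, hpv⟩ :=
    Cfsg.Agent.Lib.H23.exists_isPPart hp g (isOfFinOrder_of_finite g)
  have hu1 : u ≠ 1 := by
    rintro rfl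
    rw [one_mul] at huv
    rw [huv] at hpv
    exact hpv hg
  -- conjugate u into P
  have hup : IsPGroup p (Subgroup.zpowers u) := by
    rw [IsPGroup.iff_card, Nat.card_zpowers]
    exact ⟨k, hk⟩
  obtain ⟨Q, hQ⟩ := hup.exists_le_sylow
  obtain ⟨h, hh⟩ := MulAction.exists_smul_eq G P Q
  have huQ : u ∈ (Q : Subgroup G) := hQ (Subgroup.mem_zpowers u)
  have hu' : h⁻¹ * u * h⁻¹⁻¹ ∈ (P : Subgroup G) := by
    rw [← hh, Sylow.coe_subgroup_smul, Subgroup.mem_pointwise_smul_iff_inv_smul_mem] at huQ
    simpa [MulAut.smul_def, MulAut.conj_apply] using huQ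
  set c := h⁻¹ with hc
  set u' := c * u * c⁻¹ with hu'def
  set v' := c * v * c⁻¹ with hv'def
  have hg' : c * g * c⁻¹ = u' * v' := by
    rw [← huv, hu'def, hv'def]; group
  have hu'1 : u' ≠ 1 := by
    intro h1
    apply hu1
    have : u = c⁻¹ * u' * c := by rw [hu'def]; group
    rw [this, h1]; group
  have hu'ord : orderOf u' = p := by
    have h1 : u' ^ p = 1 := hPe.2 u' hu'
    have h2 : orderOf u' ∣ p := orderOf_dvd_of_pow_eq_one h1
    rcases (Nat.dvd_prime hp).1 h2 with h3 | h3
    · exact absurd (orderOf_eq_one_iff.1 h3) hu'1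
    · exact h3
  have hcomm' : Commute u' v' := by
    have : u' * v' = v' * u' := by
      rw [hu'def, hv'def]
      have h1 : u * v = v * u := hcomm.eq
      calc c * u * c⁻¹ * (c * v * c⁻¹) = c * (u * v) * c⁻¹ := by group
        _ = c * (v * u) * c⁻¹ := by rw [h1]
        _ = c * v * c⁻¹ * (c * u * c⁻¹) := by group
    exact this
  have hv'ord : orderOf v' = orderOf v := by
    have := orderOf_injective (MulAut.conj c).toMonoidHom (MulAut.conj c).injective v
    simpa [MulAut.conj_apply] using this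
  -- v' lies in the centralizer of u'
  have hv'C : v' ∈ Subgroup.centralizer ({u'} : Set G) := by
    rw [Subgroup.mem_centralizer_singleton_iff]
    exact hcomm'.eq.symm
  obtain ⟨S, N, hNn, hNS⟩ := hb u' hu' hu'ord
  have := hNn
  set w : ↥(Subgroup.centralizer ({u'} : Set G)) := ⟨v', hv'C⟩ with hw
  have hword : ¬ p ∣ orderOf w := by
    have : orderOf w = orderOf v' := by
      rw [hw]; exact Subgroup.orderOf_mk v' hv'C
    rw [this, hv'ord]; exact hpv
  have hwN : w ∈ N := mem_of_isComplement'_of_not_dvd S N hNS w hword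
  have hwcore : w ∈ pPrimeCore p ↥(Subgroup.centralizer ({u'} : Set G)) :=
    le_pPrimeCore_of_isComplement' S N hNS hwN
  have hv'core : v' ∈ centralizerPPrimeCore p u' := by
    unfold centralizerPPrimeCore
    exact ⟨w, hwcore, rfl⟩
  have h942 := Cfsg.Agent.S0942.result p M hM u' ⟨1, by rw [hu'ord, pow_one]⟩ v' hv'core χ hχ
  obtain ⟨g0, hg0⟩ := hconj u' hu' a haP hu'1 ha1
  calc (χ : G → ℂ) g = (χ : G → ℂ) (c * g * c⁻¹) := (hcf g c).symm
    _ = (χ : G → ℂ) (u' * v') := by rw [hg']
    _ = (χ : G → ℂ) u' := h942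
    _ = (χ : G → ℂ) (g0 * u' * g0⁻¹) := (hcf u' g0).symm
    _ = (χ : G → ℂ) a := by rw [hg0]

end Cfsg.Agent.Lib.H15.AE
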