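import Mathlib

/-!
# S1950 piece FOUR (helper15): the Fourier step (pure finite sums over `ZMod p`)

From the orthogonality relation (O) and the class-sum identity (STAR) for the values `f i a = χ_i(z^a)`
to the rank-one identity
`∑_i ((d_i + ∑_{b ≠ 0} f_i(b) ψ(-kb)) / d_i) f_i(a) conj f_i(c) = (q/e) η(ka) conj η(kc)`,
`η(x) = ∑_{t ∈ E} ψ(t x)`.
-/

set_option autoImplicit false

namespace Cfsg.Agent.Lib.H15.CY

open scoped ComplexConjugate BigOperators

variable {p : ℕ} [Fact p.Prime]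

/-- the count in (STAR) as a double indicator sum. -/
theorem card_filter_eq_sum (E : Finset (ZMod p)) (a b c : ZMod p) (hc : c ≠ 0) :
    ((E.filter (fun j => ∃ t ∈ E, j * a + b = c * t)).card : ℂ) =
      ∑ j ∈ E, ∑ t ∈ E, (if j * a + b = c * t then (1 : ℂ) else 0) := by
  classical
  rw [Finset.card_filter]
  push_cast
  refine Finset.sum_congr rfl fun j _ => ?_
  by_cases h : ∃ t ∈ E, j * a + b = c * t
  · obtain ⟨t₀, ht₀, h0⟩ := h
    rw [if_pos ⟨t₀, ht₀, h0⟩]
    rw [Finset.sum_eq_single t₀]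
    · rw [if_pos h0]
    · intro t _ hne
      rw [if_neg]
      intro h1
      apply hne
      have : c * t = c * t₀ := by rw [← h1, h0]
      exact mul_left_cancel₀ hc this
    · intro h1; exact absurd ht₀ h1
  · rw [if_neg h]
    symm
    apply Finset.sum_eq_zero
    intro t ht
    rw [if_neg]
    intro h1
    exact h ⟨t, ht, h1⟩

/-- the number of pairs `(j, t) ∈ E × E` with `c t = j a`. -/
theorem sum_pairs (E : Finset (ZMod p)) (hE0 : (0 : ZMod p) ∉ E)
    (hmul : ∀ x ∈ E, ∀ y ∈ E, x * y ∈ E) (hinv : ∀ x ∈ E, x⁻¹ ∈ E)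
    (a c : ZMod p) (hc : c ≠ 0) [Decidable (∃ t ∈ E, a = c * t)] :
    ∑ j ∈ E, ∑ t ∈ E, (if c * t - j * a = 0 then (1 : ℂ) else 0) =
      if (∃ t ∈ E, a = c * t) then (E.card : ℂ) else 0 := by
  classical
  by_cases h : ∃ t ∈ E, a = c * t
  · rw [if_pos h]
    obtain ⟨t₀, ht₀, rfl⟩ := h
    have : ∀ j ∈ E, ∑ t ∈ E, (if c * t - j * (c * t₀) = 0 then (1 : ℂ) else 0) = 1 := by
      intro j hj
      rw [Finset.sum_eq_single (j * t₀)]
      · rw [if_pos]; ring
      · intro t _ hne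
        rw [if_neg]
        intro h1
        apply hne
        have h2 : c * t = c * (j * t₀) := by
          have := sub_eq_zero.1 h1
          rw [this]; ring
        exact mul_left_cancel₀ hc h2
      · intro h1; exact absurd (hmul j hj t₀ ht₀) h1
    rw [Finset.sum_congr rfl this]
    simp
  · rw [if_neg h]
    apply Finset.sum_eq_zero
    intro j hj
    apply Finset.sum_eq_zero
    intro t ht
    rw [if_neg]
    intro h1
    apply h
    have hj0 : j ≠ 0 := fun h0 => hE0 (h0 ▸ hj)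
    refine ⟨t * j⁻¹, hmul t ht _ (hinv j hj), ?_⟩
    have h2 : c * t = j * a := sub_eq_zero.1 h1
    field_simp
    rw [h2]; ring

/-- **FOUR**: the `k`-identity. -/
theorem four_identity {ι : Type*} (s : Finset ι) (ψ : AddChar (ZMod p) ℂ)
    (E : Finset (ZMod p)) (hE0 : (0 : ZMod p) ∉ E) (hE1 : (1 : ZMod p) ∈ E)
    (hmul : ∀ x ∈ E, ∀ y ∈ E, x * y ∈ E) (hinv : ∀ x ∈ E, x⁻¹ ∈ E)
    (f : ι → ZMod p → ℂ) (d : ι → ℂ) (hd : ∀ i ∈ s, d i ≠ 0) (q : ℂ)
    (hO : ∀ a c : ZMod p, a ≠ 0 → c ≠ 0 → ∀ [Decidable (∃ t ∈ E, a = c * t)],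
      ∑ i ∈ s, f i a * conj (f i c) = if (∃ t ∈ E, a = c * t) then q else 0)
    (hstar : ∀ a b c : ZMod p, a ≠ 0 → b ≠ 0 → c ≠ 0 → ∀ [DecidablePred (fun j : ZMod p => ∃ t ∈ E, j * a + b = c * t)],
      ∑ i ∈ s, f i a * f i b * conj (f i c) / d i =
        (q / (E.card : ℂ)) * ((E.filter (fun j => ∃ t ∈ E, j * a + b = c * t)).card : ℂ))
    (k a c : ZMod p) (ha : a ≠ 0) (hc : c ≠ 0) :
    ∑ i ∈ s, ((d i + ∑ b ∈ (Finset.univ : Finset (ZMod p)).erase 0, f i b * ψ (-(k * b))) / d i) *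
        (f i a * conj (f i c)) =
      (q / (E.card : ℂ)) * (∑ t ∈ E, ψ (t * k * a)) * conj (∑ t ∈ E, ψ (t * k * c)) := by
  classical
  have he : (E.card : ℂ) ≠ 0 := by
    have : 0 < E.card := Finset.card_pos.2 ⟨1, hE1⟩
    exact_mod_cast this.ne'
  -- split the left side
  have h1 : ∀ i ∈ s, ((d i + ∑ b ∈ (Finset.univ : Finset (ZMod p)).erase 0, f i b * ψ (-(k * b))) / d i) *
        (f i a * conj (f i c)) =
      f i a * conj (f i c) +
        ∑ b ∈ (Finset.univ : Finset (ZMod p)).erase 0, ψ (-(k * b)) * (f i a * f i b * conj (f i c) / d i) := by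
    intro i hi
    have hdi := hd i hi
    rw [add_div, div_self hdi, add_mul, one_mul, Finset.sum_div, Finset.sum_mul]
    congr 1
    refine Finset.sum_congr rfl fun b _ => ?_
    field_simp
  rw [Finset.sum_congr rfl h1, Finset.sum_add_distrib, hO a c ha hc, Finset.sum_comm]
  have h2 : ∀ b ∈ (Finset.univ : Finset (ZMod p)).erase 0,
      ∑ i ∈ s, ψ (-(k * b)) * (f i a * f i b * conj (f i c) / d i) =
        ψ (-(k * b)) * ((q / (E.card : ℂ)) *
          ∑ j ∈ E, ∑ t ∈ E, (if j * a + b = c * t then (1 : ℂ) else 0)) := by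
    intro b hb
    have hb0 : b ≠ 0 := (Finset.mem_erase.1 hb).1
    rw [← Finset.mul_sum, hstar a b c ha hb0 hc, card_filter_eq_sum E a b c hc]
  rw [Finset.sum_congr rfl h2]
  -- evaluate the `b`-sum
  have h3 : ∑ b ∈ (Finset.univ : Finset (ZMod p)).erase 0, ψ (-(k * b)) * ((q / (E.card : ℂ)) *
          ∑ j ∈ E, ∑ t ∈ E, (if j * a + b = c * t then (1 : ℂ) else 0)) =
      (q / (E.card : ℂ)) * ∑ j ∈ E, ∑ t ∈ E,
        (if c * t - j * a ≠ 0 then ψ (-(k * (c * t - j * a))) else 0) := by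
    have : ∀ b ∈ (Finset.univ : Finset (ZMod p)).erase 0, ψ (-(k * b)) * ((q / (E.card : ℂ)) *
          ∑ j ∈ E, ∑ t ∈ E, (if j * a + b = c * t then (1 : ℂ) else 0)) =
        (q / (E.card : ℂ)) * ∑ j ∈ E, ∑ t ∈ E,
          (if b = c * t - j * a then ψ (-(k * b)) else 0) := by
      intro b _
      rw [mul_left_comm, Finset.mul_sum]
      congr 1
      refine Finset.sum_congr rfl fun j _ => ?_
      rw [Finset.mul_sum]
      refine Finset.sum_congr rfl fun t _ => ?_
      by_cases h : j * a + b = c * t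
      · have h' : b = c * t - j * a := by rw [← h]; ring
        rw [if_pos h, if_pos h', mul_one]
      · have h' : ¬ b = c * t - j * a := by
          intro h0; apply h; rw [h0]; ring
        rw [if_neg h, if_neg h', mul_zero]
    rw [Finset.sum_congr rfl this, ← Finset.mul_sum]
    congr 1
    rw [Finset.sum_comm]
    refine Finset.sum_congr rfl fun j _ => ?_
    rw [Finset.sum_comm]
    refine Finset.sum_congr rfl fun t _ => ?_
    by_cases h : c * t - j * a ≠ 0
    · rw [if_pos h, Finset.sum_eq_single (c * t - j * a)]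
      · rw [if_pos rfl]
      · intro b _ hne
        rw [if_neg hne]
      · intro h0
        exact absurd (Finset.mem_erase.2 ⟨h, Finset.mem_univ _⟩) h0
    · rw [if_neg h]
      apply Finset.sum_eq_zero
      intro b hb
      rw [if_neg]
      intro h0
      apply h
      rw [← h0]
      exact (Finset.mem_erase.1 hb).1
  rw [h3]
  -- split off the diagonal
  have h4 : ∀ j ∈ E, ∀ t ∈ E, (if c * t - j * a ≠ 0 then ψ (-(k * (c * t - j * a))) else 0) =
      ψ (j * k * a) * ψ (-(t * k * c)) - (if c * t - j * a = 0 then (1 : ℂ) else 0) := by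
    intro j _ t _
    have hsplit : ψ (-(k * (c * t - j * a))) = ψ (j * k * a) * ψ (-(t * k * c)) := by
      rw [← AddChar.map_add_eq_mul]
      congr 1; ring
    by_cases h : c * t - j * a = 0
    · rw [if_neg (not_not.2 h), if_pos h, ← hsplit, h, mul_zero, neg_zero, AddChar.map_zero_eq_one,
        sub_self]
    · rw [if_pos h, if_neg h, sub_zero, hsplit]
  have h5 : ∑ j ∈ E, ∑ t ∈ E, (if c * t - j * a ≠ 0 then ψ (-(k * (c * t - j * a))) else 0) =
      (∑ j ∈ E, ψ (j * k * a)) * (∑ t ∈ E, ψ (-(t * k * c))) -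
        ∑ j ∈ E, ∑ t ∈ E, (if c * t - j * a = 0 then (1 : ℂ) else 0) := by
    rw [Finset.sum_mul_sum, ← Finset.sum_sub_distrib]
    refine Finset.sum_congr rfl fun j hj => ?_
    rw [← Finset.sum_sub_distrib]
    exact Finset.sum_congr rfl fun t ht => h4 j hj t ht
  have h6 : ∑ t ∈ E, ψ (-(t * k * c)) = conj (∑ t ∈ E, ψ (t * k * c)) := by
    rw [map_sum]
    exact Finset.sum_congr rfl fun t _ => AddChar.map_neg_eq_conj ψ _
  rw [h5, sum_pairs E hE0 hmul hinv a c hc, h6]
  generalize (∑ t ∈ E, ψ (t * k * a)) = Aa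
  generalize conj (∑ t ∈ E, ψ (t * k * c)) = Cc
  by_cases h : ∃ t ∈ E, a = c * t
  · rw [if_pos h, if_pos h]
    field_simp
    ring
  · rw [if_neg h, if_neg h]
    ring

end Cfsg.Agent.Lib.H15.CY
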