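import Mathlib
import Cfsg.Agent.Lib.H12.SLMinDefs
import Cfsg.Agent.Lib.H12.SLMinB

/-!
# S2332 piece IRRB (helper15): a rank-one criterion for irreducibility
-/

set_option autoImplicit false

namespace Cfsg.Agent.Lib.H15.SLMin

open Matrix Module Cfsg.Agent.Lib.H12.SLMin Cfsg.Agent.Lib.H4

/-- IRRB: a representation with all non-trivial characters of `t₂ S₂` of rank one, permuted transitively, such that the normal
closure of `t₂ S₂` is everything, and without non-zero fixed vectors, is irreducible -/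
theorem irreducible_of_rank_one {Γ : Type*} [Group Γ] [Finite Γ] {S₂ : Type*} [AddCommGroup S₂] [Fintype S₂]
    {V₀ : Type*} [AddCommGroup V₀] [Module ℂ V₀] [FiniteDimensional ℂ V₀]
    (σ : Representation ℂ Γ V₀) (t₂ : S₂ → Γ) (ht₂ : ∀ Y Y', t₂ (Y + Y') = t₂ Y * t₂ Y')
    (hrk : ∀ ψ : AddChar S₂ ℂ, ψ ≠ 1 → rk σ t₂ ψ = 1)
    (hex : ∃ ψ : AddChar S₂ ℂ, ψ ≠ 1)
    (htrans : ∀ ψ ψ' : AddChar S₂ ℂ, ψ ≠ 1 → ψ' ≠ 1 → ∃ (g : Γ) (a : S₂ ≃+ S₂),
      (∀ X, g * t₂ X * g⁻¹ = t₂ (a X)) ∧ ψ' = ψ.compAddMonoidHom (a.symm : S₂ →+ S₂))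
    (hgen : ∀ N : Subgroup Γ, N.Normal → (∀ X, t₂ X ∈ N) → N = ⊤)
    (hnofix : ∀ v : V₀, (∀ γ, σ γ v = v) → v = 0) : σ.IsIrreducible := by
  classical
  haveI : Fintype Γ := Fintype.ofFinite Γ
  -- the projections
  set P : AddChar S₂ ℂ → Module.End ℂ V₀ := fun ψ => RepChar.proj σ t₂ ψ with hP
  have hsum : ∀ v : V₀, v = ∑ ψ : AddChar S₂ ℂ, P ψ v := by
    intro v
    have h := congrArg (fun T : Module.End ℂ V₀ => T v) (RepChar.sum_proj σ t₂ ht₂)
    simp only [LinearMap.sum_apply, Module.End.one_apply] at h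
    exact h.symm
  have htP : ∀ (X : S₂) (ψ : AddChar S₂ ℂ) (v : V₀), σ (t₂ X) (P ψ v) = ψ X • P ψ v := by
    intro X ψ v
    have h := congrArg (fun T : Module.End ℂ V₀ => T v) (RepChar.map_mul_proj σ t₂ ht₂ ψ X)
    simpa using h
  -- nontriviality
  obtain ⟨ψ₀, hψ₀⟩ := hex
  have hV : Nontrivial V₀ := by
    by_contra h
    rw [not_nontrivial_iff_subsingleton] at h
    have h1 := hrk ψ₀ hψ₀
    unfold rk at h1
    have : finrank ℂ (LinearMap.range (RepChar.proj σ t₂ ψ₀)) = 0 := by
      rw [Submodule.finrank_eq_zero]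
      exact Subsingleton.elim _ _
    omega
  have key : ∀ W : Subrepresentation σ, W.toSubmodule = ⊥ ∨ W.toSubmodule = ⊤ := by
    intro W
    have hWinv : ∀ (γ : Γ) (w : V₀), w ∈ W.toSubmodule → σ γ w ∈ W.toSubmodule :=
      fun γ w hw => W.apply_mem_toSubmodule γ hw
    -- `P ψ` preserves `W`
    have hPW : ∀ (ψ : AddChar S₂ ℂ) (w : V₀), w ∈ W.toSubmodule → P ψ w ∈ W.toSubmodule := by
      intro ψ w hw
      simp only [hP, RepChar.proj, LinearMap.smul_apply, LinearMap.sum_apply]
      refine Submodule.smul_mem _ _ (Submodule.sum_mem _ fun X _ => ?_)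
      exact Submodule.smul_mem _ _ (hWinv _ _ hw)
    -- dichotomy for a non-trivial character
    have hdich : ∀ ψ : AddChar S₂ ℂ, ψ ≠ 1 → (∀ x, P ψ x ∈ W.toSubmodule) ∨
        (∀ w ∈ W.toSubmodule, P ψ w = 0) := by
      intro ψ hψ
      by_cases h : ∀ w ∈ W.toSubmodule, P ψ w = 0
      · exact Or.inr h
      · left
        rw [not_forall] at h
        obtain ⟨w, hw⟩ := h
        rw [Classical.not_imp] at hw
        obtain ⟨hwW, hw0⟩ := hw
        have h1 : finrank ℂ (LinearMap.range (P ψ)) = 1 := hrk ψ hψ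
        have hmem : P ψ w ∈ LinearMap.range (P ψ) := ⟨w, rfl⟩
        have hnz : (⟨P ψ w, hmem⟩ : LinearMap.range (P ψ)) ≠ 0 := by
          intro h0
          exact hw0 (congrArg Subtype.val h0)
        have h2 := (finrank_eq_one_iff_of_nonzero' (⟨P ψ w, hmem⟩ : LinearMap.range (P ψ)) hnz).1 h1
        intro x
        obtain ⟨c, hc⟩ := h2 ⟨P ψ x, ⟨x, rfl⟩⟩
        have hc' : c • P ψ w = P ψ x := congrArg Subtype.val hc
        rw [← hc']
        exact Submodule.smul_mem _ _ (hPW ψ w hwW)
    by_cases hA : ∃ ψ : AddChar S₂ ℂ, ψ ≠ 1 ∧ ∀ x, P ψ x ∈ W.toSubmodule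
    · -- case A : `W = ⊤`
      right
      obtain ⟨ψ, hψ, hψW⟩ := hA
      have hall : ∀ ψ' : AddChar S₂ ℂ, ψ' ≠ 1 → ∀ x, P ψ' x ∈ W.toSubmodule := by
        intro ψ' hψ' x
        obtain ⟨g, a, hg, hψψ'⟩ := htrans ψ ψ' hψ hψ'
        have h1 := RepChar.conj_proj σ t₂ ψ g a hg
        rw [← hψψ'] at h1
        have h2 := congrArg (fun T : Module.End ℂ V₀ => T x) h1
        simp only [Module.End.mul_apply] at h2
        change P ψ' x ∈ W.toSubmodule
        rw [show P ψ' x = σ g (P ψ (σ g⁻¹ x)) from h2.symm]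
        exact hWinv _ _ (hψW _)
      -- the subgroup acting trivially on `V₀ / W`
      let N : Subgroup Γ :=
        { carrier := {γ | ∀ v, σ γ v - v ∈ W.toSubmodule}
          one_mem' := by
            intro v
            simp
          mul_mem' := by
            intro γ γ' hγ hγ' v
            have e : σ (γ * γ') v - v = σ γ (σ γ' v - v) + (σ γ v - v) := by
              rw [map_mul, Module.End.mul_apply, map_sub]
              abel
            rw [e]
            exact Submodule.add_mem _ (hWinv _ _ (hγ' v)) (hγ v)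
          inv_mem' := by
            intro γ hγ v
            have h1 := hγ (σ γ⁻¹ v)
            have e : σ γ (σ γ⁻¹ v) = v := by
              rw [← Module.End.mul_apply, ← map_mul, mul_inv_cancel, map_one, Module.End.one_apply]
            rw [e] at h1
            have : σ γ⁻¹ v - v = -(v - σ γ⁻¹ v) := by abel
            rw [this]
            exact Submodule.neg_mem _ h1 }
      have hNn : N.Normal := by
        refine ⟨fun γ hγ g v => ?_⟩
        have e : σ (g * γ * g⁻¹) v - v = σ g (σ γ (σ g⁻¹ v) - σ g⁻¹ v) := by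
          rw [map_mul, map_mul, Module.End.mul_apply, Module.End.mul_apply, map_sub]
          congr 1
          rw [← Module.End.mul_apply, ← map_mul, mul_inv_cancel, map_one, Module.End.one_apply]
        rw [e]
        exact hWinv _ _ (hγ _)
      have hNt : ∀ X, t₂ X ∈ N := by
        intro X v
        have e : σ (t₂ X) v - v = ∑ ψ' : AddChar S₂ ℂ, (ψ' X - 1) • P ψ' v := by
          conv_lhs => rw [hsum v, map_sum, ← Finset.sum_sub_distrib]
          refine Finset.sum_congr rfl fun ψ' _ => ?_
          rw [htP, sub_smul, one_smul]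
        rw [e]
        refine Submodule.sum_mem _ fun ψ' _ => ?_
        by_cases h1 : ψ' = 1
        · subst h1
          simp
        · exact Submodule.smul_mem _ _ (hall ψ' h1 v)
      have hNtop := hgen N hNn hNt
      have hQ : ∀ γ v, σ γ v - v ∈ W.toSubmodule := by
        intro γ v
        have : γ ∈ N := by rw [hNtop]; exact Subgroup.mem_top γ
        exact this v
      rw [Submodule.eq_top_iff']
      intro v
      set avg : V₀ := (Fintype.card Γ : ℂ)⁻¹ • ∑ γ : Γ, σ γ v with havg
      have hfix : ∀ γ', σ γ' avg = avg := by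
        intro γ'
        rw [havg, map_smul, map_sum]
        congr 1
        rw [← Equiv.sum_comp (Equiv.mulLeft γ') (fun γ => σ γ v)]
        refine Finset.sum_congr rfl fun γ _ => ?_
        rw [Equiv.coe_mulLeft, map_mul, Module.End.mul_apply]
      have h0 : avg = 0 := hnofix avg hfix
      have hcard : (Fintype.card Γ : ℂ) ≠ 0 := Nat.cast_ne_zero.2 Fintype.card_ne_zero
      have hd : avg - v ∈ W.toSubmodule := by
        have e : avg - v = (Fintype.card Γ : ℂ)⁻¹ • ∑ γ : Γ, (σ γ v - v) := by
          rw [Finset.sum_sub_distrib, smul_sub, Finset.sum_const, Finset.card_univ,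
            ← Nat.cast_smul_eq_nsmul ℂ, smul_smul, inv_mul_cancel₀ hcard, one_smul]
        rw [e]
        exact Submodule.smul_mem _ _ (Submodule.sum_mem _ fun γ _ => hQ γ v)
      rw [h0, zero_sub] at hd
      have := Submodule.neg_mem _ hd
      rwa [neg_neg] at this
    · -- case B : `W = ⊥`
      left
      have hB : ∀ ψ : AddChar S₂ ℂ, ψ ≠ 1 → ∀ w ∈ W.toSubmodule, P ψ w = 0 := by
        intro ψ hψ
        rcases hdich ψ hψ with h | h
        · exact absurd ⟨ψ, hψ, h⟩ hA
        · exact h
      have hw1 : ∀ w ∈ W.toSubmodule, P 1 w = w := by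
        intro w hw
        conv_rhs => rw [hsum w]
        rw [Finset.sum_eq_single (1 : AddChar S₂ ℂ)]
        · intro ψ _ hψ
          exact hB ψ hψ w hw
        · intro h
          exact absurd (Finset.mem_univ _) h
      let N : Subgroup Γ :=
        { carrier := {γ | ∀ w ∈ W.toSubmodule, σ γ w = w}
          one_mem' := by
            intro w _
            simp
          mul_mem' := by
            intro γ γ' hγ hγ' w hw
            rw [map_mul, Module.End.mul_apply, hγ' w hw, hγ w hw]
          inv_mem' := by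
            intro γ hγ w hw
            have h1 := hγ w hw
            conv_lhs => rw [← h1]
            rw [← Module.End.mul_apply, ← map_mul, inv_mul_cancel, map_one, Module.End.one_apply] }
      have hNn : N.Normal := by
        refine ⟨fun γ hγ g w hw => ?_⟩
        have h1 : σ g⁻¹ w ∈ W.toSubmodule := hWinv _ _ hw
        rw [map_mul, map_mul, Module.End.mul_apply, Module.End.mul_apply, hγ _ h1,
          ← Module.End.mul_apply, ← map_mul, mul_inv_cancel, map_one, Module.End.one_apply]
      have hNt : ∀ X, t₂ X ∈ N := by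
        intro X w hw
        rw [← hw1 w hw, htP, AddChar.one_apply, one_smul]
      have hNtop := hgen N hNn hNt
      rw [Submodule.eq_bot_iff]
      intro w hw
      apply hnofix
      intro γ
      have : γ ∈ N := by rw [hNtop]; exact Subgroup.mem_top γ
      exact this w hw
  have : Nontrivial (Subrepresentation σ) := by
    refine ⟨⟨⊥, ⊤, fun h => ?_⟩⟩
    have h1 : (⊥ : Subrepresentation σ).toSubmodule = (⊤ : Subrepresentation σ).toSubmodule := by
      rw [h]
    exact bot_ne_top (α := Submodule ℂ V₀) h1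
  refine ⟨fun W => ?_⟩
  rcases key W with h | h
  · left
    exact Subrepresentation.toSubmodule_injective h
  · right
    exact Subrepresentation.toSubmodule_injective h

end Cfsg.Agent.Lib.H15.SLMin
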