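/-
REE-H2 (helper15, for helper12's Ree tori project): an element of 3-power order of `PSL₂(q)`, `q` a power of 3, has order
dividing 3.
-/
import Cfsg.Agent.Lib.H12.ReeT4
import Cfsg.Agent.Lib.H12.SL2RegCard

set_option autoImplicit false

namespace Cfsg.Agent.Lib.H15.Ree

open Matrix

theorem psl2_pow_three {F : Type*} [Field F] [Fintype F] (h3 : (3 : F) = 0) (k : ℕ)
    (x : Matrix.ProjectiveSpecialLinearGroup (Fin 2) F) (hx : x ^ (3 ^ k) = 1) : x ^ 3 = 1 := by
  classical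
  haveI : CharP F 3 := (CharP.charP_iff_prime_eq_zero Nat.prime_three).2 (by exact_mod_cast h3)
  obtain ⟨m, hm⟩ := FiniteField.card F 3
  have hm1 : 1 ≤ (m : ℕ) := m.2
  have hcard : Fintype.card F = 3 ^ (m : ℕ) := hm.2
  have hodd : Odd (Fintype.card F) := by
    rw [hcard]
    exact Odd.pow (by decide)
  have hodd3 : Odd (3 ^ k) := Odd.pow (by decide)
  obtain ⟨g, hgx, hg⟩ := Cfsg.Agent.Lib.H12.ReeT.exists_lift_pow (3 ^ k) hodd3 x hx
  suffices h : g ^ 3 = 1 by
    rw [← hgx, ← QuotientGroup.mk_pow, h, QuotientGroup.mk_one]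
  by_cases ht : (g : Matrix (Fin 2) (Fin 2) F).trace ^ 2 = 4
  · have h6 := Cfsg.Agent.Lib.H12.ReeT.sl2_pow_six h3 g ht
    have hd : orderOf g ∣ Nat.gcd 6 (3 ^ k) := Nat.dvd_gcd (orderOf_dvd_of_pow_eq_one h6) (orderOf_dvd_of_pow_eq_one hg)
    have hd3 : Nat.gcd 6 (3 ^ k) ∣ 3 := by
      have h1 : Nat.gcd 6 (3 ^ k) ∣ 3 ^ k := Nat.gcd_dvd_right _ _
      have h2 : Nat.gcd 6 (3 ^ k) ∣ 6 := Nat.gcd_dvd_left _ _
      obtain ⟨j, hj, hjeq⟩ := (Nat.dvd_prime_pow Nat.prime_three).1 h1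
      rw [hjeq] at h2 ⊢
      have hj1 : j ≤ 1 := by
        by_contra hj2
        have : 3 ^ 2 ∣ 3 ^ j := Nat.pow_dvd_pow 3 (by omega)
        have := this.trans h2
        omega
      interval_cases j <;> norm_num
    exact orderOf_dvd_iff_pow_eq_one.1 (hd.trans hd3)
  · -- regular semisimple: the centraliser has order prime to 3
    obtain ⟨-, hsq, hnsq⟩ := Cfsg.Agent.Lib.H12.regular_centralizer hodd g ht
    have hgC : g ∈ Subgroup.centralizer ({g} : Set (Matrix.SpecialLinearGroup (Fin 2) F)) := by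
      rw [Subgroup.mem_centralizer_iff]
      intro y hy
      rw [Set.mem_singleton_iff.1 hy]
    have hord : orderOf g ∣ Nat.card (Subgroup.centralizer ({g} : Set (Matrix.SpecialLinearGroup (Fin 2) F))) := by
      have h1 := Subgroup.orderOf_dvd_natCard (Subgroup.centralizer ({g} : Set (Matrix.SpecialLinearGroup (Fin 2) F))) hgC
      exact h1
    have hord3 : orderOf g ∣ 3 ^ k := orderOf_dvd_of_pow_eq_one hg
    have hcop : ∀ N : ℕ, (N = 3 ^ (m : ℕ) - 1 ∨ N = 3 ^ (m : ℕ) + 1) → orderOf g ∣ N → g = 1 := by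
      intro N hN hdN
      have h1 : orderOf g ∣ Nat.gcd N (3 ^ k) := Nat.dvd_gcd hdN hord3
      have h2 : Nat.Coprime N (3 ^ k) := by
        apply Nat.Coprime.pow_right
        rw [Nat.coprime_comm, Nat.Prime.coprime_iff_not_dvd Nat.prime_three]
        have h3m : 3 ∣ 3 ^ (m : ℕ) := dvd_pow_self 3 (by omega)
        have hpos : 1 ≤ 3 ^ (m : ℕ) := Nat.one_le_pow _ _ (by norm_num)
        rcases hN with rfl | rfl <;> omega
      rw [h2] at h1
      exact orderOf_eq_one_iff.1 (Nat.dvd_one.1 h1)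
    have hg1 : g = 1 := by
      by_cases hs : IsSquare ((g : Matrix (Fin 2) (Fin 2) F).trace ^ 2 - 4)
      · exact hcop _ (Or.inl rfl) (by rw [← hcard, ← hsq hs]; exact hord)
      · exact hcop _ (Or.inr rfl) (by rw [← hcard, ← hnsq hs]; exact hord)
    rw [hg1, one_pow]

end Cfsg.Agent.Lib.H15.Ree
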