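/-
REE-K5 (helper15, for helper12's Ree tori project, fifth batch): the number of elements of order 3 of `PSL₂(F)`,
`F` a finite field of characteristic 3, is `|F|^2 - 1`.
-/
import Cfsg.Agent.Lib.H12.ReeT4
import Cfsg.Agent.Lib.H12.ReeN1

set_option autoImplicit false

namespace Cfsg.Agent.Lib.H15.Ree

open Matrix

section K5

variable {F : Type*} [Field F]

local notation "SL2" => Matrix.SpecialLinearGroup (Fin 2) F
local notation "PSL2" => Matrix.ProjectiveSpecialLinearGroup (Fin 2) F
local notation "M2" => Matrix (Fin 2) (Fin 2) F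

/-- the cube of a `2 × 2` matrix of determinant one, in terms of its trace -/
theorem k5_cube (M : M2) (hdet : M.det = 1) :
    M * M * M = (M.trace ^ 2 - 1) • M - M.trace • (1 : M2) := by
  rw [Matrix.det_fin_two] at hdet
  have ht : M.trace = M 0 0 + M 1 1 := Matrix.trace_fin_two M
  ext i j
  fin_cases i <;> fin_cases j
  · simp [Matrix.mul_apply, Fin.sum_univ_two, ht]
    linear_combination (-(2 * M 0 0 + M 1 1)) * hdet
  · simp [Matrix.mul_apply, Fin.sum_univ_two, ht]
    linear_combination (-(M 0 1)) * hdet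
  · simp [Matrix.mul_apply, Fin.sum_univ_two, ht]
    linear_combination (-(M 1 0)) * hdet
  · simp [Matrix.mul_apply, Fin.sum_univ_two, ht]
    linear_combination (-(2 * M 1 1 + M 0 0)) * hdet

theorem k5_coe_pow_three (g : SL2) : ((g ^ 3 : SL2) : M2) = (g : M2) * g * g := by
  rw [pow_succ, pow_two, Matrix.SpecialLinearGroup.coe_mul, Matrix.SpecialLinearGroup.coe_mul]

/-- in characteristic 3, `g ^ 3 = 1 ↔ trace g = 2` for `g ∈ SL₂(F)` -/
theorem k5_pow_three_iff (h3 : (3 : F) = 0) (g : SL2) : g ^ 3 = 1 ↔ (g : M2).trace = 2 := by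
  have hc := k5_cube (g : M2) g.2
  have ht : (g : M2).trace = (g : M2) 0 0 + (g : M2) 1 1 := Matrix.trace_fin_two _
  constructor
  · intro h
    have h1 : (g : M2) * g * g = 1 := by
      rw [← k5_coe_pow_three, h]; rfl
    rw [hc] at h1
    have e00 := congrFun (congrFun h1 0) 0
    have e11 := congrFun (congrFun h1 1) 1
    simp at e00 e11
    have hcube : ((g : M2).trace + 1) ^ 3 = 0 := by
      linear_combination e00 + e11 + ((g : M2).trace ^ 2 + 2 * (g : M2).trace + 1) * h3 +
        ((g : M2).trace ^ 2 - 1) * ht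
    have h0 : (g : M2).trace + 1 = 0 := pow_eq_zero_iff (by norm_num) |>.1 hcube
    linear_combination h0 - h3
  · intro h
    apply Subtype.ext
    rw [k5_coe_pow_three, hc, h]
    have h4 : ((2 : F) ^ 2 - 1) = 0 := by linear_combination h3
    rw [h4, zero_smul, zero_sub]
    ext i j
    fin_cases i <;> fin_cases j <;> simp
    · linear_combination -h3
    · linear_combination -h3


/-- the lower unitriangular element -/
def k5L (x : F) : {g : SL2 // (g : M2).trace = 2} :=
  ⟨⟨!![1, 0; x, 1], by simp [Matrix.det_fin_two_of]⟩, by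
    show (!![1, 0; x, 1] : M2).trace = 2
    rw [Matrix.trace_fin_two_of]; norm_num⟩

/-- the unipotent element with upper right entry `y ≠ 0` -/
def k5U (x y : F) (hy : y ≠ 0) : {g : SL2 // (g : M2).trace = 2} :=
  ⟨⟨!![x + 1, y; -x ^ 2 / y, 1 - x], by
      rw [Matrix.det_fin_two_of]; field_simp; ring⟩, by
    show (!![x + 1, y; -x ^ 2 / y, 1 - x] : M2).trace = 2
    rw [Matrix.trace_fin_two_of]; ring⟩

theorem k5_eq_L (g : SL2) (hg : (g : M2).trace = 2) (hb : (g : M2) 0 1 = 0) :
    (⟨g, hg⟩ : {g : SL2 // (g : M2).trace = 2}) = k5L ((g : M2) 1 0) := by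
  have hdet := g.2
  rw [Matrix.det_fin_two] at hdet
  rw [Matrix.trace_fin_two] at hg
  have ha : ((g : M2) 0 0 - 1) ^ 2 = 0 := by
    linear_combination (-1 : F) * hdet + (g : M2) 0 0 * hg - (g : M2) 1 0 * hb
  have ha1 : (g : M2) 0 0 = 1 := by
    have := pow_eq_zero_iff (two_ne_zero) |>.1 ha
    linear_combination this
  have hd1 : (g : M2) 1 1 = 1 := by linear_combination hg - ha1
  apply Subtype.ext
  apply Subtype.ext
  show (g : M2) = !![1, 0; (g : M2) 1 0, 1]
  ext i j
  fin_cases i <;> fin_cases j <;> simp [ha1, hd1, hb]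

theorem k5_eq_U (g : SL2) (hg : (g : M2).trace = 2) (hb : (g : M2) 0 1 ≠ 0) :
    (⟨g, hg⟩ : {g : SL2 // (g : M2).trace = 2}) = k5U ((g : M2) 0 0 - 1) ((g : M2) 0 1) hb := by
  have hdet := g.2
  rw [Matrix.det_fin_two] at hdet
  rw [Matrix.trace_fin_two] at hg
  apply Subtype.ext
  apply Subtype.ext
  show (g : M2) = !![(g : M2) 0 0 - 1 + 1, (g : M2) 0 1; -((g : M2) 0 0 - 1) ^ 2 / (g : M2) 0 1, 1 - ((g : M2) 0 0 - 1)]
  have hc : (g : M2) 1 0 = -((g : M2) 0 0 - 1) ^ 2 / (g : M2) 0 1 := by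
    field_simp
    linear_combination (-1 : F) * hdet + (g : M2) 0 0 * hg
  ext i j
  fin_cases i <;> fin_cases j <;> simp
  · exact hc
  · linear_combination hg


open Classical in
/-- the elements of trace 2 of `SL₂(F)` are parametrised by `F × F` -/
noncomputable def k5Equiv : {g : SL2 // (g : M2).trace = 2} ≃ F × F where
  toFun g := if (g.1 : M2) 0 1 = 0 then ((g.1 : M2) 1 0, 0) else ((g.1 : M2) 0 0 - 1, (g.1 : M2) 0 1)
  invFun p := if h : p.2 = 0 then k5L p.1 else k5U p.1 p.2 h
  left_inv := by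
    rintro ⟨g, hg⟩
    by_cases hb : (g : M2) 0 1 = 0
    · simp only [hb, if_true, dif_pos]
      exact (k5_eq_L g hg hb).symm
    · simp only [hb, if_false, dif_neg, not_false_iff]
      exact (k5_eq_U g hg hb).symm
  right_inv := by
    rintro ⟨x, y⟩
    by_cases hy : y = 0
    · subst hy
      simp [k5L]
    · simp [hy, k5U]

theorem k5_card_trace_two [Fintype F] :
    Nat.card {g : SL2 // (g : M2).trace = 2} = Fintype.card F ^ 2 := by
  rw [Nat.card_congr k5Equiv, Nat.card_prod, Nat.card_eq_fintype_card, pow_two]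

theorem k5_card_trace_two_ne_one [Fintype F] :
    Nat.card {g : SL2 // (g : M2).trace = 2 ∧ g ≠ 1} = Fintype.card F ^ 2 - 1 := by
  classical
  have h1 : (( (1 : SL2) : M2)).trace = 2 := by
    show (1 : M2).trace = 2
    rw [Matrix.trace_fin_two]; simp; norm_num
  let e : {g : SL2 // (g : M2).trace = 2 ∧ g ≠ 1} ≃
      {h : {g : SL2 // (g : M2).trace = 2} // h ≠ ⟨1, h1⟩} :=
    { toFun := fun g => ⟨⟨g.1, g.2.1⟩, fun h => g.2.2 (congrArg Subtype.val h)⟩
      invFun := fun h => ⟨h.1.1, h.1.2, fun hh => h.2 (Subtype.ext hh)⟩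
      left_inv := fun g => rfl
      right_inv := fun h => rfl }
  rw [Nat.card_congr e]
  haveI : Fintype {g : SL2 // (g : M2).trace = 2} := Fintype.ofFinite _
  rw [Nat.card_eq_fintype_card, Fintype.card_subtype_compl, Fintype.card_subtype_eq,
    ← Nat.card_eq_fintype_card, k5_card_trace_two]


theorem k5_four_ne_zero (h3 : (3 : F) = 0) : (4 : F) ≠ 0 := by
  intro h4
  have : (1 : F) = 0 := by linear_combination h4 - h3
  exact one_ne_zero this

/-- **REE-K5**: the number of elements of order 3 of `PSL₂(F)`, characteristic 3, is `|F|^2 - 1`. -/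
theorem card_order_three_PSL2 {F : Type*} [Field F] [Fintype F] (h3 : (3 : F) = 0) :
    Nat.card {x : Matrix.ProjectiveSpecialLinearGroup (Fin 2) F // orderOf x = 3} = Fintype.card F ^ 2 - 1 := by
  classical
  rw [← k5_card_trace_two_ne_one]
  symm
  have h4 := k5_four_ne_zero h3
  have hne : ∀ g : Matrix.SpecialLinearGroup (Fin 2) F, (g : Matrix (Fin 2) (Fin 2) F).trace = 2 → g ≠ 1 →
      (QuotientGroup.mk g : Matrix.ProjectiveSpecialLinearGroup (Fin 2) F) ≠ 1 := by
    intro g hg hg1 h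
    rw [← QuotientGroup.mk_one, Cfsg.Agent.Lib.H12.ReeN.mk_eq_iff] at h
    rcases h with h | h
    · exact hg1 (Subtype.ext h.symm)
    · have ht : (g : Matrix (Fin 2) (Fin 2) F).trace = -2 := by
        have : (g : Matrix (Fin 2) (Fin 2) F) = -1 := by
          have h' : (1 : Matrix (Fin 2) (Fin 2) F) = -(g : Matrix (Fin 2) (Fin 2) F) := h
          rw [h', neg_neg]
        rw [this, Matrix.trace_neg, Matrix.trace_one]; simp
      apply h4
      linear_combination ht - hg
  have hord : ∀ g : Matrix.SpecialLinearGroup (Fin 2) F, (g : Matrix (Fin 2) (Fin 2) F).trace = 2 → g ≠ 1 →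
      orderOf (QuotientGroup.mk g : Matrix.ProjectiveSpecialLinearGroup (Fin 2) F) = 3 := by
    intro g hg hg1
    haveI : Fact (Nat.Prime 3) := ⟨Nat.prime_three⟩
    apply orderOf_eq_prime
    · rw [← QuotientGroup.mk_pow, (k5_pow_three_iff h3 g).2 hg, QuotientGroup.mk_one]
    · exact hne g hg hg1
  apply Nat.card_eq_of_bijective
    (fun g : {g : Matrix.SpecialLinearGroup (Fin 2) F // (g : Matrix (Fin 2) (Fin 2) F).trace = 2 ∧ g ≠ 1} =>
      (⟨QuotientGroup.mk g.1, hord g.1 g.2.1 g.2.2⟩ :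
        {x : Matrix.ProjectiveSpecialLinearGroup (Fin 2) F // orderOf x = 3}))
  constructor
  · rintro ⟨g, hg, hg1⟩ ⟨g', hg', hg1'⟩ h
    have h' : (QuotientGroup.mk g : Matrix.ProjectiveSpecialLinearGroup (Fin 2) F) = QuotientGroup.mk g' :=
      congrArg Subtype.val h
    rw [Cfsg.Agent.Lib.H12.ReeN.mk_eq_iff] at h'
    rcases h' with h' | h'
    · apply Subtype.ext
      exact (Subtype.ext h').symm
    · exfalso
      apply h4
      have ht : (g' : Matrix (Fin 2) (Fin 2) F).trace = -(g : Matrix (Fin 2) (Fin 2) F).trace := by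
        rw [h', Matrix.trace_neg]
      linear_combination ht - hg' - hg
  · rintro ⟨x, hx⟩
    have hx3 : x ^ 3 = 1 := by rw [← hx]; exact pow_orderOf_eq_one x
    obtain ⟨g, hgx, hg3⟩ := Cfsg.Agent.Lib.H12.ReeT.exists_lift_pow 3 (by decide) x hx3
    have hg : (g : Matrix (Fin 2) (Fin 2) F).trace = 2 := (k5_pow_three_iff h3 g).1 hg3
    have hg1 : g ≠ 1 := by
      rintro rfl
      rw [QuotientGroup.mk_one] at hgx
      rw [← hgx, orderOf_one] at hx
      omega
    exact ⟨⟨g, hg, hg1⟩, Subtype.ext hgx⟩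

end K5

end Cfsg.Agent.Lib.H15.Ree
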