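import Mathlib

/-!
# Scalars in a transitive group of semilinear maps of a finite field of characteristic 2 (helper15)

Brick for S3776 (LEMMA E): `F` a finite field with `2 ^ n` elements, `Eb` a group of permutations of `F`
each of the form `x ↦ a * x ^ (2 ^ s)`, transitive on `F ∖ 0`.  Then the scalars of `Eb` form a cyclic
group `⟨ζ⟩` of order `m` with `m * k = 2 ^ n - 1` and `k ∣ n`.
-/

set_option autoImplicit false

namespace Cfsg.Agent.H15.SemiScal

open scoped Classical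

variable {F : Type*} [Field F] [Fintype F]

theorem one_le_n {n : ℕ} (hn : Fintype.card F = 2 ^ n) : 1 ≤ n := by
  rcases Nat.eq_zero_or_pos n with h | h
  · subst h
    have := Fintype.one_lt_card (α := F)
    simp at hn
    omega
  · exact h

theorem pow_two_pow_add {n : ℕ} (hn : Fintype.card F = 2 ^ n) (x : F) (t j : ℕ) :
    x ^ (2 ^ (t + n * j)) = x ^ (2 ^ t) := by
  induction j with
  | zero => simp
  | succ j ih =>
    have : t + n * (j + 1) = (t + n * j) + n := by ring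
    rw [this, pow_add, mul_comm, pow_mul, ← hn, FiniteField.pow_card, ih]

theorem pow_two_pow_mod {n : ℕ} (hn : Fintype.card F = 2 ^ n) (x : F) (t : ℕ) :
    x ^ (2 ^ (t % n)) = x ^ (2 ^ t) := by
  conv_rhs => rw [← Nat.mod_add_div t n]
  exact (pow_two_pow_add hn x (t % n) (t / n)).symm

theorem frob_inj {n : ℕ} (hn : Fintype.card F = 2 ^ n) {s s' : ℕ} (hs : s < n) (hs' : s' < n)
    (h : ∀ x : F, x ^ (2 ^ s) = x ^ (2 ^ s')) : s = s' := by
  rcases Nat.lt_or_ge n 2 with h2 | h2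
  · omega
  obtain ⟨u, hu⟩ := IsCyclic.exists_generator (α := Fˣ)
  have ho : orderOf u = 2 ^ n - 1 := by
    rw [orderOf_eq_card_of_forall_mem_zpowers hu, Nat.card_eq_fintype_card, Fintype.card_units, hn]
  have h1 : u ^ (2 ^ s) = u ^ (2 ^ s') := by
    apply Units.ext
    push_cast
    exact h (u : F)
  rw [pow_eq_pow_iff_modEq, ho] at h1
  have hb : ∀ t, t < n → 2 ^ t < 2 ^ n - 1 := by
    intro t ht
    have h3 : 2 ^ t ≤ 2 ^ (n - 1) := Nat.pow_le_pow_right (by norm_num) (by omega)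
    have h4 : 2 ^ n = 2 * 2 ^ (n - 1) := by
      conv_lhs => rw [show n = (n - 1) + 1 by omega]
      rw [pow_succ]; ring
    have h5 : 2 ≤ 2 ^ (n - 1) := by
      calc 2 = 2 ^ 1 := by norm_num
        _ ≤ 2 ^ (n - 1) := Nat.pow_le_pow_right (by norm_num) (by omega)
    omega
  have h6 : 2 ^ s = 2 ^ s' := Nat.ModEq.eq_of_lt_of_lt h1 (hb s hs) (hb s' hs')
  exact Nat.pow_right_injective (le_refl 2) h6


section main

variable {n : ℕ}

/-- every member of `Eb` is `x ↦ a * x ^ (2 ^ s)` -/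
def Semi (Eb : Subgroup (Equiv.Perm F)) : Prop :=
  ∀ π ∈ Eb, ∃ (a : F) (s : ℕ), ∀ x : F, π x = a * x ^ (2 ^ s)

theorem exists_form (hn : Fintype.card F = 2 ^ n) (Eb : Subgroup (Equiv.Perm F)) (hsemi : Semi Eb)
    (π : Equiv.Perm F) (hπ : π ∈ Eb) :
    ∃ s : ℕ, s < n ∧ π 1 ≠ 0 ∧ ∀ x : F, π x = π 1 * x ^ (2 ^ s) := by
  obtain ⟨a, s0, h⟩ := hsemi π hπ
  have hn1 := one_le_n hn
  have ha : π 1 = a := by rw [h 1]; simp
  have h0 : π 0 = 0 := by rw [h 0]; simp
  refine ⟨s0 % n, Nat.mod_lt _ (by omega), ?_, ?_⟩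
  · intro h1
    have : (1 : F) = 0 := π.injective (h1.trans h0.symm)
    exact one_ne_zero this
  · intro x
    rw [ha, pow_two_pow_mod hn, h x]

/-- the Frobenius exponent of `π ∈ Eb` (a number `< n`) -/
noncomputable def sOf (hn : Fintype.card F = 2 ^ n) (Eb : Subgroup (Equiv.Perm F)) (hsemi : Semi Eb)
    (π : Eb) : ℕ := (exists_form hn Eb hsemi π.1 π.2).choose

variable (hn : Fintype.card F = 2 ^ n) (Eb : Subgroup (Equiv.Perm F)) (hsemi : Semi Eb)

theorem sOf_lt (π : Eb) : sOf hn Eb hsemi π < n := (exists_form hn Eb hsemi π.1 π.2).choose_spec.1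

include hn hsemi in
theorem one_ne (π : Eb) : (π : Equiv.Perm F) 1 ≠ 0 := (exists_form hn Eb hsemi π.1 π.2).choose_spec.2.1

theorem form (π : Eb) (x : F) :
    (π : Equiv.Perm F) x = (π : Equiv.Perm F) 1 * x ^ (2 ^ sOf hn Eb hsemi π) :=
  (exists_form hn Eb hsemi π.1 π.2).choose_spec.2.2 x

theorem sOf_unique (π : Eb) {s : ℕ} (hs : s < n) {a : F}
    (h : ∀ x : F, (π : Equiv.Perm F) x = a * x ^ (2 ^ s)) : sOf hn Eb hsemi π = s := by
  have ha : (π : Equiv.Perm F) 1 = a := by rw [h 1]; simp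
  apply frob_inj hn (sOf_lt hn Eb hsemi π) hs
  intro x
  have h1 := form hn Eb hsemi π x
  rw [h x, ha] at h1
  have ha0 : a ≠ 0 := ha ▸ one_ne hn Eb hsemi π
  exact (mul_left_cancel₀ ha0 h1).symm

theorem sOf_mul (π ρ : Eb) :
    sOf hn Eb hsemi (π * ρ) = (sOf hn Eb hsemi π + sOf hn Eb hsemi ρ) % n := by
  have hn1 := one_le_n hn
  apply sOf_unique hn Eb hsemi (π * ρ) (Nat.mod_lt _ (by omega))
    (a := (π : Equiv.Perm F) 1 * ((ρ : Equiv.Perm F) 1) ^ (2 ^ sOf hn Eb hsemi π))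
  intro x
  rw [pow_two_pow_mod hn]
  have : ((π * ρ : Eb) : Equiv.Perm F) x = (π : Equiv.Perm F) ((ρ : Equiv.Perm F) x) := by
    simp [Subgroup.coe_mul, Equiv.Perm.mul_apply]
  rw [this, form hn Eb hsemi ρ x, form hn Eb hsemi π, mul_pow, ← pow_mul, ← pow_add, mul_assoc]
  congr 2
  rw [add_comm]

theorem sOf_one : sOf hn Eb hsemi (1 : Eb) = 0 := by
  have hn1 := one_le_n hn
  apply sOf_unique hn Eb hsemi 1 (by omega) (a := 1)
  intro x
  simp

/-- the Frobenius-exponent homomorphism -/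
noncomputable def theta : Eb →* Multiplicative (ZMod n) where
  toFun π := Multiplicative.ofAdd ((sOf hn Eb hsemi π : ℕ) : ZMod n)
  map_one' := by rw [sOf_one]; simp
  map_mul' π ρ := by
    rw [sOf_mul, ← ofAdd_add]
    congr 1
    rw [ZMod.natCast_mod, Nat.cast_add]

theorem mem_ker_theta (π : Eb) : π ∈ (theta hn Eb hsemi).ker ↔ sOf hn Eb hsemi π = 0 := by
  rw [MonoidHom.mem_ker]
  simp only [theta, MonoidHom.coe_mk, OneHom.coe_mk]
  rw [← ofAdd_zero, Multiplicative.ofAdd.injective.eq_iff]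
  constructor
  · intro h
    have hlt := sOf_lt hn Eb hsemi π
    rw [ZMod.natCast_eq_zero_iff] at h
    exact Nat.eq_zero_of_dvd_of_lt h hlt
  · intro h; rw [h]; simp


theorem ker_form (π : (theta hn Eb hsemi).ker) (x : F) :
    ((π : Eb) : Equiv.Perm F) x = ((π : Eb) : Equiv.Perm F) 1 * x := by
  have h0 := (mem_ker_theta hn Eb hsemi π.1).1 π.2
  have := form hn Eb hsemi π.1 x
  rw [h0] at this
  simpa using this

/-- the scalar of an element of the kernel of `theta` -/
noncomputable def chi : (theta hn Eb hsemi).ker →* Fˣ where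
  toFun π := Units.mk0 (((π : Eb) : Equiv.Perm F) 1) (one_ne hn Eb hsemi π.1)
  map_one' := by
    apply Units.ext
    simp
  map_mul' π ρ := by
    apply Units.ext
    simp only [Units.val_mk0, Units.val_mul]
    have : (((π * ρ : (theta hn Eb hsemi).ker) : Eb) : Equiv.Perm F) 1
        = ((π : Eb) : Equiv.Perm F) (((ρ : Eb) : Equiv.Perm F) 1) := by
      simp [Subgroup.coe_mul, Equiv.Perm.mul_apply]
    rw [this, ker_form hn Eb hsemi π]

theorem chi_injective : Function.Injective (chi hn Eb hsemi) := by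
  rw [injective_iff_map_eq_one]
  intro π hπ
  have h1 : ((π : Eb) : Equiv.Perm F) 1 = 1 := by
    have := congrArg Units.val hπ
    simpa [chi] using this
  apply Subtype.ext
  apply Subtype.ext
  apply Equiv.ext
  intro x
  rw [ker_form hn Eb hsemi π x, h1, one_mul]
  simp

include hn hsemi in
theorem scalar_structure
    (htrans : ∀ x y : F, x ≠ 0 → y ≠ 0 → ∃ π ∈ Eb, π x = y) :
    ∃ (ζ : F) (m k : ℕ), ζ ≠ 0 ∧ orderOf ζ = m ∧ m * k = 2 ^ n - 1 ∧ k ∣ n ∧
      ∃ π ∈ Eb, ∀ x : F, π x = ζ * x := by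
  have hn1 := one_le_n hn
  have : NeZero n := ⟨by omega⟩
  set θ := theta hn Eb hsemi with hθ
  set χ := chi hn Eb hsemi with hχ
  -- |Eb| = |ker| * |range|
  have hc1 : Nat.card θ.ker * Nat.card θ.range = Nat.card Eb := by
    rw [← Subgroup.index_ker]; exact Subgroup.card_mul_index _
  have hd : Nat.card θ.range ∣ n := by
    have := Subgroup.card_subgroup_dvd_card θ.range
    rwa [Nat.card_congr Multiplicative.toAdd, Nat.card_zmod] at this
  -- the scalar group
  have hcC : Nat.card χ.range = Nat.card θ.ker :=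
    (Nat.card_congr (MonoidHom.ofInjective (chi_injective hn Eb hsemi)).toEquiv).symm
  have hmdvd : Nat.card χ.range ∣ 2 ^ n - 1 := by
    have := Subgroup.card_subgroup_dvd_card χ.range
    rwa [Nat.card_eq_fintype_card (α := Fˣ), Fintype.card_units, hn] at this
  obtain ⟨g, hg⟩ := IsCyclic.exists_generator (α := χ.range)
  have hog : orderOf g = Nat.card χ.range := orderOf_eq_card_of_forall_mem_zpowers hg
  obtain ⟨π0, hπ0⟩ := g.2
  obtain ⟨k, hk⟩ := hmdvd
  -- the stabiliser of 1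
  have horb : MulAction.orbit Eb (1 : F) = {x : F | x ≠ 0} := by
    ext y
    constructor
    · rintro ⟨π, rfl⟩
      show (π • (1 : F)) ≠ 0
      rw [Subgroup.smul_def, Equiv.Perm.smul_def]
      exact one_ne hn Eb hsemi π
    · intro hy
      obtain ⟨π, hπ, h1⟩ := htrans 1 y one_ne_zero hy
      refine ⟨⟨π, hπ⟩, ?_⟩
      show (⟨π, hπ⟩ : Eb) • (1 : F) = y
      rw [Subgroup.smul_def, Equiv.Perm.smul_def]; exact h1
  have hncard : ({x : F | x ≠ 0} : Set F).ncard = 2 ^ n - 1 := by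
    have : ({x : F | x ≠ 0} : Set F) = ({0} : Set F)ᶜ := by ext; simp
    rw [this, Set.ncard_compl, Set.ncard_singleton, Nat.card_eq_fintype_card, hn]
  have hc2 : Nat.card (MulAction.stabilizer Eb (1 : F)) * (2 ^ n - 1) = Nat.card Eb := by
    rw [← hncard, ← horb, ← MulAction.index_stabilizer]; exact Subgroup.card_mul_index _
  -- arithmetic
  have hmpos : 0 < Nat.card χ.range := Nat.card_pos
  have hkd : k ∣ Nat.card θ.range := by
    refine ⟨Nat.card (MulAction.stabilizer Eb (1 : F)), ?_⟩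
    have h3 : Nat.card χ.range * Nat.card θ.range
        = Nat.card χ.range * (k * Nat.card (MulAction.stabilizer Eb (1 : F))) := by
      rw [hcC, hc1, ← hc2, hk, hcC]; ring
    exact Nat.eq_of_mul_eq_mul_left hmpos h3
  refine ⟨((g : Fˣ) : F), Nat.card χ.range, k, Units.ne_zero _, ?_, hk.symm, hkd.trans hd,
    ((π0 : Eb) : Equiv.Perm F), (π0 : Eb).2, ?_⟩
  · rw [orderOf_units, Subgroup.orderOf_coe, hog]
  · intro x
    rw [ker_form hn Eb hsemi π0 x]
    have : ((g : Fˣ) : F) = ((π0 : Eb) : Equiv.Perm F) 1 := by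
      rw [← hπ0]; simp [hχ, chi]
    rw [this]

end main

/-- the same for a group `G` acting on `F` through a function `f` (the shape of the output of Huppert's
theorem S3360 after transport to the field). -/
theorem scalar_structure' {n : ℕ} (hn : Fintype.card F = 2 ^ n) {G : Type*} [Group G] (f : G → F → F)
    (hone : ∀ x : F, f 1 x = x) (hmul : ∀ (g h : G) (x : F), f (g * h) x = f g (f h x))
    (hsemi : ∀ g : G, ∃ (a : F) (s : ℕ), ∀ x : F, f g x = a * x ^ (2 ^ s))
    (htrans : ∀ x y : F, x ≠ 0 → y ≠ 0 → ∃ g : G, f g x = y) :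
    ∃ (ζ : F) (m k : ℕ), ζ ≠ 0 ∧ orderOf ζ = m ∧ m * k = 2 ^ n - 1 ∧ k ∣ n ∧
      ∃ g : G, ∀ x : F, f g x = ζ * x := by
  let act : G →* Equiv.Perm F :=
    { toFun := fun g =>
        { toFun := f g
          invFun := f g⁻¹
          left_inv := fun x => by rw [← hmul, inv_mul_cancel, hone]
          right_inv := fun x => by rw [← hmul, mul_inv_cancel, hone] }
      map_one' := by ext x; simp [hone]
      map_mul' := fun g h => by ext x; simp [hmul] }
  have hact : ∀ g x, act g x = f g x := fun g x => rfl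
  have hs : Semi act.range := by
    rintro π ⟨g, rfl⟩
    obtain ⟨a, s, h⟩ := hsemi g
    exact ⟨a, s, fun x => by rw [hact, h]⟩
  have ht : ∀ x y : F, x ≠ 0 → y ≠ 0 → ∃ π ∈ act.range, π x = y := by
    intro x y hx hy
    obtain ⟨g, hg⟩ := htrans x y hx hy
    exact ⟨act g, ⟨g, rfl⟩, by rw [hact, hg]⟩
  obtain ⟨ζ, m, k, h1, h2, h3, h4, π, ⟨g, rfl⟩, h5⟩ := scalar_structure hn act.range hs ht
  exact ⟨ζ, m, k, h1, h2, h3, h4, g, fun x => by rw [← hact, h5]⟩

end Cfsg.Agent.H15.SemiScal
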