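import Mathlib

/-!
# S3017 pieces EQUI + CS (helper15): the class-sum identity for an extremely closed abelian 2-subgroup

Pure Mathlib cores.  `H N : Subgroup G`, `N` normalises `H`; `ν : G → G` with values in `N` is the choice
`g = k ν_g` of LOC, and the output of LOC enters in the form

`hloc : ∀ g, ∀ a ∈ H, ∀ b ∈ H, Odd (orderOf (a * (g * b * g⁻¹))) ↔ a * (ν g * b * (ν g)⁻¹) = 1`,

which pins down `φ_g(b) = ν_g b ν_g⁻¹` independently of the choice.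

* `hloc_of`  : the LOC output (conjugate to `h w`, resp. odd order) gives `hloc`;
* `phi_mul`  : `φ_{g n}(b) = φ_g(n b n⁻¹)` for `n ∈ N`;
* `equi`     : `|N| ∑_g F(φ_g(b)) = |G| ∑_{n ∈ N} F(n b n⁻¹)`;
* `card_odd` : `|N| #{g | a g b g⁻¹ of odd order} = |G| #{n ∈ N | a n b n⁻¹ = 1}`;
* `cs`       : the class-sum identity CS.
-/

set_option autoImplicit false

namespace Cfsg.Agent.Lib.H15.SH

variable {G : Type*} [Group G] {H N : Subgroup G}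

/-- `φ_{g n}(b) = φ_g(n b n⁻¹)` -/
theorem phi_mul (hN : ∀ n ∈ N, ∀ h ∈ H, n * h * n⁻¹ ∈ H) (ν : G → G) (hν : ∀ g, ν g ∈ N)
    (hloc : ∀ g, ∀ a ∈ H, ∀ b ∈ H,
      Odd (orderOf (a * (g * b * g⁻¹))) ↔ a * (ν g * b * (ν g)⁻¹) = 1)
    (g : G) {n : G} (hn : n ∈ N) {b : G} (hb : b ∈ H) :
    ν (g * n) * b * (ν (g * n))⁻¹ = ν g * (n * b * n⁻¹) * (ν g)⁻¹ := by
  have hφH : ν (g * n) * b * (ν (g * n))⁻¹ ∈ H := hN _ (hν _) _ hb
  have ha : (ν (g * n) * b * (ν (g * n))⁻¹)⁻¹ ∈ H := H.inv_mem hφH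
  have h1 : Odd (orderOf ((ν (g * n) * b * (ν (g * n))⁻¹)⁻¹ * ((g * n) * b * (g * n)⁻¹))) :=
    (hloc (g * n) _ ha b hb).2 (inv_mul_cancel _)
  have h2 : (g * n) * b * (g * n)⁻¹ = g * (n * b * n⁻¹) * g⁻¹ := by group
  rw [h2] at h1
  have h3 := (hloc g _ ha (n * b * n⁻¹) (hN n hn b hb)).1 h1
  exact inv_mul_eq_one.1 h3


/-- an element conjugate to `h * w` (`h ≠ 1` a 2-element, `w` of odd order commuting with `h`) has
even order -/
theorem not_odd_orderOf_of_conj {h w x y : G} {k : ℕ} (hh : orderOf h = 2 ^ k) (hh1 : h ≠ 1)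
    (hw : Odd (orderOf w)) (hc : Commute h w) (hxy : x * y * x⁻¹ = h * w) :
    ¬ Odd (orderOf y) := by
  have h1 : orderOf (x * y * x⁻¹) = orderOf y := by
    have := orderOf_injective (MulAut.conj x).toMonoidHom (MulAut.conj x).injective y
    simpa [MulAut.conj_apply] using this
  have hk : k ≠ 0 := by
    rintro rfl
    rw [pow_zero, orderOf_eq_one_iff] at hh
    exact hh1 hh
  have hcop : Nat.Coprime (orderOf h) (orderOf w) := by
    rw [hh]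
    exact Nat.Coprime.pow_left k (Nat.coprime_two_left.2 hw)
  have h2 : orderOf (h * w) = orderOf h * orderOf w :=
    hc.orderOf_mul_eq_mul_orderOf_of_coprime hcop
  rw [← h1, hxy, h2, hh, Nat.not_odd_iff_even]
  exact Even.mul_right ((Nat.even_pow.2 ⟨even_two, hk⟩)) _

/-- the LOC output (conjugate to `h w` when `h = a φ_g(b) ≠ 1`, odd order when `h = 1`) in the
`hloc` form used below -/
theorem hloc_of (hN : ∀ n ∈ N, ∀ h ∈ H, n * h * n⁻¹ ∈ H) (ν : G → G) (hν : ∀ g, ν g ∈ N)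
    (h2 : ∀ h ∈ H, ∃ k : ℕ, orderOf h = 2 ^ k)
    (hA : ∀ g, ∀ a ∈ H, ∀ b ∈ H, a * (ν g * b * (ν g)⁻¹) ≠ 1 →
      ∃ x w, Odd (orderOf w) ∧ Commute (a * (ν g * b * (ν g)⁻¹)) w ∧
        x * (a * (g * b * g⁻¹)) * x⁻¹ = a * (ν g * b * (ν g)⁻¹) * w)
    (hB : ∀ g, ∀ a ∈ H, ∀ b ∈ H, a * (ν g * b * (ν g)⁻¹) = 1 →
      Odd (orderOf (a * (g * b * g⁻¹)))) :
    ∀ g, ∀ a ∈ H, ∀ b ∈ H,
      Odd (orderOf (a * (g * b * g⁻¹))) ↔ a * (ν g * b * (ν g)⁻¹) = 1 := by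
  intro g a ha b hb
  constructor
  · intro ho
    by_contra hne
    obtain ⟨x, w, hw, hc, hx⟩ := hA g a ha b hb hne
    obtain ⟨k, hk⟩ := h2 _ (H.mul_mem ha (hN _ (hν g) b hb))
    exact not_odd_orderOf_of_conj hk hne hw hc hx ho
  · exact hB g a ha b hb

variable [Fintype G] [Fintype ↥N]

/-- (EQUI) -/
theorem equi (hN : ∀ n ∈ N, ∀ h ∈ H, n * h * n⁻¹ ∈ H) (ν : G → G) (hν : ∀ g, ν g ∈ N)
    (hloc : ∀ g, ∀ a ∈ H, ∀ b ∈ H,
      Odd (orderOf (a * (g * b * g⁻¹))) ↔ a * (ν g * b * (ν g)⁻¹) = 1)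
    {M : Type*} [CommRing M] (F : G → M) {b : G} (hb : b ∈ H) :
    (Fintype.card ↥N : M) * ∑ g : G, F (ν g * b * (ν g)⁻¹) =
      (Fintype.card G : M) * ∑ n : ↥N, F ((n : G) * b * (n : G)⁻¹) := by
  have h1 : ∀ n : ↥N, ∑ g : G, F (ν g * b * (ν g)⁻¹) =
      ∑ g : G, F (ν g * ((n : G) * b * (n : G)⁻¹) * (ν g)⁻¹) := by
    intro n
    have e : ∑ g : G, F (ν (g * (n : G)) * b * (ν (g * (n : G)))⁻¹) =
        ∑ g : G, F (ν g * b * (ν g)⁻¹) :=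
      Fintype.sum_equiv (Equiv.mulRight (n : G)) _ _ (fun g => rfl)
    rw [← e]
    refine Finset.sum_congr rfl (fun g _ => ?_)
    rw [phi_mul hN ν hν hloc g n.2 hb]
  have h2 : ∀ g : G, ∑ n : ↥N, F (ν g * ((n : G) * b * (n : G)⁻¹) * (ν g)⁻¹) =
      ∑ n : ↥N, F ((n : G) * b * (n : G)⁻¹) := by
    intro g
    refine Fintype.sum_equiv (Equiv.mulLeft (⟨ν g, hν g⟩ : ↥N)) _ _ (fun n => ?_)
    simp only [Equiv.coe_mulLeft, Subgroup.coe_mul]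
    congr 1
    group
  calc (Fintype.card ↥N : M) * ∑ g : G, F (ν g * b * (ν g)⁻¹)
      = ∑ _n : ↥N, ∑ g : G, F (ν g * b * (ν g)⁻¹) := by
        rw [Finset.sum_const, Finset.card_univ, nsmul_eq_mul]
    _ = ∑ n : ↥N, ∑ g : G, F (ν g * ((n : G) * b * (n : G)⁻¹) * (ν g)⁻¹) :=
        Finset.sum_congr rfl (fun n _ => h1 n)
    _ = ∑ g : G, ∑ n : ↥N, F (ν g * ((n : G) * b * (n : G)⁻¹) * (ν g)⁻¹) := Finset.sum_comm
    _ = ∑ _g : G, ∑ n : ↥N, F ((n : G) * b * (n : G)⁻¹) :=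
        Finset.sum_congr rfl (fun g _ => h2 g)
    _ = (Fintype.card G : M) * ∑ n : ↥N, F ((n : G) * b * (n : G)⁻¹) := by
        rw [Finset.sum_const, Finset.card_univ, nsmul_eq_mul]

variable [DecidableEq G]

/-- `|N| · #I(a,b) = |G| · #{n ∈ N | a n b n⁻¹ = 1}`, `I(a,b) = {g | a g b g⁻¹ has odd order}` -/
theorem card_odd (hN : ∀ n ∈ N, ∀ h ∈ H, n * h * n⁻¹ ∈ H) (ν : G → G) (hν : ∀ g, ν g ∈ N)
    (hloc : ∀ g, ∀ a ∈ H, ∀ b ∈ H,
      Odd (orderOf (a * (g * b * g⁻¹))) ↔ a * (ν g * b * (ν g)⁻¹) = 1)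
    {a b : G} (ha : a ∈ H) (hb : b ∈ H) :
    Fintype.card ↥N * (Finset.univ.filter (fun g : G => Odd (orderOf (a * (g * b * g⁻¹))))).card =
      Fintype.card G *
        (Finset.univ.filter (fun n : ↥N => a * ((n : G) * b * (n : G)⁻¹) = 1)).card := by
  have h := equi (M := ℤ) hN ν hν hloc (fun x => if a * x = 1 then 1 else 0) hb
  simp only [Finset.sum_boole] at h
  have h1 : (Finset.univ.filter (fun g : G => a * (ν g * b * (ν g)⁻¹) = 1)) =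
      (Finset.univ.filter (fun g : G => Odd (orderOf (a * (g * b * g⁻¹))))) := by
    ext g
    simp only [Finset.mem_filter, Finset.mem_univ, true_and]
    exact (hloc g a ha b hb).symm
  rw [h1] at h
  exact_mod_cast h

/-- (CS) the class-sum identity.  `hsum` is the class-sum formula for the irreducible character `χ`
(`H24.irr_sum_conj_mul`), `hχ` is LOC + S0942. -/
theorem cs (hN : ∀ n ∈ N, ∀ h ∈ H, n * h * n⁻¹ ∈ H) (ν : G → G) (hν : ∀ g, ν g ∈ N)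
    (hloc : ∀ g, ∀ a ∈ H, ∀ b ∈ H,
      Odd (orderOf (a * (g * b * g⁻¹))) ↔ a * (ν g * b * (ν g)⁻¹) = 1)
    (χ : G → ℂ) {a b : G} (ha : a ∈ H) (hb : b ∈ H)
    (hsum : ∑ g : G, χ (a * (g * b * g⁻¹)) = (Fintype.card G : ℂ) * χ a * χ b / χ 1)
    (hχ : ∀ g, a * (ν g * b * (ν g)⁻¹) ≠ 1 →
      χ (a * (g * b * g⁻¹)) = χ (a * (ν g * b * (ν g)⁻¹))) :
    (Fintype.card ↥N : ℂ) * ((Fintype.card G : ℂ) * χ a * χ b / χ 1) =
      (Fintype.card G : ℂ) *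
          ∑ n : ↥N, (if a * ((n : G) * b * (n : G)⁻¹) = 1 then 0
            else χ (a * ((n : G) * b * (n : G)⁻¹)))
        + (Fintype.card ↥N : ℂ) *
          ∑ g : G, (if Odd (orderOf (a * (g * b * g⁻¹))) then χ (a * (g * b * g⁻¹)) else 0) := by
  have h := equi (M := ℂ) hN ν hν hloc (fun x => if a * x = 1 then 0 else χ (a * x)) hb
  rw [← h, ← mul_add, ← hsum, ← Finset.sum_add_distrib]
  congr 1
  refine Finset.sum_congr rfl (fun g _ => ?_)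
  by_cases hg : a * (ν g * b * (ν g)⁻¹) = 1
  · rw [if_pos hg, if_pos ((hloc g a ha b hb).2 hg), zero_add]
  · rw [if_neg hg, if_neg (fun ho => hg ((hloc g a ha b hb).1 ho)), add_zero, hχ g hg]

end Cfsg.Agent.Lib.H15.SH
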