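import Mathlib
import Cfsg.Agent.Lib.H15.SHCS

/-!
# S3017 piece CSB (helper15): the class-sum identity in CASE B (`N` transitive on `H#`)

On the cores `cs` / `card_odd` of `Lib/H15/SHCS.lean`.  `a ∈ H` an involution, `N` transitive on `H ∖ {1}`
by conjugation, `χ` constant `= d` on `H ∖ {1}`, `I = {g | a · g a g⁻¹ has odd order}`, `q = |H|`:

* `card_N_eq`  : `|N| = (q - 1) · |C_N(a)|`;
* `card_I_mul` : `(q - 1) · |I| = |G|`;
* `csB`        : `(q - 1) d² |I| = χ(1) ((q - 2) d |I| + ∑_{g ∈ I} χ(a g a g⁻¹))`;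
* `csB_avg`    : `(q - 1) d² = χ(1) ((q - 2) d + R)`, `R` the average of `χ(a g a g⁻¹)` over `I`
  (the hypothesis `hCS` of the ENDB cores).
-/

set_option autoImplicit false

namespace Cfsg.Agent.Lib.H15.SH

variable {G : Type*} [Group G] {H N : Subgroup G} [Fintype G] [Fintype ↥N] [DecidableEq G]

/-- `|N| = (|H| - 1) · |C_N(a)|` when `N` is transitive on `H ∖ {1}` -/
theorem card_N_eq (hN : ∀ n ∈ N, ∀ h ∈ H, n * h * n⁻¹ ∈ H) {a : G} (ha : a ∈ H) (ha1 : a ≠ 1)
    (htr : ∀ b ∈ H, b ≠ 1 → ∃ n ∈ N, n * a * n⁻¹ = b) :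
    Fintype.card ↥N = (Nat.card ↥H - 1) *
      (Finset.univ.filter (fun n : ↥N => (n : G) * a * (n : G)⁻¹ = a)).card := by
  classical
  set T : Finset G := Finset.univ.filter (fun b : G => b ∈ H ∧ b ≠ 1) with hT
  have hmaps : ∀ n ∈ (Finset.univ : Finset ↥N), (n : G) * a * (n : G)⁻¹ ∈ T := by
    intro n _
    simp only [hT, Finset.mem_filter, Finset.mem_univ, true_and]
    refine ⟨hN n n.2 a ha, ?_⟩
    intro h
    apply ha1
    have h2 : a = (n : G)⁻¹ * ((n : G) * a * (n : G)⁻¹) * (n : G) := by group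
    rw [h2, h]
    group
  rw [← Finset.card_univ, Finset.card_eq_sum_card_fiberwise hmaps]
  have hfib : ∀ b ∈ T, (Finset.univ.filter (fun n : ↥N => (n : G) * a * (n : G)⁻¹ = b)).card =
      (Finset.univ.filter (fun n : ↥N => (n : G) * a * (n : G)⁻¹ = a)).card := by
    intro b hb
    simp only [hT, Finset.mem_filter, Finset.mem_univ, true_and] at hb
    obtain ⟨n0, hn0, hn0b⟩ := htr b hb.1 hb.2
    refine Finset.card_bij (fun n _ => (⟨n0, hn0⟩ : ↥N)⁻¹ * n) ?_ ?_ ?_
    · intro n hn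
      simp only [Finset.mem_filter, Finset.mem_univ, true_and] at hn ⊢
      simp only [Subgroup.coe_mul, Subgroup.coe_inv]
      calc n0⁻¹ * (n : G) * a * (n0⁻¹ * (n : G))⁻¹ = n0⁻¹ * ((n : G) * a * (n : G)⁻¹) * n0 := by
            group
        _ = n0⁻¹ * b * n0 := by rw [hn]
        _ = a := by rw [← hn0b]; group
    · intro n1 _ n2 _ h
      exact mul_left_cancel h
    · intro m hm
      simp only [Finset.mem_filter, Finset.mem_univ, true_and] at hm
      refine ⟨(⟨n0, hn0⟩ : ↥N) * m, ?_, by simp⟩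
      simp only [Finset.mem_filter, Finset.mem_univ, true_and, Subgroup.coe_mul]
      calc n0 * (m : G) * a * (n0 * (m : G))⁻¹ = n0 * ((m : G) * a * (m : G)⁻¹) * n0⁻¹ := by group
        _ = n0 * a * n0⁻¹ := by rw [hm]
        _ = b := hn0b
  rw [Finset.sum_congr rfl hfib, Finset.sum_const, smul_eq_mul]
  congr 1
  -- `T.card = |H| - 1`
  have h1 : T = (Finset.univ.filter (fun b : G => b ∈ H)).erase 1 := by
    ext b
    simp only [hT, Finset.mem_filter, Finset.mem_univ, true_and, Finset.mem_erase]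
    tauto
  have h2 : Nat.card ↥H = (Finset.univ.filter (fun b : G => b ∈ H)).card := by
    rw [Nat.card_eq_fintype_card]
    exact Fintype.card_of_subtype _ (fun x => by simp)
  rw [h1, Finset.card_erase_of_mem (by simp [H.one_mem]), h2]

variable (hN : ∀ n ∈ N, ∀ h ∈ H, n * h * n⁻¹ ∈ H) (ν : G → G) (hν : ∀ g, ν g ∈ N)
  (hloc : ∀ g, ∀ a ∈ H, ∀ b ∈ H,
    Odd (orderOf (a * (g * b * g⁻¹))) ↔ a * (ν g * b * (ν g)⁻¹) = 1)

include hN hν hloc in
/-- `(|H| - 1) · |I| = |G|` -/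
theorem card_I_mul {a : G} (ha : a ∈ H) (ha1 : a ≠ 1) (haa : a * a = 1)
    (htr : ∀ b ∈ H, b ≠ 1 → ∃ n ∈ N, n * a * n⁻¹ = b) :
    (Nat.card ↥H - 1) *
      (Finset.univ.filter (fun g : G => Odd (orderOf (a * (g * a * g⁻¹))))).card =
      Fintype.card G := by
  have h1 := card_odd hN ν hν hloc ha ha
  have h2 := card_N_eq hN ha ha1 htr
  have h3 : (Finset.univ.filter (fun n : ↥N => a * ((n : G) * a * (n : G)⁻¹) = 1)) =
      (Finset.univ.filter (fun n : ↥N => (n : G) * a * (n : G)⁻¹ = a)) := by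
    ext n
    simp only [Finset.mem_filter, Finset.mem_univ, true_and]
    constructor
    · intro h
      have h4 : (n : G) * a * (n : G)⁻¹ = a⁻¹ := eq_inv_of_mul_eq_one_right h
      rw [h4]
      exact inv_eq_of_mul_eq_one_right haa
    · intro h
      rw [h, haa]
  rw [h3, h2] at h1
  have hc : 0 < (Finset.univ.filter (fun n : ↥N => (n : G) * a * (n : G)⁻¹ = a)).card := by
    apply Finset.card_pos.2
    exact ⟨1, by simp⟩
  have h5 : (Finset.univ.filter (fun n : ↥N => (n : G) * a * (n : G)⁻¹ = a)).card *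
      ((Nat.card ↥H - 1) *
        (Finset.univ.filter (fun g : G => Odd (orderOf (a * (g * a * g⁻¹))))).card) =
      (Finset.univ.filter (fun n : ↥N => (n : G) * a * (n : G)⁻¹ = a)).card * Fintype.card G := by
    calc (Finset.univ.filter (fun n : ↥N => (n : G) * a * (n : G)⁻¹ = a)).card *
        ((Nat.card ↥H - 1) *
          (Finset.univ.filter (fun g : G => Odd (orderOf (a * (g * a * g⁻¹))))).card)
        = (Nat.card ↥H - 1) *
            (Finset.univ.filter (fun n : ↥N => (n : G) * a * (n : G)⁻¹ = a)).card *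
          (Finset.univ.filter (fun g : G => Odd (orderOf (a * (g * a * g⁻¹))))).card := by ring
      _ = Fintype.card G *
            (Finset.univ.filter (fun n : ↥N => (n : G) * a * (n : G)⁻¹ = a)).card := h1
      _ = _ := by ring
  exact Nat.eq_of_mul_eq_mul_left hc h5

include hN hν hloc in
/-- (CSB) the class-sum identity in CASE B, cleared of denominators -/
theorem csB (χ : G → ℂ) {a : G} (ha : a ∈ H) (ha1 : a ≠ 1) (haa : a * a = 1)
    (htr : ∀ b ∈ H, b ≠ 1 → ∃ n ∈ N, n * a * n⁻¹ = b)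
    (hsum : ∑ g : G, χ (a * (g * a * g⁻¹)) = (Fintype.card G : ℂ) * χ a * χ a / χ 1)
    (hχ : ∀ g, a * (ν g * a * (ν g)⁻¹) ≠ 1 →
      χ (a * (g * a * g⁻¹)) = χ (a * (ν g * a * (ν g)⁻¹)))
    {d : ℂ} (hd : ∀ b ∈ H, b ≠ 1 → χ b = d) (hf : χ 1 ≠ 0) :
    ((Nat.card ↥H : ℂ) - 1) * d ^ 2 *
        ((Finset.univ.filter (fun g : G => Odd (orderOf (a * (g * a * g⁻¹))))).card : ℂ) =
      χ 1 * (((Nat.card ↥H : ℂ) - 2) * d *
          ((Finset.univ.filter (fun g : G => Odd (orderOf (a * (g * a * g⁻¹))))).card : ℂ) +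
        ∑ g ∈ Finset.univ.filter (fun g : G => Odd (orderOf (a * (g * a * g⁻¹)))),
          χ (a * (g * a * g⁻¹))) := by
  have hcs := cs hN ν hν hloc χ ha ha hsum hχ
  have hI := card_I_mul hN ν hν hloc ha ha1 haa htr
  have hNc := card_N_eq hN ha ha1 htr
  set I := Finset.univ.filter (fun g : G => Odd (orderOf (a * (g * a * g⁻¹)))) with hIdef
  set C := Finset.univ.filter (fun n : ↥N => (n : G) * a * (n : G)⁻¹ = a) with hCdef
  have hq1 : 1 ≤ Nat.card ↥H := Nat.card_pos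
  -- the `n`-sum
  have hsumN : ∑ n : ↥N, (if a * ((n : G) * a * (n : G)⁻¹) = 1 then (0 : ℂ)
      else χ (a * ((n : G) * a * (n : G)⁻¹))) = d * ((Fintype.card ↥N : ℂ) - (C.card : ℂ)) := by
    have h1 : ∀ n : ↥N, (if a * ((n : G) * a * (n : G)⁻¹) = 1 then (0 : ℂ)
        else χ (a * ((n : G) * a * (n : G)⁻¹))) =
        d - (if (n : G) * a * (n : G)⁻¹ = a then d else 0) := by
      intro n
      by_cases h : a * ((n : G) * a * (n : G)⁻¹) = 1
      · have h4 : (n : G) * a * (n : G)⁻¹ = a := by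
          rw [eq_inv_of_mul_eq_one_right h]
          exact inv_eq_of_mul_eq_one_right haa
        rw [if_pos h, if_pos h4, sub_self]
      · have h4 : ¬ (n : G) * a * (n : G)⁻¹ = a := by
          intro h5
          apply h
          rw [h5, haa]
        rw [if_neg h, if_neg h4, sub_zero]
        exact hd _ (H.mul_mem ha (hN n n.2 a ha)) h
    rw [Finset.sum_congr rfl (fun n _ => h1 n), Finset.sum_sub_distrib, Finset.sum_const,
      Finset.card_univ, nsmul_eq_mul, ← Finset.sum_filter, Finset.sum_const, nsmul_eq_mul]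
    ring
  have hsumG : ∑ g : G, (if Odd (orderOf (a * (g * a * g⁻¹))) then χ (a * (g * a * g⁻¹)) else 0) =
      ∑ g ∈ I, χ (a * (g * a * g⁻¹)) := by
    rw [hIdef, Finset.sum_filter]
  rw [hsumN, hsumG, hd a ha ha1] at hcs
  have hNc' : (Fintype.card ↥N : ℂ) = ((Nat.card ↥H : ℂ) - 1) * (C.card : ℂ) := by
    rw [hNc]
    push_cast [Nat.cast_sub hq1]
    ring
  have hI' : (Fintype.card G : ℂ) = ((Nat.card ↥H : ℂ) - 1) * (I.card : ℂ) := by
    rw [← hI]
    push_cast [Nat.cast_sub hq1]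
    ring
  have hc0 : (C.card : ℂ) ≠ 0 := by
    have : 0 < C.card := Finset.card_pos.2 ⟨1, by simp [hCdef]⟩
    exact_mod_cast this.ne'
  have hq0 : ((Nat.card ↥H : ℂ) - 1) ≠ 0 := by
    intro h0
    have hG0 : (Fintype.card G : ℂ) = 0 := by rw [hI', h0, zero_mul]
    have : Fintype.card G ≠ 0 := Fintype.card_ne_zero
    exact this (by exact_mod_cast hG0)
  rw [hNc', hI'] at hcs
  field_simp at hcs
  linear_combination hcs

include hN hν hloc in
/-- (CSB) in the averaged form `hCS` of the ENDB cores: `(q - 1) d² = χ(1) ((q - 2) d + R)` -/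
theorem csB_avg (χ : G → ℂ) {a : G} (ha : a ∈ H) (ha1 : a ≠ 1) (haa : a * a = 1)
    (htr : ∀ b ∈ H, b ≠ 1 → ∃ n ∈ N, n * a * n⁻¹ = b)
    (hsum : ∑ g : G, χ (a * (g * a * g⁻¹)) = (Fintype.card G : ℂ) * χ a * χ a / χ 1)
    (hχ : ∀ g, a * (ν g * a * (ν g)⁻¹) ≠ 1 →
      χ (a * (g * a * g⁻¹)) = χ (a * (ν g * a * (ν g)⁻¹)))
    {d : ℂ} (hd : ∀ b ∈ H, b ≠ 1 → χ b = d) (hf : χ 1 ≠ 0) :
    ((Nat.card ↥H : ℂ) - 1) * d ^ 2 =
      χ 1 * (((Nat.card ↥H : ℂ) - 2) * d +
        (∑ g ∈ Finset.univ.filter (fun g : G => Odd (orderOf (a * (g * a * g⁻¹)))),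
          χ (a * (g * a * g⁻¹))) /
        ((Finset.univ.filter (fun g : G => Odd (orderOf (a * (g * a * g⁻¹))))).card : ℂ)) := by
  have h1 := csB hN ν hν hloc χ ha ha1 haa htr hsum hχ hd hf
  have hI := card_I_mul hN ν hν hloc ha ha1 haa htr
  have hI0 : ((Finset.univ.filter (fun g : G => Odd (orderOf (a * (g * a * g⁻¹))))).card : ℂ) ≠ 0 := by
    intro h0
    have h2 : (Finset.univ.filter (fun g : G => Odd (orderOf (a * (g * a * g⁻¹))))).card = 0 := by
      exact_mod_cast h0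
    rw [h2, mul_zero] at hI
    exact Fintype.card_ne_zero hI.symm
  field_simp
  linear_combination h1

end Cfsg.Agent.Lib.H15.SH
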