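import Cfsg.Agent.Lib.Lead.AschDefs2
import Cfsg.Agent.Lib.H28.GLBasic

/-!
# Phase 2 of the Aschbacher project, task P2-E7: `GL_2(2) ⊗ GL_k(2)` normalises a field `F_4`
-/

set_option autoImplicit false
set_option linter.unusedSimpArgs false
set_option linter.unusedSectionVars false
set_option linter.unusedVariables false

namespace Cfsg.Agent.Lib.H15.AschP2

open Cfsg Cfsg.Geo
open scoped MatrixGroups Matrix Kronecker

variable {F : Type*} [Field F] {n : ℕ}

/-- the generator of `F_4` -/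
def om (F : Type*) [Field F] : Matrix (Fin 2) (Fin 2) F := !![0, 1; 1, 1]

theorem two_eq_zero_of_card [Fintype F] (hq : Fintype.card F = 2) : (2 : F) = 0 := by
  have := Nat.cast_card_eq_zero F
  rw [hq] at this
  exact_mod_cast this

theorem eq_zero_or_one_of_card [Fintype F] (hq : Fintype.card F = 2) (x : F) : x = 0 ∨ x = 1 := by
  classical
  have h : ({0, 1} : Finset F) = Finset.univ := by
    apply Finset.eq_univ_of_card
    rw [Finset.card_pair zero_ne_one, hq]
  have := Finset.mem_univ x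
  rw [← h] at this
  simpa using this

theorem om_sq : om F * om F = om F + 1 := by
  ext i j
  fin_cases i <;> fin_cases j <;> simp [om, Matrix.mul_apply, Fin.sum_univ_two]

/-- the subalgebra `F[ω]` of the `2 × 2` matrices -/
def K0 (F : Type*) [Field F] : Subalgebra F (Matrix (Fin 2) (Fin 2) F) where
  carrier := {x | ∃ α β : F, x = α • (1 : Matrix (Fin 2) (Fin 2) F) + β • om F}
  mul_mem' := by
    rintro _ _ ⟨α, β, rfl⟩ ⟨α', β', rfl⟩
    refine ⟨α * α' + β * β', α * β' + β * α' + β * β', ?_⟩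
    have e : (α • (1 : Matrix (Fin 2) (Fin 2) F) + β • om F) * (α' • 1 + β' • om F) =
        (α * α') • 1 + (α * β' + β * α') • om F + (β * β') • (om F * om F) := by
      simp only [add_mul, mul_add, smul_mul_assoc, mul_smul_comm, one_mul, mul_one]
      module
    rw [e, om_sq]
    module
  one_mem' := ⟨1, 0, by simp⟩
  add_mem' := by
    rintro _ _ ⟨α, β, rfl⟩ ⟨α', β', rfl⟩
    exact ⟨α + α', β + β', by module⟩
  zero_mem' := ⟨0, 0, by simp⟩
  algebraMap_mem' := by
    intro r
    refine ⟨r, 0, ?_⟩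
    rw [zero_smul, add_zero, Algebra.algebraMap_eq_smul_one]

theorem mem_K0 (x : Matrix (Fin 2) (Fin 2) F) :
    x ∈ K0 F ↔ ∃ α β : F, x = α • (1 : Matrix (Fin 2) (Fin 2) F) + β • om F := Iff.rfl

theorem K0_comm {x y : Matrix (Fin 2) (Fin 2) F} (hx : x ∈ K0 F)
    (hy : y ∈ K0 F) : x * y = y * x := by
  obtain ⟨α, β, rfl⟩ := hx
  obtain ⟨α', β', rfl⟩ := hy
  simp only [add_mul, mul_add, smul_mul_assoc, mul_smul_comm, one_mul, mul_one]
  module

/-- a matrix with `y² = y + 1` over the field with two elements lies in `F[ω]` -/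
theorem mem_K0_of_sq [Fintype F] (hq : Fintype.card F = 2) (h2 : (2 : F) = 0) (y : Matrix (Fin 2) (Fin 2) F)
    (hy : y * y = y + 1) : y ∈ K0 F := by
  have h00 := congrFun (congrFun hy 0) 0
  have h01 := congrFun (congrFun hy 0) 1
  have h10 := congrFun (congrFun hy 1) 0
  have h11 := congrFun (congrFun hy 1) 1
  simp only [Matrix.mul_apply, Fin.sum_univ_two, Matrix.add_apply, Matrix.one_apply_eq,
    Matrix.one_apply_ne (show (0 : Fin 2) ≠ 1 by decide),
    Matrix.one_apply_ne (show (1 : Fin 2) ≠ 0 by decide), add_zero] at h00 h01 h10 h11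
  refine ⟨y 0 0, 1, ?_⟩
  have hp := eq_zero_or_one_of_card hq (y 0 0)
  have hq' := eq_zero_or_one_of_card hq (y 0 1)
  have hr := eq_zero_or_one_of_card hq (y 1 0)
  have hs := eq_zero_or_one_of_card hq (y 1 1)
  have h1 : (1 : F) + 1 = 0 := by rw [← h2]; norm_num
  ext i j
  fin_cases i <;> fin_cases j <;>
    simp only [om, Matrix.add_apply, Matrix.smul_apply, Matrix.one_apply_eq, smul_eq_mul,
      Matrix.of_apply, Matrix.cons_val', Matrix.cons_val_zero, Matrix.cons_val_one,
      Matrix.empty_val', Matrix.cons_val_fin_one, mul_one, mul_zero, add_zero, Fin.zero_eta,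
      Fin.mk_one, Matrix.one_apply_ne (show (0 : Fin 2) ≠ 1 by decide),
      Matrix.one_apply_ne (show (1 : Fin 2) ≠ 0 by decide), zero_add, Fin.isValue,
      Matrix.head_cons, Matrix.head_fin_const] <;>
    rcases hp with hp | hp <;> rcases hq' with hq' | hq' <;> rcases hr with hr | hr <;>
    rcases hs with hs | hs <;> simp only [hp, hq', hr, hs] at h00 h01 h10 h11 ⊢ <;>
    simp_all

/-- inverses in `F[ω]` -/
theorem K0_inv [Fintype F] (hq : Fintype.card F = 2) (h2 : (2 : F) = 0) {x : Matrix (Fin 2) (Fin 2) F}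
    (hx : x ∈ K0 F) (hx0 : x ≠ 0) : ∃ y ∈ K0 F, x * y = 1 := by
  obtain ⟨α, β, rfl⟩ := hx
  have h1 : (1 : F) + 1 = 0 := by rw [← h2]; norm_num
  have hω : om F * om F + om F = 1 := by
    rw [om_sq]
    have : om F + 1 + om F = (2 : F) • om F + 1 := by module
    rw [this, h2, zero_smul, zero_add]
  rcases eq_zero_or_one_of_card hq α with rfl | rfl <;>
    rcases eq_zero_or_one_of_card hq β with rfl | rfl
  · exact absurd (by simp) hx0
  · refine ⟨om F + 1, ⟨1, 1, by module⟩, ?_⟩
    rw [zero_smul, zero_add, one_smul, mul_add, mul_one]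
    exact hω
  · exact ⟨1, (K0 F).one_mem, by simp⟩
  · refine ⟨om F, ⟨0, 1, by module⟩, ?_⟩
    rw [one_smul, one_smul, add_mul, one_mul, add_comm]
    exact hω

section emb

variable {n₂ : ℕ} (e : Fin n ≃ Fin 2 × Fin n₂) (P : GL (Fin n) F)

/-- conjugation by `P` after reindexing, as an algebra homomorphism -/
noncomputable def Phi : Matrix (Fin 2 × Fin n₂) (Fin 2 × Fin n₂) F →ₐ[F] Matrix (Fin n) (Fin n) F :=
  AlgHom.ofLinearMap
    ((LinearMap.mulLeft F (P : Matrix (Fin n) (Fin n) F)).comp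
      ((LinearMap.mulRight F ((P⁻¹ : GL (Fin n) F) : Matrix (Fin n) (Fin n) F)).comp
        (Matrix.reindexAlgEquiv F F e.symm).toLinearMap))
    (by simp)
    (by
      intro x y
      simp only [LinearMap.comp_apply, LinearMap.mulLeft_apply, LinearMap.mulRight_apply,
        AlgEquiv.toLinearMap_apply, map_mul]
      have hPP : ((P⁻¹ : GL (Fin n) F) : Matrix (Fin n) (Fin n) F) * (P : Matrix (Fin n) (Fin n) F) = 1 := by
        simp
      generalize Matrix.reindexAlgEquiv F F e.symm x = X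
      generalize Matrix.reindexAlgEquiv F F e.symm y = Y
      calc (P : Matrix (Fin n) (Fin n) F) * (X * Y * ((P⁻¹ : GL (Fin n) F) : Matrix (Fin n) (Fin n) F))
          = (P : Matrix (Fin n) (Fin n) F) * X * 1 * Y * ((P⁻¹ : GL (Fin n) F) : Matrix (Fin n) (Fin n) F) := by
            simp only [mul_one, mul_assoc]
        _ = _ := by rw [← hPP]; simp only [mul_assoc])

theorem Phi_apply (X : Matrix (Fin 2 × Fin n₂) (Fin 2 × Fin n₂) F) :
    Phi e P X = (P : Matrix (Fin n) (Fin n) F) *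
      (Matrix.reindexAlgEquiv F F e.symm X * ((P⁻¹ : GL (Fin n) F) : Matrix (Fin n) (Fin n) F)) := rfl

theorem Phi_injective : Function.Injective (Phi e P) := by
  intro X Y h
  rw [Phi_apply, Phi_apply] at h
  have h1 := congrArg (fun Z => ((P⁻¹ : GL (Fin n) F) : Matrix (Fin n) (Fin n) F) * Z *
    (P : Matrix (Fin n) (Fin n) F)) h
  simp only [← mul_assoc] at h1
  simp only [Units.inv_mul, one_mul] at h1
  simp only [mul_assoc, Units.inv_mul, mul_one] at h1
  exact (Matrix.reindexAlgEquiv F F e.symm).injective h1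

/-- `x ↦ x ⊗ 1` as an algebra homomorphism -/
noncomputable def kron1 (n₂ : ℕ) :
    Matrix (Fin 2) (Fin 2) F →ₐ[F] Matrix (Fin 2 × Fin n₂) (Fin 2 × Fin n₂) F :=
  AlgHom.ofLinearMap
    { toFun := fun x => x ⊗ₖ (1 : Matrix (Fin n₂) (Fin n₂) F)
      map_add' := fun x y => Matrix.add_kronecker x y 1
      map_smul' := fun c x => Matrix.smul_kronecker c x 1 }
    (by
      show (1 : Matrix (Fin 2) (Fin 2) F) ⊗ₖ (1 : Matrix (Fin n₂) (Fin n₂) F) = 1
      exact Matrix.one_kronecker_one)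
    (by
      intro x y
      show (x * y) ⊗ₖ (1 : Matrix (Fin n₂) (Fin n₂) F) = (x ⊗ₖ 1) * (y ⊗ₖ 1)
      rw [← Matrix.mul_kronecker_mul, mul_one])

theorem kron1_apply (x : Matrix (Fin 2) (Fin 2) F) :
    kron1 n₂ x = x ⊗ₖ (1 : Matrix (Fin n₂) (Fin n₂) F) := rfl

theorem kron1_injective (k₀ : Fin n₂) : Function.Injective (kron1 (F := F) n₂) := by
  intro x y h
  ext i j
  have := congrFun (congrFun h (i, k₀)) (j, k₀)
  simpa [kron1_apply, Matrix.kroneckerMap_apply] using this

/-- the embedding `x ↦ P (x ⊗ 1) P⁻¹` -/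
noncomputable def Psi : Matrix (Fin 2) (Fin 2) F →ₐ[F] Matrix (Fin n) (Fin n) F :=
  (Phi e P).comp (kron1 n₂)

theorem Psi_apply (x : Matrix (Fin 2) (Fin 2) F) :
    Psi e P x = Phi e P (x ⊗ₖ (1 : Matrix (Fin n₂) (Fin n₂) F)) := rfl

/-- the field `K` -/
noncomputable def KK : Subalgebra F (Matrix (Fin n) (Fin n) F) := (K0 F).map (Psi e P)

theorem KK_isField [Fintype F] (hq : Fintype.card F = 2) (hn : 0 < n) : IsFieldSubalgebra 2 (KK e P) := by
  have h2 := two_eq_zero_of_card hq
  have k₀ : Fin n₂ := (e ⟨0, hn⟩).2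
  have hinj : Function.Injective (Psi e P) := (Phi_injective e P).comp (kron1_injective k₀)
  refine ⟨?_, ?_, ?_⟩
  · intro x' hx' y' hy'
    obtain ⟨x, hx, rfl⟩ := Subalgebra.mem_map.1 hx'
    obtain ⟨y, hy, rfl⟩ := Subalgebra.mem_map.1 hy'
    rw [← map_mul, ← map_mul, K0_comm hx hy]
  · intro x' hx' hx0
    obtain ⟨x, hx, rfl⟩ := Subalgebra.mem_map.1 hx'
    have hx0' : x ≠ 0 := by
      rintro rfl
      exact hx0 (map_zero _)
    obtain ⟨y, hy, hxy⟩ := K0_inv hq h2 hx hx0'
    exact ⟨Psi e P y, Subalgebra.mem_map.2 ⟨y, hy, rfl⟩, by rw [← map_mul, hxy, map_one]⟩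
  · -- the dimension
    let L : (F × F) →ₗ[F] Matrix (Fin n) (Fin n) F :=
      (Psi e P).toLinearMap.comp
        ((LinearMap.fst F F F).smulRight (1 : Matrix (Fin 2) (Fin 2) F) +
          (LinearMap.snd F F F).smulRight (om F))
    have hL : ∀ p : F × F, L p = Psi e P (p.1 • (1 : Matrix (Fin 2) (Fin 2) F) + p.2 • om F) := by
      intro p; rfl
    have hLinj : Function.Injective L := by
      intro p p' h
      rw [hL, hL] at h
      have h1 := hinj h
      have h00 := congrFun (congrFun h1 0) 0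
      have h01 := congrFun (congrFun h1 0) 1
      simp [om] at h00 h01
      exact Prod.ext h00 h01
    have hrange : LinearMap.range L = Subalgebra.toSubmodule (KK e P) := by
      ext z
      constructor
      · rintro ⟨p, rfl⟩
        rw [hL]
        exact Subalgebra.mem_map.2 ⟨_, ⟨p.1, p.2, rfl⟩, rfl⟩
      · intro hz
        obtain ⟨x, ⟨α, β, rfl⟩, rfl⟩ := Subalgebra.mem_map.1 hz
        exact ⟨(α, β), hL _⟩
    have h3 := LinearMap.finrank_range_of_inj hLinj
    rw [hrange] at h3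
    have h4 : Module.finrank F (KK e P) = Module.finrank F (Subalgebra.toSubmodule (KK e P)) := rfl
    rw [h4, h3, Module.finrank_prod, Module.finrank_self]

/-- conjugation by an element of the tensor product subgroup preserves `K` -/
theorem conj_mem_KK [Fintype F] (hq : Fintype.card F = 2) {g : GL (Fin n) F}
    (hg : g ∈ tensorProductSubgroup 2 n₂ e P) {k : Matrix (Fin n) (Fin n) F} (hk : k ∈ KK e P) :
    (g : Matrix (Fin n) (Fin n) F) * k * ((g⁻¹ : GL (Fin n) F) : Matrix (Fin n) (Fin n) F) ∈ KK e P := by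
  have h2 := two_eq_zero_of_card hq
  obtain ⟨g', ⟨κ, ⟨a, b, hκ⟩, rfl⟩, rfl⟩ := hg
  obtain ⟨x, hx, rfl⟩ := Subalgebra.mem_map.1 hk
  have hgval : (((MulAut.conj P).toMonoidHom ((glReindex e.symm).toMonoidHom κ) : GL (Fin n) F) :
      Matrix (Fin n) (Fin n) F) = Phi e P (κ : Matrix (Fin 2 × Fin n₂) (Fin 2 × Fin n₂) F) := by
    rw [Phi_apply]
    show (P : Matrix (Fin n) (Fin n) F) * _ * _ = _
    rw [mul_assoc]
    rfl
  set g := (MulAut.conj P).toMonoidHom ((glReindex e.symm).toMonoidHom κ) with hgdef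
  set A : Matrix (Fin 2) (Fin 2) F := (a : Matrix (Fin 2) (Fin 2) F) with hA
  set Ai : Matrix (Fin 2) (Fin 2) F := ((a⁻¹ : GL (Fin 2) F) : Matrix (Fin 2) (Fin 2) F) with hAi
  have hAAi : A * Ai = 1 := by rw [hA, hAi, ← Units.val_mul, mul_inv_cancel, Units.val_one]
  have hAiA : Ai * A = 1 := by rw [hA, hAi, ← Units.val_mul, inv_mul_cancel, Units.val_one]
  -- the conjugate in `F[ω]`
  have hy : A * x * Ai ∈ K0 F := by
    obtain ⟨α, β, rfl⟩ := hx
    have hω : A * om F * Ai ∈ K0 F := by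
      apply mem_K0_of_sq hq h2
      calc A * om F * Ai * (A * om F * Ai) = A * om F * (Ai * A) * om F * Ai := by
            simp only [mul_assoc]
        _ = A * (om F * om F) * Ai := by rw [hAiA]; simp only [mul_one, mul_assoc]
        _ = A * om F * Ai + 1 := by rw [om_sq, mul_add, add_mul, mul_one, hAAi]
    have e1 : A * (α • (1 : Matrix (Fin 2) (Fin 2) F) + β • om F) * Ai =
        α • (1 : Matrix (Fin 2) (Fin 2) F) + β • (A * om F * Ai) := by
      simp only [mul_add, add_mul, mul_smul_comm, smul_mul_assoc, mul_one, hAAi]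
    rw [e1]
    exact (K0 F).add_mem ((K0 F).smul_mem (K0 F).one_mem α) ((K0 F).smul_mem hω β)
  have hcomm : (g : Matrix (Fin n) (Fin n) F) * Psi e P x = Psi e P (A * x * Ai) *
      (g : Matrix (Fin n) (Fin n) F) := by
    rw [hgval, Psi_apply, Psi_apply, ← map_mul, ← map_mul, hκ, ← Matrix.mul_kronecker_mul,
      ← Matrix.mul_kronecker_mul, mul_one, one_mul]
    congr 2
    rw [mul_assoc, mul_assoc, hAiA, mul_one]
  rw [hcomm, mul_assoc, ← Units.val_mul, mul_inv_cancel, Units.val_one, mul_one]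
  exact Subalgebra.mem_map.2 ⟨_, hy, rfl⟩

end emb

/-- **P2-E7** (with the extra hypothesis `0 < n`; the statement is false for `n = 0`) -/
theorem c4_two_q2 [Fintype F] (n₂ : ℕ) (e : Fin n ≃ Fin 2 × Fin n₂) (P : GL (Fin n) F)
    (hq : Fintype.card F = 2) (hn : 0 < n) :
    ∃ K : Subalgebra F (Matrix (Fin n) (Fin n) F), IsFieldSubalgebra 2 K ∧
      tensorProductSubgroup 2 n₂ e P ≤ subalgebraNormalizer K := by
  refine ⟨KK e P, KK_isField e P hq hn, ?_⟩
  intro g hg k
  constructor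
  · intro hk
    exact conj_mem_KK e P hq hg hk
  · intro hk
    have := conj_mem_KK e P hq ((tensorProductSubgroup 2 n₂ e P).inv_mem hg) hk
    rw [inv_inv] at this
    have e1 : ((g⁻¹ : GL (Fin n) F) : Matrix (Fin n) (Fin n) F) *
        ((g : Matrix (Fin n) (Fin n) F) * k * ((g⁻¹ : GL (Fin n) F) : Matrix (Fin n) (Fin n) F)) *
        (g : Matrix (Fin n) (Fin n) F) = k := by
      simp only [← mul_assoc]
      simp only [Units.inv_mul, one_mul]
      simp only [mul_assoc, Units.inv_mul, mul_one]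
    rwa [e1] at this

end Cfsg.Agent.Lib.H15.AschP2
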