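import Mathlib
import Cfsg.Agent.Lib.H3.DF0
import Cfsg.Agent.Lib.H16.WielandtFormula

/-!
S4316 piece **D9** (helper15): Wielandt's order formula for `X` and `Y ≤ X`, both normalized by a plane `B`
(`IsEpp q B`), `q ∤ |X|`: if `|C_X(b)| ≤ n |C_Y(b)|` for all `b ∈ B`, `b ≠ 1`, then `|X| ≤ n ^ (q+1) |Y|`.
Exact signature of `tools/blueprints/S4316_sigs.lean`.
-/

set_option autoImplicit false

universe u

namespace Cfsg.Agent.Lib.H15.DF

open Subgroup Cfsg.Agent.Lib.H3.DF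
open scoped commutatorElement

variable {Γ : Type u} [Group Γ] [Finite Γ]

/-- D9. -/
theorem card_le_of_centralizer_ratio {q : ℕ} [Fact q.Prime] {B X Y : Subgroup Γ}
    (hB : Cfsg.Agent.Lib.H16.IsEpp q B) (hYX : Y ≤ X) (hX : ¬ q ∣ Nat.card X)
    (hBX : B ≤ normalizer (X : Set Γ)) (hBY : B ≤ normalizer (Y : Set Γ)) (n : ℕ)
    (hn : ∀ b ∈ B, b ≠ 1 →
      Nat.card ↥(X ⊓ centralizer {b}) ≤ n * Nat.card ↥(Y ⊓ centralizer {b})) :
    Nat.card X ≤ n ^ (q + 1) * Nat.card Y := by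
  have hq : q.Prime := Fact.out
  have hq2 : 2 ≤ q := hq.two_le
  have hY : ¬ q ∣ Nat.card Y := fun h => hX (h.trans (Subgroup.card_dvd_of_le hYX))
  have hWX := Cfsg.Agent.Lib.H16.wielandt_formula hB X hX hBX
  have hWY := Cfsg.Agent.Lib.H16.wielandt_formula hB Y hY hBY
  have hcard : (Cfsg.Agent.Lib.H16.nz B).card = q ^ 2 - 1 := by
    rw [Cfsg.Agent.Lib.H16.card_nz, hB.card]
  -- `C_Y(B) ≤ C_X(B)`
  have hle : Nat.card (Y ⊓ centralizer (B : Set Γ) : Subgroup Γ) ≤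
      Nat.card (X ⊓ centralizer (B : Set Γ) : Subgroup Γ) :=
    Subgroup.card_le_of_le (inf_le_inf_right _ hYX)
  have hposY : 0 < Nat.card (Y ⊓ centralizer (B : Set Γ) : Subgroup Γ) := Nat.card_pos
  set cY := Nat.card (Y ⊓ centralizer (B : Set Γ) : Subgroup Γ) with hcY
  set cX := Nat.card (X ⊓ centralizer (B : Set Γ) : Subgroup Γ) with hcX
  -- the product bound
  have hprod : ∏ a ∈ Cfsg.Agent.Lib.H16.nz B, Nat.card (X ⊓ centralizer {a} : Subgroup Γ) ≤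
      n ^ (q ^ 2 - 1) * ∏ a ∈ Cfsg.Agent.Lib.H16.nz B, Nat.card (Y ⊓ centralizer {a} : Subgroup Γ) := by
    calc ∏ a ∈ Cfsg.Agent.Lib.H16.nz B, Nat.card (X ⊓ centralizer {a} : Subgroup Γ)
        ≤ ∏ a ∈ Cfsg.Agent.Lib.H16.nz B, (n * Nat.card (Y ⊓ centralizer {a} : Subgroup Γ)) := by
          apply Finset.prod_le_prod'
          intro a ha
          rw [Cfsg.Agent.Lib.H16.mem_nz] at ha
          exact hn a ha.2 ha.1
      _ = n ^ (q ^ 2 - 1) *
          ∏ a ∈ Cfsg.Agent.Lib.H16.nz B, Nat.card (Y ⊓ centralizer {a} : Subgroup Γ) := by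
          rw [Finset.prod_mul_distrib, Finset.prod_const, hcard]
  -- chain
  have hchain : Nat.card X ^ (q - 1) * cY ^ (q * (q - 1)) ≤
      (n ^ (q + 1) * Nat.card Y) ^ (q - 1) * cY ^ (q * (q - 1)) := by
    calc Nat.card X ^ (q - 1) * cY ^ (q * (q - 1))
        ≤ Nat.card X ^ (q - 1) * cX ^ (q * (q - 1)) :=
          Nat.mul_le_mul_left _ (Nat.pow_le_pow_left hle _)
      _ = ∏ a ∈ Cfsg.Agent.Lib.H16.nz B, Nat.card (X ⊓ centralizer {a} : Subgroup Γ) := hWX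
      _ ≤ n ^ (q ^ 2 - 1) *
          ∏ a ∈ Cfsg.Agent.Lib.H16.nz B, Nat.card (Y ⊓ centralizer {a} : Subgroup Γ) := hprod
      _ = n ^ (q ^ 2 - 1) * (Nat.card Y ^ (q - 1) * cY ^ (q * (q - 1))) := by rw [← hWY]
      _ = (n ^ (q + 1) * Nat.card Y) ^ (q - 1) * cY ^ (q * (q - 1)) := by
          have hexp : q ^ 2 - 1 = (q + 1) * (q - 1) := by
            obtain ⟨k, rfl⟩ : ∃ k, q = k + 2 := ⟨q - 2, by omega⟩
            have h1 : k + 2 - 1 = k + 1 := by omega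
            have h2 : (k + 2) ^ 2 = (k + 2 + 1) * (k + 1) + 1 := by ring
            rw [h1, h2, Nat.add_sub_cancel]
          rw [mul_pow, ← pow_mul, hexp, mul_assoc]
  have hpow : Nat.card X ^ (q - 1) ≤ (n ^ (q + 1) * Nat.card Y) ^ (q - 1) :=
    Nat.le_of_mul_le_mul_right hchain (pow_pos hposY _)
  exact (Nat.pow_le_pow_iff_left (by omega)).mp hpow

end Cfsg.Agent.Lib.H15.DF
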