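/-
S2335 / S2334 (Landazuri-Seitz lower bounds for the complex irreducible representations of `SU_n(q)`; architect helper15,
mathematics: lead, tools/blueprints/S2335.md).  Common definitions.

* `Herm σ m` : the additive group of hermitian `m × m` matrices (`(X.map σ)ᵀ = X`) for a ring endomorphism `σ` of `F`.
* `projC ρ t ψ` : the averaged operator `|S|⁻¹ ∑_X ψ(-X) ρ(t X)` attached to a character `ψ` of a finite abelian group `S`
  mapped into `G` by `t`.
* `hAct σ g X = g X g^*` on plain matrices.
-/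
import Mathlib

set_option autoImplicit false

namespace Cfsg.Agent.Lib.H15.LS

open Matrix

section herm

variable {F : Type*} [Field F]

/-- hermitian `m × m` matrices for the ring endomorphism `σ` -/
def Herm (σ : F →+* F) (m : ℕ) : AddSubgroup (Matrix (Fin m) (Fin m) F) where
  carrier := {X | (X.map σ)ᵀ = X}
  add_mem' := by
    intro X Y hX hY
    show ((X + Y).map σ)ᵀ = X + Y
    have hX' : (X.map σ)ᵀ = X := hX
    have hY' : (Y.map σ)ᵀ = Y := hY
    ext i j
    have h1 := congrFun (congrFun hX' i) j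
    have h2 := congrFun (congrFun hY' i) j
    simp only [Matrix.transpose_apply, Matrix.map_apply, Matrix.add_apply, map_add] at h1 h2 ⊢
    rw [h1, h2]
  zero_mem' := by
    show ((0 : Matrix (Fin m) (Fin m) F).map σ)ᵀ = 0
    ext i j
    simp
  neg_mem' := by
    intro X hX
    show ((-X).map σ)ᵀ = -X
    have hX' : (X.map σ)ᵀ = X := hX
    ext i j
    have := congrFun (congrFun hX' i) j
    simp only [Matrix.transpose_apply, Matrix.map_apply, Matrix.neg_apply, map_neg] at this ⊢
    rw [this]

theorem mem_Herm (σ : F →+* F) (m : ℕ) (X : Matrix (Fin m) (Fin m) F) :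
    X ∈ Herm σ m ↔ (X.map σ)ᵀ = X := Iff.rfl

/-- the action `X ↦ g X g^*` on plain matrices -/
def hAct (σ : F →+* F) {m : ℕ} (g X : Matrix (Fin m) (Fin m) F) : Matrix (Fin m) (Fin m) F :=
  g * X * (g.map σ)ᵀ

/-- the dual action `Y ↦ g^* Y g` on plain matrices -/
def hActD (σ : F →+* F) {m : ℕ} (g Y : Matrix (Fin m) (Fin m) F) : Matrix (Fin m) (Fin m) F :=
  (g.map σ)ᵀ * Y * g

end herm

section proj

variable {G : Type*} [Group G] {S : Type*} [AddCommGroup S] [Fintype S]
  {V : Type*} [AddCommGroup V] [Module ℂ V]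

/-- the averaged operator `|S|⁻¹ ∑_X ψ(-X) ρ(t X)` -/
noncomputable def projC (ρ : G →* Module.End ℂ V) (t : S → G) (ψ : AddChar S ℂ) : Module.End ℂ V :=
  (Fintype.card S : ℂ)⁻¹ • ∑ X : S, ψ (-X) • ρ (t X)

end proj

end Cfsg.Agent.Lib.H15.LS
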