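import Mathlib
import Cfsg.Agent.Lib.H3.Wielandt
import Cfsg.Agent.Lib.H3.Wielandt2
import Cfsg.Agent.Lib.H3.Sylow
import Cfsg.Agent.Lib.H1.Gaschutz
import Cfsg.Agent.Lib.H15.Conj
import Cfsg.Agent.Lib.H10.PResidual
import Cfsg.Agent.Lib.H1.Complement

/-!
Sylow subgroups of joins of subnormal subgroups (helper15's shared library).

Main result `sSup_inf_le_of_isSubnormal`: if `S` is a `p`-subgroup of `p'`-index in the finite
group `G` and `𝒜` is a family of subnormal subgroups, then `sSup 𝒜 ⊓ S` is generated by the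
`A ⊓ S`, `A ∈ 𝒜`.
-/

set_option autoImplicit false

namespace Cfsg.Agent.Lib.H15

universe u

section Basic

variable {G : Type*} [Group G]

/-- A `p`-subgroup `Q` of `H` containing a subgroup `P` of `p'`-index in `H` equals `P`. -/
theorem le_of_isPGroup_of_not_dvd_relIndex [Finite G] {p : ℕ} [Fact p.Prime] {P Q H : Subgroup G}
    (hQ : IsPGroup p Q) (hPQ : P ≤ Q) (hQH : Q ≤ H) (h : ¬ p ∣ P.relIndex H) : Q ≤ P := by
  rw [← Subgroup.relIndex_eq_one]
  have h1 := Subgroup.relIndex_mul_relIndex P Q H hPQ hQH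
  have h2 : ¬ p ∣ P.relIndex Q := fun hd => h (h1 ▸ Dvd.dvd.mul_right hd _)
  obtain ⟨k, hk⟩ := IsPGroup.iff_card.mp hQ
  have h3 : P.relIndex Q ∣ p ^ k := hk ▸ Subgroup.relIndex_dvd_card P Q
  obtain ⟨j, -, hj⟩ := (Nat.dvd_prime_pow Fact.out).mp h3
  rcases Nat.eq_zero_or_pos j with h0 | hpos
  · rw [hj, h0, pow_zero]
  · exact absurd (hj ▸ dvd_pow_self p hpos.ne') h2

/-- The relative index of images under a quotient map divides the relative index. -/
theorem relIndex_map_mk_dvd [Finite G] (N : Subgroup G) [N.Normal] {B A : Subgroup G} (hBA : B ≤ A) :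
    (B.map (QuotientGroup.mk' N)).relIndex (A.map (QuotientGroup.mk' N)) ∣ B.relIndex A := by
  rw [Subgroup.relIndex_map_map, QuotientGroup.ker_mk']
  -- x := (B ⊔ N).relIndex (A ⊔ N)
  have hle1 : N ≤ B ⊔ N := le_sup_right
  have hle2 : B ⊔ N ≤ A ⊔ N := sup_le_sup_right hBA N
  have e1 := Subgroup.relIndex_mul_relIndex N (B ⊔ N) (A ⊔ N) hle1 hle2
  rw [Subgroup.relIndex_sup_right, Subgroup.relIndex_sup_right] at e1
  -- e1 : N.relIndex B * x = N.relIndex A
  have e2 := Subgroup.relIndex_mul_relIndex (B ⊓ N) (A ⊓ N) A (inf_le_inf_right N hBA) inf_le_left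
  have e3 := Subgroup.relIndex_mul_relIndex (B ⊓ N) B A inf_le_left hBA
  have e4 : (A ⊓ N).relIndex A = N.relIndex A := by rw [inf_comm, Subgroup.inf_relIndex_right]
  have e5 : (B ⊓ N).relIndex B = N.relIndex B := by rw [inf_comm, Subgroup.inf_relIndex_right]
  rw [e4] at e2
  rw [e5] at e3
  -- e2 : (B⊓N).relIndex (A⊓N) * N.relIndex A = (B ⊓ N).relIndex A
  -- e3 : N.relIndex B * B.relIndex A = (B⊓N).relIndex A
  have hb : N.relIndex B ≠ 0 := by
    show (N.subgroupOf B).index ≠ 0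
    exact Subgroup.index_ne_zero_of_finite
  refine ⟨(B ⊓ N).relIndex (A ⊓ N), ?_⟩
  apply Nat.eq_of_mul_eq_mul_left (Nat.pos_of_ne_zero hb)
  rw [e3, ← e2, ← e1]
  ring

end Basic

section Main

open Cfsg.Agent.Lib.H3

/-- The statement for generating families of subnormal subgroups of a fixed group. -/
def MainFor (p : ℕ) (G : Type u) [Group G] : Prop :=
  ∀ (S : Subgroup G), IsPGroup p S → ¬ p ∣ S.index → ∀ (𝒜 : Set (Subgroup G)),
    (∀ A ∈ 𝒜, A.IsSubnormal) → sSup 𝒜 = ⊤ → ∀ W : Subgroup G, (∀ A ∈ 𝒜, A ⊓ S ≤ W) → S ≤ W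

theorem cor_of_mainFor {G : Type u} [Group G] [Finite G] {p : ℕ} [Fact p.Prime] (S : Subgroup G)
    (hS : IsPGroup p S) (hSi : ¬ p ∣ S.index) (𝒜 : Set (Subgroup G))
    (h𝒜 : ∀ A ∈ 𝒜, A.IsSubnormal) (hmain : MainFor p ↥(sSup 𝒜)) (W : Subgroup G)
    (hW : ∀ A ∈ 𝒜, A ⊓ S ≤ W) : sSup 𝒜 ⊓ S ≤ W := by
  obtain ⟨J, hJdef⟩ : ∃ J, J = sSup 𝒜 := ⟨_, rfl⟩
  rw [← hJdef] at hmain ⊢
  have hJ : J.IsSubnormal := hJdef ▸ isSubnormal_sSup 𝒜 h𝒜
  have hAJ : ∀ A ∈ 𝒜, A ≤ J := fun A hA => hJdef ▸ le_sSup hA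
  have hS' : IsPGroup p (S.subgroupOf J) := hS.comap_subtype
  have hSi' : ¬ p ∣ (S.subgroupOf J).index := not_dvd_relIndex_of_isSubnormal S hJ hSi
  have hsub : ∀ A' ∈ (fun A : Subgroup G => A.subgroupOf J) '' 𝒜, A'.IsSubnormal := by
    rintro _ ⟨A, hA, rfl⟩
    exact (h𝒜 A hA).subgroupOf
  have hgen : sSup ((fun A : Subgroup G => A.subgroupOf J) '' 𝒜) = ⊤ := by
    rw [eq_top_iff]
    have h1 : J ≤ (sSup ((fun A : Subgroup G => A.subgroupOf J) '' 𝒜)).map J.subtype := by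
      refine hJdef.le.trans ?_
      apply sSup_le
      intro A hA
      have e := Subgroup.map_subgroupOf_eq_of_le (hAJ A hA)
      calc A = (A.subgroupOf J).map J.subtype := e.symm
        _ ≤ _ := Subgroup.map_mono
          (le_sSup (Set.mem_image_of_mem (fun A : Subgroup G => A.subgroupOf J) hA))
    intro x _
    obtain ⟨y, hy, hyx⟩ := h1 x.2
    have : y = x := Subtype.ext hyx
    rwa [← this]
  have hW' : ∀ A' ∈ (fun A : Subgroup G => A.subgroupOf J) '' 𝒜,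
      A' ⊓ S.subgroupOf J ≤ W.subgroupOf J := by
    rintro _ ⟨A, hA, rfl⟩ x ⟨hxA, hxS⟩
    exact hW A hA ⟨hxA, hxS⟩
  have hle := hmain (S.subgroupOf J) hS' hSi' _ hsub hgen (W.subgroupOf J) hW'
  rintro x ⟨hxJ, hxS⟩
  have : (⟨x, hxJ⟩ : ↥J) ∈ S.subgroupOf J := hxS
  exact hle this

theorem le_sup_of_mainFor_quotient {G : Type u} [Group G] [Finite G] {p : ℕ} [Fact p.Prime]
    (S : Subgroup G) (hS : IsPGroup p S) (hSi : ¬ p ∣ S.index) (𝒜 : Set (Subgroup G))
    (h𝒜 : ∀ A ∈ 𝒜, A.IsSubnormal) (hgen : sSup 𝒜 = ⊤) (T : Subgroup G)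
    (hT : ∀ A ∈ 𝒜, A ⊓ S ≤ T) (N : Subgroup G) [N.Normal] (hmain : MainFor p (G ⧸ N)) :
    S ≤ T ⊔ N := by
  have hsurj : Function.Surjective (QuotientGroup.mk' N) := QuotientGroup.mk'_surjective N
  have hS' : IsPGroup p (S.map (QuotientGroup.mk' N)) := hS.map _
  have hSi' : ¬ p ∣ (S.map (QuotientGroup.mk' N)).index :=
    fun h => hSi (h.trans (Subgroup.index_map_dvd S hsurj))
  have hsub : ∀ A' ∈ (fun A : Subgroup G => A.map (QuotientGroup.mk' N)) '' 𝒜, A'.IsSubnormal := by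
    rintro _ ⟨A, hA, rfl⟩
    exact (h𝒜 A hA).map hsurj
  have hgen' : sSup ((fun A : Subgroup G => A.map (QuotientGroup.mk' N)) '' 𝒜) = ⊤ := by
    rw [sSup_image, ← map_sSup_eq, hgen, Subgroup.map_top_of_surjective _ hsurj]
  have hW' : ∀ A' ∈ (fun A : Subgroup G => A.map (QuotientGroup.mk' N)) '' 𝒜,
      A' ⊓ S.map (QuotientGroup.mk' N) ≤ T.map (QuotientGroup.mk' N) := by
    rintro _ ⟨A, hA, rfl⟩
    have h1 : ¬ p ∣ ((A ⊓ S).map (QuotientGroup.mk' N)).relIndex (A.map (QuotientGroup.mk' N)) := by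
      intro h
      have h2 := h.trans (relIndex_map_mk_dvd N (inf_le_left : A ⊓ S ≤ A))
      rw [inf_comm, Subgroup.inf_relIndex_right] at h2
      exact not_dvd_relIndex_of_isSubnormal S (h𝒜 A hA) hSi h2
    have h3 : A.map (QuotientGroup.mk' N) ⊓ S.map (QuotientGroup.mk' N) ≤
        (A ⊓ S).map (QuotientGroup.mk' N) :=
      le_of_isPGroup_of_not_dvd_relIndex (hS'.to_le inf_le_right)
        (le_inf (Subgroup.map_mono inf_le_left) (Subgroup.map_mono inf_le_right)) inf_le_left h1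
    exact h3.trans (Subgroup.map_mono (hT A hA))
  have hle := hmain _ hS' hSi' _ hsub hgen' _ hW'
  intro s hs
  obtain ⟨t, ht, hts⟩ := hle (Subgroup.mem_map_of_mem _ hs)
  have h1 : t⁻¹ * s ∈ N := QuotientGroup.eq.mp hts
  have : s = t * (t⁻¹ * s) := by group
  rw [this]
  exact Subgroup.mul_mem_sup ht h1

/-- `O^p(A)` as a subgroup of the ambient group. -/
def pRes (p : ℕ) {G : Type u} [Group G] (A : Subgroup G) : Subgroup G :=
  (Cfsg.pResidual p ↥A).map A.subtype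

theorem pRes_le (p : ℕ) {G : Type u} [Group G] (A : Subgroup G) : pRes p A ≤ A :=
  Subgroup.map_subtype_le _

theorem pRes_isSubnormal (p : ℕ) {G : Type u} [Group G] {A : Subgroup G} (hA : A.IsSubnormal) :
    (pRes p A).IsSubnormal :=
  Subgroup.IsSubnormal.trans' (Cfsg.Agent.Lib.H10.pResidual_normal p ↥A).isSubnormal hA

theorem le_pRes_sup {G : Type u} [Group G] [Finite G] {p : ℕ} [Fact p.Prime] (S A : Subgroup G)
    (h : ¬ p ∣ S.relIndex A) : A ≤ pRes p A ⊔ (A ⊓ S) := by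
  intro a ha
  obtain ⟨s, hs, u, hu, hsu⟩ :=
    Cfsg.Agent.Lib.H10.exists_mul_of_sylow_pResidual p (S.subgroupOf A) h ⟨a, ha⟩
  have e : a = (s : G) * (u : G) := by
    have := congrArg Subtype.val hsu
    simpa using this
  rw [e]
  exact Subgroup.mul_mem _ (Subgroup.mem_sup_right ⟨s.2, hs⟩)
    (Subgroup.mem_sup_left ⟨u, hu, rfl⟩)

theorem pRes_le_of_forall {G : Type u} [Group G] {p : ℕ} (A K : Subgroup G)
    (hK : ∀ g : G, (orderOf g).Coprime p → g ∈ K) : pRes p A ≤ K := by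
  unfold pRes
  rw [Subgroup.map_le_iff_le_comap]
  unfold Cfsg.pResidual
  rw [Subgroup.closure_le]
  intro g hg
  have hg' : (orderOf g).Coprime p := hg
  rw [← Subgroup.orderOf_coe] at hg'
  exact hK _ hg'

/-- The reduction to groups generated by `p'`-elements. -/
theorem pRes_reduction {G : Type u} [Group G] [Finite G] {p : ℕ} [Fact p.Prime]
    (S : Subgroup G) (hS : IsPGroup p S) (hSi : ¬ p ∣ S.index) (𝒜 : Set (Subgroup G))
    (h𝒜 : ∀ A ∈ 𝒜, A.IsSubnormal) (hgen : sSup 𝒜 = ⊤) (T : Subgroup G)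
    (hT : ∀ A ∈ 𝒜, A ⊓ S ≤ T) (hTS : T ≤ S)
    (hIH : ∀ J : Subgroup G, J ≠ ⊤ → MainFor p ↥J) :
    S ≤ T ∨ ∀ K : Subgroup G, K.Normal → (∀ g : G, (orderOf g).Coprime p → g ∈ K) → K = ⊤ := by
  obtain ⟨𝒳, h𝒳⟩ : ∃ 𝒳 : Set (Subgroup G), 𝒳 = {X | ∃ A ∈ 𝒜, ∃ t ∈ T, X = cj t (pRes p A)} :=
    ⟨_, rfl⟩
  have h𝒳sub : ∀ X ∈ 𝒳, X.IsSubnormal := by
    intro X hX
    rw [h𝒳] at hX
    obtain ⟨A, hA, t, -, rfl⟩ := hX
    exact (pRes_isSubnormal p (h𝒜 A hA)).map (MulAut.conj t).surjective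
  have hRN : T ≤ Subgroup.normalizer ((sSup 𝒳 : Subgroup G) : Set G) := by
    intro t' ht'
    apply mem_normalizer_of_cj_le
    unfold cj
    rw [map_sSup_eq]
    apply iSup₂_le
    intro X hX
    apply le_sSup
    rw [h𝒳] at hX ⊢
    obtain ⟨A, hA, t, ht, rfl⟩ := hX
    exact ⟨A, hA, t' * t, T.mul_mem ht' ht, cj_cj _ _ _⟩
  have hcover : (⊤ : Subgroup G) ≤ sSup 𝒳 ⊔ T := by
    rw [← hgen]
    apply sSup_le
    intro A hA
    have h1 : ¬ p ∣ S.relIndex A := not_dvd_relIndex_of_isSubnormal S (h𝒜 A hA) hSi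
    refine (le_pRes_sup S A h1).trans (sup_le_sup ?_ (hT A hA))
    apply le_sSup
    rw [h𝒳]
    exact ⟨A, hA, 1, T.one_mem, (cj_one _).symm⟩
  have hSle : S ≤ (sSup 𝒳 ⊓ S) ⊔ T := by
    intro s hs
    obtain ⟨r, hr, t, ht, hrt⟩ :=
      Cfsg.Agent.Lib.H1.mem_sup_of_le_normalizer hRN (hcover (Subgroup.mem_top s))
    have hrS : r ∈ S := by
      have : r = s * t⁻¹ := by rw [hrt]; group
      rw [this]
      exact S.mul_mem hs (S.inv_mem (hTS ht))
    rw [hrt]
    exact Subgroup.mul_mem _ (Subgroup.mem_sup_left ⟨hr, hrS⟩) (Subgroup.mem_sup_right ht)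
  by_cases hR : sSup 𝒳 = ⊤
  · right
    intro K hKn hK
    rw [eq_top_iff, ← hR]
    apply sSup_le
    intro X hX
    rw [h𝒳] at hX
    obtain ⟨A, hA, t, -, rfl⟩ := hX
    have h1 : pRes p A ≤ K := pRes_le_of_forall A K hK
    intro x hx
    rw [mem_cj_iff] at hx
    have h2 := hKn.conj_mem _ (h1 hx) t
    have : t * (t⁻¹ * x * t) * t⁻¹ = x := by group
    rwa [this] at h2
  · left
    have hX : ∀ X ∈ 𝒳, X ⊓ S ≤ T := by
      intro X hX
      rw [h𝒳] at hX
      obtain ⟨A, hA, t, ht, rfl⟩ := hX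
      intro x hx
      have hx1 : x ∈ cj t (pRes p A) := hx.1
      have hx2 : x ∈ S := hx.2
      rw [mem_cj_iff] at hx1
      have h1 : t⁻¹ * x * t ∈ A ⊓ S :=
        ⟨pRes_le p A hx1, S.mul_mem (S.mul_mem (S.inv_mem (hTS ht)) hx2) (hTS ht)⟩
      have h2 := hT A hA h1
      have : x = t * (t⁻¹ * x * t) * t⁻¹ := by group
      rw [this]
      exact T.mul_mem (T.mul_mem ht h2) (T.inv_mem ht)
    have h1 := cor_of_mainFor S hS hSi 𝒳 h𝒳sub (hIH _ hR) T hX
    exact hSle.trans (sup_le h1 le_rfl)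

theorem card_lt_of_ne_top' {G : Type u} [Group G] [Finite G] {H : Subgroup G} (h : H ≠ ⊤) :
    Nat.card H < Nat.card G := by
  by_contra hlt
  push Not at hlt
  apply h
  apply eq_of_le_of_card_le' le_top
  rw [Subgroup.card_top]
  exact hlt

theorem card_quotient_lt {G : Type u} [Group G] [Finite G] (N : Subgroup G) [N.Normal] (h : N ≠ ⊥) :
    Nat.card (G ⧸ N) < Nat.card G := by
  have h1 : 1 < Nat.card N := (Subgroup.one_lt_card_iff_ne_bot _).mpr h
  rw [← Subgroup.index_eq_card, ← Subgroup.card_mul_index N]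
  have hpos : 0 < N.index := Nat.pos_of_ne_zero Subgroup.index_ne_zero_of_finite
  nlinarith

theorem mainFor_all {p : ℕ} [Fact p.Prime] :
    ∀ (n : ℕ) (G : Type u) [Group G] [Finite G], Nat.card G = n → MainFor p G := by
  intro n
  induction n using Nat.strong_induction_on with
  | _ n ih =>
  intro G _ _ hn S hS hSi 𝒜 h𝒜 hgen W hW
  obtain ⟨T, hTdef⟩ : ∃ T, T = W ⊓ S := ⟨_, rfl⟩
  have hT : ∀ A ∈ 𝒜, A ⊓ S ≤ T := fun A hA => hTdef ▸ le_inf (hW A hA) inf_le_right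
  have hTS : T ≤ S := hTdef ▸ inf_le_right
  suffices h : S ≤ T from h.trans (hTdef ▸ inf_le_left)
  rcases subsingleton_or_nontrivial G with hsub | hnt
  · intro s _
    rw [Subsingleton.elim s 1]; exact T.one_mem
  by_cases htop : ⊤ ∈ 𝒜
  · have := hT ⊤ htop
    rwa [top_inf_eq] at this
  have hIHsub : ∀ J : Subgroup G, J ≠ ⊤ → MainFor p ↥J :=
    fun J hJ => ih _ (hn ▸ card_lt_of_ne_top' hJ) ↥J rfl
  have hIHquot : ∀ (N : Subgroup G) [N.Normal], N ≠ ⊥ → MainFor p (G ⧸ N) :=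
    fun N _ hN => ih _ (hn ▸ card_quotient_lt N hN) (G ⧸ N) rfl
  have hstep : ∀ (N : Subgroup G) [N.Normal], N ≠ ⊥ → S ≤ T ⊔ (N ⊓ S) := by
    intro N _ hN
    have h1 := le_sup_of_mainFor_quotient S hS hSi 𝒜 h𝒜 hgen T hT N (hIHquot N hN)
    intro s hs
    have h2 := h1 hs
    rw [Subgroup.mem_sup_of_normal_right] at h2
    obtain ⟨t, ht, m, hm, hs'⟩ := h2
    have hmS : m ∈ S := by
      have : m = t⁻¹ * s := by rw [← hs']; group
      rw [this]
      exact S.mul_mem (S.inv_mem (hTS ht)) hs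
    rw [← hs']
    exact Subgroup.mul_mem_sup ht ⟨hm, hmS⟩
  rcases pRes_reduction S hS hSi 𝒜 h𝒜 hgen T hT hTS hIHsub with h | hpgen
  · exact h
  obtain ⟨M, hMmin, -⟩ := exists_isMinNormal_le (⊤ : Subgroup G) inferInstance top_ne_bot
  have hMn : M.Normal := hMmin.1
  have hM1 : M ≠ ⊥ := hMmin.2.1
  have hMmin' := hMmin.2.2
  have hMN : ∀ A ∈ 𝒜, M ≤ Subgroup.normalizer (A : Set G) :=
    fun A hA => isMinNormal_le_normalizer _ G rfl A M (h𝒜 A hA) hMmin
  -- the basic commutator computation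
  have hcomm : ∀ A ∈ 𝒜, ∀ a ∈ A, ∀ e ∈ M, a * e * a⁻¹ * e⁻¹ ∈ M ⊓ A := by
    intro A hA a ha e he
    refine ⟨M.mul_mem (hMn.conj_mem e he a) (M.inv_mem he), ?_⟩
    have h1 : e * a⁻¹ * e⁻¹ ∈ A :=
      (Subgroup.mem_normalizer_iff.mp (hMN A hA he) a⁻¹).mp (A.inv_mem ha)
    have : a * e * a⁻¹ * e⁻¹ = a * (e * a⁻¹ * e⁻¹) := by group
    rw [this]
    exact A.mul_mem ha h1
  obtain ⟨E, hEdef⟩ : ∃ E, E = sSup ((fun A : Subgroup G => M ⊓ A) '' 𝒜) := ⟨_, rfl⟩
  have hEM : E ≤ M := by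
    rw [hEdef]
    apply sSup_le
    rintro _ ⟨A, -, rfl⟩
    exact inf_le_left
  have hAE : ∀ A ∈ 𝒜, M ⊓ A ≤ E := fun A hA => hEdef ▸ le_sSup (Set.mem_image_of_mem _ hA)
  have hEn : E.Normal := by
    rw [← Subgroup.normalizer_eq_top_iff, eq_top_iff, ← hgen]
    apply sSup_le
    intro A hA a ha
    apply mem_normalizer_of_cj_le
    rw [hEdef]
    unfold cj
    rw [map_sSup_eq]
    apply iSup₂_le
    rintro _ ⟨A', hA', rfl⟩
    intro y hy
    rw [← hEdef]
    have hy' : y ∈ cj a (M ⊓ A') := hy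
    rw [mem_cj_iff] at hy'
    have h1 := hcomm A hA a ha _ hy'.1
    have e : y = (a * (a⁻¹ * y * a) * a⁻¹ * (a⁻¹ * y * a)⁻¹) * (a⁻¹ * y * a) := by group
    rw [e]
    exact E.mul_mem (hAE A hA h1) (hAE A' hA' hy')
  rcases hMmin' E hEn hEM with hE | hE
  · -- E = ⊥ : M is central
    have hMc : M ≤ Subgroup.center G := by
      intro m hm
      rw [Subgroup.mem_center_iff]
      have h1 : (⊤ : Subgroup G) ≤ Subgroup.centralizer ({m} : Set G) := by
        rw [← hgen]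
        apply sSup_le
        intro A hA a ha
        rw [Subgroup.mem_centralizer_singleton_iff]
        have h2 := hAE A hA (hcomm A hA a ha m hm)
        rw [hE, Subgroup.mem_bot] at h2
        calc a * m = (a * m * a⁻¹ * m⁻¹) * (m * a) := by group
          _ = m * a := by rw [h2, one_mul]
      intro g
      have := h1 (Subgroup.mem_top g)
      rw [Subgroup.mem_centralizer_singleton_iff] at this
      exact this
    have hcn : ∀ K : Subgroup G, K ≤ M → K.Normal := by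
      intro K hK
      constructor
      intro k hk g
      have := Subgroup.mem_center_iff.mp (hMc (hK hk)) g
      have e : g * k * g⁻¹ = k := by rw [this]; group
      rw [e]; exact hk
    rcases hMmin' (M ⊓ S) (hcn _ inf_le_left) inf_le_left with hMS | hMS
    · have := hstep M hM1
      rwa [hMS, sup_bot_eq] at this
    have hMS' : M ≤ S := inf_eq_left.mp hMS
    rcases hMmin' (M ⊓ T) (hcn _ inf_le_left) inf_le_left with hMT | hMT
    · -- Gaschütz
      exfalso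
      haveI : IsMulCommutative M :=
        ⟨⟨fun a b => Subtype.ext (Subgroup.mem_center_iff.mp (hMc b.2) a)⟩⟩
      have hMp : IsPGroup p M := hS.to_le hMS'
      have hcop : (Nat.card M).Coprime S.index := by
        obtain ⟨k, hk⟩ := IsPGroup.iff_card.mp hMp
        rw [hk]
        exact Nat.Coprime.pow_left k ((Nat.Prime.coprime_iff_not_dvd Fact.out).mpr hSi)
      have hsup : M ⊔ T = S := by
        apply le_antisymm (sup_le hMS' hTS)
        have := hstep M hM1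
        rw [hMS, sup_comm] at this
        exact this
      obtain ⟨H, hH⟩ := Cfsg.Agent.Lib.H1.gaschutz_exists M S hMS' hcop T
        (by rw [inf_comm]; exact hMT) hsup
      have hdecomp : ∀ g : G, ∃ m ∈ M, ∃ h ∈ H, g = m * h := by
        intro g
        obtain ⟨⟨⟨m, hm⟩, ⟨h, hh⟩⟩, hmh, -⟩ := (Subgroup.isComplement_iff_existsUnique.mp hH) g
        exact ⟨m, hm, h, hh, hmh.symm⟩
      have hMH : M ⊓ H = ⊥ := hH.disjoint.eq_bot
      have hHn : H.Normal := by
        constructor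
        intro h hh g
        obtain ⟨m, hm, h', hh', rfl⟩ := hdecomp g
        have hmc := Subgroup.mem_center_iff.mp (hMc hm)
        have e : m * h' * h * (m * h')⁻¹ = h' * h * h'⁻¹ := by
          have e1 : m * h' * h * (m * h')⁻¹ = m * (h' * h * h'⁻¹) * m⁻¹ := by group
          rw [e1, ← hmc (h' * h * h'⁻¹)]; group
        rw [e]
        exact H.mul_mem (H.mul_mem hh' hh) (H.inv_mem hh')
      have hHp : ∀ g : G, (orderOf g).Coprime p → g ∈ H := by
        intro g hg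
        obtain ⟨m, hm, h', hh', rfl⟩ := hdecomp g
        have hmc : Commute m h' := (Subgroup.mem_center_iff.mp (hMc hm) h').symm
        have h1 : m ^ orderOf (m * h') * h' ^ orderOf (m * h') = 1 := by
          rw [← hmc.mul_pow, pow_orderOf_eq_one]
        have h2 : m ^ orderOf (m * h') ∈ M ⊓ H := by
          refine ⟨M.pow_mem hm _, ?_⟩
          have : m ^ orderOf (m * h') = (h' ^ orderOf (m * h'))⁻¹ := eq_inv_of_mul_eq_one_left h1
          rw [this]
          exact H.inv_mem (H.pow_mem hh' _)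
        rw [hMH, Subgroup.mem_bot] at h2
        have h3 : orderOf m ∣ orderOf (m * h') := orderOf_dvd_of_pow_eq_one h2
        obtain ⟨c, hc⟩ := hMp ⟨m, hm⟩
        have h4 : orderOf m ∣ p ^ c := by
          apply orderOf_dvd_of_pow_eq_one
          have := congrArg Subtype.val hc
          simpa using this
        have h5 : orderOf m = 1 := by
          have := Nat.dvd_gcd h3 h4
          rw [Nat.Coprime.pow_right c hg] at this
          exact Nat.dvd_one.mp this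
        rw [orderOf_eq_one_iff.mp h5, one_mul]
        exact hh'
      have hHtop := hpgen H hHn hHp
      rw [hHtop, inf_top_eq] at hMH
      exact hM1 hMH
    · have hMT' : M ≤ T := inf_eq_left.mp hMT
      exact (hstep M hM1).trans (sup_le le_rfl (inf_le_left.trans hMT'))
  · -- E = M
    by_cases hMtop : M = ⊤
    · exfalso
      haveI : IsSimpleGroup G := by
        refine ⟨fun H hH => ?_⟩
        rcases hMmin' H hH (hMtop ▸ le_top) with h | h
        · exact Or.inl h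
        · exact Or.inr (h.trans hMtop)
      have hbot : sSup 𝒜 = ⊥ := by
        rw [eq_bot_iff]
        apply sSup_le
        intro A hA
        rcases (h𝒜 A hA).eq_bot_or_top_of_isSimpleGroup (inferInstance : IsSimpleGroup G) with h | h
        · exact h.le
        · exact absurd (h ▸ hA) htop
      rw [hgen] at hbot
      exact top_ne_bot hbot
    · have hsub : ∀ X ∈ (fun A : Subgroup G => M ⊓ A) '' 𝒜, X.IsSubnormal := by
        rintro _ ⟨A, hA, rfl⟩
        exact hMn.isSubnormal.inf (h𝒜 A hA)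
      have hX : ∀ X ∈ (fun A : Subgroup G => M ⊓ A) '' 𝒜, X ⊓ S ≤ T := by
        rintro _ ⟨A, hA, rfl⟩
        exact (inf_le_inf_right S inf_le_right).trans (hT A hA)
      have hne : sSup ((fun A : Subgroup G => M ⊓ A) '' 𝒜) ≠ ⊤ := by
        rw [← hEdef, hE]; exact hMtop
      have h1 := cor_of_mainFor S hS hSi _ hsub (hIHsub _ hne) T hX
      rw [← hEdef, hE] at h1
      exact (hstep M hM1).trans (sup_le le_rfl h1)

/-- **Sylow subgroups of joins of subnormal subgroups**: `sSup 𝒜 ⊓ S` is generated by the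
`A ⊓ S`, `A ∈ 𝒜`. -/
theorem sSup_inf_le_of_isSubnormal {G : Type u} [Group G] [Finite G] {p : ℕ} [Fact p.Prime]
    (S : Subgroup G) (hS : IsPGroup p S) (hSi : ¬ p ∣ S.index) (𝒜 : Set (Subgroup G))
    (h𝒜 : ∀ A ∈ 𝒜, A.IsSubnormal) (W : Subgroup G) (hW : ∀ A ∈ 𝒜, A ⊓ S ≤ W) :
    sSup 𝒜 ⊓ S ≤ W :=
  cor_of_mainFor S hS hSi 𝒜 h𝒜 (mainFor_all _ _ rfl) W hW

theorem sup_inf_eq_of_isSubnormal {G : Type u} [Group G] [Finite G] {p : ℕ} [Fact p.Prime]
    (S : Subgroup G) (hS : IsPGroup p S) (hSi : ¬ p ∣ S.index) {A₁ A₂ : Subgroup G}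
    (h₁ : A₁.IsSubnormal) (h₂ : A₂.IsSubnormal) :
    (A₁ ⊔ A₂) ⊓ S = (A₁ ⊓ S) ⊔ (A₂ ⊓ S) := by
  apply le_antisymm
  · have := sSup_inf_le_of_isSubnormal S hS hSi {A₁, A₂}
      (by
        intro A hA
        rcases hA with rfl | hA
        · exact h₁
        · rw [Set.mem_singleton_iff] at hA; rw [hA]; exact h₂)
      ((A₁ ⊓ S) ⊔ (A₂ ⊓ S))
      (by
        intro A hA
        rcases hA with rfl | hA
        · exact le_sup_left
        · rw [Set.mem_singleton_iff] at hA; rw [hA]; exact le_sup_right)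
    rwa [sSup_pair] at this
  · exact sup_le (inf_le_inf_right _ le_sup_left) (inf_le_inf_right _ le_sup_right)

end Main

end Cfsg.Agent.Lib.H15
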