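import Cfsg.Agent.Lib.H5.Sims.Defs

/-!
# S3685 / S3385, piece (ELL): section 7 of `tools/blueprints/S3685.md`

`ell : S.Bent → S.Loc → S.Con → S.Mod → (∃ n, S.seg 0 n = ⊥) → S.Ell 2 ∨ S.Ell 3`.
-/

set_option autoImplicit false
open scoped Pointwise
open scoped commutatorElement
open Cfsg.Agent.Lib.H5.Sims

namespace Cfsg.Agent.Lib.H15.Sims

variable {G : Type*} [Group G]

theorem comm_conj_iff (g : G) (A B : Subgroup G) :
    Comm (MulAut.conj g • A) (MulAut.conj g • B) ↔ Comm A B := by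
  constructor
  · intro h a ha b hb
    have := h _ (conj_mem_conj_smul (g := g) ha) _ (conj_mem_conj_smul (g := g) hb)
    have h2 : g * (a * b) * g⁻¹ = g * (b * a) * g⁻¹ := by
      simpa [mul_assoc] using this
    simpa using h2
  · intro h a ha b hb
    rw [mem_conj_smul] at ha hb
    have := h _ ha _ hb
    have h2 : g⁻¹ * (a * b) * g = g⁻¹ * (b * a) * g := by
      simpa [mul_assoc] using this
    simpa using h2

theorem comm_symm' {A B : Subgroup G} (h : Comm A B) : Comm B A :=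
  fun b hb a ha => (h a ha b hb).symm

theorem conj_smul_bot (g : G) : MulAut.conj g • (⊥ : Subgroup G) = ⊥ := by
  rw [eq_bot_iff]
  intro x hx
  rw [mem_conj_smul, Subgroup.mem_bot] at hx
  rw [Subgroup.mem_bot]
  have : x = g * (g⁻¹ * x * g) * g⁻¹ := by simp [mul_assoc]
  rw [this, hx]; simp

/-- a subgroup strictly between `A` and `B` with `|B : A| = 2` is `B` -/
theorem eq_of_index_two [Finite G] {A B C : Subgroup G} (hAC : A ≤ C) (hCB : C ≤ B)
    (hcard : Nat.card B = 2 * Nat.card A) (s : G) (hsC : s ∈ C) (hsA : s ∉ A) : C = B := by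
  have hApos : 0 < Nat.card A := Nat.card_pos
  obtain ⟨k, hk⟩ := Subgroup.card_dvd_of_le hAC
  obtain ⟨m, hm⟩ := Subgroup.card_dvd_of_le hCB
  have hne : Nat.card C ≠ Nat.card A := by
    intro h
    have : A = C := Subgroup.eq_of_le_of_card_ge hAC h.le
    exact hsA (this ▸ hsC)
  have hkm : k * m = 2 := by
    have : Nat.card A * (k * m) = Nat.card A * 2 := by
      calc Nat.card A * (k * m) = Nat.card A * k * m := by ring
        _ = Nat.card C * m := by rw [hk]
        _ = Nat.card B := hm.symm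
        _ = Nat.card A * 2 := by rw [hcard]; ring
    exact Nat.eq_of_mul_eq_mul_left hApos this
  have hk1 : k ≠ 1 := by
    intro h; apply hne; rw [hk, h, mul_one]
  have hk2 : k ∣ 2 := ⟨m, hkm.symm⟩
  have hk' : k = 2 := by
    have hle : k ≤ 2 := Nat.le_of_dvd (by norm_num) hk2
    have hk0 : k ≠ 0 := by
      intro h; rw [h, zero_mul] at hkm; omega
    omega
  apply Subgroup.eq_of_le_of_card_ge hCB
  rw [hcard, hk, hk']
  exact le_of_eq (by ring)

theorem exists_last (R : ℤ → Prop) (h0 : R 0) (hex : ∃ m : ℕ, ¬ R (m : ℤ)) :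
    ∃ b : ℤ, 0 ≤ b ∧ (∀ j : ℤ, 0 ≤ j → j ≤ b → R j) ∧ ¬ R (b + 1) := by
  classical
  have hm0 : Nat.find hex ≠ 0 := by
    intro h
    have := Nat.find_spec hex
    rw [h] at this
    exact this (by simpa using h0)
  refine ⟨(Nat.find hex : ℤ) - 1, by omega, ?_, ?_⟩
  · intro j hj0 hjb
    by_contra hR
    have hlt : j.toNat < Nat.find hex := by omega
    have := Nat.find_min hex hlt
    apply this
    rwa [Int.toNat_of_nonneg hj0]
  · have := Nat.find_spec hex
    simpa using this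

variable (S : Setup G)

theorem Z_le_P_shift (i j : ℤ) : S.Zj i ≤ S.Pj j ↔ S.Zj 0 ≤ S.Pj (j - i) := by
  have h1 := S.conj_Zj i 0
  have h2 := S.conj_Pj i (j - i)
  rw [add_zero] at h1
  have e : i + (j - i) = j := by ring
  rw [e] at h2
  rw [← h1, ← h2]
  exact Subgroup.pointwise_smul_le_pointwise_smul_iff

theorem comm_shift (i j : ℤ) : Comm (S.Zj i) (S.Zj j) ↔ Comm (S.Zj 0) (S.Zj (j - i)) := by
  have h1 := S.conj_Zj i 0
  have h2 := S.conj_Zj i (j - i)
  rw [add_zero] at h1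
  have e : i + (j - i) = j := by ring
  rw [e] at h2
  rw [← h1, ← h2]
  exact comm_conj_iff _ _ _

theorem conj_seg (k i : ℤ) (n : ℕ) : MulAut.conj (S.h ^ k) • S.seg i n = S.seg (k + i) n := by
  induction n with
  | zero => simp only [Setup.seg]; exact S.conj_Pj k i
  | succ n ih =>
    simp only [Setup.seg, Subgroup.smul_inf, ih, S.conj_Pj, add_assoc]

theorem le_seg (X : Subgroup G) (i : ℤ) (n : ℕ) (h : ∀ k : ℕ, k ≤ n → X ≤ S.Pj (i + k)) :
    X ≤ S.seg i n := by
  induction n with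
  | zero => simpa [Setup.seg] using h 0 le_rfl
  | succ n ih =>
    simp only [Setup.seg]
    exact le_inf (ih fun k hk => h k (Nat.le_succ_of_le hk)) (h (n + 1) le_rfl)

theorem Pj_of_eq {X : Subgroup G} {j k : ℤ} (e : j = k) (h : X ≤ S.Pj j) : X ≤ S.Pj k := e ▸ h

theorem mem_Tj_of {x : G} {j k : ℤ} (e : k = j + 1) (h1 : x ∈ S.Pj j) (h2 : x ∈ S.Pj k) :
    x ∈ S.Tj j := by
  subst e; exact ⟨h1, h2⟩

/-- if `x` commutes with `T_(k-1)` and with one element of `T_k \ Q_k` then `x` commutes with `P_k` -/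
theorem central_step [Finite G] (hL : S.Loc) (k : ℤ) (x : G)
    (hxT : ∀ y ∈ S.Tj (k - 1), y * x = x * y) (s : G) (hs : s ∈ S.Tj k) (hsQ : s ∉ S.Qj k)
    (hsx : s * x = x * s) : ∀ y ∈ S.Pj k, y * x = x * y := by
  have hmemC : ∀ y : G, y ∈ Subgroup.centralizer ({x} : Set G) ↔ y * x = x * y := by
    intro y
    rw [Subgroup.mem_centralizer_iff]
    constructor
    · intro h; exact (h x rfl).symm
    · intro h z hz; rw [Set.mem_singleton_iff] at hz; rw [hz]; exact h.symm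
  have hA : S.Qj k ≤ S.Tj k ⊓ Subgroup.centralizer ({x} : Set G) := by
    intro q hq
    exact ⟨S.Qj_le_right k hq, (hmemC q).2 (hxT q (S.Qj_le_left k hq))⟩
  have hcard : Nat.card (S.Tj k) = 2 * Nat.card (S.Qj k) := by
    rw [S.card_Tj k]; exact hL.cardQ k
  have hC := eq_of_index_two hA inf_le_left hcard s ⟨hs, (hmemC s).2 hsx⟩ hsQ
  have hTk : S.Tj k ≤ Subgroup.centralizer ({x} : Set G) := by
    rw [← hC]; exact inf_le_right
  have hTk1 : S.Tj (k - 1) ≤ Subgroup.centralizer ({x} : Set G) := fun y hy => (hmemC y).2 (hxT y hy)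
  have hsup := hL.syl_sup k _ _ (S.isSyl_Tj_pred k) (S.isSyl_Tj k) (hL.bent k)
  intro y hy
  rw [← hsup] at hy
  exact (hmemC y).1 ((sup_le hTk1 hTk) hy)

theorem ell [Finite G] (S : Setup G) (hb : S.Bent) (hL : S.Loc) (hC : S.Con) (hM : S.Mod)
    (hE : ∃ n : ℕ, S.seg 0 n = ⊥) : S.Ell 2 ∨ S.Ell 3 := by
  -- base inclusions
  have hZQ0 : S.Zj 0 ≤ S.Qj 0 := hC.Z_le_Q 0 (S.Tj 0) (S.isSyl_Tj 0)
  have hZQ1 : S.Zj 0 ≤ S.Qj 1 := by
    have h := hC.Z_le_Q (0 + 1) (S.Tj 0) (S.isSyl_Tj_succ 0)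
    have e : (0 : ℤ) + 1 = 1 := by norm_num
    rw [e] at h; exact h
  have hR0 : S.Zj 0 ≤ S.Pj 0 := (S.Zj_le 0).trans (S.Tj_le_left 0)
  have hR1 : S.Zj 0 ≤ S.Pj 1 := by
    have h := (S.Zj_le 0).trans (S.Tj_le_right 0)
    have e : (0 : ℤ) + 1 = 1 := by norm_num
    rw [e] at h; exact h
  have hRm1 : S.Zj 0 ≤ S.Pj (-1) := by
    have h := (hZQ0.trans (S.Qj_le_left 0)).trans (S.Tj_le_left (0 - 1))
    have e : (0 : ℤ) - 1 = -1 := by norm_num
    rw [e] at h; exact h
  have hR2 : S.Zj 0 ≤ S.Pj 2 := by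
    have h := (hZQ1.trans (S.Qj_le_right 1)).trans (S.Tj_le_right 1)
    have e : (1 : ℤ) + 1 = 2 := by norm_num
    rw [e] at h; exact h
  have hZne : S.Zj 0 ≠ ⊥ := hC.Z_ne_bot 0
  obtain ⟨n, hn⟩ := hE
  -- right end
  have hexR : ∃ m : ℕ, ¬ S.Zj 0 ≤ S.Pj (m : ℤ) := by
    by_contra hall
    have hall' : ∀ m : ℕ, S.Zj 0 ≤ S.Pj (m : ℤ) := by
      intro m; by_contra h; exact hall ⟨m, h⟩
    apply hZne
    rw [eq_bot_iff, ← hn]
    apply le_seg
    intro k _
    have := hall' k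
    rwa [zero_add]
  -- left end
  have hexL : ∃ m : ℕ, ¬ S.Zj 0 ≤ S.Pj (-(m : ℤ)) := by
    by_contra hall
    have hall' : ∀ m : ℕ, S.Zj 0 ≤ S.Pj (-(m : ℤ)) := by
      intro m; by_contra h; exact hall ⟨m, h⟩
    apply hZne
    have hbot : S.seg (-(n : ℤ)) n = ⊥ := by
      have := conj_seg S (-(n : ℤ)) 0 n
      rw [hn, conj_smul_bot, add_zero] at this
      exact this.symm
    rw [eq_bot_iff, ← hbot]
    apply le_seg
    intro k hk
    have := hall' (n - k)
    have e : -(((n - k : ℕ)) : ℤ) = -(n : ℤ) + k := by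
      rw [Nat.cast_sub hk]; ring
    rwa [e] at this
  obtain ⟨b, hb0, hb1, hb2⟩ := exists_last (fun j => S.Zj 0 ≤ S.Pj j) hR0 hexR
  obtain ⟨c, hc0, hc1, hc2⟩ := exists_last (fun j => S.Zj 0 ≤ S.Pj (-j))
    (by simpa using hR0) hexL
  have hb2' : 2 ≤ b := by
    by_contra h
    have h' : b = 0 ∨ b = 1 := by omega
    rcases h' with rfl | rfl
    · exact hb2 (by simpa using hR1)
    · exact hb2 (by
        have e : (1 : ℤ) + 1 = 2 := by norm_num
        rw [e]; exact hR2)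
  have hc1' : 1 ≤ c := by
    by_contra h
    have h' : c = 0 := by omega
    subst h'
    exact hc2 (by simpa using hRm1)
  -- `R j` for `-c ≤ j ≤ b`
  have hR : ∀ j : ℤ, -c ≤ j → j ≤ b → S.Zj 0 ≤ S.Pj j := by
    intro j h1 h2
    by_cases hj : 0 ≤ j
    · exact hb1 j hj h2
    · have := hc1 (-j) (by omega) (by omega)
      rwa [neg_neg] at this
  have hRT : ∀ j : ℤ, -c ≤ j → j ≤ b - 1 → S.Zj 0 ≤ S.Tj j := by
    intro j h1 h2
    exact le_inf (hR j h1 (by omega)) (hR (j + 1) (by omega) (by omega))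
  -- commutation
  have hCm : ∀ j : ℤ, -c ≤ j → j ≤ b - 1 → Comm (S.Zj 0) (S.Zj j) := by
    intro j h1 h2 a ha z hz
    exact (mem_zOf.1 hz).2.2 a (hRT j h1 h2 ha)
  have hnb : ¬ Comm (S.Zj 0) (S.Zj b) := by
    intro hcomm
    have hnQ : ¬ S.Zj 0 ≤ S.Qj b := by
      intro h
      exact hb2 ((h.trans (S.Qj_le_right b)).trans (S.Tj_le_right b))
    obtain ⟨s, hsZ, hsQ⟩ := SetLike.not_le_iff_exists.1 hnQ
    have hsT : s ∈ S.Tj (b - 1) := hRT (b - 1) (by omega) (by omega) hsZ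
    obtain ⟨z, hz, hne⟩ := hC.key b _ _ (S.isSyl_Tj_pred b) (S.isSyl_Tj b) (hL.bent b) s hsT hsQ
    exact hne (hcomm s hsZ z hz)
  have hna : ¬ Comm (S.Zj 0) (S.Zj (-c - 1)) := by
    intro hcomm
    have hnQ : ¬ S.Zj 0 ≤ S.Qj (-c) := by
      intro h
      have h' := (h.trans (S.Qj_le_left (-c))).trans (S.Tj_le_left (-c - 1))
      apply hc2
      have e : -(c + 1) = -c - 1 := by ring
      rw [e]; exact h'
    obtain ⟨s, hsZ, hsQ⟩ := SetLike.not_le_iff_exists.1 hnQ
    have hsT : s ∈ S.Tj (-c) := hRT (-c) (by omega) (by omega) hsZ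
    obtain ⟨z, hz, hne⟩ := hC.key (-c) _ _ (S.isSyl_Tj (-c)) (S.isSyl_Tj_pred (-c))
      (hL.bent (-c)).symm s hsT hsQ
    exact hne (hcomm s hsZ z hz)
  have hsymm : ∀ j : ℤ, Comm (S.Zj 0) (S.Zj j) → Comm (S.Zj 0) (S.Zj (-j)) := by
    intro j h
    have := (comm_shift S j 0).1 (comm_symm' h)
    rwa [zero_sub] at this
  have hbc : b = c + 1 := by
    have h1 : c < b := by
      by_contra h
      have hcm := hCm (-b) (by omega) (by omega)
      have := hsymm _ hcm
      rw [neg_neg] at this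
      exact hnb this
    have h2 : b ≤ c + 1 := by
      by_contra h
      have hcm := hCm (c + 1) (by omega) (by omega)
      have := hsymm _ hcm
      have e : -(c + 1) = -c - 1 := by ring
      rw [e] at this
      exact hna this
    omega
  have hcb : c = b - 1 := by omega
  subst hcb
  -- shifted forms
  have H1 : ∀ i j : ℤ, i - b + 1 ≤ j → j ≤ i + b → S.Zj i ≤ S.Pj j := by
    intro i j h1 h2
    rw [Z_le_P_shift]
    exact hR _ (by omega) (by omega)
  have H2 : ∀ i : ℤ, ¬ S.Zj i ≤ S.Pj (i + b + 1) := by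
    intro i h
    rw [Z_le_P_shift] at h
    have e : i + b + 1 - i = b + 1 := by ring
    rw [e] at h
    exact hb2 h
  have H3 : ∀ i : ℤ, ¬ S.Zj i ≤ S.Pj (i - b) := by
    intro i h
    rw [Z_le_P_shift] at h
    have e : i - b - i = -(b - 1 + 1) := by ring
    rw [e] at h
    exact hc2 h
  have H4 : ∀ i j : ℤ, i - (b - 1) ≤ j → j ≤ i + (b - 1) → Comm (S.Zj i) (S.Zj j) := by
    intro i j h1 h2
    rw [comm_shift]
    exact hCm _ (by omega) (by omega)
  have H5 : ∀ i : ℤ, ¬ Comm (S.Zj i) (S.Zj (i + b)) := by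
    intro i h
    rw [comm_shift] at h
    have e : i + b - i = b := by ring
    rw [e] at h
    exact hnb h
  -- `b ≤ 3`
  have hb3 : b ≤ 3 := by
    by_contra hb4
    have hb4 : 4 ≤ b := by omega
    -- a non-commuting pair
    have hex : ∃ z0 ∈ S.Zj 0, ∃ zl ∈ S.Zj b, z0 * zl ≠ zl * z0 := by
      by_contra hall
      apply hnb
      intro a ha z hz
      by_contra hne
      exact hall ⟨a, ha, z, hz, hne⟩
    obtain ⟨z0, hz0, zl, hzl, hne⟩ := hex
    set x : G := ⁅zl, z0⁆ with hx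
    have hx1 : x ≠ 1 := by
      intro h
      rw [hx, commutatorElement_eq_one_iff_mul_comm] at h
      exact hne h.symm
    -- `x ∈ Z_1`
    have hzlT1 : zl ∈ S.Tj 1 :=
      mem_Tj_of S (by norm_num) (H1 b 1 (by omega) (by omega) hzl) (H1 b 2 (by omega) (by omega) hzl)
    have hz0V1 : z0 ∈ S.Vj 1 := by
      have h := hC.Z_le_V (0 + 1) (S.Tj 0) (S.isSyl_Tj_succ 0)
      have e : (0 : ℤ) + 1 = 1 := by norm_num
      rw [e] at h
      exact h hz0
    have hxZ1 : x ∈ S.Zj 1 := by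
      have h1 : x ∈ ⁅S.Tj 1, S.Vj 1⁆ := Subgroup.commutator_mem_commutator hzlT1 hz0V1
      rw [Subgroup.commutator_comm] at h1
      exact hM.comm_le 1 (S.Tj 1) (S.isSyl_Tj 1) h1
    -- `x ∈ Z_(b-1)`
    have hzlV : zl ∈ S.Vj b := hC.Z_le_V b (S.Tj b) (S.isSyl_Tj b) hzl
    have hz0T : z0 ∈ S.Tj (b - 1) := hRT (b - 1) (by omega) (by omega) hz0
    have hxZb : x ∈ S.Zj (b - 1) := by
      have h1 : x ∈ ⁅S.Vj b, S.Tj (b - 1)⁆ := Subgroup.commutator_mem_commutator hzlV hz0T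
      exact hM.comm_le b (S.Tj (b - 1)) (S.isSyl_Tj_pred b) h1
    obtain ⟨hxT1, hxsq, hxc1⟩ := mem_zOf.1 hxZ1
    -- step at `k = 2`
    have hcent2 : ∀ y ∈ S.Pj 2, y * x = x * y := by
      have hnQ : ¬ S.Zj (b + 1) ≤ S.Qj 2 := by
        intro h
        have h' := (h.trans (S.Qj_le_left 2)).trans (S.Tj_le_left (2 - 1))
        apply H3 (b + 1)
        have e : b + 1 - b = 2 - 1 := by ring
        rw [e]; exact h'
      obtain ⟨s, hsZ, hsQ⟩ := SetLike.not_le_iff_exists.1 hnQ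
      have hsT : s ∈ S.Tj 2 :=
        mem_Tj_of S (by norm_num) (H1 (b + 1) 2 (by omega) (by omega) hsZ)
          (H1 (b + 1) 3 (by omega) (by omega) hsZ)
      have hsx : s * x = x * s := (H4 (b - 1) (b + 1) (by omega) (by omega) x hxZb s hsZ).symm
      apply central_step S hL 2 x _ s hsT hsQ hsx
      intro y hy
      have e : (2 : ℤ) - 1 = 1 := by norm_num
      rw [e] at hy
      exact hxc1 y hy
    -- step at `k = 3`
    have hcent3 : ∀ y ∈ S.Pj 3, y * x = x * y := by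
      have hnQ : ¬ S.Zj (b + 2) ≤ S.Qj 3 := by
        intro h
        have h' := (h.trans (S.Qj_le_left 3)).trans (S.Tj_le_left (3 - 1))
        apply H3 (b + 2)
        have e : b + 2 - b = 3 - 1 := by ring
        rw [e]; exact h'
      obtain ⟨s, hsZ, hsQ⟩ := SetLike.not_le_iff_exists.1 hnQ
      have hsT : s ∈ S.Tj 3 :=
        mem_Tj_of S (by norm_num) (H1 (b + 2) 3 (by omega) (by omega) hsZ)
          (H1 (b + 2) 4 (by omega) (by omega) hsZ)
      have hsx : s * x = x * s := (H4 (b - 1) (b + 2) (by omega) (by omega) x hxZb s hsZ).symm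
      apply central_step S hL 3 x _ s hsT hsQ hsx
      intro y hy
      have e : (3 : ℤ) - 1 = 2 := by norm_num
      rw [e] at hy
      exact hcent2 y (S.Tj_le_left 2 hy)
    have hxP2 : x ∈ S.Pj 2 := by
      have h := S.Tj_le_right 1 hxT1
      have e : (1 : ℤ) + 1 = 2 := by norm_num
      rw [e] at h; exact h
    have hxP3 : x ∈ S.Pj 3 := H1 1 3 (by omega) (by omega) hxZ1
    have hxY2 : x ∈ S.Yj 2 := mem_zOf.2 ⟨hxP2, hxsq, hcent2⟩
    have hxY3 : x ∈ S.Yj 3 := mem_zOf.2 ⟨hxP3, hxsq, hcent3⟩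
    have hPne : S.Pj 2 ≠ S.Pj 3 := by
      have h := hL.P_ne 2
      have e : (2 : ℤ) + 1 = 3 := by norm_num
      rw [e] at h; exact h
    have hbot := hC.Y_inf 2 3 hPne
    have : x ∈ S.Yj 2 ⊓ S.Yj 3 := ⟨hxY2, hxY3⟩
    rw [hbot, Subgroup.mem_bot] at this
    exact hx1 this
  have hb23 : b = 2 ∨ b = 3 := by omega
  rcases hb23 with rfl | rfl
  · left
    refine ⟨fun i j h1 h2 => H1 i j (by push_cast at h1; linarith) (by push_cast at h2; linarith),
      fun i => ?_, fun i => ?_, fun i => ?_⟩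
    · have := H2 i; simpa using this
    · have := H3 i; simpa using this
    · have := H5 i; simpa using this
  · right
    refine ⟨fun i j h1 h2 => H1 i j (by push_cast at h1; linarith) (by push_cast at h2; linarith),
      fun i => ?_, fun i => ?_, fun i => ?_⟩
    · have := H2 i; simpa using this
    · have := H3 i; simpa using this
    · have := H5 i; simpa using this

end Cfsg.Agent.Lib.H15.Sims
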