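import Cfsg.Agent.Lib.H15.PCoreOf
import Cfsg.Agent.Lib.H7.Coprime
import Cfsg.Agent.Lib.H20.PowDecomp

/-!
Subgroups of groups of characteristic `p` (helper15's shared library).
-/

set_option autoImplicit false

namespace Cfsg.Agent.Lib.H15

open Cfsg.Agent.Lib.H1

variable {G : Type*} [Group G] [Finite G] {p : ℕ} [Fact p.Prime]

/-- If `Q` is a normal `p`-subgroup of `K` with `C_K(Q) ≤ Q`, and `Q` normalizes `L ≤ K`,
then `C_L(O_p(L)) ≤ O_p(L)`. -/
theorem charP_of_normalized_rel {K Q L : Subgroup G} (hKQ : K ≤ Subgroup.normalizer (Q : Set G))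
    (hQp : IsPGroup p ↥Q)
    (hCQ : K ⊓ Subgroup.centralizer (Q : Set G) ≤ Q) (hLK : L ≤ K)
    (hQL : Q ≤ Subgroup.normalizer (L : Set G)) :
    L ⊓ Subgroup.centralizer (Cfsg.pCoreOf p L : Set G) ≤ Cfsg.pCoreOf p L := by
  have hp : p.Prime := Fact.out
  have hconj : ∀ l ∈ L, ∀ x ∈ Q, l * x * l⁻¹ ∈ Q := fun l hl x hx =>
    (Subgroup.mem_normalizer_iff.mp (hKQ (hLK hl)) x).mp hx
  have hconj' : ∀ l ∈ L, ∀ x ∈ Q, l⁻¹ * x * l ∈ Q := fun l hl x hx => by
    have := hconj l⁻¹ (L.inv_mem hl) x hx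
    simpa using this
  set R := Cfsg.pCoreOf p L with hR
  have hRp : IsPGroup p ↥R := pcoreOf_isPGroup p L
  -- Q ⊓ L ≤ R
  have hQLR : Q ⊓ L ≤ R := by
    apply le_pcoreOf inf_le_right _ (hQp.to_le inf_le_left)
    intro l hl
    rw [Subgroup.mem_normalizer_iff]
    intro x
    constructor
    · rintro ⟨hxQ, hxL⟩
      exact ⟨hconj l hl x hxQ, L.mul_mem (L.mul_mem hl hxL) (L.inv_mem hl)⟩
    · rintro ⟨hxQ, hxL⟩
      refine ⟨?_, ?_⟩
      · have := hconj' l hl _ hxQ
        simpa [mul_assoc] using this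
      · have := L.mul_mem (L.mul_mem (L.inv_mem hl) hxL) hl
        simpa [mul_assoc] using this
  -- p'-elements of C are trivial
  have hpprime : ∀ c ∈ L ⊓ Subgroup.centralizer (R : Set G), (orderOf c).Coprime p → c = 1 := by
    intro c hc hcop
    obtain ⟨n, hn⟩ := IsPGroup.iff_card.mp hRp
    have hcop' : (orderOf c).Coprime (Nat.card ↥R) := by rw [hn]; exact Nat.Coprime.pow_right n hcop
    have h1 : ∀ q ∈ Q, c * q = q * c := by
      apply Cfsg.Agent.Lib.H7.commute_of_stable_step (R := R) hcop'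
      · intro q hq
        apply hQLR
        refine ⟨?_, ?_⟩
        · exact Q.mul_mem (hconj c hc.1 q hq) (Q.inv_mem hq)
        · have h2 : q * c⁻¹ * q⁻¹ ∈ L :=
            (Subgroup.mem_normalizer_iff.mp (hQL hq) c⁻¹).mp (L.inv_mem hc.1)
          have h3 : c * q * c⁻¹ * q⁻¹ = c * (q * c⁻¹ * q⁻¹) := by group
          rw [h3]
          exact L.mul_mem hc.1 h2
      · intro r hr
        exact ((Subgroup.mem_centralizer_iff.mp hc.2) r hr).symm
    have h2 : c ∈ Q := by
      apply hCQ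
      refine Subgroup.mem_inf.mpr ⟨hLK hc.1, ?_⟩
      rw [Subgroup.mem_centralizer_iff]
      intro q hq
      exact (h1 q hq).symm
    obtain ⟨k, hk⟩ := (IsPGroup.iff_orderOf.mp hQp) ⟨c, h2⟩
    rw [Subgroup.orderOf_mk] at hk
    rw [hk] at hcop
    have : p ^ k = 1 := by
      have h3 : (p ^ k).Coprime (p ^ k) := Nat.Coprime.pow_right k hcop
      exact (Nat.coprime_self _).mp h3
    rw [this] at hk
    exact orderOf_eq_one_iff.mp hk
  -- C is a p-group
  have hCp : IsPGroup p ↥(L ⊓ Subgroup.centralizer (R : Set G)) := by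
    rw [IsPGroup.iff_orderOf]
    intro c
    obtain ⟨k, l, hkl, ⟨e, he⟩, hcop⟩ :=
      Cfsg.Agent.Lib.H20.exists_pPart_pPrimePart (c : G) (isOfFinOrder_of_finite _) p hp
    have hl1 : (c : G) ^ l = 1 :=
      hpprime _ (Subgroup.pow_mem _ c.2 l) hcop
    rw [hl1, mul_one] at hkl
    refine ⟨e, ?_⟩
    rw [← Subgroup.orderOf_coe, ← he, hkl]
  -- C is normalized by L
  apply le_pcoreOf inf_le_left _ hCp
  intro l hl
  apply mem_normalizer_of_cj_le
  intro y hy
  rw [mem_cj_iff] at hy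
  refine ⟨?_, ?_⟩
  · have := L.mul_mem (L.mul_mem hl hy.1) (L.inv_mem hl)
    have h2 : l * (l⁻¹ * y * l) * l⁻¹ = y := by group
    rwa [h2] at this
  · have h1 : cj l R = R := mem_normalizer_iff_cj_eq.mp (pcoreOf_normalized p L hl)
    have h2 : y ∈ cj l (Subgroup.centralizer (R : Set G)) := mem_cj_iff.mpr hy.2
    rw [← centralizer_cj, h1] at h2
    exact h2

/-- If `Q` is a normal `p`-subgroup of `G` with `C_G(Q) ≤ Q` and `Q` normalizes `L`,
then `C_L(O_p(L)) ≤ O_p(L)`. -/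
theorem charP_of_normalized {Q L : Subgroup G} (hQn : Q.Normal) (hQp : IsPGroup p ↥Q)
    (hCQ : Subgroup.centralizer (Q : Set G) ≤ Q) (hQL : Q ≤ Subgroup.normalizer (L : Set G)) :
    L ⊓ Subgroup.centralizer (Cfsg.pCoreOf p L : Set G) ≤ Cfsg.pCoreOf p L := by
  apply charP_of_normalized_rel (K := ⊤) _ hQp (inf_le_right.trans hCQ) le_top hQL
  intro g _
  rw [Subgroup.mem_normalizer_iff]
  intro x
  constructor
  · intro hx; exact hQn.conj_mem x hx g
  · intro hx
    have := hQn.conj_mem _ hx g⁻¹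
    simpa [mul_assoc] using this

/-- Subnormal subgroups of a group of characteristic `p` have characteristic `p` (ambient form). -/
theorem charP_of_isSubnormal
    (hX : Subgroup.centralizer (Cfsg.pCore p G : Set G) ≤ Cfsg.pCore p G) {Y : Subgroup G}
    (hY : Y.IsSubnormal) :
    Y ⊓ Subgroup.centralizer (Cfsg.pCoreOf p Y : Set G) ≤ Cfsg.pCoreOf p Y := by
  induction hY with
  | top =>
    rw [pcoreOf_top]
    exact inf_le_right.trans hX
  | step H K hle _ hN ih =>
    have hKH : K ≤ Subgroup.normalizer (H : Set G) :=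
      (Subgroup.normal_subgroupOf_iff_le_normalizer hle).mp hN
    exact charP_of_normalized_rel (K := K) (pcoreOf_normalized p K) (pcoreOf_isPGroup p K) ih hle
      ((pcoreOf_le p K).trans hKH)

end Cfsg.Agent.Lib.H15
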