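import Cfsg.Agent.Lib.H15.SCFusion
import Cfsg.Agent.Lib.H15.RankOne

/-!
Control of strong fusion by `N(W(D))` for a strongly closed subgroup `D` of a Sylow subgroup
(helper15's shared library): the conjugacy functor `Q ↦ W(Q ∩ D^g)` and the global theorem.
-/

set_option autoImplicit false

universe u

namespace Cfsg.Agent.Lib.H15.SCF

open Cfsg.Agent.Lib Cfsg.Agent.Lib.H4.ZJ Cfsg.Agent.Lib.H15.ZJS Cfsg.Agent.Lib.H15.NPCS
open Cfsg.Agent.Lib.H15

section sub

variable {p : ℕ} [hp : Fact p.Prime] {W : ∀ (X : Type u) [Group X], Subgroup X → Subgroup X}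

/-- The local theorem for a subgroup `H` of `G`. -/
theorem local_control_sub (hW : MapFun W) (hWn : NormalHyp.{u} p W) {G : Type u} [Group G]
    [Finite G] (H T₁ E : Subgroup G) (hT₁H : T₁ ≤ H) (hT₁ : IsPGroup p T₁)
    (hT₁i : ¬ p ∣ T₁.relIndex H) (hE : Cfsg.IsStronglyClosed E T₁)
    (hst : Cfsg.IsNormalizerPStable p ↥H) (hc : Cfsg.IsPConstrained p ↥H)
    (A : Set G) (h : G) (hh : h ∈ H) (hA : A ⊆ (T₁ : Set G))
    (hAh : (fun a => h * a * h⁻¹) '' A ⊆ (T₁ : Set G)) :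
    ∃ x ∈ H ⊓ Subgroup.normalizer (W G E : Set G), ∀ a ∈ A, x * a * x⁻¹ = h * a * h⁻¹ := by
  have hT₁' : IsPGroup p (T₁.subgroupOf H) := hT₁.comap_subtype
  obtain ⟨S, hS⟩ := H10.exists_sylow_eq hT₁' hT₁i
  have hE' : Cfsg.IsStronglyClosed (E.subgroupOf H) (S : Subgroup ↥H) := by
    rw [hS]
    refine ⟨?_, ?_⟩
    · intro x hx
      rw [Subgroup.mem_subgroupOf] at hx ⊢
      exact hE.1 hx
    · intro x hx g hg
      rw [Subgroup.mem_subgroupOf] at hx hg ⊢
      exact hE.2 (x : G) hx (g : G) hg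
  have hA' : (H.subtype ⁻¹' A) ⊆ ((S : Subgroup ↥H) : Set ↥H) := by
    intro a ha
    rw [hS]
    exact Subgroup.mem_subgroupOf.mpr (hA ha)
  have hAh' : (fun a => (⟨h, hh⟩ : ↥H) * a * (⟨h, hh⟩ : ↥H)⁻¹) '' (H.subtype ⁻¹' A) ⊆
      ((S : Subgroup ↥H) : Set ↥H) := by
    rintro _ ⟨a, ha, rfl⟩
    rw [hS]
    exact Subgroup.mem_subgroupOf.mpr (hAh ⟨(a : G), ha, rfl⟩)
  obtain ⟨x, hx, hxa⟩ := local_control hW hWn S (E.subgroupOf H) hE' hst hc _ ⟨h, hh⟩ hA' hAh'
  have hEH : E ≤ H := hE.1.trans hT₁H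
  have hmap : W G E = (W ↥H (E.subgroupOf H)).map H.subtype := by
    rw [← hW.map H.subtype (E.subgroupOf H) (H.subtype_injective.injOn),
      Subgroup.map_subgroupOf_eq_of_le hEH]
  refine ⟨(x : G), ⟨x.2, ?_⟩, ?_⟩
  · rw [hmap]
    exact Subgroup.le_normalizer_map H.subtype ⟨x, hx, rfl⟩
  · intro a ha
    have haH : a ∈ H := hT₁H (hA ha)
    have := hxa ⟨a, haH⟩ ha
    exact congrArg Subtype.val this

end sub

section dof

variable {G : Type u} [Group G]

/-- The elements of `Q` with a conjugate in `D`, as a subgroup (for `D` strongly closed in a Sylow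
subgroup and `Q` a `p`-subgroup, this is `Q ∩ D^k` for any `k` with `Q ≤ P^k`). -/
def Dof (D Q : Subgroup G) : Subgroup G :=
  Subgroup.closure {x | x ∈ Q ∧ ∃ g : G, g * x * g⁻¹ ∈ D}

theorem Dof_le (D Q : Subgroup G) : Dof D Q ≤ Q := by
  unfold Dof
  rw [Subgroup.closure_le]
  exact fun x hx => hx.1

theorem Dof_eq_of_le_cj {D P Q : Subgroup G} (hD : Cfsg.IsStronglyClosed D P) (k : G)
    (hQ : Q ≤ cj k P) : Dof D Q = Q ⊓ cj k D := by
  have hset : {x | x ∈ Q ∧ ∃ g : G, g * x * g⁻¹ ∈ D} = ((Q ⊓ cj k D : Subgroup G) : Set G) := by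
    ext x
    simp only [Set.mem_ofPred_eq, Subgroup.coe_inf, Set.mem_inter_iff, SetLike.mem_coe]
    constructor
    · rintro ⟨hxQ, g, hg⟩
      refine ⟨hxQ, ?_⟩
      rw [mem_cj_iff]
      have h1 : k⁻¹ * x * k ∈ P := mem_cj_iff.mp (hQ hxQ)
      have e : k⁻¹ * x * k = (k⁻¹ * g⁻¹) * (g * x * g⁻¹) * (k⁻¹ * g⁻¹)⁻¹ := by group
      rw [e] at h1 ⊢
      exact hD.2 _ hg _ h1
    · rintro ⟨hxQ, hxD⟩
      refine ⟨hxQ, k⁻¹, ?_⟩
      rw [inv_inv]
      exact mem_cj_iff.mp hxD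
  unfold Dof
  rw [hset, Subgroup.closure_eq]

theorem Dof_cj (D Q : Subgroup G) (g : G) : Dof D (cj g Q) = cj g (Dof D Q) := by
  unfold Dof cj
  rw [MonoidHom.map_closure]
  congr 1
  ext x
  simp only [Set.mem_ofPred_eq, Set.mem_image]
  constructor
  · rintro ⟨hxQ, k, hk⟩
    refine ⟨g⁻¹ * x * g, ⟨mem_cj_iff.mp hxQ, k * g, ?_⟩, ?_⟩
    · have e : k * g * (g⁻¹ * x * g) * (k * g)⁻¹ = k * x * k⁻¹ := by group
      rw [e]; exact hk
    · simp [mul_assoc]
  · rintro ⟨y, ⟨hyQ, k, hk⟩, rfl⟩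
    refine ⟨conj_mem_cj hyQ, k * g⁻¹, ?_⟩
    have e : k * g⁻¹ * ((MulAut.conj g).toMonoidHom y) * (k * g⁻¹)⁻¹ = k * y * k⁻¹ := by
      simp only [MulEquiv.coe_toMonoidHom, MulAut.conj_apply]
      group
    rw [e]; exact hk

end dof

section functor

variable {G : Type u} [Group G]

/-- The conjugacy functor `Q ↦ Z(Q ∩ D^g)` (or `Z(Q)` if that intersection is trivial). -/
noncomputable def WF (Z : Subgroup G → Subgroup G) (D : Subgroup G) : Subgroup G → Subgroup G :=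
  fun Q => @ite _ (Dof D Q = ⊥) (Classical.propDecidable _) (Z Q) (Z (Dof D Q))

theorem WF_of_bot {Z : Subgroup G → Subgroup G} {D Q : Subgroup G} (h : Dof D Q = ⊥) :
    WF Z D Q = Z Q := by
  unfold WF
  rw [if_pos h]

theorem WF_of_ne_bot {Z : Subgroup G → Subgroup G} {D Q : Subgroup G} (h : Dof D Q ≠ ⊥) :
    WF Z D Q = Z (Dof D Q) := by
  unfold WF
  rw [if_neg h]

/-- what we need of the underlying functor `Z` on `p`-subgroups of `G` -/
structure ZFun (p : ℕ) (Z : Subgroup G → Subgroup G) : Prop where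
  le : ∀ Q : Subgroup G, Z Q ≤ Q
  cj : ∀ (g : G) (Q : Subgroup G), Z (cj g Q) = cj g (Z Q)
  ne_bot : ∀ Q : Subgroup G, IsPGroup p Q → Q ≠ ⊥ → Z Q ≠ ⊥

theorem isConjugacyFunctor_WF {p : ℕ} {Z : Subgroup G → Subgroup G} (hZ : ZFun p Z)
    (D : Subgroup G) : Cfsg.IsConjugacyFunctor p (WF Z D) := by
  intro Q hQ
  refine ⟨?_, ?_, ?_⟩
  · by_cases h : Dof D Q = ⊥
    · rw [WF_of_bot h]; exact hZ.le Q
    · rw [WF_of_ne_bot h]; exact (hZ.le _).trans (Dof_le D Q)
  · intro hQ1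
    by_cases h : Dof D Q = ⊥
    · rw [WF_of_bot h]; exact hZ.ne_bot Q hQ hQ1
    · rw [WF_of_ne_bot h]; exact hZ.ne_bot _ (hQ.to_le (Dof_le D Q)) h
  · intro g
    have hD := Dof_cj D Q g
    unfold cj at hD
    by_cases h : Dof D Q = ⊥
    · have h' : Dof D (Q.map (MulAut.conj g).toMonoidHom) = ⊥ := by
        rw [hD, h, Subgroup.map_bot]
      rw [WF_of_bot h, WF_of_bot h']
      exact hZ.cj g Q
    · have h' : Dof D (Q.map (MulAut.conj g).toMonoidHom) ≠ ⊥ := by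
        rw [hD]
        intro h0
        exact h ((Subgroup.map_eq_bot_iff_of_injective _ (MulAut.conj g).injective).mp h0)
      rw [WF_of_ne_bot h, WF_of_ne_bot h', hD]
      exact hZ.cj g _

end functor

section main

variable {p : ℕ} [hp : Fact p.Prime] {W : ∀ (X : Type u) [Group X], Subgroup X → Subgroup X}

/-- **Main theorem**: control of strong fusion by `N(W(D))`, `D` strongly closed in the Sylow
subgroup `P`, when `G` is `p`-stable in the normalizer form and all `N_G(U)`, `1 ≠ U ≤ P`, are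
`p`-constrained. -/
theorem control_stronglyClosed (hW : MapFun W) (hWn : NormalHyp.{u} p W) {G : Type u} [Group G]
    [Finite G] (hZ : ZFun p (W G)) (P : Sylow p G) (D : Subgroup G)
    (hD : Cfsg.IsStronglyClosed D (P : Subgroup G))
    (hst : Cfsg.IsNormalizerPStable p G)
    (hc : ∀ U : Subgroup G, U ≤ (P : Subgroup G) → U ≠ ⊥ →
      Cfsg.IsPConstrained p ↥(Subgroup.normalizer (U : Set G)))
    (A : Set G) (hA : A ⊆ ((P : Subgroup G) : Set G)) :
    Cfsg.ControlsStrongFusionOf (Subgroup.normalizer (W G D : Set G)) (P : Subgroup G) A := by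
  refine ⟨hA, ?_⟩
  intro g hg
  by_cases hD1 : D = ⊥
  · refine ⟨g, ?_, fun a _ => rfl⟩
    have h1 : W G D = ⊥ := by
      rw [eq_bot_iff]
      exact (hZ.le D).trans (le_of_eq hD1)
    rw [h1, Subgroup.normalizer_eq_top_iff.mpr inferInstance]
    exact Subgroup.mem_top g
  have hWF := isConjugacyFunctor_WF hZ D
  have hloc : ∀ T : Subgroup G, T ≠ ⊥ → Cfsg.IsWellPlaced p (WF (W G) D) (P : Subgroup G) T →
      Cfsg.ControlsStrongFusionIn p (WF (W G) D) (Subgroup.normalizer ((T : Subgroup G) : Set G)) := by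
    intro T hT1 hwp
    have hTP : T ≤ (P : Subgroup G) := hwp.1
    have hi := hwp.2 0
    change ¬ p ∣ ((P : Subgroup G) ⊓ Subgroup.normalizer (T : Set G)).relIndex
      (Subgroup.normalizer (T : Set G)) at hi
    set H := Subgroup.normalizer (T : Set G) with hH
    set T₁ := (P : Subgroup G) ⊓ H with hT₁
    have hT₁p : IsPGroup p T₁ := P.2.to_le inf_le_left
    have hstH : Cfsg.IsNormalizerPStable p ↥H := Cfsg.Agent.S3836.result hst H
    have hcH : Cfsg.IsPConstrained p ↥H := hc T hTP hT1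
    have hT₁P : T₁ ≤ cj 1 (P : Subgroup G) := by
      rw [cj_one]; exact inf_le_left
    have hDof : Dof D T₁ = T₁ ⊓ D := by
      rw [Dof_eq_of_le_cj hD 1 hT₁P, cj_one]
    refine ⟨T₁, inf_le_right, hT₁p, hi, ?_⟩
    intro B h hh hB hBh
    by_cases h0 : Dof D T₁ = ⊥
    · rw [WF_of_bot h0]
      exact local_control_sub hW hWn H T₁ T₁ inf_le_right hT₁p hi (stronglyClosed_self T₁)
        hstH hcH B h hh hB hBh
    · rw [WF_of_ne_bot h0]
      have hE : Cfsg.IsStronglyClosed (Dof D T₁) T₁ := by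
        rw [hDof]
        refine ⟨inf_le_left, ?_⟩
        intro x hx k hk
        exact ⟨hk, hD.2 x hx.2 k (inf_le_left (a := (P : Subgroup G)) (b := H) hk)⟩
      exact local_control_sub hW hWn H T₁ (Dof D T₁) inf_le_right hT₁p hi hE
        hstH hcH B h hh hB hBh
  have hctl := H10.controlsStrongFusionIn_top_of_wellPlaced P hWF hloc
  have hPi : ¬ p ∣ (P : Subgroup G).relIndex ⊤ := by
    rw [Subgroup.relIndex_top_right]; exact P.not_dvd_index
  obtain ⟨x, hx, hxa⟩ := H10.controlsStrongFusionIn_sylowIn hWF hctl P.2 le_top hPi A g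
    (Subgroup.mem_top g) hA hg
  have hPP : (P : Subgroup G) ≤ cj 1 (P : Subgroup G) := by rw [cj_one]
  have hDofP : Dof D (P : Subgroup G) = D := by
    rw [Dof_eq_of_le_cj hD 1 hPP, cj_one, inf_eq_right]
    exact hD.1
  have hWP : WF (W G) D (P : Subgroup G) = W G D := by
    rw [WF_of_ne_bot (by rw [hDofP]; exact hD1), hDofP]
  rw [hWP] at hx
  exact ⟨x, hx.2, fun a ha => (hxa a ha).symm⟩

end main

section nebot

variable {G : Type u} [Group G] [Finite G] {p : ℕ} [hp : Fact p.Prime]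

/-- `ZJ` of a nontrivial `p`-subgroup is nontrivial, for a class containing the cyclic groups
of order `p`. -/
theorem ZJ_ne_bot (𝒞 : SubClass G) (hcyc : ∀ z : G, z ^ p = 1 → 𝒞.pred (Subgroup.zpowers z))
    (Q : Subgroup G) (hQ : IsPGroup p Q) (hQ1 : Q ≠ ⊥) : ZJ 𝒞 Q ≠ ⊥ := by
  obtain ⟨z, hzQ, hzo, hzc⟩ := exists_central_orderOf_eq_prime hQ hQ1
  have hzp : z ^ p = 1 := by rw [← hzo]; exact pow_orderOf_eq_one z
  have hB : Subgroup.zpowers z ≤ ZJ 𝒞 Q := by
    apply le_ZJ_of_forall_le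
    intro A hA
    have hcomm : ∀ x ∈ A, ∀ y ∈ Subgroup.zpowers z, x * y = y * x := by
      intro x hx y hy
      obtain ⟨k, rfl⟩ := Subgroup.mem_zpowers_iff.mp hy
      exact ((Commute.zpow_right (hzc x (hA.1 hx)) k)).eq
    have hsup : 𝒞.pred (A ⊔ Subgroup.zpowers z) := 𝒞.sup _ _ hA.2.1 (hcyc z hzp) hcomm
    have hle : A ⊔ Subgroup.zpowers z ≤ Q := sup_le hA.1 (Subgroup.zpowers_le.mpr hzQ)
    have hcard := hA.2.2 _ hle hsup
    have heq : A = A ⊔ Subgroup.zpowers z := eq_of_le_of_card_le' le_sup_left hcard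
    rw [heq]
    exact le_sup_right
  intro h0
  rw [h0, Subgroup.zpowers_le, Subgroup.mem_bot] at hB
  rw [hB, orderOf_one] at hzo
  exact hp.out.one_lt.ne hzo

theorem zFun_WA : ZFun p (WA.{u} G) where
  le := fun Q => mapFun_WA.le Q
  cj := fun g Q => mapFun_WA.map (MulAut.conj g).toMonoidHom Q (MulAut.conj g).injective.injOn
  ne_bot := by
    intro Q hQ hQ1
    show Cfsg.centerThompsonAOf Q ≠ ⊥
    rw [← ZJ_abClass]
    exact ZJ_ne_bot (abClass G) (fun z _ => comm_zpowers z) Q hQ hQ1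

theorem zFun_WE : ZFun p (WE.{u} p G) where
  le := fun Q => mapFun_WE.le Q
  cj := fun g Q => mapFun_WE.map (MulAut.conj g).toMonoidHom Q (MulAut.conj g).injective.injOn
  ne_bot := by
    intro Q hQ hQ1
    show Cfsg.omegaOne p (Cfsg.centerThompsonOf p Q) ≠ ⊥
    rw [← ZJ_eaClass_eq]
    refine ZJ_ne_bot (eaClass p G) ?_ Q hQ hQ1
    intro z hz
    refine ⟨comm_zpowers z, ?_⟩
    intro a ha
    obtain ⟨k, rfl⟩ := Subgroup.mem_zpowers_iff.mp ha
    rw [← zpow_natCast, ← zpow_mul, mul_comm, zpow_mul, zpow_natCast, hz, one_zpow]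

end nebot

/-- **S3080 in library form.** -/
theorem control_stronglyClosed_both {G : Type u} [Group G] [Finite G] {p : ℕ} [Fact p.Prime]
    (hp2 : p ≠ 2) (P : Sylow p G) (D : Subgroup G)
    (hD : Cfsg.IsStronglyClosed D (P : Subgroup G))
    (hst : Cfsg.IsNormalizerPStable p G)
    (hc : ∀ U : Subgroup G, U ≤ (P : Subgroup G) → U ≠ ⊥ →
      Cfsg.IsPConstrained p ↥(Subgroup.normalizer (U : Set G))) :
    (∀ A : Set G, A ⊆ (P : Subgroup G) → Cfsg.ControlsStrongFusionOf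
      (Subgroup.normalizer ((Cfsg.centerThompsonAOf D) : Set G)) (P : Subgroup G) A) ∧
    (∀ A : Set G, A ⊆ (P : Subgroup G) → Cfsg.ControlsStrongFusionOf
      (Subgroup.normalizer ((Cfsg.omegaOne p (Cfsg.centerThompsonOf p D)) : Set G))
      (P : Subgroup G) A) :=
  ⟨fun A hA => control_stronglyClosed mapFun_WA (normalHyp_WA hp2) zFun_WA P D hD hst hc A hA,
   fun A hA => control_stronglyClosed mapFun_WE (normalHyp_WE hp2) zFun_WE P D hD hst hc A hA⟩

end Cfsg.Agent.Lib.H15.SCF
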