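import Mathlib
import Cfsg.Agent.Lib.H1.QdStable
import Cfsg.Agent.Lib.H1.PCore
import Cfsg.Agent.Lib.H4.ZJ
import Cfsg.Agent.Lib.H4.ZJInst
import Cfsg.Agent.Lib.H15.SCFusion2

/-!
# In `Qd(p)` the normalizer of `Z(J(T))` does not control strong fusion (helper15)

Abstract form: `QdData p Y` packages a group `Y` with the structure of `Qd(p)`
(translations `τ`, linear part `β`).  `exists_sylow_not_controls`: some Sylow `p`-subgroup `T` of `Y`
has `¬ ControlsStrongFusion p (Z(J(T)))`.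
-/

set_option autoImplicit false
open Cfsg

namespace Cfsg.Agent.Lib.H15.QdCtl

open Cfsg.Agent.Lib.H1.QdSec Cfsg.Agent.Lib.H4.ZJ

/-- the structure of `Qd(p)` on a group `Y` -/
structure QdData (p : ℕ) (Y : Type*) [Group Y] where
  τ : Multiplicative (Fin 2 → ZMod p) →* Y
  β : Matrix.SpecialLinearGroup (Fin 2) (ZMod p) →* Y
  conj : ∀ (A : Matrix.SpecialLinearGroup (Fin 2) (ZMod p)) (x : Fin 2 → ZMod p),
    β A * τ (Multiplicative.ofAdd x) * (β A)⁻¹ = τ (Multiplicative.ofAdd (A.1.mulVec x))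
  inj : Function.Injective τ
  surj : ∀ y : Y, ∃ (x : Multiplicative (Fin 2 → ZMod p))
    (A : Matrix.SpecialLinearGroup (Fin 2) (ZMod p)), y = τ x * β A
  uniq : ∀ (x : Multiplicative (Fin 2 → ZMod p))
    (A : Matrix.SpecialLinearGroup (Fin 2) (ZMod p)), τ x * β A = 1 → A = 1

section lin

variable {p : ℕ}

theorem uu_mulVec (t a b : ZMod p) : (uu t).1.mulVec ![a, b] = ![a + t * b, b] := by
  funext i
  fin_cases i <;> simp [Matrix.mulVec, dotProduct, Fin.sum_univ_two, uu_coe]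

theorem ll_mulVec (t a b : ZMod p) : (ll t).1.mulVec ![a, b] = ![a, t * a + b] := by
  funext i
  fin_cases i <;> simp [Matrix.mulVec, dotProduct, Fin.sum_univ_two, ll_coe]

theorem vec_eta (x : Fin 2 → ZMod p) : x = ![x 0, x 1] := by
  funext i
  fin_cases i <;> rfl

theorem eq_one_of_mulVec (A : Matrix.SpecialLinearGroup (Fin 2) (ZMod p))
    (h : ∀ x : Fin 2 → ZMod p, A.1.mulVec x = x) : A = 1 := by
  apply Matrix.SpecialLinearGroup.ext
  intro i j
  have h0 := h ![1, 0]
  have h1 := h ![0, 1]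
  have e00 := congrFun h0 0
  have e10 := congrFun h0 1
  have e01 := congrFun h1 0
  have e11 := congrFun h1 1
  simp [Matrix.mulVec, dotProduct, Fin.sum_univ_two] at e00 e10 e01 e11
  fin_cases i <;> fin_cases j <;> simp [e00, e10, e01, e11]

/-- a nonzero `SL₂(p)`-invariant additive "subgroup" of `𝔽_p²` is everything -/
theorem all_of_sl_invariant [Fact p.Prime] (P : (Fin 2 → ZMod p) → Prop)
    (hadd : ∀ x y, P x → P y → P (x + y)) (hneg : ∀ x, P x → P (-x))
    (hsl : ∀ (A : Matrix.SpecialLinearGroup (Fin 2) (ZMod p)) x, P x → P (A.1.mulVec x))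
    (x₀ : Fin 2 → ZMod p) (hx₀ : x₀ ≠ 0) (h₀ : P x₀) : ∀ x, P x := by
  have hsub : ∀ x y, P x → P y → P (x - y) := fun x y hx hy => by
    rw [sub_eq_add_neg]; exact hadd _ _ hx (hneg _ hy)
  have hzero : P 0 := by
    have := hsub x₀ x₀ h₀ h₀
    rwa [sub_self] at this
  have hnsmul : ∀ (n : ℕ) x, P x → P (n • x) := by
    intro n x hx
    induction n with
    | zero => rw [zero_smul]; exact hzero
    | succ n ih => rw [succ_nsmul]; exact hadd _ _ ih hx
  have hsmul : ∀ (c : ZMod p) x, P x → P (c • x) := by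
    intro c x hx
    have : c • x = c.val • x := by
      rw [← Nat.cast_smul_eq_nsmul (ZMod p), ZMod.natCast_zmod_val]
    rw [this]
    exact hnsmul _ _ hx
  have hb : P ![x₀ 1, 0] := by
    have h1 := hsub _ _ (hsl (uu 1) x₀ h₀) h₀
    have h2 : (uu (1 : ZMod p)).1.mulVec x₀ - x₀ = ![x₀ 1, 0] := by
      conv_lhs => rw [vec_eta x₀, uu_mulVec]
      funext i
      fin_cases i <;> simp
    rwa [h2] at h1
  have ha : P ![0, x₀ 0] := by
    have h1 := hsub _ _ (hsl (ll 1) x₀ h₀) h₀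
    have h2 : (ll (1 : ZMod p)).1.mulVec x₀ - x₀ = ![0, x₀ 0] := by
      conv_lhs => rw [vec_eta x₀, ll_mulVec]
      funext i
      fin_cases i <;> simp
    rwa [h2] at h1
  have he : P ![1, 0] ∧ P ![0, 1] := by
    by_cases hb0 : x₀ 1 = 0
    · have ha0 : x₀ 0 ≠ 0 := by
        intro h
        apply hx₀
        rw [vec_eta x₀, h, hb0]
        funext i
        fin_cases i <;> rfl
      have h01 : P ![0, 1] := by
        have := hsmul (x₀ 0)⁻¹ _ ha
        have h2 : (x₀ 0)⁻¹ • ![0, x₀ 0] = ![0, 1] := by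
          funext i
          fin_cases i <;> simp [ha0]
        rwa [h2] at this
      refine ⟨?_, h01⟩
      have h1 := hsub _ _ (hsl (uu 1) _ h01) h01
      have h2 : (uu (1 : ZMod p)).1.mulVec ![0, 1] - ![0, 1] = ![1, 0] := by
        rw [uu_mulVec]
        funext i
        fin_cases i <;> simp
      rwa [h2] at h1
    · have h10 : P ![1, 0] := by
        have := hsmul (x₀ 1)⁻¹ _ hb
        have h2 : (x₀ 1)⁻¹ • ![x₀ 1, 0] = ![1, 0] := by
          funext i
          fin_cases i <;> simp [hb0]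
        rwa [h2] at this
      refine ⟨h10, ?_⟩
      have h1 := hsub _ _ (hsl (ll 1) _ h10) h10
      have h2 : (ll (1 : ZMod p)).1.mulVec ![1, 0] - ![1, 0] = ![0, 1] := by
        rw [ll_mulVec]
        funext i
        fin_cases i <;> simp
      rwa [h2] at h1
  intro x
  have h2 : x = x 0 • ![1, 0] + x 1 • ![0, 1] := by
    funext i
    fin_cases i <;> simp
  rw [h2]
  exact hadd _ _ (hsmul _ _ he.1) (hsmul _ _ he.2)

end lin


section grp

variable {p : ℕ} {Y : Type*} [Group Y] (d : QdData p Y)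

/-- the translation subgroup -/
def QdData.V : Subgroup Y := d.τ.range

theorem QdData.conj' (A : Matrix.SpecialLinearGroup (Fin 2) (ZMod p))
    (x : Multiplicative (Fin 2 → ZMod p)) :
    d.β A * d.τ x * (d.β A)⁻¹ = d.τ (Multiplicative.ofAdd (A.1.mulVec (Multiplicative.toAdd x))) :=
  d.conj A (Multiplicative.toAdd x)

theorem QdData.V_normal : (d.V).Normal := by
  refine ⟨fun n hn g => ?_⟩
  obtain ⟨x, rfl⟩ := hn
  obtain ⟨y, A, rfl⟩ := d.surj g
  have h1 : d.τ y * d.β A * d.τ x * (d.τ y * d.β A)⁻¹ =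
      d.τ y * (d.β A * d.τ x * (d.β A)⁻¹) * (d.τ y)⁻¹ := by group
  rw [h1, d.conj', ← map_inv, ← map_mul, ← map_mul]
  exact ⟨_, rfl⟩

theorem QdData.centralizer_V_le : Subgroup.centralizer (d.V : Set Y) ≤ d.V := by
  intro y hy
  obtain ⟨x, A, rfl⟩ := d.surj y
  have hτ : ∀ v : Multiplicative (Fin 2 → ZMod p), d.τ v ∈ Subgroup.centralizer (d.V : Set Y) := by
    intro v
    rw [Subgroup.mem_centralizer_iff]
    rintro _ ⟨w, rfl⟩
    rw [← map_mul, ← map_mul, mul_comm]
  have hβ : d.β A ∈ Subgroup.centralizer (d.V : Set Y) := by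
    have := Subgroup.mul_mem _ (Subgroup.inv_mem _ (hτ x)) hy
    rwa [inv_mul_cancel_left] at this
  have hA : A = 1 := by
    apply eq_one_of_mulVec
    intro v
    rw [Subgroup.mem_centralizer_iff] at hβ
    have h1 := hβ (d.τ (Multiplicative.ofAdd v)) ⟨_, rfl⟩
    have h2 : d.β A * d.τ (Multiplicative.ofAdd v) * (d.β A)⁻¹ = d.τ (Multiplicative.ofAdd v) := by
      rw [← h1, mul_inv_cancel_right]
    rw [d.conj] at h2
    exact Multiplicative.ofAdd.injective (d.inj h2)
  rw [hA, map_one, mul_one]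
  exact ⟨x, rfl⟩

/-- a nontrivial normal subgroup inside `V` is `V` -/
theorem QdData.eq_V_of_normal [Fact p.Prime] (M : Subgroup Y) [hM : M.Normal] (hM1 : M ≠ ⊥)
    (hMV : M ≤ d.V) : M = d.V := by
  apply le_antisymm hMV
  obtain ⟨⟨m, hm⟩, hm1⟩ := Subgroup.ne_bot_iff_exists_ne_one.mp hM1
  obtain ⟨x₀, hx₀⟩ := hMV hm
  have hx₀1 : Multiplicative.toAdd x₀ ≠ 0 := by
    intro h
    apply hm1
    apply Subtype.ext
    show m = 1
    rw [← hx₀]
    have : x₀ = 1 := h
    rw [this, map_one]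
  have hall := all_of_sl_invariant (fun x => d.τ (Multiplicative.ofAdd x) ∈ M)
    (fun x y hx hy => by
      show d.τ (Multiplicative.ofAdd (x + y)) ∈ M
      rw [ofAdd_add, map_mul]; exact M.mul_mem hx hy)
    (fun x hx => by
      show d.τ (Multiplicative.ofAdd (-x)) ∈ M
      rw [ofAdd_neg, map_inv]; exact M.inv_mem hx)
    (fun A x hx => by
      show d.τ (Multiplicative.ofAdd (A.1.mulVec x)) ∈ M
      rw [← d.conj]; exact hM.conj_mem _ hx _)
    (Multiplicative.toAdd x₀) hx₀1 (by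
      show d.τ (Multiplicative.ofAdd (Multiplicative.toAdd x₀)) ∈ M
      rw [ofAdd_toAdd, hx₀]; exact hm)
  rintro _ ⟨w, rfl⟩
  have := hall (Multiplicative.toAdd w)
  rwa [ofAdd_toAdd] at this


theorem QdData.β_mul_τ (A : Matrix.SpecialLinearGroup (Fin 2) (ZMod p)) (v : Fin 2 → ZMod p) :
    d.β A * d.τ (Multiplicative.ofAdd v) = d.τ (Multiplicative.ofAdd (A.1.mulVec v)) * d.β A := by
  rw [← d.conj, inv_mul_cancel_right]

/-- the second abelian subgroup of order `p²`: `⟨τ e₁⟩ × β(U)` -/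
def QdData.φ : Multiplicative (Fin 2 → ZMod p) →* Y where
  toFun x := d.τ (Multiplicative.ofAdd ![Multiplicative.toAdd x 0, 0]) *
    d.β (uu (Multiplicative.toAdd x 1))
  map_one' := by
    have h0 : (![0, 0] : Fin 2 → ZMod p) = 0 := by
      funext i; fin_cases i <;> rfl
    simp only [toAdd_one, Pi.zero_apply, uu_zero, map_one, mul_one, h0, ofAdd_zero]
  map_mul' x y := by
    simp only [toAdd_mul, Pi.add_apply]
    have h1 : (![Multiplicative.toAdd x 0 + Multiplicative.toAdd y 0, 0] : Fin 2 → ZMod p) =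
        ![Multiplicative.toAdd x 0, 0] + ![Multiplicative.toAdd y 0, 0] := by
      funext i; fin_cases i <;> simp
    rw [h1, ofAdd_add, map_mul, uu_add, map_mul]
    have h2 := d.β_mul_τ (uu (Multiplicative.toAdd x 1)) ![Multiplicative.toAdd y 0, 0]
    rw [uu_mulVec, mul_zero, add_zero] at h2
    calc d.τ (Multiplicative.ofAdd ![Multiplicative.toAdd x 0, 0]) *
          d.τ (Multiplicative.ofAdd ![Multiplicative.toAdd y 0, 0]) *
          (d.β (uu (Multiplicative.toAdd x 1)) * d.β (uu (Multiplicative.toAdd y 1)))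
        = d.τ (Multiplicative.ofAdd ![Multiplicative.toAdd x 0, 0]) *
          (d.τ (Multiplicative.ofAdd ![Multiplicative.toAdd y 0, 0]) *
          d.β (uu (Multiplicative.toAdd x 1))) * d.β (uu (Multiplicative.toAdd y 1)) := by group
      _ = _ := by rw [← h2]; group

theorem QdData.φ_injective [Fact p.Prime] : Function.Injective d.φ := by
  rw [injective_iff_map_eq_one]
  intro x hx
  have hA := d.uniq _ _ hx
  have h1 : Multiplicative.toAdd x 1 = 0 := by
    have := congrArg (fun A : Matrix.SpecialLinearGroup (Fin 2) (ZMod p) => A.1 0 1) hA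
    simpa [uu_coe] using this
  have hx' : d.τ (Multiplicative.ofAdd ![Multiplicative.toAdd x 0, 0]) = 1 := by
    have h2 : d.φ x = d.τ (Multiplicative.ofAdd ![Multiplicative.toAdd x 0, 0]) *
      d.β (uu (Multiplicative.toAdd x 1)) := rfl
    rw [h2, hA, map_one, mul_one] at hx
    exact hx
  have h3 : Multiplicative.ofAdd ![Multiplicative.toAdd x 0, 0] = 1 := by
    apply d.inj; rw [hx', map_one]
  have h0 : Multiplicative.toAdd x 0 = 0 := by
    have := congrFun (Multiplicative.ofAdd.injective (h3.trans ofAdd_zero.symm)) 0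
    simpa using this
  show Multiplicative.ofAdd (Multiplicative.toAdd x) = Multiplicative.ofAdd 0
  congr 1
  funext i
  fin_cases i
  · exact h0
  · exact h1

/-- the second abelian subgroup -/
def QdData.B : Subgroup Y := d.φ.range

theorem QdData.B_comm : ∀ a ∈ d.B, ∀ b ∈ d.B, a * b = b * a := by
  rintro _ ⟨x, rfl⟩ _ ⟨y, rfl⟩
  rw [← map_mul, ← map_mul, mul_comm]

theorem QdData.V_comm : ∀ a ∈ d.V, ∀ b ∈ d.V, a * b = b * a := by
  rintro _ ⟨x, rfl⟩ _ ⟨y, rfl⟩
  rw [← map_mul, ← map_mul, mul_comm]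

theorem QdData.card_B_eq [Fact p.Prime] : Nat.card d.B = Nat.card d.V := by
  have h1 : Nat.card (Multiplicative (Fin 2 → ZMod p)) = Nat.card d.B :=
    Nat.card_congr (MonoidHom.ofInjective d.φ_injective).toEquiv
  have h2 : Nat.card (Multiplicative (Fin 2 → ZMod p)) = Nat.card d.V :=
    Nat.card_congr (MonoidHom.ofInjective d.inj).toEquiv
  rw [← h1, h2]

theorem QdData.u_mem_B : d.β (uu 1) ∈ d.B := by
  refine ⟨Multiplicative.ofAdd ![0, 1], ?_⟩
  show d.τ (Multiplicative.ofAdd ![(![0, 1] : Fin 2 → ZMod p) 0, 0]) *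
    d.β (uu ((![0, 1] : Fin 2 → ZMod p) 1)) = _
  have h0 : (![0, 0] : Fin 2 → ZMod p) = 0 := by
    funext i; fin_cases i <;> rfl
  simp [h0]

theorem QdData.u_not_mem_V [Fact p.Prime] : d.β (uu 1) ∉ d.V := by
  rintro ⟨w, hw⟩
  have h1 : d.τ w⁻¹ * d.β (uu 1) = 1 := by
    rw [← hw, ← map_mul, inv_mul_cancel, map_one]
  have hA := d.uniq _ _ h1
  have := congrArg (fun A : Matrix.SpecialLinearGroup (Fin 2) (ZMod p) => A.1 0 1) hA
  simp [uu_coe] at this

theorem isPGroup_vec [Fact p.Prime] : IsPGroup p (Multiplicative (Fin 2 → ZMod p)) := by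
  intro x
  refine ⟨1, ?_⟩
  rw [pow_one]
  show Multiplicative.ofAdd (p • Multiplicative.toAdd x) = 1
  have h0 : p • Multiplicative.toAdd x = 0 := by
    funext i
    simp
  rw [h0]; rfl

theorem QdData.isPGroup_V [Fact p.Prime] : IsPGroup p d.V :=
  isPGroup_vec.of_surjective d.τ.rangeRestrict d.τ.rangeRestrict_surjective

theorem QdData.isPGroup_B [Fact p.Prime] : IsPGroup p d.B :=
  isPGroup_vec.of_surjective d.φ.rangeRestrict d.φ.rangeRestrict_surjective


/-- **In `Qd(p)` control of strong fusion by `N(Z(J(T)))` fails.** -/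
theorem exists_sylow_not_controls {p : ℕ} {Y : Type*} [Group Y] (d : QdData p Y) [Finite Y]
    [hp : Fact p.Prime] :
    ∃ T : Sylow p Y, ¬ Cfsg.ControlsStrongFusion p (Cfsg.centerThompsonAOf (T : Subgroup Y)) := by
  haveI hVn : d.V.Normal := d.V_normal
  have hT₀ : IsPGroup p (d.B ⊔ d.V : Subgroup Y) :=
    IsPGroup.to_sup_of_normal_right d.isPGroup_B d.isPGroup_V
  obtain ⟨T, hT⟩ := hT₀.exists_le_sylow
  have hBT : d.B ≤ T := le_sup_left.trans hT
  have hVT : d.V ≤ T := le_sup_right.trans hT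
  refine ⟨T, ?_⟩
  rw [← ZJ_abClass]
  rintro ⟨T', hZT', hctl⟩
  set Z : Subgroup Y := ZJ (abClass Y) (T : Subgroup Y) with hZ
  have hVT' : d.V ≤ T' :=
    (Cfsg.Agent.Lib.H1.le_pCore hVn d.isPGroup_V).trans (Cfsg.Agent.Lib.H1.pCore_le_sylow T')
  have hTN : (T : Subgroup Y) ≤ Subgroup.normalizer (Z : Set Y) :=
    Subgroup.le_normalizer.trans (normalizer_le_normalizer_ZJ (T : Subgroup Y))
  -- every element normalizes `Z`
  have hall : ∀ g : Y, g ∈ Subgroup.normalizer (Z : Set Y) := by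
    intro g
    have h1 := (hctl (d.V : Set Y) hVT').2 g (by
      rintro _ ⟨a, ha, rfl⟩
      exact hVT' (hVn.conj_mem a ha g))
    obtain ⟨x, hx, hxa⟩ := h1
    have hc : x⁻¹ * g ∈ Subgroup.centralizer (d.V : Set Y) := by
      rw [Subgroup.mem_centralizer_iff]
      intro a ha
      have h2 := hxa a ha
      have h3 : x⁻¹ * g * a = a * (x⁻¹ * g) := by
        have : g * a = x * a * x⁻¹ * g := by rw [← h2]; group
        calc x⁻¹ * g * a = x⁻¹ * (g * a) := by group
          _ = x⁻¹ * (x * a * x⁻¹ * g) := by rw [this]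
          _ = a * (x⁻¹ * g) := by group
      exact h3.symm
    have h4 : x⁻¹ * g ∈ Subgroup.normalizer (Z : Set Y) := hTN (hVT (d.centralizer_V_le hc))
    have := Subgroup.mul_mem _ hx h4
    rwa [mul_inv_cancel_left] at this
  haveI hZn : Z.Normal := ⟨fun n hn g => (Subgroup.mem_normalizer_iff.mp (hall g) n).mp hn⟩
  -- `Z ≠ ⊥`
  have hT1 : (T : Subgroup Y) ≠ ⊥ := by
    intro h
    have h1 : d.β (uu 1) ∈ (⊥ : Subgroup Y) := h ▸ hBT d.u_mem_B
    rw [Subgroup.mem_bot] at h1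
    exact d.u_not_mem_V (h1 ▸ Subgroup.one_mem _)
  have hZ1 : Z ≠ ⊥ :=
    Cfsg.Agent.Lib.H15.SCF.ZJ_ne_bot (abClass Y) (fun z _ => comm_zpowers z) (T : Subgroup Y)
      T.isPGroup' hT1
  -- `Z ⊓ V ≠ ⊥`
  have hM1 : Z ⊓ d.V ≠ ⊥ := by
    intro h
    have h1 : ⁅Z, d.V⁆ = ⊥ := le_bot_iff.mp (h ▸ Subgroup.commutator_le_inf Z d.V)
    rw [Subgroup.commutator_eq_bot_iff_le_centralizer] at h1
    have h2 : Z ≤ Z ⊓ d.V := le_inf le_rfl (h1.trans d.centralizer_V_le)
    rw [h] at h2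
    exact hZ1 (le_bot_iff.mp h2)
  have hMV : Z ⊓ d.V = d.V := d.eq_V_of_normal (Z ⊓ d.V) hM1 inf_le_right
  have hVZ : d.V ≤ Z := hMV ▸ inf_le_left
  -- `J(T) ≤ V`
  have hJV : J (abClass Y) (T : Subgroup Y) ≤ d.V := by
    have h1 : Z ≤ Subgroup.centralizer (J (abClass Y) (T : Subgroup Y) : Set Y) :=
      ZJ_le_centralizer (T : Subgroup Y)
    have h2 : J (abClass Y) (T : Subgroup Y) ≤ Subgroup.centralizer (Z : Set Y) :=
      Subgroup.le_centralizer_iff.mp h1
    exact (h2.trans (Subgroup.centralizer_le hVZ)).trans d.centralizer_V_le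
  -- `B` is of largest order
  obtain ⟨A₀, hA₀⟩ := maxSet_nonempty (𝒞 := abClass Y) (T : Subgroup Y)
  have hA₀V : A₀ ≤ d.V := (le_J hA₀).trans hJV
  have hBmax : d.B ∈ maxSet (abClass Y) (T : Subgroup Y) := by
    refine ⟨hBT, d.B_comm, fun C hCT hC => ?_⟩
    calc Nat.card C ≤ Nat.card A₀ := hA₀.2.2 C hCT hC
      _ ≤ Nat.card d.V := Subgroup.card_le_of_le hA₀V
      _ = Nat.card d.B := d.card_B_eq.symm
  exact d.u_not_mem_V (hJV (le_J hBmax d.u_mem_B))

end grp

section inst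

open Cfsg.Agent.Lib.H1.QdStable Cfsg.Agent.Lib.H1.QdRecog

variable {p : ℕ}

/-- `Qd(p)` itself carries the structure -/
noncomputable def qdData (p : ℕ) : QdData p ↥(Cfsg.qd p) where
  τ := Cfsg.Agent.Lib.H1.QdStable.tau p
  β := Cfsg.Agent.Lib.H1.QdStable.beta p
  conj A x := beta_conj_tau A (Multiplicative.ofAdd x)
  inj := tau_injective
  surj y := by
    obtain ⟨h0, h1, h2⟩ := (Cfsg.Agent.Lib.H14.mem_qd_iff y.1).mp y.2
    obtain ⟨x, A, hxA⟩ := exists_transl_blk y.1 h0 h1 h2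
    refine ⟨Multiplicative.ofAdd x, A, Subtype.ext ?_⟩
    rw [Subgroup.coe_mul, tau_coe, beta_coe, toAdd_ofAdd]
    exact hxA
  uniq x A h := by
    have h1 := congrArg (fun q : ↥(Cfsg.qd p) => (q : Matrix.SpecialLinearGroup (Fin 3) (ZMod p)).1) h
    simp only [Subgroup.coe_mul, tau_coe, beta_coe, Subgroup.coe_one,
      Matrix.SpecialLinearGroup.coe_mul, Matrix.SpecialLinearGroup.coe_one] at h1
    apply Matrix.SpecialLinearGroup.ext
    intro i j
    have e00 := congrFun (congrFun h1 0) 0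
    have e01 := congrFun (congrFun h1 0) 1
    have e10 := congrFun (congrFun h1 1) 0
    have e11 := congrFun (congrFun h1 1) 1
    simp [transl, blk, Matrix.mul_apply, Fin.sum_univ_three] at e00 e01 e10 e11
    fin_cases i <;> fin_cases j <;> simp [e00, e01, e10, e11]

/-- transport of the structure along an isomorphism -/
def QdData.ofEquiv {Y Y' : Type*} [Group Y] [Group Y'] (d : QdData p Y) (e : Y ≃* Y') :
    QdData p Y' where
  τ := e.toMonoidHom.comp d.τ
  β := e.toMonoidHom.comp d.β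
  conj A x := by
    simp only [MonoidHom.comp_apply, MulEquiv.coe_toMonoidHom]
    rw [← map_inv, ← map_mul, ← map_mul, d.conj]
  inj := e.injective.comp d.inj
  surj y := by
    obtain ⟨x, A, h⟩ := d.surj (e.symm y)
    refine ⟨x, A, ?_⟩
    simp only [MonoidHom.comp_apply, MulEquiv.coe_toMonoidHom]
    rw [← map_mul, ← h, MulEquiv.apply_symm_apply]
  uniq x A h := by
    simp only [MonoidHom.comp_apply, MulEquiv.coe_toMonoidHom] at h
    rw [← map_mul] at h
    exact d.uniq x A (e.injective (h.trans (map_one e).symm))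

/-- any group isomorphic to `Qd(p)` has a Sylow `p`-subgroup `T` with `N(Z(J(T)))` not controlling
strong fusion -/
theorem exists_sylow_not_controls_of_equiv {Y : Type*} [Group Y] [Finite Y] [Fact p.Prime]
    (e : Y ≃* ↥(Cfsg.qd p)) :
    ∃ T : Sylow p Y, ¬ Cfsg.ControlsStrongFusion p (Cfsg.centerThompsonAOf (T : Subgroup Y)) :=
  exists_sylow_not_controls ((qdData p).ofEquiv e.symm)

end inst

end Cfsg.Agent.Lib.H15.QdCtl
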