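import Mathlib

/-! Generic lemmas for recognising Sylow subgroups from explicit Schreier tables (helper15). -/

set_option autoImplicit false

namespace Cfsg.Agent.Lib.H15.Tbl

open Function

/-- An injective homomorphism from a group of the right order identifies every Sylow subgroup. -/
theorem sylow_equiv_of_injective {G X : Type*} [Group G] [Finite G] [Group X] (p : ℕ)
    [Fact p.Prime] (φ : X →* G) (hφ : Injective φ)
    (hX : Nat.card X = p ^ (Nat.card G).factorization p) (Q : Sylow p G) :
    Nonempty (X ≃* ↥(Q : Subgroup G)) := by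
  let g := MonoidHom.ofInjective hφ
  let P' : Sylow p G := Sylow.ofCard φ.range (by rw [← Nat.card_congr g.toEquiv, hX])
  exact ⟨g.trans (P'.equiv Q)⟩

variable {G H : Type*} [Group G] [Group H]

/-- the product of the generators along a word -/
def wprod {r : ℕ} (γ : Fin r → G) (w : List (Fin r)) : G := (w.map γ).prod

theorem wprod_nil {r : ℕ} (γ : Fin r → G) : wprod γ [] = 1 := rfl

theorem wprod_cons {r : ℕ} (γ : Fin r → G) (k : Fin r) (w : List (Fin r)) :
    wprod γ (k :: w) = γ k * wprod γ w := by
  simp [wprod]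

theorem map_wprod {r : ℕ} (φ : G →* H) (γ : Fin r → G) (w : List (Fin r)) :
    φ (wprod γ w) = wprod (fun k => φ (γ k)) w := by
  simp [wprod, map_list_prod, List.map_map, Function.comp_def]

/-- The graph subgroup: two generating tuples with the same Schreier table generate
isomorphic groups, realised as a subgroup of the product with both projections injective. -/
theorem graph_subgroup {n r : ℕ} (γ : Fin r → G) (γ' : Fin r → H) (w : Fin n → List (Fin r))
    (ρ : Fin r → Fin n → Fin n) (i₀ : Fin n) (hw0 : w i₀ = [])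
    (hf : ∀ k i, wprod γ (w i) * γ k = wprod γ (w (ρ k i)))
    (hg : ∀ k i, wprod γ' (w i) * γ' k = wprod γ' (w (ρ k i)))
    (hfinj : Injective (fun i => wprod γ (w i)))
    (hgker : ∀ i, wprod γ' (w i) = 1 → i = i₀) :
    ∃ Γ : Subgroup (G × H), Nat.card Γ = n ∧
      Injective ((MonoidHom.fst G H).comp Γ.subtype) ∧
      Injective ((MonoidHom.snd G H).comp Γ.subtype) := by
  classical
  set s : Set (G × H) := Set.range fun k => (γ k, γ' k) with hs
  refine ⟨Subgroup.closure s, ?_, ?_, ?_⟩
  all_goals
    have hA : ∀ l : List (Fin r), (wprod γ l, wprod γ' l) ∈ Subgroup.closure s := by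
      intro l
      induction l with
      | nil => exact Subgroup.one_mem _
      | cons k l ih =>
        rw [wprod_cons, wprod_cons]
        have : ((γ k, γ' k) : G × H) ∈ Subgroup.closure s := Subgroup.subset_closure ⟨k, rfl⟩
        exact Subgroup.mul_mem _ this ih
    have hρ : ∀ k, Surjective (ρ k) := by
      intro k
      apply Finite.injective_iff_surjective.1
      intro i j hij
      apply hfinj
      have h1 := hf k i
      have h2 := hf k j
      rw [hij] at h1
      exact mul_right_cancel (h1.trans h2.symm)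
    have hC : ∀ x ∈ Subgroup.closure s, ∃ i, x = (wprod γ (w i), wprod γ' (w i)) := by
      intro x hx
      induction hx using Subgroup.closure_induction_right with
      | one => exact ⟨i₀, by rw [hw0]; rfl⟩
      | mul_right x hx y hy ih =>
        obtain ⟨i, rfl⟩ := ih
        obtain ⟨k, rfl⟩ := hy
        exact ⟨ρ k i, by rw [Prod.mk_mul_mk, hf, hg]⟩
      | mul_inv_cancel x hx y hy ih =>
        obtain ⟨i, rfl⟩ := ih
        obtain ⟨k, rfl⟩ := hy
        obtain ⟨j, rfl⟩ := hρ k i
        refine ⟨j, ?_⟩
        rw [← hf, ← hg, Prod.inv_mk, Prod.mk_mul_mk, mul_inv_cancel_right, mul_inv_cancel_right]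
  · -- cardinality
    have e : Fin n ≃ ↥(Subgroup.closure s) := by
      refine Equiv.ofBijective (fun i => ⟨(wprod γ (w i), wprod γ' (w i)), hA (w i)⟩) ⟨?_, ?_⟩
      · intro i j hij
        apply hfinj
        have := congrArg (fun x : ↥(Subgroup.closure s) => (x : G × H).1) hij
        exact this
      · rintro ⟨x, hx⟩
        obtain ⟨i, rfl⟩ := hC x hx
        exact ⟨i, rfl⟩
    rw [← Nat.card_congr e, Nat.card_fin]
  · rw [injective_iff_map_eq_one]
    rintro ⟨x, hx⟩ h1
    obtain ⟨i, rfl⟩ := hC x hx
    have h2 : wprod γ (w i) = 1 := h1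
    have h3 : i = i₀ := by
      apply hfinj
      show wprod γ (w i) = wprod γ (w i₀)
      rw [h2, hw0]; rfl
    subst h3
    apply Subtype.ext
    show (wprod γ (w i), wprod γ' (w i)) = 1
    rw [hw0]; rfl
  · rw [injective_iff_map_eq_one]
    rintro ⟨x, hx⟩ h1
    obtain ⟨i, rfl⟩ := hC x hx
    have h2 : wprod γ' (w i) = 1 := h1
    have h3 : i = i₀ := hgker i h2
    subst h3
    apply Subtype.ext
    show (wprod γ (w i), wprod γ' (w i)) = 1
    rw [hw0]; rfl

/-- Two finite groups into which the same group of Sylow order embeds have isomorphic Sylow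
subgroups. -/
theorem sylow_equiv_of_graph {G H : Type*} [Group G] [Group H] [Finite G] [Finite H] (p : ℕ)
    [Fact p.Prime] (Γ : Subgroup (G × H))
    (h1 : Injective ((MonoidHom.fst G H).comp Γ.subtype))
    (h2 : Injective ((MonoidHom.snd G H).comp Γ.subtype))
    (hG : Nat.card Γ = p ^ (Nat.card G).factorization p)
    (hH : Nat.card Γ = p ^ (Nat.card H).factorization p)
    (P : Sylow p G) (Q : Sylow p H) :
    Nonempty (↥(P : Subgroup G) ≃* ↥(Q : Subgroup H)) := by
  obtain ⟨e1⟩ := sylow_equiv_of_injective p _ h1 hG P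
  obtain ⟨e2⟩ := sylow_equiv_of_injective p _ h2 hH Q
  exact ⟨e1.symm.trans e2⟩

end Cfsg.Agent.Lib.H15.Tbl
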