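import Cfsg.Agent.Lib.H15.NPCStrong
import Cfsg.Agent.Lib.H4.PStable
import Cfsg.Agent.Lib.H7.PConstrained2
import Cfsg.Agent.Lib.H10.LocalGlobal
import Cfsg.Agent.Lib.H10.SecMain
import Cfsg.Agent.Lib.H15.Conj
import Cfsg.Agent.Lib.H22.PPrimeCore
import Cfsg.Agent.S3836

/-!
Control of strong fusion by `N(W(D))` for a strongly closed subgroup `D` of a Sylow subgroup, in
`p`-constrained, `p`-stable groups (helper15's shared library): the local theorem.
-/

set_option autoImplicit false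

universe u

namespace Cfsg.Agent.Lib.H15.SCF

open Cfsg.Agent.Lib Cfsg.Agent.Lib.H4.ZJ Cfsg.Agent.Lib.H15.ZJS Cfsg.Agent.Lib.H15.NPCS

section quot

variable {X : Type u} [Group X] [Finite X] {p : ℕ} [hp : Fact p.Prime]

/-- Strong closure passes to the quotient by a normal `p'`-subgroup. -/
theorem stronglyClosed_map_mk (N : Subgroup X) [N.Normal] (hN : (Nat.card N).Coprime p)
    {T D : Subgroup X} (hT : IsPGroup p T) (hD : Cfsg.IsStronglyClosed D T) :
    Cfsg.IsStronglyClosed (D.map (QuotientGroup.mk' N)) (T.map (QuotientGroup.mk' N)) := by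
  have hDp : IsPGroup p D := hT.to_le hD.1
  refine ⟨Subgroup.map_mono hD.1, ?_⟩
  rintro _ ⟨x, hx, rfl⟩ gb hgb
  obtain ⟨g, rfl⟩ := QuotientGroup.mk'_surjective N gb
  have hy : g * x * g⁻¹ ∈ T ⊔ N := by
    have h1 : (QuotientGroup.mk' N) (g * x * g⁻¹) ∈ T.map (QuotientGroup.mk' N) := by
      rw [map_mul, map_mul, map_inv]; exact hgb
    have h2 : g * x * g⁻¹ ∈ (T.map (QuotientGroup.mk' N)).comap (QuotientGroup.mk' N) := h1
    rwa [Subgroup.comap_map_eq, QuotientGroup.ker_mk'] at h2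
  have hyp' : IsPGroup p (Subgroup.zpowers (g * x * g⁻¹)) := by
    have hxp : IsPGroup p (Subgroup.zpowers x) := hDp.to_le (Subgroup.zpowers_le.mpr hx)
    have e : Subgroup.zpowers (g * x * g⁻¹) =
        (Subgroup.zpowers x).map (MulAut.conj g).toMonoidHom := by
      rw [MonoidHom.map_zpowers]; rfl
    rw [e]; exact hxp.map _
  have hVi := H10.not_dvd_relIndex_sup_of_coprime N T hN hT
  obtain ⟨m, hm, hmV⟩ := H10.exists_mem_map_conj_le_of_sylowIn hT le_sup_left hVi hyp'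
    (Subgroup.zpowers_le.mpr hy)
  obtain ⟨t, ht, n, hn, htn⟩ := (Subgroup.mem_sup_of_normal_right).1 hm
  have h1 : m * (g * x * g⁻¹) * m⁻¹ ∈ T :=
    hmV ⟨_, Subgroup.mem_zpowers _, rfl⟩
  have h2 : (n * g) * x * (n * g)⁻¹ ∈ T := by
    have e : (n * g) * x * (n * g)⁻¹ = t⁻¹ * (m * (g * x * g⁻¹) * m⁻¹) * t := by
      rw [← htn]; group
    rw [e]
    exact mul_mem (mul_mem (inv_mem ht) h1) ht
  have h3 := hD.2 x hx (n * g) h2
  refine ⟨_, h3, ?_⟩
  have hn1 : (QuotientGroup.mk' N) n = 1 := by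
    rw [← MonoidHom.mem_ker, QuotientGroup.ker_mk']; exact hn
  simp only [map_mul, map_inv, hn1, one_mul]

/-- `p`-stability in the normalizer form passes to the quotient by a normal `p'`-subgroup. -/
theorem isNormalizerPStable_quotient (N : Subgroup X) [N.Normal] (hN : (Nat.card N).Coprime p)
    (hst : Cfsg.IsNormalizerPStable p X) : Cfsg.IsNormalizerPStable p (X ⧸ N) := by
  intro Pb hPb gb hgb hq
  obtain ⟨Q, hQ, rfl⟩ := H4.PStable.exists_pGroup_lift N Pb hPb
  have hgb' := hgb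
  rw [← H7.map_normalizer_of_coprime p hN hQ] at hgb'
  obtain ⟨g, hg, rfl⟩ := hgb'
  have hdisj : Q ⊓ N = ⊥ := H4.PStable.inf_eq_bot_of_isPGroup_of_coprime hQ hN
  have hzQ : Subgroup.zpowers g ≤ Subgroup.normalizer (Q : Set X) := Subgroup.zpowers_le.mpr hg
  have hQg : ⁅Q, Subgroup.zpowers g⁆ ≤ Q :=
    Subgroup.le_normalizer_iff_commutator_le_left.1 hzQ
  have hquad : ⁅⁅Q, Subgroup.zpowers g⁆, Subgroup.zpowers g⁆ = ⊥ := by
    rw [eq_bot_iff, ← hdisj]
    refine le_inf ((Subgroup.commutator_mono hQg le_rfl).trans hQg) ?_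
    rw [← QuotientGroup.ker_mk' N, ← Subgroup.map_eq_bot_iff, Subgroup.map_commutator,
      Subgroup.map_commutator, MonoidHom.map_zpowers]
    exact hq
  have h1 := hst Q hQ g hg hquad
  have h2 := H4.PStable.pCore_map_le' (H4.PStable.secMap N Q)
    (H4.PStable.secMap_surjective N Q hN hQ) ⟨_, h1, rfl⟩
  exact h2

/-- The quotient of a `p`-constrained group by `O_{p'}` satisfies `C(O_p) ≤ O_p`. -/
theorem centralizer_pCore_quotient_le (hc : Cfsg.IsPConstrained p X) :
    Subgroup.centralizer ((Cfsg.pCore p (X ⧸ Cfsg.pPrimeCore p X) :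
      Subgroup (X ⧸ Cfsg.pPrimeCore p X)) : Set (X ⧸ Cfsg.pPrimeCore p X)) ≤
      Cfsg.pCore p (X ⧸ Cfsg.pPrimeCore p X) := by
  obtain ⟨P⟩ : Nonempty (Sylow p ↥(Cfsg.pPrimePCore p X)) := inferInstance
  have h1 := H7.map_sylow_pPrimePCore p P
  have hQp : IsPGroup p ((P : Subgroup ↥(Cfsg.pPrimePCore p X)).map
      (Cfsg.pPrimePCore p X).subtype) := P.2.map _
  have hN : (Nat.card (Cfsg.pPrimeCore p X)).Coprime p := H22.card_pPrimeCore_coprime p
  have h2 := H7.map_centralizer_of_coprime p hN hQp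
  rw [h1] at h2
  rw [← h2]
  rintro _ ⟨y, hy, rfl⟩
  exact hc P hy

end quot

section control

variable {X : Type u} [Group X] [Finite X] {p : ℕ} [hp : Fact p.Prime]

/-- If `V ≤ S` is normalized by the Sylow subgroup `S` and `VN/N` is normal in `X/N` for a normal
`p'`-subgroup `N`, then `N_X(V)` controls strong fusion in `S`. -/
theorem control_of_map_normal (N : Subgroup X) [N.Normal] (hN : (Nat.card N).Coprime p)
    (S : Sylow p X) {V : Subgroup X} (hVS : V ≤ (S : Subgroup X))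
    (hSV : (S : Subgroup X) ≤ Subgroup.normalizer (V : Set X))
    (hVn : (V.map (QuotientGroup.mk' N)).Normal) (A : Set X) (h : X)
    (hA : A ⊆ ((S : Subgroup X) : Set X))
    (hAh : (fun a => h * a * h⁻¹) '' A ⊆ ((S : Subgroup X) : Set X)) :
    ∃ x ∈ Subgroup.normalizer (V : Set X), ∀ a ∈ A, x * a * x⁻¹ = h * a * h⁻¹ := by
  have hVp : IsPGroup p V := S.2.to_le hVS
  have hπh : QuotientGroup.mk' N h ∈ Subgroup.normalizer
      ((V.map (QuotientGroup.mk' N) : Subgroup (X ⧸ N)) : Set (X ⧸ N)) := by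
    rw [Subgroup.normalizer_eq_top_iff.mpr hVn]; exact Subgroup.mem_top _
  obtain ⟨e, heN, heπ⟩ := H10.exists_lift_mem_normalizer N hN hVp hπh
  set d := e⁻¹ * h with hd
  have hdN : d ∈ N := by
    rw [← QuotientGroup.ker_mk' N, MonoidHom.mem_ker, hd, map_mul, map_inv, heπ, inv_mul_cancel]
  set M : Subgroup X := Subgroup.normalizer (V : Set X) ⊓ ((S : Subgroup X) ⊔ N) with hM
  have hSM : (S : Subgroup X) ≤ M := le_inf hSV le_sup_left
  have hclS : Subgroup.closure A ≤ (S : Subgroup X) := (Subgroup.closure_le _).2 hA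
  set B : Subgroup X := (Subgroup.closure A).map (MulAut.conj d).toMonoidHom with hB
  have hBp : IsPGroup p B := (S.2.to_le hclS).map _
  have hBM : B ≤ M := by
    rw [hB, Subgroup.map_le_iff_le_comap, Subgroup.closure_le]
    intro a ha
    have haS := hA ha
    show (MulAut.conj d) a ∈ M
    rw [MulAut.conj_apply]
    refine Subgroup.mem_inf.2 ⟨?_, ?_⟩
    · have e1 : d * a * d⁻¹ = e⁻¹ * (h * a * h⁻¹) * e := by rw [hd]; group
      rw [e1]
      exact Subgroup.mul_mem _ (Subgroup.mul_mem _ (Subgroup.inv_mem _ heN)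
        (hSV (hAh ⟨a, ha, rfl⟩))) heN
    · have e1 : d * a * d⁻¹ = a * (a⁻¹ * d * a * d⁻¹) := by group
      rw [e1]
      apply Subgroup.mul_mem _ (Subgroup.mem_sup_left haS)
      apply Subgroup.mem_sup_right
      have h1 : a⁻¹ * d * a ∈ N := by
        have := (inferInstance : N.Normal).conj_mem d hdN a⁻¹
        simpa using this
      exact N.mul_mem h1 (N.inv_mem hdN)
  have hSi : ¬ p ∣ (S : Subgroup X).relIndex M := H10.not_dvd_relIndex_of_sylow_le S hSM
  obtain ⟨m, hm, hmB⟩ := H10.exists_mem_map_conj_le_of_sylowIn S.2 hSM hSi hBp hBM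
  have hm' := Subgroup.mem_inf.1 hm
  obtain ⟨s, hs, d', hd', hsd⟩ := (Subgroup.mem_sup_of_normal_right).1 hm'.2
  have hd'N : d' ∈ Subgroup.normalizer (V : Set X) := by
    have : d' = s⁻¹ * m := by rw [← hsd]; group
    rw [this]
    exact Subgroup.mul_mem _ (Subgroup.inv_mem _ (hSV hs)) hm'.1
  have hfix : ∀ a ∈ A, d' * (d * a * d⁻¹) * d'⁻¹ = a := by
    intro a ha
    have haS := hA ha
    have h1 : m * (d * a * d⁻¹) * m⁻¹ ∈ (S : Subgroup X) :=
      hmB ⟨d * a * d⁻¹, ⟨a, Subgroup.subset_closure ha, by simp⟩, by simp⟩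
    have h2 : d' * (d * a * d⁻¹) * d'⁻¹ ∈ (S : Subgroup X) := by
      have e1 : d' * (d * a * d⁻¹) * d'⁻¹ = s⁻¹ * (m * (d * a * d⁻¹) * m⁻¹) * s := by
        rw [← hsd]; group
      rw [e1]
      exact Subgroup.mul_mem _ (Subgroup.mul_mem _ (Subgroup.inv_mem _ hs) h1) hs
    apply H10.injOn_mk_of_coprime N hN S.2 h2 haS
    have hd1 : QuotientGroup.mk' N d = 1 := by
      rw [← MonoidHom.mem_ker, QuotientGroup.ker_mk']; exact hdN
    have hd'1 : QuotientGroup.mk' N d' = 1 := by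
      rw [← MonoidHom.mem_ker, QuotientGroup.ker_mk']; exact hd'
    simp only [map_mul, map_inv, hd1, hd'1, one_mul, inv_one, mul_one]
  refine ⟨e * d'⁻¹, Subgroup.mul_mem _ heN (Subgroup.inv_mem _ hd'N), ?_⟩
  intro a ha
  have h1 := hfix a ha
  have e1 : h * a * h⁻¹ = e * (d * a * d⁻¹) * e⁻¹ := by rw [hd]; group
  have e2 : d * a * d⁻¹ = d'⁻¹ * a * d' := by
    calc d * a * d⁻¹ = d'⁻¹ * (d' * (d * a * d⁻¹) * d'⁻¹) * d' := by group
      _ = d'⁻¹ * a * d' := by rw [h1]
  rw [e1, e2]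
  group

end control

section localthm

variable {p : ℕ} [hp : Fact p.Prime] {W : ∀ (X : Type u) [Group X], Subgroup X → Subgroup X}

/-- `W(E)` is normal for strongly closed `E`, in `p`-stable groups with `C(O_p) ≤ O_p`. -/
def NormalHyp (p : ℕ) [Fact p.Prime] (W : ∀ (X : Type u) [Group X], Subgroup X → Subgroup X) :
    Prop :=
  ∀ (Y : Type u) [Group Y] [Finite Y] (P : Sylow p Y) (E : Subgroup Y),
    Cfsg.IsStronglyClosed E (P : Subgroup Y) → Cfsg.IsNormalizerPStable p Y →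
    Subgroup.centralizer ((Cfsg.pCore p Y : Subgroup Y) : Set Y) ≤ Cfsg.pCore p Y →
    (W Y E).Normal

theorem normalHyp_WA (hp2 : p ≠ 2) : NormalHyp.{u} p WA := fun _ _ _ P E hE hst hc =>
  (ZJ_normal_stronglyClosed hp2 P E hE hst hc).1

theorem normalHyp_WE (hp2 : p ≠ 2) : NormalHyp.{u} p (WE p) := fun _ _ _ P E hE hst hc =>
  (ZJ_normal_stronglyClosed hp2 P E hE hst hc).2

theorem normalizer_le_normalizer_W (hW : MapFun W) {X : Type u} [Group X] (E : Subgroup X) :
    Subgroup.normalizer (E : Set X) ≤ Subgroup.normalizer (W X E : Set X) := by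
  intro g hg
  rw [H15.mem_normalizer_iff_cj_eq] at hg ⊢
  have h1 := hW.map (MulAut.conj g).toMonoidHom E ((MulAut.conj g).injective.injOn)
  unfold H15.cj at hg ⊢
  rw [hg] at h1
  exact h1.symm

/-- **Local theorem.** In a `p`-constrained, `p`-stable group, `N(W(E))` controls strong fusion
in a Sylow `p`-subgroup `S`, for `E` strongly closed in `S`. -/
theorem local_control (hW : MapFun W) (hWn : NormalHyp.{u} p W) {X : Type u} [Group X] [Finite X]
    (S : Sylow p X) (E : Subgroup X) (hE : Cfsg.IsStronglyClosed E (S : Subgroup X))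
    (hst : Cfsg.IsNormalizerPStable p X) (hc : Cfsg.IsPConstrained p X)
    (A : Set X) (h : X) (hA : A ⊆ ((S : Subgroup X) : Set X))
    (hAh : (fun a => h * a * h⁻¹) '' A ⊆ ((S : Subgroup X) : Set X)) :
    ∃ x ∈ Subgroup.normalizer (W X E : Set X), ∀ a ∈ A, x * a * x⁻¹ = h * a * h⁻¹ := by
  haveI hNn : (Cfsg.pPrimeCore p X).Normal := H22.pPrimeCore_normal p
  have hN : (Nat.card (Cfsg.pPrimeCore p X)).Coprime p := H22.card_pPrimeCore_coprime p
  obtain ⟨hSbp, hSbi⟩ := H10.sylow_map_mk S (Cfsg.pPrimeCore p X)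
  obtain ⟨Sb, hSb⟩ := H10.exists_sylow_eq hSbp hSbi
  have hEb : Cfsg.IsStronglyClosed (E.map (QuotientGroup.mk' (Cfsg.pPrimeCore p X)))
      (Sb : Subgroup (X ⧸ Cfsg.pPrimeCore p X)) := by
    rw [hSb]
    exact stronglyClosed_map_mk _ hN S.2 hE
  have hstb := isNormalizerPStable_quotient (Cfsg.pPrimeCore p X) hN hst
  have hcb := centralizer_pCore_quotient_le hc
  have hn := hWn _ Sb _ hEb hstb hcb
  have hEp : IsPGroup p E := S.2.to_le hE.1
  rw [hW.map _ E (H10.injOn_mk_of_coprime _ hN hEp)] at hn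
  exact control_of_map_normal (Cfsg.pPrimeCore p X) hN S ((hW.le E).trans hE.1)
    ((le_normalizer_of_stronglyClosed hE).trans (normalizer_le_normalizer_W hW E)) hn A h hA hAh

end localthm

end Cfsg.Agent.Lib.H15.SCF
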