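import Mathlib
import Cfsg.Agent.S0256
import Cfsg.Agent.S1783
import Cfsg.Agent.Lib.H17.ElemAbGL
import Cfsg.Agent.Lib.H2.BlockExt
import Cfsg.Agent.Lib.H7.CharP
import Cfsg.Agent.Lib.H15.SCFusion
import Cfsg.Agent.Lib.H1.PGroupBasic
import Cfsg.Agent.Lib.H1.PCore
import Cfsg.Agent.Lib.H1.CharSubgroup

/-!
# `X / O₂(X)` embeds in `A₈` when `O₂(X)` has sectional rank at most 4 (helper15)
-/

set_option autoImplicit false
open Cfsg

namespace Cfsg.Agent.Lib.H15.A8E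

open scoped commutatorElement

/-- `GL_e ↪ GL_n` for `e ≤ n` -/
theorem exists_GL_embed (F : Type*) [CommRing F] {e n : ℕ} (h : e ≤ n) :
    ∃ f : GL (Fin e) F →* GL (Fin n) F, Function.Injective f := by
  induction n, h using Nat.le_induction with
  | base => exact ⟨MonoidHom.id _, fun _ _ h => h⟩
  | succ n hn ih =>
    obtain ⟨f, hf⟩ := ih
    exact ⟨(Cfsg.Agent.Lib.H2.BlockExt.extGL).comp f,
      Cfsg.Agent.Lib.H2.BlockExt.extGL_injective.comp hf⟩

/-- over `𝔽₂` every invertible matrix has determinant one -/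
def toSL : GL (Fin 4) (ZMod 2) →* Matrix.SpecialLinearGroup (Fin 4) (ZMod 2) where
  toFun g := ⟨(g : Matrix (Fin 4) (Fin 4) (ZMod 2)), by
    have h : Matrix.GeneralLinearGroup.det g = 1 := Subsingleton.elim _ _
    have := congrArg Units.val h
    simpa using this⟩
  map_one' := Subtype.ext rfl
  map_mul' g h := Subtype.ext rfl

theorem toSL_injective : Function.Injective toSL := by
  intro g h hgh
  apply Units.ext
  exact congrArg Subtype.val hgh

theorem center_SL4 : Subgroup.center (Matrix.SpecialLinearGroup (Fin 4) (ZMod 2)) = ⊥ := by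
  rw [eq_bot_iff]
  intro A hA
  rw [Matrix.SpecialLinearGroup.mem_center_iff] at hA
  obtain ⟨r, hr, hrA⟩ := hA
  have hr1 : r = 1 := by
    have key : ∀ r : ZMod 2, r ^ Fintype.card (Fin 4) = 1 → r = 1 := by decide
    exact key r hr
  rw [Subgroup.mem_bot]
  apply Subtype.ext
  rw [← hrA, hr1]
  simp

/-- `GL₄(2) ↪ A₈` -/
theorem exists_GL4_embed :
    ∃ f : GL (Fin 4) (ZMod 2) →* ↥(alternatingGroup (Fin 8)), Function.Injective f := by
  obtain ⟨e⟩ := Cfsg.Agent.S0256.result (F := ZMod 2) (by simp [ZMod.card])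
  have hmk : Function.Injective
      (QuotientGroup.mk' (Subgroup.center (Matrix.SpecialLinearGroup (Fin 4) (ZMod 2)))) := by
    rw [← MonoidHom.ker_eq_bot_iff, QuotientGroup.ker_mk', center_SL4]
  exact ⟨e.toMonoidHom.comp ((QuotientGroup.mk' _).comp toSL),
    e.injective.comp (hmk.comp toSL_injective)⟩

/-- **`X / O₂(X) ↪ A₈`** for `X` 2-constrained, `O(X) = 1`, `O₂(X)` of sectional rank `≤ 4` -/
theorem main {X : Type*} [Group X] [Finite X] (hc : Cfsg.IsPConstrained 2 X)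
    (hO : Cfsg.pPrimeCore 2 X = ⊥) (h4 : Cfsg.SectionalPRankLE 2 4 ↥(Cfsg.pCore 2 X)) :
    ∃ f : X ⧸ Cfsg.pCore 2 X →* ↥(alternatingGroup (Fin 8)), Function.Injective f := by
  haveI : Fact (Nat.Prime 2) := ⟨Nat.prime_two⟩
  haveI hPn : (Cfsg.pCore 2 X).Normal := Cfsg.Agent.Lib.H1.pCore_normal 2 X
  obtain ⟨P, hP⟩ : ∃ P : Subgroup X, P = Cfsg.pCore 2 X := ⟨_, rfl⟩
  haveI hPn' : P.Normal := hP ▸ hPn
  have hP2 : IsPGroup 2 P := hP ▸ Cfsg.Agent.Lib.H1.pCore_isPGroup 2 X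
  have h4' : Cfsg.SectionalPRankLE 2 4 ↥P := hP ▸ h4
  -- `C_X(P) ≤ P`
  have hCP : Subgroup.centralizer (P : Set X) ≤ P := by
    have h1 := Cfsg.Agent.Lib.H15.SCF.centralizer_pCore_quotient_le hc
    have h2 := Cfsg.Agent.Lib.H7.centralizer_pCore_le_of_mulEquiv 2
      ((QuotientGroup.quotientMulEquivOfEq hO).trans QuotientGroup.quotientBot) h1
    rw [hP]; exact h2
  have hNtop : ∀ g : X, g ∈ Subgroup.normalizer (P : Set X) := fun g => by
    rw [Subgroup.normalizer_eq_top_iff.mpr hPn']; exact Subgroup.mem_top g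
  obtain ⟨Φ, hΦ⟩ : ∃ Φ : Subgroup X, Φ = (frattini ↥P).map P.subtype := ⟨_, rfl⟩
  haveI hΦn : Φ.Normal := by
    refine ⟨fun d hd g => ?_⟩
    rw [hΦ] at hd ⊢
    exact Cfsg.Agent.Lib.H1.conj_mem_map_of_characteristic (hNtop g) hd
  have hΦP : Φ ≤ P := hΦ ▸ Subgroup.map_subtype_le _
  -- commutators and squares of `P` lie in `Φ`
  have hcommΦ : ∀ a ∈ P, ∀ b ∈ P, a * b * a⁻¹ * b⁻¹ ∈ Φ := by
    intro a ha b hb
    rw [hΦ]
    refine ⟨⁅(⟨a, ha⟩ : P), ⟨b, hb⟩⁆, ?_, by simp [commutatorElement_def]⟩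
    exact Cfsg.Agent.Lib.H1.isPGroup_commutator_le_frattini hP2
      (Subgroup.commutator_mem_commutator (Subgroup.mem_top _) (Subgroup.mem_top _))
  have hsqΦ : ∀ a ∈ P, a ^ 2 ∈ Φ := by
    intro a ha
    rw [hΦ]
    exact ⟨(⟨a, ha⟩ : P) ^ 2, Cfsg.Agent.Lib.H1.isPGroup_pow_mem_frattini hP2 _, by simp⟩
  -- the Frattini kernel is `P`
  have hK2 := Cfsg.Agent.S1783.frattiniKernel_isPGroup P hP2 hCP
  have hKn := Cfsg.Agent.S1783.frattiniKernel_normal P
  have hKP : Cfsg.Agent.S1783.frattiniKernel P ≤ P :=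
    (Cfsg.Agent.Lib.H1.le_pCore hKn hK2).trans (le_of_eq hP.symm)
  -- the elementary abelian section
  obtain ⟨F, hF⟩ : ∃ F : Subgroup (X ⧸ Φ), F = P.map (QuotientGroup.mk' Φ) := ⟨_, rfl⟩
  haveI hFn : F.Normal := hF ▸ Subgroup.Normal.map hPn' _ (QuotientGroup.mk'_surjective Φ)
  have hF2 : IsPGroup 2 F := hF ▸ hP2.map _
  have hcomm : ∀ a ∈ F, ∀ b ∈ F, a * b = b * a := by
    intro a ha b hb
    rw [hF] at ha hb
    obtain ⟨x, hx, rfl⟩ := ha
    obtain ⟨y, hy, rfl⟩ := hb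
    rw [← map_mul, ← map_mul, QuotientGroup.mk'_apply, QuotientGroup.mk'_apply, QuotientGroup.eq]
    have h1 := hcommΦ y⁻¹ (P.inv_mem hy) x⁻¹ (P.inv_mem hx)
    have e : (x * y)⁻¹ * (y * x) = y⁻¹ * x⁻¹ * y⁻¹⁻¹ * x⁻¹⁻¹ := by group
    rw [e]; exact h1
  have hexp : ∀ a ∈ F, a ^ 2 = 1 := by
    intro a ha
    rw [hF] at ha
    obtain ⟨x, hx, rfl⟩ := ha
    rw [← map_pow, QuotientGroup.mk'_apply, QuotientGroup.eq_one_iff]
    exact hsqΦ x hx
  obtain ⟨e, he⟩ := IsPGroup.iff_card.mp hF2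
  -- `e ≤ 4`
  have he4 : e ≤ 4 := by
    obtain ⟨N, hN⟩ : ∃ N : Subgroup ↥(⊤ : Subgroup ↥P), N = (frattini ↥P).subgroupOf ⊤ := ⟨_, rfl⟩
    haveI hNn : N.Normal := by rw [hN]; infer_instance
    have hr := h4' ⊤ N ⊤
    have hmemN : ∀ x : ↥(⊤ : Subgroup ↥P), ((x : ↥P) : X) ∈ Φ → x ∈ N := by
      intro x hx
      rw [hN, Subgroup.mem_subgroupOf]
      rw [hΦ] at hx
      obtain ⟨y, hy, hyx⟩ := hx
      have : y = (x : ↥P) := Subtype.ext hyx
      rw [← this]; exact hy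
    have hNmem : ∀ x : ↥(⊤ : Subgroup ↥P), x ∈ N → ((x : ↥P) : X) ∈ Φ := by
      intro x hx
      rw [hN, Subgroup.mem_subgroupOf] at hx
      rw [hΦ]
      exact ⟨_, hx, rfl⟩
    have hcm : IsMulCommutative ↥(⊤ : Subgroup (↥(⊤ : Subgroup ↥P) ⧸ N)) := by
      refine ⟨⟨?_⟩⟩
      rintro ⟨a, -⟩ ⟨b, -⟩
      apply Subtype.ext
      show a * b = b * a
      obtain ⟨x, rfl⟩ := QuotientGroup.mk_surjective a
      obtain ⟨y, rfl⟩ := QuotientGroup.mk_surjective b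
      rw [← QuotientGroup.mk_mul, ← QuotientGroup.mk_mul, QuotientGroup.eq]
      apply hmemN
      have h1 := hcommΦ ((y : ↥P) : X)⁻¹ (P.inv_mem (y : ↥P).2) ((x : ↥P) : X)⁻¹
        (P.inv_mem (x : ↥P).2)
      have e2 : ((((x * y)⁻¹ * (y * x) : ↥(⊤ : Subgroup ↥P)) : ↥P) : X) =
          ((y : ↥P) : X)⁻¹ * ((x : ↥P) : X)⁻¹ * ((y : ↥P) : X)⁻¹⁻¹ * ((x : ↥P) : X)⁻¹⁻¹ := by
        simp only [Subgroup.coe_mul, Subgroup.coe_inv]
        group
      rw [e2]; exact h1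
    have hex : ∀ a ∈ (⊤ : Subgroup (↥(⊤ : Subgroup ↥P) ⧸ N)), a ^ 2 = 1 := by
      intro a _
      obtain ⟨x, rfl⟩ := QuotientGroup.mk_surjective a
      rw [← QuotientGroup.mk_pow, QuotientGroup.eq_one_iff]
      apply hmemN
      have := hsqΦ ((x : ↥P) : X) (x : ↥P).2
      simpa using this
    have h1 := hr hcm hex
    rw [Subgroup.card_top] at h1
    -- a surjection from the section onto `F`
    let f0 : ↥(⊤ : Subgroup ↥P) →* ↥F :=
      { toFun := fun x => ⟨QuotientGroup.mk' Φ ((x : ↥P) : X), by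
          rw [hF]; exact ⟨_, (x : ↥P).2, rfl⟩⟩
        map_one' := by apply Subtype.ext; simp
        map_mul' := fun x y => by apply Subtype.ext; simp }
    have hf0 : N ≤ f0.ker := by
      intro x hx
      rw [MonoidHom.mem_ker]
      apply Subtype.ext
      show QuotientGroup.mk' Φ ((x : ↥P) : X) = 1
      rw [QuotientGroup.mk'_apply, QuotientGroup.eq_one_iff]
      exact hNmem x hx
    have hsurj : Function.Surjective (QuotientGroup.lift N f0 hf0) := by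
      rintro ⟨y, hy⟩
      rw [hF] at hy
      obtain ⟨x, hx, rfl⟩ := hy
      refine ⟨QuotientGroup.mk ⟨⟨x, hx⟩, Subgroup.mem_top _⟩, ?_⟩
      apply Subtype.ext
      rfl
    have h2 : Nat.card ↥F ≤ Nat.card (↥(⊤ : Subgroup ↥P) ⧸ N) :=
      Nat.card_le_card_of_surjective _ hsurj
    have h3 : 2 ^ e ≤ 2 ^ 4 := by rw [← he]; exact h2.trans h1
    exact (Nat.pow_le_pow_iff_right (by norm_num)).mp h3
  obtain ⟨φ, hφ⟩ := Cfsg.Agent.Lib.H17.exists_hom_GL_ker_eq_centralizer F 2 e hcomm hexp he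
  obtain ⟨ι, hι⟩ := exists_GL_embed (ZMod 2) he4
  obtain ⟨κ, hκ⟩ := exists_GL4_embed
  -- kernel of the composite
  have hker : (φ.comp (QuotientGroup.mk' Φ)).ker = P := by
    apply le_antisymm
    · intro x hx
      apply hKP
      rw [Cfsg.Agent.S1783.mem_frattiniKernel]
      intro q hq
      rw [MonoidHom.mem_ker, MonoidHom.comp_apply] at hx
      have h1 : QuotientGroup.mk' Φ x ∈ Subgroup.centralizer (F : Set (X ⧸ Φ)) := by
        rw [← hφ]; exact hx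
      rw [Subgroup.mem_centralizer_iff] at h1
      have h2 := h1 (QuotientGroup.mk' Φ q) (by rw [hF]; exact ⟨q, hq, rfl⟩)
      rw [← hΦ]
      have h3 : QuotientGroup.mk' Φ (x * q * x⁻¹ * q⁻¹) = 1 := by
        rw [map_mul, map_mul, map_mul, map_inv, map_inv, ← h2]
        group
      rwa [QuotientGroup.mk'_apply, QuotientGroup.eq_one_iff] at h3
    · intro q hq
      rw [MonoidHom.mem_ker, MonoidHom.comp_apply]
      have h1 : QuotientGroup.mk' Φ q ∈ Subgroup.centralizer (F : Set (X ⧸ Φ)) := by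
        rw [Subgroup.mem_centralizer_iff]
        intro b hb
        exact hcomm b hb _ (by rw [hF]; exact ⟨q, hq, rfl⟩)
      rw [← hφ] at h1
      exact h1
  obtain ⟨Ψ, hΨ⟩ : ∃ Ψ : X →* ↥(alternatingGroup (Fin 8)),
      Ψ = κ.comp (ι.comp (φ.comp (QuotientGroup.mk' Φ))) := ⟨_, rfl⟩
  have hΨker : ∀ x : X, Ψ x = 1 ↔ x ∈ Cfsg.pCore 2 X := by
    intro x
    rw [← hP, ← hker, MonoidHom.mem_ker, hΨ]
    constructor
    · intro h
      have h1 : κ (ι ((φ.comp (QuotientGroup.mk' Φ)) x)) = κ 1 := by rw [map_one]; exact h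
      have h2 := hι ((hκ h1).trans (map_one ι).symm)
      exact h2
    · intro h
      show κ (ι ((φ.comp (QuotientGroup.mk' Φ)) x)) = 1
      rw [h, map_one, map_one]
  refine ⟨QuotientGroup.lift (Cfsg.pCore 2 X) Ψ (fun x hx => (hΨker x).mpr hx), ?_⟩
  rw [injective_iff_map_eq_one]
  intro a ha
  obtain ⟨x, rfl⟩ := QuotientGroup.mk_surjective a
  have ha' : Ψ x = 1 := ha
  rw [QuotientGroup.eq_one_iff]
  exact (hΨker x).mp ha'

end Cfsg.Agent.Lib.H15.A8E
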