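import Mathlib
import Cfsg.Prelude.Def_Blocks
import Cfsg.Agent.Lib.H21.AD.Defs
import Cfsg.Agent.Lib.H15.ADLC3Core
import Cfsg.Agent.Lib.H2.ADSOL
import Cfsg.Agent.Lib.H25.ADPOWHOM

/-!
S4937 piece (LC3), exact signature of `tools/blueprints/S4937_sigs.lean`: on a nilpotent subgroup `E` the
function `L` is a linear character.  Uses (SOL) of helper2 and (POWHOM) of helper25.
-/

set_option autoImplicit false
open Cfsg.Agent.Lib.H21.AD

namespace Cfsg.Agent.Lib.H15.AD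

variable {G : Type*} [Group G] [Finite G] {p : ℕ} {M : Ideal Cfsg.AlgInt}

/-- (LC3) on a nilpotent subgroup, `L` is a linear character -/
theorem lamFun_nilpotent (hM : Cfsg.IsPModular p M) (N : Subgroup G) [N.Normal] (Q : Subgroup G) (hQN : Q ≤ N)
    (hQ : ¬ p ∣ Q.relIndex N)
    (hcov : ∀ g : G, ∃ n ∈ N, ∃ c ∈ Subgroup.centralizer (Q : Set G), g = n * c)
    (ψ : G → ℂ) (hψ : Cfsg.IsIrrCharacter G ψ) (hψN : Cfsg.IsIrrCharacter N (fun n : N => ψ n))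
    (hθ : sSum p N ψ ≠ 0) (hp : p.Prime) (e : ℕ) (he0 : ∀ g : G, ¬ p ∣ orderOf (g ^ e))
    (he1 : ∀ g : G, ¬ p ∣ orderOf g → g ^ e = g)
    (he2 : ∀ g : G, (∃ k : ℕ, orderOf g = p ^ k) → g ^ e = 1)
    (L : G → ℂ)
    (hL : ∀ (J : Subgroup G) (ν : G → ℂ) (g : G), N ≤ J → ¬ p ∣ N.relIndex J →
      Good p ψ N J ν → g ^ e ∈ J → L g = ν (g ^ e))
    (E : Subgroup G) (hE : Group.IsNilpotent E) :
    ∃ β : E →* ℂˣ, ∀ u : E, L u = (β u : ℂ) :=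
  lamFun_nilpotent_core hp N ψ e he0 L hL E hE
    (fun J hNJ hpJ hs => Cfsg.Agent.Lib.H2.AD.sol hM N Q hQN hQ hcov ψ hψ hψN hθ J hNJ hpJ hs)
    (fun a b ha hb => Cfsg.Agent.Lib.H25.AD.pow_mul_of_nilpotent p hp e he1 he2 E hE a b ha hb)

end Cfsg.Agent.Lib.H15.AD
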