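import Mathlib

set_option autoImplicit false

namespace Cfsg.Agent.Lib.H15.AG

open Equiv Equiv.Perm Subgroup

/-- Conjugating both generators does not change whether the closure contains `A_n`. -/
theorem alt_le_of_conj {α : Type*} [Fintype α] [DecidableEq α] (g x y : Perm α)
    (h : alternatingGroup α ≤ closure ({g * x * g⁻¹, g * y * g⁻¹} : Set (Perm α))) :
    alternatingGroup α ≤ closure ({x, y} : Set (Perm α)) := by
  intro a ha
  have h1 : g * a * g⁻¹ ∈ alternatingGroup α :=
    (alternatingGroup.normal (α := α)).conj_mem a ha g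
  have h2 := h h1
  have h3 : closure ({g * x * g⁻¹, g * y * g⁻¹} : Set (Perm α)) ≤
      (closure ({x, y} : Set (Perm α))).comap (MulAut.conj g⁻¹).toMonoidHom := by
    rw [closure_le]
    intro w hw
    simp only [Set.mem_insert_iff, Set.mem_singleton_iff] at hw
    rcases hw with rfl | rfl
    · simp only [SetLike.mem_coe, Subgroup.mem_comap, MulEquiv.coe_toMonoidHom,
        MulAut.conj_apply, inv_inv]
      have : g⁻¹ * (g * x * g⁻¹) * g = x := by group
      rw [this]
      exact subset_closure (by simp)
    · simp only [SetLike.mem_coe, Subgroup.mem_comap, MulEquiv.coe_toMonoidHom,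
        MulAut.conj_apply, inv_inv]
      have : g⁻¹ * (g * y * g⁻¹) * g = y := by group
      rw [this]
      exact subset_closure (by simp)
  have h4 := h3 h2
  simp only [Subgroup.mem_comap, MulEquiv.coe_toMonoidHom, MulAut.conj_apply, inv_inv] at h4
  have : g⁻¹ * (g * a * g⁻¹) * g = a := by group
  rwa [this] at h4

/-- Affine normalisation over `ZMod p`. -/
theorem exists_affine (p : ℕ) [Fact p.Prime] (a b : ZMod p) (hab : a ≠ b) :
    ∃ h : Perm (ZMod p), h a = 0 ∧ h b = 1 ∧
      ∃ d : ℕ, (h * Equiv.addRight (1 : ZMod p) * h⁻¹) ^ d = Equiv.addRight (1 : ZMod p) := by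
  have hne : b - a ≠ 0 := sub_ne_zero.mpr (Ne.symm hab)
  let hinv : Perm (ZMod p) := Equiv.addRight a * Equiv.mulLeft₀ (b - a) hne
  have hinv_apply : ∀ i, hinv i = (b - a) * i + a := fun i => rfl
  refine ⟨hinv⁻¹, ?_, ?_, (b - a).val, ?_⟩
  · rw [Perm.inv_eq_iff_eq, hinv_apply]; ring
  · rw [Perm.inv_eq_iff_eq, hinv_apply]; ring
  · rw [conj_pow, Equiv.nsmul_addRight, inv_inv]
    ext i
    simp only [Perm.coe_mul, Function.comp_apply, Equiv.coe_addRight]
    rw [Perm.inv_eq_iff_eq, hinv_apply, hinv_apply]
    simp only [nsmul_eq_mul, mul_one, ZMod.natCast_zmod_val]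
    ring_nf

theorem exists_affine_fin (k : ℕ) (hn : (k + 4).Prime) (a b : Fin (k + 4)) (hab : a ≠ b) :
    ∃ h : Perm (Fin (k + 4)), h a = 0 ∧ h b = 1 ∧
      ∃ d : ℕ, (h * finRotate (k + 4) * h⁻¹) ^ d = finRotate (k + 4) := by
  have : Fact (k + 4).Prime := ⟨hn⟩
  have hT : finRotate (k + 4) = (Equiv.addRight (1 : Fin (k + 4)) : Perm (Fin (k + 4))) := by
    ext i
    simp
  rw [hT]
  exact exists_affine (k + 4) a b hab

/-- (NORM) normalisation: `y` to `finRotate`, the two fixed points of `x` to `0, 1`
(affine maps of `ZMod n` normalise `⟨finRotate n⟩`), and a power of `x` mapping `2` to `3`. -/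
theorem core_of_normalized (k : ℕ) (hn : (k + 4).Prime) (hp : (k + 2).Prime)
    (H : ∀ x : Perm (Fin (k + 4)), x 0 = 0 → x 1 = 1 → x 2 = 3 → x.cycleType = {k + 2} →
      alternatingGroup (Fin (k + 4)) ≤
        closure ({x, finRotate (k + 4)} : Set (Perm (Fin (k + 4))))) :
    ∀ x y : Perm (Fin (k + 4)), x.cycleType = {k + 2} → y.cycleType = {k + 4} →
      closure ({x, y} : Set (Perm (Fin (k + 4)))) = alternatingGroup (Fin (k + 4)) := by
  intro x y hx hy
  have hkodd : Odd k := by
    rcases Nat.even_or_odd k with he | ho
    · exfalso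
      have h2 : 2 ∣ k + 4 := by
        obtain ⟨t, rfl⟩ := he
        exact ⟨t + 2, by ring⟩
      have := (Nat.prime_dvd_prime_iff_eq Nat.prime_two hn).mp h2
      omega
    · exact ho
  have hsign : ∀ (w : Perm (Fin (k + 4))) (j : ℕ), Odd j → w.cycleType = {j} →
      w ∈ alternatingGroup (Fin (k + 4)) := by
    intro w j hj hw
    rw [mem_alternatingGroup, sign_of_cycleType, hw]
    rw [Multiset.sum_singleton, Multiset.card_singleton]
    exact Even.neg_one_pow hj.add_one
  apply le_antisymm
  · rw [closure_le]
    intro w hw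
    simp only [Set.mem_insert_iff, Set.mem_singleton_iff] at hw
    rcases hw with rfl | rfl
    · exact hsign _ (k + 2) (by
        obtain ⟨t, rfl⟩ := hkodd
        exact ⟨t + 1, by ring⟩) hx
    · exact hsign _ (k + 4) (by
        obtain ⟨t, rfl⟩ := hkodd
        exact ⟨t + 2, by ring⟩) hy
  · -- `A_n ≤ closure {x, y}`
    obtain ⟨g, hg⟩ : ∃ g : Perm (Fin (k + 4)), g * y * g⁻¹ = finRotate (k + 4) := by
      have : IsConj y (finRotate (k + 4)) := by
        rw [isConj_iff_cycleType_eq, hy, cycleType_finRotate]
      exact isConj_iff.mp this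
    apply alt_le_of_conj g
    rw [hg]
    generalize hx1 : g * x * g⁻¹ = x1
    have hx1c : x1.cycleType = {k + 2} := by rw [← hx1, cycleType_conj, hx]
    have hsupp1 : x1.support.card = k + 2 := by rw [← sum_cycleType, hx1c]; simp
    have hfix : (Finset.univ \ x1.support).card = 2 := by
      rw [Finset.card_sdiff_of_subset (Finset.subset_univ _), Finset.card_univ, Fintype.card_fin,
        hsupp1]
      omega
    obtain ⟨a, b, hab, hfixeq⟩ := Finset.card_eq_two.mp hfix
    have ha : x1 a = a := by
      have : a ∈ Finset.univ \ x1.support := by rw [hfixeq]; simp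
      simpa using this
    have hb : x1 b = b := by
      have : b ∈ Finset.univ \ x1.support := by rw [hfixeq]; simp
      simpa using this
    obtain ⟨h, hha, hhb, d, hd⟩ := exists_affine_fin k hn a b hab
    apply alt_le_of_conj h
    generalize hx2 : h * x1 * h⁻¹ = x2
    have hx2c : x2.cycleType = {k + 2} := by rw [← hx2, cycleType_conj, hx1c]
    have hx20 : x2 0 = 0 := by
      rw [← hx2]
      simp only [Perm.coe_mul, Function.comp_apply]
      have : h⁻¹ 0 = a := by rw [Perm.inv_eq_iff_eq, hha]
      rw [this, ha, hha]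
    have hx21 : x2 1 = 1 := by
      rw [← hx2]
      simp only [Perm.coe_mul, Function.comp_apply]
      have : h⁻¹ 1 = b := by rw [Perm.inv_eq_iff_eq, hhb]
      rw [this, hb, hhb]
    have hle1 : closure ({x2, finRotate (k + 4)} : Set (Perm (Fin (k + 4)))) ≤
        closure ({x2, h * finRotate (k + 4) * h⁻¹} : Set (Perm (Fin (k + 4)))) := by
      rw [closure_le]
      intro w hw
      simp only [Set.mem_insert_iff, Set.mem_singleton_iff] at hw
      rcases hw with rfl | rfl
      · exact subset_closure (by simp)
      · have hmem : (h * finRotate (k + 4) * h⁻¹) ^ d ∈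
            closure ({x2, h * finRotate (k + 4) * h⁻¹} : Set (Perm (Fin (k + 4)))) :=
          pow_mem (subset_closure (by simp)) d
        rw [hd] at hmem
        exact hmem
    refine le_trans ?_ hle1
    have hcyc : x2.IsCycle := by rw [← card_cycleType_eq_one, hx2c]; simp
    have hsupp2 : x2.support.card = k + 2 := by rw [← sum_cycleType, hx2c]; simp
    have hfix2 : ∀ j : Fin (k + 4), x2 j = j → j = 0 ∨ j = 1 := by
      intro j hj
      by_contra hcon
      rw [not_or] at hcon
      have hsub : ({0, 1, j} : Finset (Fin (k + 4))) ⊆ Finset.univ \ x2.support := by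
        intro t ht
        simp only [Finset.mem_insert, Finset.mem_singleton] at ht
        simp only [Finset.mem_sdiff, Finset.mem_univ, Perm.mem_support, not_not, true_and]
        rcases ht with rfl | rfl | rfl
        · exact hx20
        · exact hx21
        · exact hj
      have hcard := Finset.card_le_card hsub
      rw [Finset.card_sdiff_of_subset (Finset.subset_univ _), Finset.card_univ, Fintype.card_fin,
        hsupp2] at hcard
      have h01 : (0 : Fin (k + 4)) ≠ 1 := by
        intro h01
        have := congrArg Fin.val h01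
        simp at this
      have h3 : ({0, 1, j} : Finset (Fin (k + 4))).card = 3 := by
        rw [Finset.card_insert_of_notMem, Finset.card_insert_of_notMem, Finset.card_singleton]
        · simpa using (Ne.symm hcon.2)
        · simp only [Finset.mem_insert, Finset.mem_singleton, not_or]
          exact ⟨h01, Ne.symm hcon.1⟩
      omega
    have hval2 : ((2 : Fin (k + 4)) : ℕ) = 2 := rfl
    have hval3 : ((3 : Fin (k + 4)) : ℕ) = 3 := rfl
    have h2 : x2 2 ≠ 2 := by
      intro h2
      rcases hfix2 2 h2 with h | h
      · have := congrArg Fin.val h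
        rw [hval2] at this
        simp at this
      · have := congrArg Fin.val h
        rw [hval2] at this
        simp at this
    have h3 : x2 3 ≠ 3 := by
      intro h3
      rcases hfix2 3 h3 with h | h
      · have := congrArg Fin.val h
        rw [hval3] at this
        simp at this
      · have := congrArg Fin.val h
        rw [hval3] at this
        simp at this
    obtain ⟨i, hi⟩ := hcyc.exists_pow_eq h2 h3
    have hord : orderOf x2 = k + 2 := by rw [hcyc.orderOf, hsupp2]
    have hcop : Nat.Coprime i (orderOf x2) := by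
      rw [hord, Nat.coprime_comm, Nat.Prime.coprime_iff_not_dvd hp]
      intro hdvd
      have : x2 ^ i = 1 := by
        rw [← hord] at hdvd
        exact orderOf_dvd_iff_pow_eq_one.mp hdvd
      rw [this] at hi
      have h23 := congrArg Fin.val hi
      simp only [Perm.coe_one, id_eq] at h23
      rw [hval2, hval3] at h23
      omega
    have hx3cyc : (x2 ^ i).IsCycle := hcyc.pow_iff.mpr hcop
    have hx3c : (x2 ^ i).cycleType = {k + 2} := by
      rw [hx3cyc.cycleType, support_pow_coprime hcop, hsupp2]
    have hx30 : (x2 ^ i) 0 = 0 := by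
      have := pow_apply_eq_self_of_apply_eq_self hx20 i
      exact this
    have hx31 : (x2 ^ i) 1 = 1 := by
      have := pow_apply_eq_self_of_apply_eq_self hx21 i
      exact this
    refine le_trans (H (x2 ^ i) hx30 hx31 hi hx3c) ?_
    rw [closure_le]
    intro w hw
    simp only [Set.mem_insert_iff, Set.mem_singleton_iff] at hw
    rcases hw with rfl | rfl
    · exact pow_mem (subset_closure (by simp)) i
    · exact subset_closure (by simp)

end Cfsg.Agent.Lib.H15.AG
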