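import Cfsg.Agent.Lib.H1.JordanA
import Cfsg.Prelude.Def_Characters

/-!
S4484 piece (IRR): transport of irreducibility to the isometric model (helper15).
`exists_unitary_rep` of `Lib/H1/JordanA` restated KEEPING the conjugating matrix, so that invariant subspaces of the
isometric model pull back to subrepresentations.
-/

set_option autoImplicit false
set_option linter.deprecated false

namespace Cfsg.Agent.Lib.H15.B60

open Matrix Cfsg.Agent.Lib.H1.Jordan
open scoped MatrixOrder ComplexOrder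

variable {G : Type*} [Group G] {n : ℕ}

/-- Weyl's unitary trick in matrix form, keeping the conjugating matrix. -/
theorem exists_unitary_rep_conj [Finite G] (ρ : Representation ℂ G (Fin n → ℂ)) :
    ∃ (P : Matrix (Fin n) (Fin n) ℂ) (U : G →* unitaryGroup (Fin n) ℂ), P⁻¹ * P = 1 ∧ P * P⁻¹ = 1 ∧
      ∀ g, ((U g : unitaryGroup (Fin n) ℂ) : Matrix (Fin n) (Fin n) ℂ) = P * repMat ρ g * P⁻¹ := by
  classical
  have := Fintype.ofFinite G
  set M := repMat ρ with hM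
  obtain ⟨H, hH⟩ : ∃ H : Matrix (Fin n) (Fin n) ℂ, H = ∑ g : G, (M g)ᴴ * M g := ⟨_, rfl⟩
  have hinv : ∀ x : G, (M x)ᴴ * H * M x = H := by
    intro x
    rw [hH, Finset.mul_sum, Finset.sum_mul]
    rw [← Equiv.sum_comp (Equiv.mulRight x) (fun g => (M g)ᴴ * M g)]
    refine Finset.sum_congr rfl fun g _ => ?_
    simp only [Equiv.coe_mulRight]
    rw [hM, repMat_mul, conjTranspose_mul]
    simp only [Matrix.mul_assoc]
  have hpos : H.PosDef := by
    rw [hH, ← Finset.add_sum_erase Finset.univ _ (Finset.mem_univ (1 : G))]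
    refine PosDef.add_posSemidef ?_ (posSemidef_sum _ fun g _ => posSemidef_conjTranspose_mul_self _)
    rw [hM, repMat_one, conjTranspose_one, Matrix.one_mul]
    exact PosDef.one
  obtain ⟨P, hP⟩ := CStarAlgebra.nonneg_iff_eq_star_mul_self.mp hpos.posSemidef.nonneg
  rw [star_eq_conjTranspose] at hP
  have hdet : P.det ≠ 0 := by
    have h1 : H.det ≠ 0 := hpos.det_pos.ne'
    rw [hP, det_mul] at h1
    exact right_ne_zero_of_mul h1
  have hPu : IsUnit P.det := isUnit_iff_ne_zero.mpr hdet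
  have hPP : P⁻¹ * P = 1 := nonsing_inv_mul P hPu
  have hPP' : P * P⁻¹ = 1 := mul_nonsing_inv P hPu
  have hunit : ∀ g : G, P * M g * P⁻¹ ∈ unitaryGroup (Fin n) ℂ := by
    intro g
    rw [mem_unitaryGroup_iff', star_eq_conjTranspose, conjTranspose_mul, conjTranspose_mul]
    have e1 : (P⁻¹)ᴴ * ((M g)ᴴ * Pᴴ) * (P * M g * P⁻¹)
        = (P⁻¹)ᴴ * ((M g)ᴴ * (Pᴴ * P) * M g) * P⁻¹ := by
      simp only [Matrix.mul_assoc]
    rw [e1, ← hP, hinv g, hP]
    have e2 : (P⁻¹)ᴴ * (Pᴴ * P) * P⁻¹ = (P * P⁻¹)ᴴ * (P * P⁻¹) := by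
      rw [conjTranspose_mul]; simp only [Matrix.mul_assoc]
    rw [e2, hPP', conjTranspose_one, Matrix.one_mul]
  refine ⟨P, MonoidHom.mk' (fun g => ⟨P * M g * P⁻¹, hunit g⟩) ?_, hPP, hPP', fun g => rfl⟩
  intro a b
  apply Subtype.ext
  show P * M (a * b) * P⁻¹ = (P * M a * P⁻¹) * (P * M b * P⁻¹)
  rw [hM, repMat_mul]
  have e : P * repMat ρ a * P⁻¹ * (P * repMat ρ b * P⁻¹)
      = P * repMat ρ a * (P⁻¹ * P) * repMat ρ b * P⁻¹ := by
    simp only [Matrix.mul_assoc]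
  rw [e, hPP, Matrix.mul_one]
  simp only [Matrix.mul_assoc]

/-- invariant submodules of an irreducible representation (copy of `H24.invariant_submodule_eq_bot_or_top`) -/
theorem invariant_eq_bot_or_top {V : Type*} [AddCommGroup V] [Module ℂ V] (ρ : Representation ℂ G V)
    (hρ : ρ.IsIrreducible) (p : Submodule ℂ V) (hp : ∀ g : G, ∀ v ∈ p, ρ g v ∈ p) : p = ⊥ ∨ p = ⊤ := by
  have := hρ
  let σ : Subrepresentation ρ := ⟨p, fun g v hv => hp g v hv⟩
  rcases IsSimpleOrder.eq_bot_or_eq_top σ with h | h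
  · left; exact congrArg Subrepresentation.toSubmodule h
  · right; exact congrArg Subrepresentation.toSubmodule h

/-- (IRR), pointwise form: an irreducible representation on `ℂⁿ` is equivalent to an IRREDUCIBLE action by
isometries of Euclidean space with the same character. -/
theorem exists_isometric_irr_rep' [Finite G] (ρ : Representation ℂ G (Fin n → ℂ)) (hρ : ρ.IsIrreducible) :
    ∃ R : G →* (EuclideanSpace ℂ (Fin n) ≃ₗᵢ[ℂ] EuclideanSpace ℂ (Fin n)),
      (∀ g, LinearMap.trace ℂ _ ((R g).toLinearEquiv : EuclideanSpace ℂ (Fin n) →ₗ[ℂ] _)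
        = ρ.character g) ∧
      ∀ W : Submodule ℂ (EuclideanSpace ℂ (Fin n)), (∀ g, ∀ w ∈ W, R g w ∈ W) → W = ⊥ ∨ W = ⊤ := by
  classical
  obtain ⟨P, U, hPP, hPP', hU⟩ := exists_unitary_rep_conj ρ
  refine ⟨MonoidHom.mk' (fun g => isoOf (U g)) ?_, ?_, ?_⟩
  · intro a b
    rw [map_mul, isoOf_mul]
  · intro g
    show LinearMap.trace ℂ _ ((isoOf (U g)).toLinearEquiv : EuclideanSpace ℂ (Fin n) →ₗ[ℂ] _) = _
    rw [trace_isoOf, hU, Matrix.trace_mul_cycle, hPP, Matrix.one_mul, trace_repMat]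
  · intro W hW
    -- the comparison map `v ↦ P v`
    set Φ : (Fin n → ℂ) →ₗ[ℂ] EuclideanSpace ℂ (Fin n) :=
      (toLpLin 2 2 P) ∘ₗ ((WithLp.linearEquiv 2 ℂ (Fin n → ℂ)).symm : (Fin n → ℂ) →ₗ[ℂ] _) with hΦ
    have hΦapp : ∀ v : Fin n → ℂ, Φ v = WithLp.toLp 2 (P *ᵥ v) := fun v => rfl
    have hΦsurj : ∀ w : EuclideanSpace ℂ (Fin n), ∃ v, Φ v = w := by
      intro w
      refine ⟨P⁻¹ *ᵥ (WithLp.ofLp w), ?_⟩
      rw [hΦapp, Matrix.mulVec_mulVec, hPP', Matrix.one_mulVec]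
    have hΦinj : ∀ v : Fin n → ℂ, Φ v = 0 → v = 0 := by
      intro v hv
      rw [hΦapp] at hv
      have h1 : P *ᵥ v = 0 := by
        have := congrArg WithLp.ofLp hv
        simpa using this
      have h2 : P⁻¹ *ᵥ (P *ᵥ v) = 0 := by rw [h1, Matrix.mulVec_zero]
      rwa [Matrix.mulVec_mulVec, hPP, Matrix.one_mulVec] at h2
    have hρapp : ∀ (g : G) (v : Fin n → ℂ), ρ g v = repMat ρ g *ᵥ v := by
      intro g v
      unfold repMat
      rw [LinearMap.toMatrix'_mulVec]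
    have hcomm : ∀ (g : G) (v : Fin n → ℂ), Φ (ρ g v) = isoOf (U g) (Φ v) := by
      intro g v
      rw [isoOf_apply, hU, hΦapp, hΦapp, toLpLin_apply, hρapp]
      congr 1
      show P *ᵥ repMat ρ g *ᵥ v = (P * repMat ρ g * P⁻¹) *ᵥ (P *ᵥ v)
      rw [Matrix.mulVec_mulVec, Matrix.mulVec_mulVec, Matrix.mul_assoc (P * repMat ρ g), hPP,
        Matrix.mul_one]
    have hinv : ∀ g : G, ∀ v ∈ W.comap Φ, ρ g v ∈ W.comap Φ := by
      intro g v hv
      rw [Submodule.mem_comap] at hv ⊢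
      rw [hcomm]
      exact hW g _ hv
    rcases invariant_eq_bot_or_top ρ hρ (W.comap Φ) hinv with h | h
    · left
      rw [eq_bot_iff]
      intro w hw
      obtain ⟨v, rfl⟩ := hΦsurj w
      have hv : v ∈ W.comap Φ := hw
      rw [h, Submodule.mem_bot] at hv
      rw [hv, map_zero]
      exact Submodule.zero_mem _
    · right
      rw [eq_top_iff]
      intro w _
      obtain ⟨v, rfl⟩ := hΦsurj w
      have hv : v ∈ W.comap Φ := by rw [h]; trivial
      exact hv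

/-- (IRR), `Submodule.map` form. -/
theorem exists_isometric_irr_rep [Finite G] (ρ : Representation ℂ G (Fin n → ℂ)) (hρ : ρ.IsIrreducible) :
    ∃ R : G →* (EuclideanSpace ℂ (Fin n) ≃ₗᵢ[ℂ] EuclideanSpace ℂ (Fin n)),
      (∀ g, LinearMap.trace ℂ _ ((R g).toLinearEquiv : EuclideanSpace ℂ (Fin n) →ₗ[ℂ] _)
        = ρ.character g) ∧
      ∀ W : Submodule ℂ (EuclideanSpace ℂ (Fin n)),
        (∀ g, W.map ((R g).toLinearEquiv : EuclideanSpace ℂ (Fin n) →ₗ[ℂ] _) ≤ W) → W = ⊥ ∨ W = ⊤ := by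
  obtain ⟨R, h1, h2⟩ := exists_isometric_irr_rep' ρ hρ
  refine ⟨R, h1, fun W hW => h2 W fun g w hw => hW g ⟨w, hw, rfl⟩⟩

/-- (IRR) from the Prelude's `IsIrrCharacter`: an isometric irreducible model of an irreducible character. -/
theorem exists_isometric_model [Finite G] (χ : G → ℂ) (hχ : Cfsg.IsIrrCharacter G χ) :
    ∃ (n : ℕ) (R : G →* (EuclideanSpace ℂ (Fin n) ≃ₗᵢ[ℂ] EuclideanSpace ℂ (Fin n))),
      (∀ g, LinearMap.trace ℂ _ ((R g).toLinearEquiv : EuclideanSpace ℂ (Fin n) →ₗ[ℂ] _) = χ g) ∧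
      (∀ W : Submodule ℂ (EuclideanSpace ℂ (Fin n)), (∀ g, ∀ w ∈ W, R g w ∈ W) → W = ⊥ ∨ W = ⊤) ∧
      (∀ W : Submodule ℂ (EuclideanSpace ℂ (Fin n)),
        (∀ g, W.map ((R g).toLinearEquiv : EuclideanSpace ℂ (Fin n) →ₗ[ℂ] _) ≤ W) → W = ⊥ ∨ W = ⊤) ∧
      χ 1 = (n : ℂ) ∧ n ≠ 0 := by
  obtain ⟨n, ρ, hρ, rfl⟩ := hχ
  obtain ⟨R, h1, h2⟩ := exists_isometric_irr_rep' ρ hρ
  have hn : ρ.character 1 = (n : ℂ) := by
    rw [Representation.char_one]
    simp
  have hn0 : n ≠ 0 := by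
    rintro rfl
    have : Nontrivial (Subrepresentation ρ) := hρ.toNontrivial
    obtain ⟨a, b, hab⟩ := exists_pair_ne (Subrepresentation ρ)
    apply hab
    apply Subrepresentation.toSubmodule_injective
    apply Subsingleton.elim
  exact ⟨n, R, h1, h2, fun W hW => h2 W fun g w hw => hW g ⟨w, hw, rfl⟩, hn, hn0⟩

end Cfsg.Agent.Lib.H15.B60
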