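import Mathlib
import Cfsg.Prelude.Def_BaumannBlocks
import Cfsg.Agent.Lib.H15.JCBase

/-!
helper15: the Baumann subgroup `B(T) = C_T(Ω₁(Z(J(T))))` is weakly closed in every `p`-subgroup
containing it; hence every `p`-subgroup normalised by `B(T)` normalises `B(T)`.
-/

set_option autoImplicit false

namespace Cfsg.Agent.Lib.H15.BB

open Cfsg.Agent.Lib.H15

variable {G : Type*} [Group G]

theorem omegaOne_cj (p : ℕ) (g : G) (H : Subgroup G) :
    Cfsg.omegaOne p (cj g H) = cj g (Cfsg.omegaOne p H) := by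
  unfold Cfsg.omegaOne
  show _ = Subgroup.map _ _
  rw [MonoidHom.map_closure]
  congr 1
  ext x
  simp only [Set.mem_setOf_eq, Set.mem_image]
  constructor
  · rintro ⟨hx, hxp⟩
    rw [mem_cj_iff] at hx
    refine ⟨g⁻¹ * x * g, ⟨hx, ?_⟩, ?_⟩
    · have : (g⁻¹ * x * g) ^ p = g⁻¹ * x ^ p * g := by
        have := conj_pow (a := g⁻¹) (b := x) (i := p)
        simpa using this
      rw [this, hxp]; group
    · show g * (g⁻¹ * x * g) * g⁻¹ = x
      group
  · rintro ⟨y, ⟨hy, hyp⟩, rfl⟩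
    refine ⟨conj_mem_cj hy, ?_⟩
    show (g * y * g⁻¹) ^ p = 1
    rw [conj_pow, hyp]; group

theorem centerThompsonOf_cj [Finite G] (p : ℕ) (g : G) (T : Subgroup G) :
    Cfsg.centerThompsonOf p (cj g T) = cj g (Cfsg.centerThompsonOf p T) := by
  unfold Cfsg.centerThompsonOf
  rw [JC.thompsonSubgroupOf_cj, centralizer_cj]
  exact (Subgroup.map_inf _ _ _ (MulAut.conj g).injective).symm

theorem baumannSubgroupOf_cj [Finite G] (p : ℕ) (g : G) (T : Subgroup G) :
    Cfsg.baumannSubgroupOf p (cj g T) = cj g (Cfsg.baumannSubgroupOf p T) := by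
  unfold Cfsg.baumannSubgroupOf
  rw [centerThompsonOf_cj, omegaOne_cj, centralizer_cj]
  exact (Subgroup.map_inf _ _ _ (MulAut.conj g).injective).symm

theorem baumannSubgroupOf_le (p : ℕ) (T : Subgroup G) : Cfsg.baumannSubgroupOf p T ≤ T :=
  inf_le_left

theorem omegaOne_le (p : ℕ) (H : Subgroup G) : Cfsg.omegaOne p H ≤ H := by
  unfold Cfsg.omegaOne
  rw [Subgroup.closure_le]
  intro x hx
  exact hx.1

theorem thompson_le_baumann (p : ℕ) (T : Subgroup G) :
    Cfsg.thompsonSubgroupOf p T ≤ Cfsg.baumannSubgroupOf p T := by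
  unfold Cfsg.baumannSubgroupOf
  refine le_inf (Cfsg.Agent.Lib.L0.thompsonSubgroupOf_le' p T) ?_
  intro x hx
  rw [Subgroup.mem_centralizer_iff]
  intro y hy
  have h1 : y ∈ Cfsg.centerThompsonOf p T := omegaOne_le p _ hy
  unfold Cfsg.centerThompsonOf at h1
  have h2 := (Subgroup.mem_inf.mp h1).2
  rw [Subgroup.mem_centralizer_iff] at h2
  exact (h2 x hx).symm

/-- If `B(T) ≤ S ≤ T^g` then `B(S) = B(T)`. -/
theorem baumannSubgroupOf_eq_of_le_cj [Finite G] (p : ℕ) {T S : Subgroup G} {g : G}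
    (hS : S ≤ cj g T) (hB : Cfsg.baumannSubgroupOf p T ≤ S) :
    Cfsg.baumannSubgroupOf p S = Cfsg.baumannSubgroupOf p T := by
  have hJ : Cfsg.thompsonSubgroupOf p T ≤ S := (thompson_le_baumann p T).trans hB
  have h1 : Cfsg.thompsonSubgroupOf p S = Cfsg.thompsonSubgroupOf p T :=
    JC.thompsonSubgroupOf_eq_of_le_cj p hS hJ
  have h2 : Cfsg.thompsonSubgroupOf p (cj g T) = Cfsg.thompsonSubgroupOf p T :=
    JC.thompsonSubgroupOf_eq_of_le_cj p le_rfl (hJ.trans hS)
  have h3 : Cfsg.centerThompsonOf p S = Cfsg.centerThompsonOf p T := by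
    unfold Cfsg.centerThompsonOf; rw [h1]
  have h4 : Cfsg.centerThompsonOf p (cj g T) = Cfsg.centerThompsonOf p T := by
    unfold Cfsg.centerThompsonOf; rw [h2]
  have h5 : Cfsg.baumannSubgroupOf p T ≤ Cfsg.baumannSubgroupOf p S := by
    unfold Cfsg.baumannSubgroupOf
    rw [h3]
    exact le_inf hB inf_le_right
  have h6 : Cfsg.baumannSubgroupOf p S ≤ Cfsg.baumannSubgroupOf p (cj g T) := by
    unfold Cfsg.baumannSubgroupOf
    rw [h3, h4]
    exact inf_le_inf_right _ hS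
  have h7 : Nat.card (Cfsg.baumannSubgroupOf p (cj g T)) = Nat.card (Cfsg.baumannSubgroupOf p T) := by
    rw [baumannSubgroupOf_cj, card_cj]
  exact (eq_of_le_of_card_le' h5 ((Subgroup.card_le_of_le h6).trans h7.le)).symm

/-- Every `p`-subgroup normalised by the Baumann subgroup `B(T)` of a Sylow `p`-subgroup `T` normalises `B(T)`. -/
theorem le_normalizer_baumann [Finite G] {p : ℕ} [Fact p.Prime] (T : Sylow p G) (Q : Subgroup G)
    (hQ : IsPGroup p Q)
    (hBQ : Cfsg.baumannSubgroupOf p (T : Subgroup G) ≤ Subgroup.normalizer (Q : Set G)) :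
    Q ≤ Subgroup.normalizer (Cfsg.baumannSubgroupOf p (T : Subgroup G) : Set G) := by
  set B := Cfsg.baumannSubgroupOf p (T : Subgroup G) with hBdef
  have hBp : IsPGroup p B := T.2.to_le (baumannSubgroupOf_le p _)
  -- `P = B Q` is a `p`-group
  have hP : IsPGroup p (B ⊔ Q : Subgroup G) := by
    rw [sup_comm]
    exact IsPGroup.to_sup_of_normal_left' hQ hBp hBQ
  obtain ⟨T', hT'⟩ := hP.exists_le_sylow
  obtain ⟨g, hg⟩ := MulAction.exists_smul_eq G T T'
  have hT'eq : (T' : Subgroup G) = cj g (T : Subgroup G) := by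
    rw [← hg]
    rfl
  have hPle : B ⊔ Q ≤ cj g (T : Subgroup G) := by rw [← hT'eq]; exact hT'
  have hBP : Cfsg.baumannSubgroupOf p (B ⊔ Q) = B :=
    baumannSubgroupOf_eq_of_le_cj p hPle le_sup_left
  intro y hy
  rw [mem_normalizer_iff_cj_eq]
  have hyP : y ∈ B ⊔ Q := Subgroup.mem_sup_right hy
  have h1 : cj y (B ⊔ Q) = B ⊔ Q := cj_eq_self_of_mem hyP
  have h2 := baumannSubgroupOf_cj p y (B ⊔ Q)
  rw [h1, hBP] at h2
  exact h2.symm

end Cfsg.Agent.Lib.H15.BB
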