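import Mathlib
import Cfsg.Prelude.Def_BaumannBlocks
import Cfsg.Agent.Lib.H15.BBaum
import Cfsg.Agent.Lib.H15.NormComm
import Cfsg.Agent.Lib.H10.EngelHom

/-!
helper15: the core of S2983: if `E = O^p(E) = [E, B(T)]` for a Sylow `p`-subgroup `T` of a finite group, then every
`p`-subgroup normalised by `E` and by `B(T)` normalises `E`.
-/

set_option autoImplicit false

namespace Cfsg.Agent.Lib.H15.BB

open Cfsg.Agent.Lib.H15
open scoped commutatorElement

variable {G : Type*} [Group G]

theorem le_normalizer_inf {X H K : Subgroup G} (h1 : X ≤ Subgroup.normalizer (H : Set G))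
    (h2 : X ≤ Subgroup.normalizer (K : Set G)) :
    X ≤ Subgroup.normalizer ((H ⊓ K : Subgroup G) : Set G) := by
  intro x hx
  have e1 := mem_normalizer_iff_cj_eq.mp (h1 hx)
  have e2 := mem_normalizer_iff_cj_eq.mp (h2 hx)
  rw [mem_normalizer_iff_cj_eq]
  show Subgroup.map _ (H ⊓ K) = _
  rw [Subgroup.map_inf _ _ _ (MulAut.conj x).injective]
  exact congrArg₂ _ e1 e2

theorem le_normalizer_normalizer {X H : Subgroup G} (h1 : X ≤ Subgroup.normalizer (H : Set G)) :
    X ≤ Subgroup.normalizer ((Subgroup.normalizer (H : Set G) : Subgroup G) : Set G) := by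
  intro x hx
  rw [mem_normalizer_iff_cj_eq, ← normalizer_cj, mem_normalizer_iff_cj_eq.mp (h1 hx)]

theorem le_normalizer_centralizer {X H : Subgroup G} (h1 : X ≤ Subgroup.normalizer (H : Set G)) :
    X ≤ Subgroup.normalizer ((Subgroup.centralizer (H : Set G) : Subgroup G) : Set G) := by
  intro x hx
  rw [mem_normalizer_iff_cj_eq, ← centralizer_cj, mem_normalizer_iff_cj_eq.mp (h1 hx)]

theorem le_normalizer_of_conj_mem {B H : Subgroup G}
    (h : ∀ b ∈ B, ∀ x ∈ H, b * x * b⁻¹ ∈ H) : B ≤ Subgroup.normalizer (H : Set G) := by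
  intro b hb
  rw [Subgroup.mem_normalizer_iff]
  intro x
  refine ⟨h b hb x, fun hx => ?_⟩
  have h1 := h b⁻¹ (B.inv_mem hb) _ hx
  have h2 : b⁻¹ * (b * x * b⁻¹) * b⁻¹⁻¹ = x := by group
  rwa [h2] at h1

theorem right_le_normalizer_commutator (A B : Subgroup G) :
    B ≤ Subgroup.normalizer ((⁅A, B⁆ : Subgroup G) : Set G) := by
  apply le_normalizer_of_conj_mem
  intro b hb
  have h1 : ⁅A, B⁆ ≤ (⁅A, B⁆ : Subgroup G).comap (MulAut.conj b).toMonoidHom := by
    rw [Subgroup.commutator_le]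
    intro x hx y hy
    rw [Subgroup.mem_comap]
    show b * ⁅x, y⁆ * b⁻¹ ∈ ⁅A, B⁆
    have e : b * ⁅x, y⁆ * b⁻¹ = ⁅x, b⁆⁻¹ * ⁅x, b * y⁆ := by
      simp only [commutatorElement_def]; group
    rw [e]
    exact Subgroup.mul_mem _ (Subgroup.inv_mem _ (Subgroup.commutator_mem_commutator hx hb))
      (Subgroup.commutator_mem_commutator hx (B.mul_mem hb hy))
  intro z hz
  exact h1 hz

theorem left_le_normalizer_commutator (A B : Subgroup G) :
    A ≤ Subgroup.normalizer ((⁅A, B⁆ : Subgroup G) : Set G) := by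
  rw [Subgroup.commutator_comm]
  exact right_le_normalizer_commutator B A

/-- `[X, Q] ≤ Q` when `X` normalises `Q`. -/
theorem commutator_le_of_le_normalizer {X Q : Subgroup G}
    (h : X ≤ Subgroup.normalizer (Q : Set G)) : ⁅X, Q⁆ ≤ Q := by
  rw [Subgroup.commutator_le]
  intro x hx y hy
  have h1 : x * y * x⁻¹ ∈ Q := (Subgroup.mem_normalizer_iff.mp (h hx) y).mp hy
  rw [commutatorElement_def]
  exact Q.mul_mem h1 (Q.inv_mem hy)

/-- In `E N` with `N` a `p`-group normalising `E`, the elements of order prime to `p` lie in `E`. -/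
theorem mem_of_coprime_of_mem_sup [Finite G] {p : ℕ} [Fact p.Prime] {E N : Subgroup G}
    (hN : IsPGroup p N) (hNE : N ≤ Subgroup.normalizer (E : Set G)) {z : G} (hz : z ∈ E ⊔ N)
    (hc : (orderOf z).Coprime p) : z ∈ E := by
  set Γ := Subgroup.normalizer (E : Set G) with hΓ
  have hEΓ : E ≤ Γ := Subgroup.le_normalizer
  haveI : (E.subgroupOf Γ).Normal := Subgroup.normal_in_normalizer
  have hzΓ : z ∈ Γ := (sup_le hEΓ hNE) hz
  have h1 : (⟨z, hzΓ⟩ : Γ) ∈ E.subgroupOf Γ ⊔ N.subgroupOf Γ := by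
    rw [← Subgroup.subgroupOf_sup hEΓ hNE]
    exact hz
  obtain ⟨e, he, n, hn, hen⟩ := Subgroup.mem_sup_of_normal_left.mp h1
  have h2 : (QuotientGroup.mk' (E.subgroupOf Γ)) (⟨z, hzΓ⟩ : Γ) =
      (QuotientGroup.mk' (E.subgroupOf Γ)) n := by
    rw [← hen, map_mul]
    have : (QuotientGroup.mk' (E.subgroupOf Γ)) e = 1 := (QuotientGroup.eq_one_iff e).mpr he
    rw [this, one_mul]
  have h3 : orderOf ((QuotientGroup.mk' (E.subgroupOf Γ)) (⟨z, hzΓ⟩ : Γ)) ∣ orderOf z := by
    have := orderOf_map_dvd (QuotientGroup.mk' (E.subgroupOf Γ)) (⟨z, hzΓ⟩ : Γ)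
    rwa [← Subgroup.orderOf_coe] at this
  have h4 : ∃ k, orderOf ((QuotientGroup.mk' (E.subgroupOf Γ)) n) = p ^ k := by
    obtain ⟨k, hk⟩ := hN ⟨(n : G), hn⟩
    have h5 : (n : Γ) ^ p ^ k = 1 := by
      have := congrArg Subtype.val hk
      apply Subtype.ext
      simpa using this
    have h6 : ((QuotientGroup.mk' (E.subgroupOf Γ)) n) ^ p ^ k = 1 := by
      rw [← map_pow, h5, map_one]
    obtain ⟨j, -, hj⟩ := (Nat.dvd_prime_pow (Fact.out : p.Prime)).mp (orderOf_dvd_of_pow_eq_one h6)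
    exact ⟨j, hj⟩
  obtain ⟨k, hk⟩ := h4
  rw [h2, hk] at h3
  have h7 : p ^ k = 1 := Nat.eq_one_of_dvd_coprimes (Nat.Coprime.pow_right k hc) h3 dvd_rfl
  have h8 : (QuotientGroup.mk' (E.subgroupOf Γ)) (⟨z, hzΓ⟩ : Γ) = 1 := by
    rw [← orderOf_eq_one_iff, h2, hk, h7]
  have h9 : (⟨z, hzΓ⟩ : Γ) ∈ E.subgroupOf Γ := (QuotientGroup.eq_one_iff _).mp h8
  exact h9

/-- A subgroup with `O^p(E) = E` is generated by its elements of order prime to `p`. -/
theorem eq_closure_of_pResidualOf_eq {p : ℕ} {E : Subgroup G} (hE : Cfsg.pResidualOf p E = E) :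
    E = Subgroup.closure {x : G | x ∈ E ∧ (orderOf x).Coprime p} := by
  apply le_antisymm
  · conv_lhs => rw [← hE]
    unfold Cfsg.pResidualOf Cfsg.pResidual
    rw [MonoidHom.map_closure]
    apply Subgroup.closure_mono
    rintro _ ⟨x, hx, rfl⟩
    refine ⟨x.2, ?_⟩
    have : orderOf (E.subtype x) = orderOf x := Subgroup.orderOf_coe x
    show (orderOf (E.subtype x)).Coprime p
    rw [this]
    exact hx
  · rw [Subgroup.closure_le]
    intro x hx
    exact hx.1

/-- If `O^p(E) = E`, `N` is a `p`-group normalising `E` and `y E y⁻¹ ⊆ E N`, then `y` normalises `E`. -/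
theorem mem_normalizer_of_conj_le_sup [Finite G] {p : ℕ} [Fact p.Prime] {E N : Subgroup G}
    (hE : Cfsg.pResidualOf p E = E)
    (hN : IsPGroup p N) (hNE : N ≤ Subgroup.normalizer (E : Set G)) {y : G}
    (hy : cj y E ≤ E ⊔ N) : y ∈ Subgroup.normalizer (E : Set G) := by
  apply mem_normalizer_of_cj_le
  have h1 := eq_closure_of_pResidualOf_eq hE
  conv_lhs => rw [h1]
  show Subgroup.map _ _ ≤ _
  rw [MonoidHom.map_closure, Subgroup.closure_le]
  rintro _ ⟨x, ⟨hx, hxo⟩, rfl⟩
  apply mem_of_coprime_of_mem_sup hN hNE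
  · exact hy (conj_mem_cj hx)
  · show (orderOf (y * x * y⁻¹)).Coprime p
    have := orderOf_injective (MulAut.conj y).toMonoidHom (MulAut.conj y).injective x
    have h2 : (MulAut.conj y).toMonoidHom x = y * x * y⁻¹ := rfl
    rw [h2] at this
    rw [this]
    exact hxo

/-- **Core of S2983.** -/
theorem le_normalizer_of_residual_comm [Finite G] {p : ℕ} [Fact p.Prime] (T : Sylow p G)
    (E : Subgroup G) (hE1 : Cfsg.pResidualOf p E = E)
    (hE2 : ⁅E, Cfsg.baumannSubgroupOf p (T : Subgroup G)⁆ = E) :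
    ∀ (n : ℕ) (Q : Subgroup G), Nat.card Q = n → IsPGroup p Q →
      Cfsg.baumannSubgroupOf p (T : Subgroup G) ≤ Subgroup.normalizer (Q : Set G) →
      E ≤ Subgroup.normalizer (Q : Set G) → Q ≤ Subgroup.normalizer (E : Set G) := by
  set B := Cfsg.baumannSubgroupOf p (T : Subgroup G) with hBdef
  have hBE : B ≤ Subgroup.normalizer (E : Set G) := by
    have := right_le_normalizer_commutator E B
    rwa [hE2] at this
  have hEE : E ≤ Subgroup.normalizer (E : Set G) := Subgroup.le_normalizer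
  intro n
  induction n using Nat.strong_induction_on with
  | _ n ih =>
    intro Q hcard hQ hBQ hEQ
    set N := Q ⊓ Subgroup.normalizer (E : Set G) with hNdef
    have hNQ : N ≤ Q := inf_le_left
    have hNnE : N ≤ Subgroup.normalizer (E : Set G) := inf_le_right
    have hNp : IsPGroup p N := hQ.to_le hNQ
    have hEN : E ≤ Subgroup.normalizer (N : Set G) :=
      le_normalizer_inf hEQ (le_normalizer_normalizer hEE)
    have hBN : B ≤ Subgroup.normalizer (N : Set G) :=
      le_normalizer_inf hBQ (le_normalizer_normalizer hBE)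
    -- `[Q,Q] ≤ N`
    have hQQ : ⁅Q, Q⁆ ≤ N := by
      by_cases hbot : Q = ⊥
      · rw [hbot]
        simp
      have hlt : ⁅Q, Q⁆ ≠ Q := by
        intro h
        apply hbot
        haveI : Group.IsNilpotent Q := hQ.isNilpotent
        exact eq_bot_of_le_commutator (T := Q) inferInstance le_rfl h.ge
      have hle : ⁅Q, Q⁆ ≤ Q := commutator_le_of_le_normalizer Subgroup.le_normalizer
      have hcardlt : Nat.card (⁅Q, Q⁆ : Subgroup G) < n := by
        rw [← hcard]
        by_contra hnot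
        rw [not_lt] at hnot
        exact hlt (eq_of_le_of_card_le' hle hnot)
      have := ih _ hcardlt ⁅Q, Q⁆ rfl (hQ.to_le hle) (le_normalizer_commutator hBQ hBQ)
        (le_normalizer_commutator hEQ hEQ)
      exact le_inf hle this
    have hQN : Q ≤ Subgroup.normalizer (N : Set G) := by
      intro y hy
      apply mem_normalizer_of_cj_le
      intro x hx
      rw [mem_cj_iff] at hx
      have e : x = ⁅y, y⁻¹ * x * y⁆ * (y⁻¹ * x * y) := by
        simp only [commutatorElement_def]; group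
      rw [e]
      exact N.mul_mem (hQQ (Subgroup.commutator_mem_commutator hy (hNQ hx))) hx
    -- `[B,Q] ≤ N`
    have hQB : Q ≤ Subgroup.normalizer (B : Set G) := le_normalizer_baumann T Q hQ hBQ
    have hBQN : ⁅B, Q⁆ ≤ N := by
      apply le_inf (commutator_le_of_le_normalizer hBQ)
      rw [Subgroup.commutator_le]
      intro b hb y hy
      -- `B` normalises `E^{y}` for every `y ∈ Q`
      have h1 : ∀ z ∈ Q, B ≤ Subgroup.normalizer ((cj z E : Subgroup G) : Set G) := by
        intro z hz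
        have h2 : cj z E = ⁅cj z E, B⁆ := by
          conv_lhs => rw [← hE2]
          rw [cj_commutator, mem_normalizer_iff_cj_eq.mp (hQB hz)]
        rw [h2]
        exact right_le_normalizer_commutator _ _
      have h6 := mem_normalizer_iff_cj_eq.mp (h1 y⁻¹ (Q.inv_mem hy) (B.inv_mem hb))
      rw [cj_cj] at h6
      have h7 : y * b⁻¹ * y⁻¹ ∈ Subgroup.normalizer (E : Set G) := by
        rw [mem_normalizer_iff_cj_eq]
        have := congrArg (cj y) h6
        rw [cj_cj, cj_cj_inv] at this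
        rw [← this]
        congr 1
        group
      have e2 : ⁅b, y⁆ = b * (y * b⁻¹ * y⁻¹) := by
        simp only [commutatorElement_def]; group
      rw [e2]
      exact Subgroup.mul_mem _ (hBE hb) h7
    -- three subgroups modulo `N`
    have h3s : ⁅⁅B, E⁆, Q⁆ ≤ N := by
      apply Cfsg.Agent.Lib.H10.three_subgroups_of_le_normalizer N hBN hEN hQN
      · calc ⁅⁅E, Q⁆, B⁆ ≤ ⁅Q, B⁆ :=
              Subgroup.commutator_mono (commutator_le_of_le_normalizer hEQ) le_rfl
          _ = ⁅B, Q⁆ := Subgroup.commutator_comm _ _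
          _ ≤ N := hBQN
      · calc ⁅⁅Q, B⁆, E⁆ ≤ ⁅N, E⁆ := by
              apply Subgroup.commutator_mono _ le_rfl
              rw [Subgroup.commutator_comm]; exact hBQN
          _ = ⁅E, N⁆ := Subgroup.commutator_comm _ _
          _ ≤ N := commutator_le_of_le_normalizer hEN
    have hEQN : ⁅E, Q⁆ ≤ N := by
      rw [Subgroup.commutator_comm B E, hE2] at h3s
      exact h3s
    intro y hy
    apply mem_normalizer_of_conj_le_sup hE1 hNp hNnE
    intro x hx
    rw [mem_cj_iff] at hx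
    have e : x = ⁅y⁻¹ * x * y, y⁆⁻¹ * (y⁻¹ * x * y) := by
      simp only [commutatorElement_def]; group
    rw [e]
    exact Subgroup.mul_mem _
      (Subgroup.mem_sup_right (N.inv_mem (hEQN (Subgroup.commutator_mem_commutator hx hy))))
      (Subgroup.mem_sup_left hx)

end Cfsg.Agent.Lib.H15.BB
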