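import Mathlib
import Cfsg.Prelude.Def_BaumannBlocks
import Cfsg.Agent.Lib.H15.BBCore
import Cfsg.Agent.Lib.H15.PCoreOf
import Cfsg.Agent.Lib.H18.BBIrrL
import Cfsg.Agent.Lib.H24.BBIrrA

/-!
helper15: transport of the module structure of a Baumann block `E` to subgroup language:
`W = Ω₁(Z(O_p(E)))` is elementary abelian, `W / C_W(E)` is an irreducible `E`-section, and `[W, E] ≠ 1`.
-/

set_option autoImplicit false

namespace Cfsg.Agent.Lib.H15.BB

open Cfsg.Agent.Lib.H15
open scoped commutatorElement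

variable {G : Type*} [Group G]

/-! ### `Ω₁(Z(X))` -/

theorem omegaOneCenter_le (p : ℕ) (X : Subgroup G) :
    Cfsg.omegaOneCenter p X ≤ X ⊓ Subgroup.centralizer (X : Set G) := omegaOne_le p _

theorem omegaOneCenter_le_self (p : ℕ) (X : Subgroup G) : Cfsg.omegaOneCenter p X ≤ X :=
  (omegaOneCenter_le p X).trans inf_le_left

theorem omegaOneCenter_le_centralizer (p : ℕ) (X : Subgroup G) :
    Cfsg.omegaOneCenter p X ≤ Subgroup.centralizer (X : Set G) :=
  (omegaOneCenter_le p X).trans inf_le_right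

theorem le_centralizer_omegaOneCenter (p : ℕ) (X : Subgroup G) :
    X ≤ Subgroup.centralizer (Cfsg.omegaOneCenter p X : Set G) :=
  Subgroup.le_centralizer_iff.mp (omegaOneCenter_le_centralizer p X)

theorem omegaOneCenter_elemAb (p : ℕ) (X : Subgroup G) :
    Cfsg.IsElementaryAbelian p (Cfsg.omegaOneCenter p X) := by
  have hc : Cfsg.omegaOneCenter p X ≤
      Subgroup.centralizer ((Cfsg.omegaOneCenter p X : Subgroup G) : Set G) :=
    (omegaOneCenter_le_centralizer p X).trans (Subgroup.centralizer_le (omegaOneCenter_le_self p X))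
  refine ⟨Subgroup.le_centralizer_iff_isMulCommutative.1 hc, ?_⟩
  intro x hx
  have hx0 := hx
  unfold Cfsg.omegaOneCenter Cfsg.omegaOne at hx
  induction hx using Subgroup.closure_induction with
  | mem y hy => exact hy.2
  | one => exact one_pow p
  | mul y z hy hz ihy ihz =>
    have hy' : y ∈ Cfsg.omegaOneCenter p X := hy
    have hz' : z ∈ Cfsg.omegaOneCenter p X := hz
    have hcomm : Commute y z := hc hz' y hy'
    rw [hcomm.mul_pow, ihy hy', ihz hz', one_mul]
  | inv y hy ihy =>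
    have hy' : y ∈ Cfsg.omegaOneCenter p X := hy
    rw [inv_pow, ihy hy', inv_one]

theorem omegaOneCenter_cj (p : ℕ) (g : G) (X : Subgroup G) :
    Cfsg.omegaOneCenter p (cj g X) = cj g (Cfsg.omegaOneCenter p X) := by
  unfold Cfsg.omegaOneCenter
  rw [centralizer_cj, ← omegaOne_cj]
  congr 1
  exact (Subgroup.map_inf _ _ _ (MulAut.conj g).injective).symm

theorem normalizer_le_normalizer_omegaOneCenter (p : ℕ) (X : Subgroup G) :
    Subgroup.normalizer (X : Set G) ≤
      Subgroup.normalizer ((Cfsg.omegaOneCenter p X : Subgroup G) : Set G) := by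
  intro g hg
  rw [mem_normalizer_iff_cj_eq] at hg ⊢
  rw [← omegaOneCenter_cj, hg]

/-! ### Abstract irreducible sections -/

/-- Transport of irreducibility of a module to the section `U / U₀`. -/
theorem section_irreducible {M : Type*} [AddCommGroup M] {E U U₀ : Subgroup G}
    (ψ : ↥U →* Multiplicative M) (act : ↥E → M → M)
    (hker : ∀ u : ↥U, ψ u = 1 ↔ (u : G) ∈ U₀)
    (heq : ∀ (e : ↥E) (u : ↥U), ∃ w : ↥U, (w : G) = (e : G) * (u : G) * (e : G)⁻¹ ∧
      Multiplicative.toAdd (ψ w) = act e (Multiplicative.toAdd (ψ u)))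
    (hirr : ∀ S : AddSubgroup M, (∀ e : ↥E, ∀ v ∈ S, act e v ∈ S) →
      (∀ v ∈ S, ∃ u : ↥U, Multiplicative.toAdd (ψ u) = v) →
      S = ⊥ ∨ ∀ u : ↥U, Multiplicative.toAdd (ψ u) ∈ S)
    (W₁ : Subgroup G) (hinv : E ≤ Subgroup.normalizer (W₁ : Set G)) :
    W₁ ⊓ U ≤ U₀ ∨ U ≤ W₁ ⊔ U₀ := by
  let S : AddSubgroup M :=
    { carrier := {v | ∃ u : ↥U, (u : G) ∈ W₁ ∧ Multiplicative.toAdd (ψ u) = v}
      zero_mem' := ⟨1, W₁.one_mem, by simp⟩
      add_mem' := by
        rintro a b ⟨u, hu, rfl⟩ ⟨u', hu', rfl⟩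
        exact ⟨u * u', W₁.mul_mem hu hu', by simp⟩
      neg_mem' := by
        rintro a ⟨u, hu, rfl⟩
        exact ⟨u⁻¹, W₁.inv_mem hu, by simp⟩ }
  have hS1 : ∀ e : ↥E, ∀ v ∈ S, act e v ∈ S := by
    rintro e v ⟨u, hu, rfl⟩
    obtain ⟨w, hw, hwv⟩ := heq e u
    refine ⟨w, ?_, hwv⟩
    rw [hw]
    exact (Subgroup.mem_normalizer_iff.mp (hinv e.2) _).mp hu
  have hS2 : ∀ v ∈ S, ∃ u : ↥U, Multiplicative.toAdd (ψ u) = v := by
    rintro v ⟨u, -, rfl⟩
    exact ⟨u, rfl⟩
  rcases hirr S hS1 hS2 with h | h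
  · left
    intro x hx
    have hxU : x ∈ U := hx.2
    have h1 : Multiplicative.toAdd (ψ ⟨x, hxU⟩) ∈ S := ⟨⟨x, hxU⟩, hx.1, rfl⟩
    rw [h, AddSubgroup.mem_bot] at h1
    have h2 : ψ ⟨x, hxU⟩ = 1 := by
      apply Multiplicative.toAdd.injective
      rw [h1]; rfl
    exact (hker _).mp h2
  · right
    intro x hx
    obtain ⟨u', hu', huv⟩ := h ⟨x, hx⟩
    have h1 : ψ (u'⁻¹ * ⟨x, hx⟩) = 1 := by
      rw [map_mul, map_inv]
      have : ψ u' = ψ ⟨x, hx⟩ := Multiplicative.toAdd.injective huv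
      rw [this, inv_mul_cancel]
    have h2 := (hker _).mp h1
    have h3 : x = (u' : G) * ((u' : G)⁻¹ * x) := by group
    rw [h3]
    exact Subgroup.mul_mem _ (Subgroup.mem_sup_left hu') (Subgroup.mem_sup_right (by simpa using h2))

/-! ### The sections of a block -/

/-- `O_p(E)`, `W = Ω₁(Z(O_p(E)))` and `C_W(E)`. -/
abbrev WW (p : ℕ) (E : Subgroup G) : Subgroup G := Cfsg.omegaOneCenter p (Cfsg.pCoreOf p E)

abbrev ZZ (p : ℕ) (E : Subgroup G) : Subgroup G :=
  Cfsg.omegaOneCenter p (Cfsg.pCoreOf p E) ⊓ Subgroup.centralizer (E : Set G)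

theorem sl2_section_irreducible {F : Type} [Field F] [Fintype F] {E U U₀ : Subgroup G}
    (h : Cfsg.ActsAsSL2OnSection F (commutator (Matrix.SpecialLinearGroup (Fin 2) F)) E U U₀)
    (W₁ : Subgroup G) (hinv : E ≤ Subgroup.normalizer (W₁ : Set G)) :
    W₁ ⊓ U ≤ U₀ ∨ U ≤ W₁ ⊔ U₀ := by
  obtain ⟨-, -, ρ, ψ, hρ, hsurj, hker, heq⟩ := h
  apply section_irreducible ψ
    (fun e v => ((ρ e : Matrix.SpecialLinearGroup (Fin 2) F) : Matrix (Fin 2) (Fin 2) F).mulVec v)
    hker heq _ W₁ hinv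
  intro S hS1 _
  by_cases hS : S = ⊥
  · exact Or.inl hS
  · right
    have : S = ⊤ := by
      apply Cfsg.Agent.Lib.H18.BB.sl2_commutator_irreducible S _ hS
      intro g hg v hv
      rw [← hρ] at hg
      obtain ⟨e, rfl⟩ := hg
      exact hS1 e v hv
    intro u
    rw [this]
    exact AddSubgroup.mem_top _

theorem alt_section_irreducible {m : ℕ} {E U U₀ : Subgroup G}
    (h : Cfsg.ActsAsOddPermModuleOnSection (2 * m + 1) (alternatingGroup (Fin (2 * m + 1))) E U U₀)
    (W₁ : Subgroup G) (hinv : E ≤ Subgroup.normalizer (W₁ : Set G)) :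
    W₁ ⊓ U ≤ U₀ ∨ U ≤ W₁ ⊔ U₀ := by
  obtain ⟨-, -, ρ, ψ, hρ, hev, -, hker, heq⟩ := h
  apply section_irreducible ψ
    (fun e v => fun i => v ((ρ e)⁻¹ i)) hker _ _ W₁ hinv
  · intro e u
    obtain ⟨w, hw, hwv⟩ := heq e u
    exact ⟨w, hw, funext hwv⟩
  · intro S hS1 hS2
    by_cases hS : S = ⊥
    · exact Or.inl hS
    · right
      have hSev : ∀ v ∈ S, ∑ i, v i = 0 := by
        intro v hv
        obtain ⟨u, rfl⟩ := hS2 v hv
        exact hev u
      rcases Nat.eq_zero_or_pos m with hm | hm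
      · exfalso
        subst hm
        apply hS
        rw [eq_bot_iff]
        intro v hv
        rw [AddSubgroup.mem_bot]
        have h1 := hSev v hv
        funext i
        have hi : i = 0 := by
          apply Fin.ext
          have := i.2
          simp only [Fin.val_zero]
          omega
        subst hi
        simpa using h1
      · have := Cfsg.Agent.Lib.H24.BB.alt_evenWeight_irreducible m hm S (by
          intro σ hσ v hv
          rw [← hρ] at hσ
          obtain ⟨e, rfl⟩ := hσ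
          exact hS1 e v hv) hSev hS
        intro u
        exact this _ (hev u)

/-- **Irreducibility of `W / C_W(E)` for a Baumann block.** -/
theorem block_irreducible {p : ℕ} {T E : Subgroup G} (hE : Cfsg.IsBaumannBlock p T E)
    (W₁ : Subgroup G) (hinv : E ≤ Subgroup.normalizer (W₁ : Set G)) :
    W₁ ⊓ WW p E ≤ ZZ p E ∨ WW p E ≤ W₁ ⊔ ZZ p E := by
  obtain ⟨-, -, -, -, h⟩ := hE
  rcases h with ⟨F, _, _, n, -, -, h1, -⟩ | ⟨-, m, -, h1, -⟩
  · exact sl2_section_irreducible h1 W₁ hinv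
  · exact alt_section_irreducible h1 W₁ hinv

end Cfsg.Agent.Lib.H15.BB
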