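import Mathlib
import Cfsg.Prelude.Def_BaumannBlocks
import Cfsg.Agent.Lib.H15.BBlock
import Cfsg.Agent.Lib.H3.Thompson
import Cfsg.Agent.Lib.H27.Basic

/-!
helper15: Baumann blocks, continued: `[W, E] ≠ 1`, a coprime-action lemma, a nilpotency lemma, and the
three assertions of S2984.
-/

set_option autoImplicit false

namespace Cfsg.Agent.Lib.H15.BB

open Cfsg.Agent.Lib.H15
open scoped commutatorElement

variable {G : Type*} [Group G]

/-! ### Nontriviality -/

/-- If `E` centralises `U` then the module action on the image of `ψ` is trivial. -/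
theorem act_trivial_of_centralizes {M : Type*} [AddCommGroup M] {E U : Subgroup G}
    (ψ : ↥U →* Multiplicative M) (act : ↥E → M → M)
    (heq : ∀ (e : ↥E) (u : ↥U), ∃ w : ↥U, (w : G) = (e : G) * (u : G) * (e : G)⁻¹ ∧
      Multiplicative.toAdd (ψ w) = act e (Multiplicative.toAdd (ψ u)))
    (hc : ⁅U, E⁆ = ⊥) (e : ↥E) (u : ↥U) :
    act e (Multiplicative.toAdd (ψ u)) = Multiplicative.toAdd (ψ u) := by
  obtain ⟨w, hw, hwv⟩ := heq e u
  have h1 : ⁅(u : G), (e : G)⁆ = 1 := by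
    have : ⁅(u : G), (e : G)⁆ ∈ ⁅U, E⁆ := Subgroup.commutator_mem_commutator u.2 e.2
    rwa [hc, Subgroup.mem_bot] at this
  have h2 : (e : G) * (u : G) * (e : G)⁻¹ = (u : G) := by
    rw [commutatorElement_def] at h1
    have h3 : (u : G) * (e : G) = (e : G) * (u : G) := by
      have := congrArg (fun z => z * ((e : G) * (u : G))) h1
      simpa [mul_assoc] using this
    rw [← h3]; group
  have h4 : w = u := Subtype.ext (hw.trans h2)
  rw [← hwv, h4]

theorem sl2_comm_ne_bot {F : Type} [Field F] [Fintype F] {E U U₀ : Subgroup G}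
    (h : Cfsg.ActsAsSL2OnSection F (commutator (Matrix.SpecialLinearGroup (Fin 2) F)) E U U₀) :
    ⁅U, E⁆ ≠ ⊥ := by
  intro hc
  obtain ⟨-, -, ρ, ψ, hρ, hsurj, hker, heq⟩ := h
  have h1 := act_trivial_of_centralizes ψ
    (fun e v => ((ρ e : Matrix.SpecialLinearGroup (Fin 2) F) : Matrix (Fin 2) (Fin 2) F).mulVec v)
    heq hc
  have h2 : Cfsg.Agent.Lib.H18.BB.gEl (1 : F) ∈ ρ.range := by
    rw [hρ]; exact Cfsg.Agent.Lib.H18.BB.gEl_mem 1
  obtain ⟨e, he⟩ := h2
  have h3 : ∀ v : Fin 2 → F,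
      ((Cfsg.Agent.Lib.H18.BB.gEl (1 : F) : Matrix.SpecialLinearGroup (Fin 2) F) :
        Matrix (Fin 2) (Fin 2) F).mulVec v = v := by
    intro v
    obtain ⟨u, hu⟩ := hsurj (Multiplicative.ofAdd v)
    have := h1 e u
    rw [hu, he] at this
    exact this
  have h4 := congrFun (h3 ![0, 1]) 0
  simp [Cfsg.Agent.Lib.H18.BB.gEl, Matrix.mulVec, dotProduct, Fin.sum_univ_two] at h4

theorem alt_comm_ne_bot {m : ℕ} (hm : 1 ≤ m) {E U U₀ : Subgroup G}
    (h : Cfsg.ActsAsOddPermModuleOnSection (2 * m + 1) (alternatingGroup (Fin (2 * m + 1))) E U U₀) :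
    ⁅U, E⁆ ≠ ⊥ := by
  classical
  intro hc
  obtain ⟨-, -, ρ, ψ, hρ, hev, hsurj, hker, heq⟩ := h
  have heq' : ∀ (e : ↥E) (u : ↥U), ∃ w : ↥U, (w : G) = (e : G) * (u : G) * (e : G)⁻¹ ∧
      Multiplicative.toAdd (ψ w) = (fun e v => fun i => v ((ρ e)⁻¹ i)) e (Multiplicative.toAdd (ψ u)) := by
    intro e u
    obtain ⟨w, hw, hwv⟩ := heq e u
    exact ⟨w, hw, funext hwv⟩
  have h1 := act_trivial_of_centralizes ψ (fun e v => fun i => v ((ρ e)⁻¹ i)) heq' hc
  -- every `ρ e` is trivial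
  have h2 : ∀ e : ↥E, ρ e = 1 := by
    intro e
    by_contra hne
    have hne' : (ρ e)⁻¹ ≠ 1 := fun h => hne (inv_eq_one.mp h)
    obtain ⟨i, hi⟩ : ∃ i, (ρ e)⁻¹ i ≠ i := by
      by_contra hcon
      push Not at hcon
      exact hne' (Equiv.ext hcon)
    -- a third point
    have hcard : 3 ≤ Fintype.card (Fin (2 * m + 1)) := by rw [Fintype.card_fin]; omega
    obtain ⟨k, hk1, hk2⟩ : ∃ k : Fin (2 * m + 1), k ≠ i ∧ k ≠ (ρ e)⁻¹ i := by
      by_contra hcon
      push Not at hcon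
      have hsub : (Finset.univ : Finset (Fin (2 * m + 1))) ⊆ {i, (ρ e)⁻¹ i} := by
        intro k _
        by_cases hki : k = i
        · simp [hki]
        · simp [hcon k hki]
      have := Finset.card_le_card hsub
      rw [Finset.card_univ] at this
      have h3 : ({i, (ρ e)⁻¹ i} : Finset (Fin (2 * m + 1))).card ≤ 2 := Finset.card_le_two
      omega
    let v : Fin (2 * m + 1) → ZMod 2 := Pi.single i 1 + Pi.single k 1
    have hv : ∑ j, v j = 0 := by
      simp only [v, Pi.add_apply, Finset.sum_add_distrib, Finset.sum_pi_single', Finset.mem_univ,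
        if_true]
      decide
    obtain ⟨u, hu⟩ := hsurj v hv
    have h3 := congrFun (h1 e u) i
    rw [hu] at h3
    simp only [v, Pi.add_apply] at h3
    rw [Pi.single_eq_of_ne hi, Pi.single_eq_of_ne (Ne.symm hk2), Pi.single_eq_same,
      Pi.single_eq_of_ne (Ne.symm hk1)] at h3
    simp at h3
  have h3 : ρ.range = ⊥ := by
    rw [eq_bot_iff]
    rintro _ ⟨e, rfl⟩
    rw [Subgroup.mem_bot]
    exact h2 e
  rw [hρ] at h3
  haveI : Nontrivial (alternatingGroup (Fin (2 * m + 1))) := by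
    apply alternatingGroup.nontrivial_of_three_le_card
    rw [Nat.card_eq_fintype_card, Fintype.card_fin]; omega
  exact (Subgroup.nontrivial_iff_ne_bot _).mp inferInstance h3

/-- A block is not a `p`-group, so in the symmetric case the degree is at least 3. -/
theorem block_alt_degree {p : ℕ} [Fact p.Prime] {T E : Subgroup G}
    (h1 : Cfsg.pResidualOf p E = E) (h4 : ⁅E, Cfsg.omegaOneCenter p T⁆ ≠ ⊥) {m : ℕ}
    (hiso : Nonempty (↥E ⧸ Cfsg.pCore p ↥E ≃* ↥(alternatingGroup (Fin (2 * m + 1))))) : 1 ≤ m := by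
  by_contra hm
  have hm0 : m = 0 := by omega
  subst hm0
  apply h4
  obtain ⟨φ⟩ := hiso
  haveI : Subsingleton (↥(alternatingGroup (Fin (2 * 0 + 1)))) := by
    haveI : Subsingleton (Equiv.Perm (Fin (2 * 0 + 1))) := by
      show Subsingleton (Equiv.Perm (Fin 1))
      infer_instance
    infer_instance
  haveI : Subsingleton (↥E ⧸ Cfsg.pCore p ↥E) := φ.toEquiv.subsingleton
  have hn : (Cfsg.pCore p ↥E).Normal := Cfsg.Agent.Lib.H27.pCore_normal'
  have htop : Cfsg.pCore p ↥E = ⊤ := by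
    rw [eq_top_iff]
    intro x _
    rw [← QuotientGroup.eq_one_iff]
    exact Subsingleton.elim _ _
  have hEp : IsPGroup p ↥E := by
    have h := Cfsg.Agent.Lib.H27.pCore_isPGroup (G := ↥E) (p := p)
    rw [htop] at h
    exact IsPGroup.of_equiv h Subgroup.topEquiv
  have hEbot : E = ⊥ := by
    rw [eq_closure_of_pResidualOf_eq h1, Subgroup.closure_eq_bot_iff]
    rintro x ⟨hxE, hxo⟩
    obtain ⟨k, hk⟩ := hEp ⟨x, hxE⟩
    have hk' : x ^ p ^ k = 1 := by
      have := congrArg Subtype.val hk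
      simpa using this
    have h2 : orderOf x ∣ p ^ k := orderOf_dvd_of_pow_eq_one hk'
    have h3 : orderOf x = 1 :=
      Nat.eq_one_of_dvd_coprimes (Nat.Coprime.pow_right k hxo) dvd_rfl h2
    exact orderOf_eq_one_iff.mp h3
  rw [hEbot]
  exact Subgroup.commutator_bot_left _

/-- **`[W, E] ≠ 1` for a Baumann block.** -/
theorem block_comm_ne_bot {p : ℕ} [Fact p.Prime] {T E : Subgroup G}
    (hE : Cfsg.IsBaumannBlock p T E) : ⁅WW p E, E⁆ ≠ ⊥ := by
  obtain ⟨h1, -, -, h4, h⟩ := hE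
  rcases h with ⟨F, _, _, n, -, -, h5, -⟩ | ⟨-, m, hiso, h5, -⟩
  · exact sl2_comm_ne_bot h5
  · exact alt_comm_ne_bot (block_alt_degree h1 h4 hiso) h5

/-! ### Coprime action -/

/-- If `E = O^p(E)` normalises the elementary abelian `p`-group `W` and centralises `[W, E]`, then `E` centralises
`W`. -/
theorem comm_eq_bot_of_comm_comm_eq_bot {p : ℕ} [Fact p.Prime] {E W : Subgroup G}
    (hE : Cfsg.pResidualOf p E = E) (hW : Cfsg.IsElementaryAbelian p W)
    (hEW : E ≤ Subgroup.normalizer (W : Set G)) (h : ⁅E, ⁅W, E⁆⁆ = ⊥) : ⁅W, E⁆ = ⊥ := by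
  rw [Subgroup.commutator_eq_bot_iff_le_centralizer, ← Subgroup.le_centralizer_iff,
    eq_closure_of_pResidualOf_eq hE, Subgroup.closure_le]
  rintro x ⟨hxE, hxo⟩
  rw [SetLike.mem_coe, Subgroup.mem_centralizer_iff]
  intro w hw
  -- `c = [w, x]`
  set c := ⁅w, x⁆ with hc
  have hcWE : c ∈ ⁅W, E⁆ := Subgroup.commutator_mem_commutator hw hxE
  have hcW : c ∈ W := by
    rw [hc, commutatorElement_def, mul_assoc, mul_assoc]
    refine W.mul_mem hw ?_
    rw [← mul_assoc]
    exact (Subgroup.mem_normalizer_iff.mp (hEW hxE) _).mp (W.inv_mem hw)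
  have hcx : Commute c x := by
    have h1 : ⁅x, c⁆ ∈ ⁅E, ⁅W, E⁆⁆ := Subgroup.commutator_mem_commutator hxE hcWE
    rw [h, Subgroup.mem_bot, commutatorElement_eq_one_iff_commute] at h1
    exact h1.symm
  have h2 : w * x * w⁻¹ = c * x := by rw [hc, commutatorElement_def]; group
  have h3 : c ^ orderOf x = 1 := by
    have h4 : (w * x * w⁻¹) ^ orderOf x = 1 := by rw [conj_pow, pow_orderOf_eq_one]; group
    rw [h2, hcx.mul_pow, pow_orderOf_eq_one, mul_one] at h4
    exact h4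
  have h5 : c ^ p = 1 := hW.2 c hcW
  have h6 : orderOf c = 1 :=
    Nat.eq_one_of_dvd_coprimes hxo (orderOf_dvd_of_pow_eq_one h3) (orderOf_dvd_of_pow_eq_one h5)
  have h7 : c = 1 := orderOf_eq_one_iff.mp h6
  rw [hc, commutatorElement_eq_one_iff_commute] at h7
  exact h7.eq

/-! ### A nilpotency lemma -/

/-- If the `p`-group `R` normalises the `p`-group `W` and a subgroup `Z ≤ W` normalised by `W`, and `W = [W, R] Z`, then
`W = Z`. -/
theorem le_of_le_commutator_sup [Finite G] {p : ℕ} [Fact p.Prime] {W R Z : Subgroup G}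
    (hW : IsPGroup p W) (hR : IsPGroup p R) (hRW : R ≤ Subgroup.normalizer (W : Set G))
    (hWZ : W ≤ Subgroup.normalizer (Z : Set G))
    (hRZ : R ≤ Subgroup.normalizer (Z : Set G)) (h : W ≤ ⁅W, R⁆ ⊔ Z) (hZW : Z ≤ W) : W ≤ Z := by
  set P := W ⊔ R with hP
  have hPp : IsPGroup p P := IsPGroup.to_sup_of_normal_left' hW hR hRW
  have hWP : W ≤ P := le_sup_left
  have hRP : R ≤ P := le_sup_right
  have hZP : Z ≤ P := hZW.trans hWP
  have hPZ : P ≤ Subgroup.normalizer (Z : Set G) := sup_le hWZ hRZ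
  haveI hZn : (Z.subgroupOf P).Normal :=
    (Subgroup.normal_subgroupOf_iff_le_normalizer hZP).mpr hPZ
  set π := QuotientGroup.mk' (Z.subgroupOf P) with hπ
  set N := (W.subgroupOf P).map π with hN
  have h' : W.subgroupOf P ≤ ⁅W.subgroupOf P, R.subgroupOf P⁆ ⊔ Z.subgroupOf P := by
    rw [← Subgroup.map_le_map_iff_of_injective P.subtype_injective, Subgroup.map_sup,
      Subgroup.map_commutator, Subgroup.map_subgroupOf_eq_of_le hWP,
      Subgroup.map_subgroupOf_eq_of_le hRP, Subgroup.map_subgroupOf_eq_of_le hZP]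
    exact h
  have h1 : N ≤ ⁅N, (⊤ : Subgroup (↥P ⧸ Z.subgroupOf P))⁆ := by
    have := Subgroup.map_mono (f := π) h'
    rw [Subgroup.map_sup, Subgroup.map_commutator] at this
    have hk : (Z.subgroupOf P).map π = ⊥ := by
      rw [Subgroup.map_eq_bot_iff, hπ, QuotientGroup.ker_mk']
    rw [hk, sup_bot_eq] at this
    exact this.trans (Subgroup.commutator_mono le_rfl le_top)
  haveI : Group.IsNilpotent (↥P ⧸ Z.subgroupOf P) := by
    haveI : Group.IsNilpotent ↥P := hPp.isNilpotent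
    infer_instance
  obtain ⟨n, hn⟩ := Subgroup.nilpotent_iff_lowerCentralSeries.mp
    (inferInstance : Group.IsNilpotent (↥P ⧸ Z.subgroupOf P))
  have key : ∀ k, N ≤ (⊤ : Subgroup (↥P ⧸ Z.subgroupOf P)).lowerCentralSeries k := by
    intro k
    induction k with
    | zero => exact le_top
    | succ k ih =>
      rw [Subgroup.lowerCentralSeries_succ]
      exact h1.trans (Subgroup.commutator_mono ih le_rfl)
  have hNbot : N = ⊥ := by
    rw [eq_bot_iff, ← hn]; exact key n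
  rw [hN, Subgroup.map_eq_bot_iff, hπ, QuotientGroup.ker_mk'] at hNbot
  intro w hw
  have : (⟨w, hWP hw⟩ : ↥P) ∈ Z.subgroupOf P := hNbot (by rwa [Subgroup.mem_subgroupOf])
  rwa [Subgroup.mem_subgroupOf] at this

end Cfsg.Agent.Lib.H15.BB
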