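import Mathlib
import Cfsg.Prelude.Def_BaumannBlocks
import Cfsg.Agent.Lib.H15.BBlock2

/-!
helper15: the three assertions of S2984 for a Baumann block `E` of a group of characteristic `p`:
`O^p(E O_p(G)) = E`, `[W, E] ≤ Ω₁(Z(O_p(G)))`, `[[W, E], J(T)] ≠ 1`.
-/

set_option autoImplicit false

namespace Cfsg.Agent.Lib.H15.BB

open Cfsg.Agent.Lib.H15
open Cfsg.Agent.Lib.H26 (maxEA JJ)
open scoped commutatorElement

variable {G : Type*} [Group G]

theorem pResidualOf_eq_closure (p : ℕ) (H : Subgroup G) :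
    Cfsg.pResidualOf p H = Subgroup.closure {x : G | x ∈ H ∧ (orderOf x).Coprime p} := by
  unfold Cfsg.pResidualOf Cfsg.pResidual
  rw [MonoidHom.map_closure]
  congr 1
  ext x
  constructor
  · rintro ⟨y, hy, rfl⟩
    refine ⟨y.2, ?_⟩
    have : orderOf (H.subtype y) = orderOf y := Subgroup.orderOf_coe y
    show (orderOf (H.subtype y)).Coprime p
    rw [this]
    exact hy
  · rintro ⟨hxH, hxo⟩
    refine ⟨⟨x, hxH⟩, ?_, rfl⟩
    show (orderOf (⟨x, hxH⟩ : ↥H)).Coprime p
    rw [← Subgroup.orderOf_coe]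
    exact hxo

section

variable [Finite G] {p : ℕ} [Fact p.Prime]

/-- `O_p(G)` normalises every Baumann block. -/
theorem pCore_le_normalizer_block (T : Sylow p G) {E : Subgroup G}
    (hE : Cfsg.IsBaumannBlock p (T : Subgroup G) E) :
    Cfsg.pCore p G ≤ Subgroup.normalizer (E : Set G) := by
  haveI : (Cfsg.pCore p G).Normal := Cfsg.Agent.Lib.H27.pCore_normal'
  have htop : Subgroup.normalizer ((Cfsg.pCore p G : Subgroup G) : Set G) = ⊤ :=
    Subgroup.normalizer_eq_top _
  exact le_normalizer_of_residual_comm T E hE.1 hE.2.1 _ (Cfsg.pCore p G) rfl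
    Cfsg.Agent.Lib.H27.pCore_isPGroup (by rw [htop]; exact le_top) (by rw [htop]; exact le_top)

/-- S2984 (a). -/
theorem block_residual (T : Sylow p G) {E : Subgroup G}
    (hE : Cfsg.IsBaumannBlock p (T : Subgroup G) E) :
    Cfsg.pResidualOf p (E ⊔ Cfsg.pCore p G) = E := by
  have hRE := pCore_le_normalizer_block T hE
  apply le_antisymm
  · rw [pResidualOf_eq_closure, Subgroup.closure_le]
    rintro x ⟨hx, hxo⟩
    exact mem_of_coprime_of_mem_sup Cfsg.Agent.Lib.H27.pCore_isPGroup hRE hx hxo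
  · conv_lhs => rw [← hE.1]
    rw [pResidualOf_eq_closure, pResidualOf_eq_closure]
    apply Subgroup.closure_mono
    rintro x ⟨hx, hxo⟩
    exact ⟨Subgroup.mem_sup_left hx, hxo⟩

theorem block_le_normalizer_WW (E : Subgroup G) :
    Subgroup.normalizer (E : Set G) ≤ Subgroup.normalizer ((WW p E : Subgroup G) : Set G) :=
  (normalizer_le_normalizer_pcoreOf p E).trans (normalizer_le_normalizer_omegaOneCenter p _)

theorem block_le_normalizer_ZZ (E : Subgroup G) :
    Subgroup.normalizer (E : Set G) ≤ Subgroup.normalizer ((ZZ p E : Subgroup G) : Set G) :=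
  le_normalizer_inf (block_le_normalizer_WW E) (le_normalizer_centralizer le_rfl)

theorem WW_isPGroup (E : Subgroup G) : IsPGroup p (WW p E) :=
  (pcoreOf_isPGroup p E).to_le (omegaOneCenter_le_self p _)

theorem WW_le_centralizer_WW (E : Subgroup G) :
    WW p E ≤ Subgroup.centralizer ((WW p E : Subgroup G) : Set G) :=
  Subgroup.le_centralizer_iff_isMulCommutative.2 (omegaOneCenter_elemAb p _).1

/-- A `p`-subgroup `R` normalising the block `E` satisfies `[W, R] ≤ C_W(E)`. -/
theorem comm_WW_le_ZZ {T E : Subgroup G} (hE : Cfsg.IsBaumannBlock p T E) {R : Subgroup G}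
    (hR : IsPGroup p R) (hRE : R ≤ Subgroup.normalizer (E : Set G))
    (hER : E ≤ Subgroup.normalizer (R : Set G)) : ⁅WW p E, R⁆ ≤ ZZ p E := by
  have hRW : R ≤ Subgroup.normalizer ((WW p E : Subgroup G) : Set G) :=
    hRE.trans (block_le_normalizer_WW E)
  have hRZ : R ≤ Subgroup.normalizer ((ZZ p E : Subgroup G) : Set G) :=
    hRE.trans (block_le_normalizer_ZZ E)
  have hEW : E ≤ Subgroup.normalizer ((WW p E : Subgroup G) : Set G) :=
    Subgroup.le_normalizer.trans (block_le_normalizer_WW E)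
  have hWRW : ⁅WW p E, R⁆ ≤ WW p E := by
    rw [Subgroup.commutator_comm]; exact commutator_le_of_le_normalizer hRW
  rcases block_irreducible hE ⁅WW p E, R⁆ (le_normalizer_commutator hEW hER) with h | h
  · exact (le_inf le_rfl hWRW).trans h
  · have hWZ : WW p E ≤ Subgroup.normalizer ((ZZ p E : Subgroup G) : Set G) := by
      have h1 : WW p E ≤ Subgroup.centralizer ((ZZ p E : Subgroup G) : Set G) :=
        (WW_le_centralizer_WW E).trans (Subgroup.centralizer_le inf_le_left)
      exact h1.trans (Subgroup.centralizer_le_normalizer _)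
    have := le_of_le_commutator_sup (WW_isPGroup E) hR hRW hWZ hRZ h inf_le_left
    exact hWRW.trans this

/-- S2984 (b). -/
theorem block_comm_le (hG : Subgroup.centralizer (Cfsg.pCore p G : Set G) ≤ Cfsg.pCore p G)
    (T : Sylow p G) {E : Subgroup G} (hE : Cfsg.IsBaumannBlock p (T : Subgroup G) E) :
    ⁅WW p E, E⁆ ≤ Cfsg.omegaOneCenter p (Cfsg.pCore p G) := by
  set R := Cfsg.pCore p G with hRdef
  haveI : R.Normal := Cfsg.Agent.Lib.H27.pCore_normal'
  have hRp : IsPGroup p R := Cfsg.Agent.Lib.H27.pCore_isPGroup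
  have htop : Subgroup.normalizer ((R : Subgroup G) : Set G) = ⊤ := Subgroup.normalizer_eq_top _
  have hER : E ≤ Subgroup.normalizer (R : Set G) := by rw [htop]; exact le_top
  have hRE := pCore_le_normalizer_block T hE
  -- `[R, E] ≤ O_p(E)`
  have h1 : ⁅R, E⁆ ≤ Cfsg.pCoreOf p E := by
    have h2 : ⁅R, E⁆ ≤ R ⊓ E :=
      le_inf (by rw [Subgroup.commutator_comm]; exact commutator_le_of_le_normalizer hER)
        (commutator_le_of_le_normalizer hRE)
    refine h2.trans (le_pcoreOf inf_le_right ?_ (hRp.to_le inf_le_left))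
    exact le_normalizer_inf hER Subgroup.le_normalizer
  have h3 : ⁅⁅R, E⁆, WW p E⁆ = ⊥ := by
    rw [Subgroup.commutator_eq_bot_iff_le_centralizer]
    exact h1.trans (le_centralizer_omegaOneCenter p _)
  have h4 : ⁅⁅WW p E, R⁆, E⁆ = ⊥ := by
    rw [Subgroup.commutator_eq_bot_iff_le_centralizer]
    exact (comm_WW_le_ZZ hE hRp hRE hER).trans inf_le_right
  have h5 : ⁅⁅E, WW p E⁆, R⁆ = ⊥ := Subgroup.commutator_commutator_eq_bot_of_rotate h4 h3
  rw [Subgroup.commutator_eq_bot_iff_le_centralizer] at h5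
  rw [Subgroup.commutator_comm]
  have hEW : E ≤ Subgroup.normalizer ((WW p E : Subgroup G) : Set G) :=
    Subgroup.le_normalizer.trans (block_le_normalizer_WW E)
  have h6 : ⁅E, WW p E⁆ ≤ WW p E := commutator_le_of_le_normalizer hEW
  intro x hx
  unfold Cfsg.omegaOneCenter Cfsg.omegaOne
  apply Subgroup.subset_closure
  exact ⟨⟨hG (h5 hx), h5 hx⟩, (omegaOneCenter_elemAb p _).2 x (h6 hx)⟩

/-- S2984 (c). -/
theorem block_comm_thompson_ne_bot
    (hG : Subgroup.centralizer (Cfsg.pCore p G : Set G) ≤ Cfsg.pCore p G)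
    (T : Sylow p G) {E : Subgroup G} (hE : Cfsg.IsBaumannBlock p (T : Subgroup G) E) :
    ⁅⁅WW p E, E⁆, Cfsg.thompsonSubgroupOf p (T : Subgroup G)⁆ ≠ ⊥ := by
  intro hcon
  set V := ⁅WW p E, E⁆ with hV
  have hVR : V ≤ Cfsg.pCore p G :=
    (block_comm_le hG T hE).trans ((omegaOneCenter_le_self p _))
  have hVT : V ≤ (T : Subgroup G) := hVR.trans (Cfsg.Agent.Lib.H27.pCore_le_sylow T)
  have hEW : E ≤ Subgroup.normalizer ((WW p E : Subgroup G) : Set G) :=
    Subgroup.le_normalizer.trans (block_le_normalizer_WW E)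
  have hVW : V ≤ WW p E := by
    rw [hV, Subgroup.commutator_comm]; exact commutator_le_of_le_normalizer hEW
  have hVel : Cfsg.IsElementaryAbelian p V := by
    have hW := omegaOneCenter_elemAb p (Cfsg.pCoreOf p E)
    refine ⟨?_, fun a ha => hW.2 a (hVW ha)⟩
    rw [← Subgroup.le_centralizer_iff_isMulCommutative]
    exact hVW.trans ((WW_le_centralizer_WW E).trans (Subgroup.centralizer_le hVW))
  rw [Cfsg.Agent.Lib.H26.thompsonSubgroupOf_eq, Subgroup.commutator_eq_bot_iff_le_centralizer]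
    at hcon
  -- `V` lies in every `A ∈ 𝒜(T)`
  have hVA : ∀ A ∈ maxEA p (T : Subgroup G), V ≤ A := by
    intro A hA
    have hAJ : A ≤ JJ p (T : Subgroup G) := le_sSup hA
    have h1 : A ≤ Subgroup.centralizer (V : Set G) :=
      Subgroup.le_centralizer_iff.mp (hcon.trans (Subgroup.centralizer_le hAJ))
    have h2 : Cfsg.IsElementaryAbelian p (A ⊔ V) :=
      Cfsg.Agent.Lib.H3.elemAb_sup hA.2.1 hVel (Subgroup.le_centralizer_iff.mp h1)
    have h3 : Nat.card (A ⊔ V : Subgroup G) ≤ Nat.card A :=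
      hA.2.2 _ (sup_le hA.1 hVT) h2
    have h4 : A = A ⊔ V := eq_of_le_of_card_le' le_sup_left h3
    rw [h4]; exact le_sup_right
  obtain ⟨A, hA⟩ := JC.maxEA_nonempty p (T : Subgroup G)
  have hVJ : V ≤ JJ p (T : Subgroup G) := (hVA A hA).trans (le_sSup hA)
  -- `V ≤ Ω₁(Z(J(T)))`
  have hVO : V ≤ Cfsg.omegaOne p (Cfsg.centerThompsonOf p (T : Subgroup G)) := by
    intro x hx
    unfold Cfsg.omegaOne
    apply Subgroup.subset_closure
    refine ⟨?_, hVel.2 x hx⟩
    unfold Cfsg.centerThompsonOf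
    rw [Cfsg.Agent.Lib.H26.thompsonSubgroupOf_eq]
    exact ⟨hVJ hx, hcon hx⟩
  -- `B(T)` centralises `V`
  set B := Cfsg.baumannSubgroupOf p (T : Subgroup G) with hB
  have hVB : ⁅V, B⁆ = ⊥ := by
    rw [Subgroup.commutator_eq_bot_iff_le_centralizer, ← Subgroup.le_centralizer_iff]
    have : B ≤ Subgroup.centralizer
        ((Cfsg.omegaOne p (Cfsg.centerThompsonOf p (T : Subgroup G)) : Subgroup G) : Set G) :=
      inf_le_right
    exact this.trans (Subgroup.centralizer_le hVO)
  have hEV : E ≤ Subgroup.normalizer (V : Set G) :=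
    le_normalizer_commutator hEW Subgroup.le_normalizer
  have h1 : ⁅⁅E, V⁆, B⁆ = ⊥ := by
    rw [eq_bot_iff, ← hVB]
    exact Subgroup.commutator_mono (commutator_le_of_le_normalizer hEV) le_rfl
  have h2 : ⁅⁅V, B⁆, E⁆ = ⊥ := by rw [hVB]; exact Subgroup.commutator_bot_left _
  have h3 : ⁅⁅B, E⁆, V⁆ = ⊥ := Subgroup.commutator_commutator_eq_bot_of_rotate h1 h2
  rw [Subgroup.commutator_comm B E, hE.2.1] at h3
  exact block_comm_ne_bot hE
    (comm_eq_bot_of_comm_comm_eq_bot hE.1 (omegaOneCenter_elemAb p _) hEW h3)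

end

end Cfsg.Agent.Lib.H15.BB
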