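import Cfsg.Agent.Lib.H15.B60Irr

/-!
S4484 pieces (BR1) `exists_isometric_model` and (BR2) `exists_model`, exact signatures of
`tools/blueprints/S4484_sigs.lean` (helper15).
-/

set_option autoImplicit false
set_option linter.deprecated false

namespace Cfsg.Agent.Lib.H15.BB

open Cfsg Matrix Cfsg.Agent.Lib.H1.Jordan

/-- (BR1) Weyl's trick keeping the intertwiner. -/
theorem exists_isometric_model {G : Type*} [Group G] [Finite G] {n : ℕ}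
    (ρ : Representation ℂ G (Fin n → ℂ)) :
    ∃ (R : G →* (EuclideanSpace ℂ (Fin n) ≃ₗᵢ[ℂ] EuclideanSpace ℂ (Fin n)))
      (φ : (Fin n → ℂ) ≃ₗ[ℂ] EuclideanSpace ℂ (Fin n)), ∀ g v, φ (ρ g v) = R g (φ v) := by
  classical
  obtain ⟨P, U, hPP, hPP', hU⟩ := Cfsg.Agent.Lib.H15.B60.exists_unitary_rep_conj ρ
  set Φ : (Fin n → ℂ) →ₗ[ℂ] EuclideanSpace ℂ (Fin n) :=
    (toLpLin 2 2 P) ∘ₗ ((WithLp.linearEquiv 2 ℂ (Fin n → ℂ)).symm : (Fin n → ℂ) →ₗ[ℂ] _) with hΦ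
  have hΦapp : ∀ v : Fin n → ℂ, Φ v = WithLp.toLp 2 (P *ᵥ v) := fun v => rfl
  have hΦsurj : Function.Surjective Φ := by
    intro w
    refine ⟨P⁻¹ *ᵥ (WithLp.ofLp w), ?_⟩
    rw [hΦapp, Matrix.mulVec_mulVec, hPP', Matrix.one_mulVec]
  have hΦinj : Function.Injective Φ := by
    rw [← LinearMap.ker_eq_bot, LinearMap.ker_eq_bot']
    intro v hv
    rw [hΦapp] at hv
    have h1 : P *ᵥ v = 0 := by
      have := congrArg WithLp.ofLp hv
      simpa using this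
    have h2 : P⁻¹ *ᵥ (P *ᵥ v) = 0 := by rw [h1, Matrix.mulVec_zero]
    rwa [Matrix.mulVec_mulVec, hPP, Matrix.one_mulVec] at h2
  have hρapp : ∀ (g : G) (v : Fin n → ℂ), ρ g v = repMat ρ g *ᵥ v := by
    intro g v
    unfold repMat
    rw [LinearMap.toMatrix'_mulVec]
  refine ⟨MonoidHom.mk' (fun g => isoOf (U g)) ?_, LinearEquiv.ofBijective Φ ⟨hΦinj, hΦsurj⟩, ?_⟩
  · intro a b
    rw [map_mul, isoOf_mul]
  · intro g v
    show Φ (ρ g v) = isoOf (U g) (Φ v)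
    rw [isoOf_apply, hU, hΦapp, hΦapp, toLpLin_apply, hρapp]
    congr 1
    show P *ᵥ repMat ρ g *ᵥ v = (P * repMat ρ g * P⁻¹) *ᵥ (P *ᵥ v)
    rw [Matrix.mulVec_mulVec, Matrix.mulVec_mulVec, Matrix.mul_assoc (P * repMat ρ g), hPP,
      Matrix.mul_one]

/-- (BR2) the isometric model of an irreducible character: trace formula and irreducibility. -/
theorem exists_model {G : Type*} [Group G] [Finite G] (χ : G → ℂ) (hχ : IsIrrCharacter G χ) :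
    ∃ (n : ℕ) (R : G →* (EuclideanSpace ℂ (Fin n) ≃ₗᵢ[ℂ] EuclideanSpace ℂ (Fin n))),
      (∀ g, LinearMap.trace ℂ _
        ((R g).toLinearEquiv : EuclideanSpace ℂ (Fin n) →ₗ[ℂ] EuclideanSpace ℂ (Fin n)) = χ g) ∧
      (∀ W : Submodule ℂ (EuclideanSpace ℂ (Fin n)), (∀ g, ∀ w ∈ W, R g w ∈ W) → W = ⊥ ∨ W = ⊤) := by
  obtain ⟨n, R, h1, h2, -, -, -⟩ := Cfsg.Agent.Lib.H15.B60.exists_isometric_model χ hχ
  exact ⟨n, R, h1, h2⟩

end Cfsg.Agent.Lib.H15.BB
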