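import Cfsg.Agent.Lib.H15.BBXFINALCore
import Cfsg.Agent.Lib.H16.B60Atoms
import Cfsg.Agent.Lib.H11.B60KI

/-!
S4484 piece (XFINAL) `b60_contra`, exact signature of `tools/blueprints/S4484_sigs.lean` (helper15):
helper16's `blichfeldt60_core` (X1, atoms route) + helper11's `key_inequality_unit` (KI) + helper18's `x4` + helper9's (X3).
-/

set_option autoImplicit false

namespace Cfsg.Agent.Lib.H15.BB

open Cfsg.Agent.Lib.H1.Jordan Module.End
open scoped ComplexConjugate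

/-- eigenvalues of a conjugate -/
theorem hasEigenvalue_conj {G : Type*} [Group G] {E : Type*} [NormedAddCommGroup E]
    [InnerProductSpace ℂ E] (R : G →* (E ≃ₗᵢ[ℂ] E)) (g y : G) (μ : ℂ)
    (h : HasEigenvalue (lin (R (g * y * g⁻¹))) μ) : HasEigenvalue (lin (R y)) μ := by
  rw [hasEigenvalue_iff, Submodule.ne_bot_iff] at h ⊢
  obtain ⟨v, hv, hv0⟩ := h
  rw [mem_eigenspace_iff, lin_apply] at hv
  refine ⟨R g⁻¹ v, ?_, ?_⟩
  · rw [mem_eigenspace_iff, lin_apply]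
    have h1 : R y (R g⁻¹ v) = R g⁻¹ (R (g * y * g⁻¹) v) := by
      have h2 : R g⁻¹ (R (g * y * g⁻¹) v) = (R g⁻¹ * R (g * y * g⁻¹)) v := rfl
      rw [h2, ← map_mul]
      have h3 : g⁻¹ * (g * y * g⁻¹) = y * g⁻¹ := by group
      rw [h3, map_mul]
      rfl
    rw [h1, hv, map_smul]
  · intro h0
    apply hv0
    have h4 : R g (R g⁻¹ v) = v := by
      have h5 : R g (R g⁻¹ v) = (R g * R g⁻¹) v := rfl
      rw [h5, ← map_mul, mul_inv_cancel, map_one]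
      rfl
    rw [← h4, h0, map_zero]

/-- (XFINAL) -/
theorem b60_contra {G : Type*} [Group G] [Finite G] [IsSimpleGroup G]
    (hna : ∃ g h : G, g * h ≠ h * g) {n : ℕ}
    (R : G →* (EuclideanSpace ℂ (Fin n) ≃ₗᵢ[ℂ] EuclideanSpace ℂ (Fin n)))
    (hirr : ∀ W : Submodule ℂ (EuclideanSpace ℂ (Fin n)), (∀ g, ∀ w ∈ W, R g w ∈ W) → W = ⊥ ∨ W = ⊤)
    (hinj : Function.Injective R) {p : ℕ} (hp : p.Prime) (x : G) (hx : orderOf x = p)
    (b : OrthonormalBasis (Fin n) ℂ (EuclideanSpace ℂ (Fin n))) (a : Fin n → ℂ)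
    (hb : ∀ k, R x (b k) = a k • b k) (hcard : (Finset.univ.image a).card < p)
    (d : ℕ) (hd1 : 1 ≤ d) (hdp : d < p) (k₁ : Fin n)
    (hnear : ∀ k, 1 / 2 < ((starRingEnd ℂ) (a k₁ ^ d) * a k ^ d).re) : False := by
  refine b60_contra_of_x1 hna R hirr hinj hp x hx b a hb hcard d hd1 hdp k₁ hnear ?_
  intro y ε hε hFbot hFtop hspec
  have hirr' : ∀ W : Submodule ℂ (EuclideanSpace ℂ (Fin n)),
      (∀ g, W.map (lin (R g)) ≤ W) → W = ⊥ ∨ W = ⊤ := by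
    intro W hW
    exact hirr W fun g w hw => hW g ⟨w, hw, rfl⟩
  have hKI : ∀ g (w : EuclideanSpace ℂ (Fin n)), ‖w‖ = 1 →
      (1 + ‖(eigenspace (lin (R (g * y * g⁻¹))) ε).starProjection w‖ ^ 2) / 2
        ≤ ‖inner ℂ w (R (g * y * g⁻¹) w)‖ := by
    intro g w hw
    exact Cfsg.Agent.Lib.H11.B60.key_inequality_unit (R (g * y * g⁻¹)) ε hε
      (fun μ hμ => hspec μ (hasEigenvalue_conj R g y μ hμ)) w hw
  obtain ⟨𝓦, h2, hne, horth, -, hperm⟩ :=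
    Cfsg.Agent.Lib.H16.B60.blichfeldt60_core R y ε hirr' hFbot hFtop hKI
  exact ⟨𝓦, h2, fun h => hne ⊥ h rfl, horth, hperm⟩

end Cfsg.Agent.Lib.H15.BB
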