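import Cfsg.Agent.Lib.H9.B60EIG
import Cfsg.Agent.Lib.H9.B60X3
import Cfsg.Agent.Lib.H18.B60X4

/-!
S4484 piece (XFINAL), core: `b60_contra` with Blichfeldt's theorem (X1) as a hypothesis (helper15).
Two variants: `b60_contra_of_x1` ((X1) = system of imprimitivity) and `b60_contra_of_xs` ((XS) = `R y` is scalar).
-/

set_option autoImplicit false

namespace Cfsg.Agent.Lib.H15.BB

open Cfsg.Agent.Lib.H1.Jordan Module.End
open scoped ComplexConjugate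

variable {G : Type*} [Group G]

/-- common part: the data of `b60_contra` give `y = x^d ≠ 1`, `ε = a k₁ ^ d` of norm one, a nonzero
`ε`-eigenspace, and all eigenvalues of `R y` within `60°` of `ε`. -/
theorem b60_data {n : ℕ}
    (R : G →* (EuclideanSpace ℂ (Fin n) ≃ₗᵢ[ℂ] EuclideanSpace ℂ (Fin n)))
    {p : ℕ} (hp : p.Prime) (x : G) (hx : orderOf x = p)
    (b : OrthonormalBasis (Fin n) ℂ (EuclideanSpace ℂ (Fin n))) (a : Fin n → ℂ)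
    (hb : ∀ k, R x (b k) = a k • b k)
    (d : ℕ) (hd1 : 1 ≤ d) (hdp : d < p) (k₁ : Fin n)
    (hnear : ∀ k, 1 / 2 < ((starRingEnd ℂ) (a k₁ ^ d) * a k ^ d).re) :
    x ^ d ≠ 1 ∧ x ≠ 1 ∧ x ^ p = 1 ∧ ‖a k₁ ^ d‖ = 1 ∧
      eigenspace (lin (R (x ^ d))) (a k₁ ^ d) ≠ ⊥ ∧
      (∀ μ : ℂ, HasEigenvalue (lin (R (x ^ d))) μ → 1 / 2 < ((starRingEnd ℂ) (a k₁ ^ d) * μ).re) ∧
      (∀ (μ : ℂ) (v : EuclideanSpace ℂ (Fin n)), v ≠ 0 → R x v = μ • v → ∃ k, a k = μ) := by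
  have hx1 : x ≠ 1 := by
    rintro rfl
    rw [orderOf_one] at hx
    exact hp.one_lt.ne hx
  have hxp : x ^ p = 1 := by rw [← hx]; exact pow_orderOf_eq_one x
  have hyd : x ^ d ≠ 1 := pow_ne_one_of_lt_orderOf (by omega) (by rw [hx]; exact hdp)
  obtain ⟨-, hxeig, hxnorm, -⟩ := Cfsg.Agent.Lib.H9.B60.eigen_list_facts (R x) b a hb
  have hbd : ∀ k, R (x ^ d) (b k) = a k ^ d • b k := by
    intro k
    have h1 := Cfsg.Agent.Lib.H9.B60.pow_apply_eigen (hb k) d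
    rw [← Cfsg.Agent.Lib.H9.B60.lin_pow, lin_apply, ← map_pow] at h1
    exact h1
  obtain ⟨-, hyeig, -, -⟩ :=
    Cfsg.Agent.Lib.H9.B60.eigen_list_facts (R (x ^ d)) b (fun k => a k ^ d) hbd
  refine ⟨hyd, hx1, hxp, ?_, ?_, ?_, ?_⟩
  · rw [norm_pow, hxnorm k₁, one_pow]
  · intro h
    have hmem : b k₁ ∈ eigenspace (lin (R (x ^ d))) (a k₁ ^ d) := by
      rw [mem_eigenspace_iff, lin_apply]
      exact hbd k₁
    rw [h, Submodule.mem_bot] at hmem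
    exact b.orthonormal.ne_zero k₁ hmem
  · intro μ hμ
    obtain ⟨k, rfl⟩ := (hyeig μ).1 hμ
    exact hnear k
  · intro μ v hv hxv
    apply (hxeig μ).1
    rw [hasEigenvalue_iff, Submodule.ne_bot_iff]
    refine ⟨v, ?_, hv⟩
    rw [mem_eigenspace_iff, lin_apply]
    exact hxv

/-- (XFINAL) with (X1) as a hypothesis. -/
theorem b60_contra_of_x1 [IsSimpleGroup G]
    (hna : ∃ g h : G, g * h ≠ h * g) {n : ℕ}
    (R : G →* (EuclideanSpace ℂ (Fin n) ≃ₗᵢ[ℂ] EuclideanSpace ℂ (Fin n)))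
    (hirr : ∀ W : Submodule ℂ (EuclideanSpace ℂ (Fin n)), (∀ g, ∀ w ∈ W, R g w ∈ W) → W = ⊥ ∨ W = ⊤)
    (hinj : Function.Injective R) {p : ℕ} (hp : p.Prime) (x : G) (hx : orderOf x = p)
    (b : OrthonormalBasis (Fin n) ℂ (EuclideanSpace ℂ (Fin n))) (a : Fin n → ℂ)
    (hb : ∀ k, R x (b k) = a k • b k) (hcard : (Finset.univ.image a).card < p)
    (d : ℕ) (hd1 : 1 ≤ d) (hdp : d < p) (k₁ : Fin n)
    (hnear : ∀ k, 1 / 2 < ((starRingEnd ℂ) (a k₁ ^ d) * a k ^ d).re)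
    (hX1 : ∀ (y : G) (ε : ℂ), ‖ε‖ = 1 → eigenspace (lin (R y)) ε ≠ ⊥ → eigenspace (lin (R y)) ε ≠ ⊤ →
      (∀ μ : ℂ, HasEigenvalue (lin (R y)) μ → 1 / 2 ≤ ((starRingEnd ℂ) ε * μ).re) →
      ∃ 𝓦 : Finset (Submodule ℂ (EuclideanSpace ℂ (Fin n))), 2 ≤ 𝓦.card ∧ ⊥ ∉ 𝓦 ∧
        (∀ W ∈ 𝓦, ∀ W' ∈ 𝓦, W ≠ W' → W ⟂ W') ∧
        ∀ g : G, ∀ W ∈ 𝓦, W.map (lin (R g)) ∈ 𝓦) : False := by
  obtain ⟨hyd, hx1, hxp, hεn, hFbot, hspec, hax⟩ := b60_data R hp x hx b a hb d hd1 hdp k₁ hnear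
  have hR : ∃ g, R g ≠ 1 := ⟨x, fun h => hx1 (hinj (h.trans (map_one R).symm))⟩
  by_cases hFtop : eigenspace (lin (R (x ^ d))) (a k₁ ^ d) = ⊤
  · exact hyd (Cfsg.Agent.Lib.H9.B60.eq_one_of_eigenspace_eq_top hna R hR (x ^ d) (a k₁ ^ d) hFtop)
  · obtain ⟨𝓦, h2, hbot, horth, hperm⟩ :=
      hX1 (x ^ d) (a k₁ ^ d) hεn hFbot hFtop (fun μ hμ => (hspec μ hμ).le)
    have hirr' : ∀ W : Submodule ℂ (EuclideanSpace ℂ (Fin n)),
        (∀ g, Cfsg.Agent.Lib.H18.B60.act R g W ≤ W) → W = ⊥ ∨ W = ⊤ := by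
      intro W hW
      exact hirr W fun g w hw => hW g ((Cfsg.Agent.Lib.H18.B60.mem_act R g W _).2 ⟨w, hw, rfl⟩)
    have h := Cfsg.Agent.Lib.H18.B60.x4 R hirr' 𝓦 h2 hbot (fun g W hW => hperm g W hW) horth x p hp
      hxp hx1 a hax
    omega

/-- (XFINAL) with the scalar form (XS) of Blichfeldt's theorem as a hypothesis: for `G` simple, `y ≠ 1` with an
eigenvalue `ε` such that all eigenvalues are within `60°` of `ε` acts as the scalar `ε`. -/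
theorem b60_contra_of_xs [IsSimpleGroup G]
    (hna : ∃ g h : G, g * h ≠ h * g) {n : ℕ}
    (R : G →* (EuclideanSpace ℂ (Fin n) ≃ₗᵢ[ℂ] EuclideanSpace ℂ (Fin n)))
    (hinj : Function.Injective R) {p : ℕ} (hp : p.Prime) (x : G) (hx : orderOf x = p)
    (b : OrthonormalBasis (Fin n) ℂ (EuclideanSpace ℂ (Fin n))) (a : Fin n → ℂ)
    (hb : ∀ k, R x (b k) = a k • b k)
    (d : ℕ) (hd1 : 1 ≤ d) (hdp : d < p) (k₁ : Fin n)
    (hnear : ∀ k, 1 / 2 < ((starRingEnd ℂ) (a k₁ ^ d) * a k ^ d).re)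
    (hXS : ∀ (y : G) (ε : ℂ), y ≠ 1 → ‖ε‖ = 1 → eigenspace (lin (R y)) ε ≠ ⊥ →
      (∀ μ : ℂ, HasEigenvalue (lin (R y)) μ → 1 / 2 < ((starRingEnd ℂ) ε * μ).re) →
      eigenspace (lin (R y)) ε = ⊤) : False := by
  obtain ⟨hyd, hx1, hxp, hεn, hFbot, hspec, hax⟩ := b60_data R hp x hx b a hb d hd1 hdp k₁ hnear
  have hR : ∃ g, R g ≠ 1 := ⟨x, fun h => hx1 (hinj (h.trans (map_one R).symm))⟩
  exact hyd (Cfsg.Agent.Lib.H9.B60.eq_one_of_eigenspace_eq_top hna R hR (x ^ d) (a k₁ ^ d)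
    (hXS (x ^ d) (a k₁ ^ d) hyd hεn hFbot hspec))

end Cfsg.Agent.Lib.H15.BB
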