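import Mathlib
import Cfsg.Agent.Lib.H16.WielandtFormula

/-!
S4719 (Brauer's bound), Part II piece **G1 (L1)** (helper15): a four-group `V` normalizing a subgroup `K` of odd
order: `|K| ≤ ∏_{v ∈ V, v ≠ 1} |C_K(v)|`, hence `|K| ≤ n ^ 3` if all `|C_K(v)| ≤ n`
(Wielandt's order formula, `Cfsg.Agent.Lib.H16.wielandt_formula`, with `p = 2`).
-/

set_option autoImplicit false

universe u

namespace Cfsg.Agent.Lib.H15.BQ

open Subgroup

variable {Γ : Type*} [Group Γ]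

/-- a subgroup of order 4 and exponent 2 is an `IsEpp 2`. -/
theorem isEpp_two_of_fourGroup (V : Subgroup Γ) (hV4 : Nat.card V = 4)
    (hV2 : ∀ v ∈ V, v * v = 1) : Cfsg.Agent.Lib.H16.IsEpp 2 V where
  comm := by
    intro a ha b hb
    have h1 := hV2 (a * b) (V.mul_mem ha hb)
    have h2 := hV2 a ha
    have h3 := hV2 b hb
    have ha' : a⁻¹ = a := inv_eq_of_mul_eq_one_right h2
    have hb' : b⁻¹ = b := inv_eq_of_mul_eq_one_right h3
    have h4 : (a * b)⁻¹ = a * b := inv_eq_of_mul_eq_one_right h1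
    rw [mul_inv_rev, ha', hb'] at h4
    exact h4.symm
  exp := by
    intro a ha
    rw [pow_two]
    exact hV2 a ha
  card := by rw [hV4]; norm_num

/-- **L1**: `|K| ≤ ∏_{v ≠ 1} |C_K(v)|`. -/
theorem card_le_prod_centralizer [Finite Γ] (K V : Subgroup Γ) (hV4 : Nat.card V = 4)
    (hV2 : ∀ v ∈ V, v * v = 1) (hK : ¬ 2 ∣ Nat.card K)
    (hVK : V ≤ normalizer (K : Set Γ)) :
    Nat.card K ≤ ∏ v ∈ Cfsg.Agent.Lib.H16.nz V,
      Nat.card (K ⊓ centralizer ({v} : Set Γ) : Subgroup Γ) := by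
  have : Fact (Nat.Prime 2) := ⟨Nat.prime_two⟩
  have h := Cfsg.Agent.Lib.H16.wielandt_formula (isEpp_two_of_fourGroup V hV4 hV2) K hK hVK
  rw [← h]
  have hpos : 0 < Nat.card (K ⊓ centralizer (V : Set Γ) : Subgroup Γ) := Nat.card_pos
  have hpos' : 0 < Nat.card (K ⊓ centralizer (V : Set Γ) : Subgroup Γ) ^ (2 * (2 - 1)) :=
    pow_pos hpos _
  calc Nat.card K = Nat.card K ^ (2 - 1) * 1 := by norm_num
    _ ≤ Nat.card K ^ (2 - 1) *
        Nat.card (K ⊓ centralizer (V : Set Γ) : Subgroup Γ) ^ (2 * (2 - 1)) :=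
      Nat.mul_le_mul_left _ hpos'

/-- **L1**, numeric form: `|K| ≤ n ^ 3`. -/
theorem card_le_pow_three [Finite Γ] (K V : Subgroup Γ) (hV4 : Nat.card V = 4)
    (hV2 : ∀ v ∈ V, v * v = 1) (hK : ¬ 2 ∣ Nat.card K)
    (hVK : V ≤ normalizer (K : Set Γ)) (n : ℕ)
    (hn : ∀ v ∈ V, v ≠ 1 → Nat.card (K ⊓ centralizer ({v} : Set Γ) : Subgroup Γ) ≤ n) :
    Nat.card K ≤ n ^ 3 := by
  refine (card_le_prod_centralizer K V hV4 hV2 hK hVK).trans ?_
  have h3 : (Cfsg.Agent.Lib.H16.nz V).card = 3 := by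
    rw [Cfsg.Agent.Lib.H16.card_nz, hV4]
  calc ∏ v ∈ Cfsg.Agent.Lib.H16.nz V, Nat.card (K ⊓ centralizer ({v} : Set Γ) : Subgroup Γ)
      ≤ ∏ _v ∈ Cfsg.Agent.Lib.H16.nz V, n := by
        apply Finset.prod_le_prod'
        intro v hv
        rw [Cfsg.Agent.Lib.H16.mem_nz] at hv
        exact hn v hv.2 hv.1
    _ = n ^ 3 := by rw [Finset.prod_const, h3]

/-- **G1**, exact signature of `tools/blueprints/S4719_Q_sigs.lean`. -/
theorem card_le_cube_of_odd {Γ : Type u} [Group Γ] [Finite Γ] (K V : Subgroup Γ) (n : ℕ)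
    (hV4 : Nat.card V = 4) (hV2 : ∀ v ∈ V, v * v = 1) (hK : Odd (Nat.card K))
    (hVK : V ≤ normalizer (K : Set Γ))
    (hn : ∀ v ∈ V, v ≠ 1 → Nat.card ↥(K ⊓ centralizer {v}) ≤ n) :
    Nat.card K ≤ n ^ 3 :=
  card_le_pow_three K V hV4 hV2 (fun h2 => (Nat.not_even_iff_odd.mpr hK) (even_iff_two_dvd.mpr h2))
    hVK n hn

end Cfsg.Agent.Lib.H15.BQ
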