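import Mathlib
import Cfsg.Agent.Lib.H8.BQ0
import Cfsg.Agent.Lib.H15.BQ1
import Cfsg.Agent.Lib.H15.BQQUOT

/-!
S4719 (Brauer's bound), Part II piece **G2** `qStmt_of_oddFree` (helper15): reduction of Theorem Q to the case
`O(G) = 1` (`OddFree G V`): `K` := an odd-order `Y ≤ G` normalized by `G` and `V` of largest order; `|K| ≤ n ^ 3` (G1);
`V ⊓ K = ⊥`; QUOT for `(G, V, K)`.
-/

set_option autoImplicit false

universe u

namespace Cfsg.Agent.Lib.H15.BQ

open Subgroup Cfsg.Agent.Lib.H8.BQ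

/-- **G2**, exact signature of `tools/blueprints/S4719_Q_sigs.lean`. -/
theorem qStmt_of_oddFree (a n B : ℕ)
    (hcore : ∀ (Γ : Type u) [Group Γ] [Finite Γ] (G V : Subgroup Γ), QHyp G V a n →
      OddFree G V → Nat.card G ≤ B) :
    QStmt.{u} a n (n ^ 3 * B) := by
  intro Γ _ _ G V h
  -- the family of odd-order invariant subgroups
  let 𝒴 : Set (Subgroup Γ) := {Y | Y ≤ G ∧ Odd (Nat.card Y) ∧ G ≤ normalizer (Y : Set Γ) ∧
    V ≤ normalizer (Y : Set Γ)}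
  have hbotN : normalizer (((⊥ : Subgroup Γ) : Subgroup Γ) : Set Γ) = ⊤ :=
    normalizer_eq_top_iff.mpr inferInstance
  have hbot : (⊥ : Subgroup Γ) ∈ 𝒴 := by
    refine ⟨bot_le, ?_, ?_, ?_⟩
    · rw [Subgroup.card_bot]; exact odd_one
    · rw [hbotN]; exact le_top
    · rw [hbotN]; exact le_top
  haveI : Nonempty 𝒴 := ⟨⟨⊥, hbot⟩⟩
  obtain ⟨⟨K, hK⟩, hmax⟩ := Finite.exists_max (fun Y : 𝒴 => Nat.card (Y : Subgroup Γ))
  obtain ⟨hKG, hKodd, hGK, hVK⟩ := hK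
  have hmax' : ∀ Y : Subgroup Γ, Y ∈ 𝒴 → Nat.card Y ≤ Nat.card K := fun Y hY => hmax ⟨Y, hY⟩
  -- `|K| ≤ n ^ 3`
  have hKn : Nat.card K ≤ n ^ 3 := by
    refine card_le_cube_of_odd K V n h.card4 h.exp2 hKodd hVK ?_
    intro v hv hv1
    refine le_trans ?_ (h.cent v hv hv1)
    exact Subgroup.card_le_of_le (inf_le_inf_right _ hKG)
  -- `V ⊓ K = ⊥`
  have hdisj : V ⊓ K = ⊥ := by
    rw [← Subgroup.card_eq_one]
    have h1 : Nat.card (V ⊓ K : Subgroup Γ) ∣ 4 := h.card4 ▸ card_dvd_of_le inf_le_left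
    have h2 : Nat.card (V ⊓ K : Subgroup Γ) ∣ Nat.card K := card_dvd_of_le inf_le_right
    have h3 : Odd (Nat.card (V ⊓ K : Subgroup Γ)) := by
      obtain ⟨e, he⟩ := h2
      rw [he] at hKodd
      exact (Nat.odd_mul.mp hKodd).1
    have h4 : Nat.card (V ⊓ K : Subgroup Γ) ≤ 4 := Nat.le_of_dvd (by norm_num) h1
    generalize Nat.card (V ⊓ K : Subgroup Γ) = m at h1 h3 h4
    interval_cases m <;> simp_all (config := {decide := true})
  obtain ⟨Γ', _, _, G', V', hQ', hcard, hlift⟩ :=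
    exists_quotient G V K a n h hKG hGK hVK hdisj
  have hfree : OddFree G' V' := by
    intro Y' hY'G hY'odd hGY' hVY'
    obtain ⟨Y, hKY, hYG, hGY, hVY, hYcard⟩ := hlift Y' hY'G hGY' hVY'
    have hYodd : Odd (Nat.card Y) := by rw [hYcard]; exact hY'odd.mul hKodd
    have hle := hmax' Y ⟨hYG, hYodd, hGY, hVY⟩
    rw [hYcard] at hle
    have hKpos : 0 < Nat.card K := Nat.card_pos
    have hY'pos : 0 < Nat.card Y' := Nat.card_pos
    have hY'1 : Nat.card Y' = 1 := by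
      have : Nat.card Y' * Nat.card K ≤ 1 * Nat.card K := by rwa [one_mul]
      have := Nat.le_of_mul_le_mul_right this hKpos
      omega
    exact Subgroup.card_eq_one.mp hY'1
  have hB := hcore Γ' G' V' hQ' hfree
  calc Nat.card G = Nat.card G' * Nat.card K := hcard.symm
    _ ≤ B * n ^ 3 := Nat.mul_le_mul hB hKn
    _ = n ^ 3 * B := Nat.mul_comm _ _

end Cfsg.Agent.Lib.H15.BQ
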