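import Mathlib
import Cfsg.Agent.Lib.H8.BSWHyp
import Cfsg.Agent.Lib.H15.Conj

set_option autoImplicit false

/-!
helper15: Brauer–Suzuki–Wall (S3282), second half, part 1: the structure of `H = C(t) = K⟨s⟩`
and the set of conjugates of the non-identity elements of `K`.
-/

namespace Cfsg.Agent.Lib.H15.BSWEnd

open Cfsg.Agent.Lib.H8 Cfsg.Agent.Lib.H15

variable {G : Type*} [Group G]

theorem inv_iff {u : G} : orderOf u = 2 ↔ u ≠ 1 ∧ u * u = 1 := by
  constructor
  · intro h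
    refine ⟨fun e => ?_, ?_⟩
    · rw [e, orderOf_one] at h; omega
    · have := pow_orderOf_eq_one u; rwa [h, pow_two] at this
  · rintro ⟨h1, h2⟩
    exact orderOf_eq_prime (by rwa [pow_two]) h1

theorem inv_eq_self {u : G} (h : orderOf u = 2) : u⁻¹ = u :=
  inv_eq_of_mul_eq_one_left (inv_iff.1 h).2

theorem orderOf_cj (g x : G) : orderOf (g * x * g⁻¹) = orderOf x :=
  orderOf_injective (MulAut.conj g).toMonoidHom (MulAut.conj g).injective x

/-- The conjugates of the non-identity elements of `K`. -/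
def calK (K : Subgroup G) : Set G := {y | ∃ k ∈ K, k ≠ 1 ∧ ∃ g : G, g * k * g⁻¹ = y}

theorem not_mem_calK_iff {K : Subgroup G} {y : G} :
    y ∉ calK K ↔ ∀ k ∈ K, k ≠ 1 → ∀ g : G, g * k * g⁻¹ ≠ y := by
  constructor
  · intro hn k hk hk1 g e; exact hn ⟨k, hk, hk1, g, e⟩
  · rintro hn ⟨k, hk, hk1, g, e⟩; exact hn k hk hk1 g e

theorem calK_conj {K : Subgroup G} {y : G} (hy : y ∈ calK K) (g : G) : g * y * g⁻¹ ∈ calK K := by
  obtain ⟨k, hk, hk1, g', rfl⟩ := hy
  exact ⟨k, hk, hk1, g * g', by group⟩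

theorem calK_conj_iff {K : Subgroup G} {y : G} (g : G) : g * y * g⁻¹ ∈ calK K ↔ y ∈ calK K := by
  constructor
  · intro h
    have := calK_conj h g⁻¹
    have e : g⁻¹ * (g * y * g⁻¹) * g⁻¹⁻¹ = y := by group
    rwa [e] at this
  · intro h; exact calK_conj h g

theorem calK_inv {K : Subgroup G} {y : G} (hy : y ∈ calK K) : y⁻¹ ∈ calK K := by
  obtain ⟨k, hk, hk1, g, rfl⟩ := hy
  exact ⟨k⁻¹, K.inv_mem hk, by simpa using hk1, g, by group⟩

theorem one_not_mem_calK {K : Subgroup G} : (1 : G) ∉ calK K := by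
  rintro ⟨k, hk, hk1, g, e⟩
  apply hk1
  have : k = g⁻¹ * (g * k * g⁻¹) * g := by group
  rw [this, e]; group

theorem zpowers_inv_cases {u x : G} (hu : orderOf u = 2) (hx : x ∈ Subgroup.zpowers u) :
    x = 1 ∨ x = u := by
  rw [Subgroup.mem_zpowers_iff] at hx
  obtain ⟨k, rfl⟩ := hx
  rw [← zpow_mod_orderOf, hu]
  rcases Int.emod_two_eq_zero_or_one k with e | e <;> rw [show ((2 : ℕ) : ℤ) = 2 from rfl, e]
  · left; simp
  · right; simp

variable {t s : G} {K : Subgroup G}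

section Hyp

variable (h : BSWHyp t K s)
include h

theorem t_sq : t * t = 1 := (inv_iff.1 h.ht).2
theorem t_ne_one : t ≠ 1 := (inv_iff.1 h.ht).1
theorem s_sq : s * s = 1 := (inv_iff.1 h.hs).2
theorem s_ne_one : s ≠ 1 := (inv_iff.1 h.hs).1
theorem s_inv : s⁻¹ = s := inv_eq_self h.hs
theorem t_inv : t⁻¹ = t := inv_eq_self h.ht

theorem comm_K {a b : G} (ha : a ∈ K) (hb : b ∈ K) : a * b = b * a := by
  haveI := h.hKab
  exact setLike_mul_comm ha hb

theorem mem_H_iff {g : G} : g ∈ Subgroup.centralizer ({t} : Set G) ↔ g * t = t * g :=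
  Subgroup.mem_centralizer_singleton_iff

theorem s_conj_mem {k : G} (hk : k ∈ K) : s * k * s⁻¹ ∈ K := by
  rw [h.hinv k hk]; exact K.inv_mem hk

theorem s_normalizes : Subgroup.zpowers s ≤ Subgroup.normalizer (K : Set G) := by
  intro x hx
  rcases zpowers_inv_cases h.hs hx with rfl | e
  · exact Subgroup.one_mem _
  · rw [e, Subgroup.mem_normalizer_iff]
    intro k
    constructor
    · exact s_conj_mem h
    · intro hk
      have := s_conj_mem h hk
      have e : s * (s * k * s⁻¹) * s⁻¹ = k := by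
        rw [s_inv h]
        calc s * (s * k * s) * s = (s * s) * k * (s * s) := by group
          _ = k := by rw [s_sq h]; group
      rwa [e] at this

/-- `H = K ∪ K s`. -/
theorem H_cases {g : G} (hg : g ∈ Subgroup.centralizer ({t} : Set G)) :
    g ∈ K ∨ ∃ k ∈ K, g = k * s := by
  rw [← h.hH] at hg
  have : g ∈ ((K ⊔ Subgroup.zpowers s : Subgroup G) : Set G) := hg
  rw [Subgroup.coe_mul_of_right_le_normalizer_left K _ (s_normalizes h)] at this
  obtain ⟨k, hk, x, hx, rfl⟩ := this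
  rcases zpowers_inv_cases h.hs hx with rfl | e
  · left; simpa using hk
  · right; exact ⟨k, hk, by rw [e]⟩

theorem K_le_H : K ≤ Subgroup.centralizer ({t} : Set G) := h.hKH

theorem Ks_mem_H {k : G} (hk : k ∈ K) : k * s ∈ Subgroup.centralizer ({t} : Set G) :=
  Subgroup.mul_mem _ (h.hKH hk) h.hsH

theorem Ks_not_mem {k : G} (hk : k ∈ K) : k * s ∉ K := by
  intro hks
  apply h.hsK
  have := K.mul_mem (K.inv_mem hk) hks
  simpa using this

theorem Ks_inverts {k x : G} (hk : k ∈ K) (hx : x ∈ K) : (k * s) * x * (k * s)⁻¹ = x⁻¹ := by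
  have h1 := h.hinv x hx
  have hx' : x⁻¹ ∈ K := K.inv_mem hx
  calc (k * s) * x * (k * s)⁻¹ = k * (s * x * s⁻¹) * k⁻¹ := by group
    _ = k * x⁻¹ * k⁻¹ := by rw [h1]
    _ = x⁻¹ * k * k⁻¹ := by rw [comm_K h hk hx']
    _ = x⁻¹ := by group

theorem Ks_inv {k : G} (hk : k ∈ K) : orderOf (k * s) = 2 := by
  rw [inv_iff]
  refine ⟨fun e => Ks_not_mem h hk (e ▸ K.one_mem), ?_⟩
  have h1 := h.hinv k hk
  calc k * s * (k * s) = k * (s * k * s⁻¹) * (s * s) := by group
    _ = 1 := by rw [h1, s_sq h]; group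

/-- An element of `H` outside `K` is an involution inverting `K`. -/
theorem HK {g : G} (hg : g ∈ Subgroup.centralizer ({t} : Set G)) (hgK : g ∉ K) :
    orderOf g = 2 ∧ ∀ x ∈ K, g * x * g⁻¹ = x⁻¹ := by
  rcases H_cases h hg with hk | ⟨k, hk, rfl⟩
  · exact absurd hk hgK
  · exact ⟨Ks_inv h hk, fun x hx => Ks_inverts h hk hx⟩

/-- `t` is the only involution of `K`. -/
theorem inv_of_K {k : G} (hk : k ∈ K) (h2 : k * k = 1) : k = 1 ∨ k = t := by
  have h1 := h.hinv k hk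
  have hkinv : k⁻¹ = k := inv_eq_of_mul_eq_one_left h2
  rw [hkinv] at h1
  have hks : k ∈ K ⊓ Subgroup.centralizer ({s} : Set G) := by
    rw [Subgroup.mem_inf]
    refine ⟨hk, ?_⟩
    rw [Subgroup.mem_centralizer_singleton_iff]
    have : s * k = k * s := by
      calc s * k = (s * k * s⁻¹) * s := by group
        _ = k * s := by rw [h1]
    exact this.symm
  rw [h.hCK] at hks
  exact zpowers_inv_cases h.ht hks

theorem TI {k g : G} (hk : k ∈ K) (hk1 : k ≠ 1) (hg : g * k * g⁻¹ ∈ K) :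
    g ∈ Subgroup.centralizer ({t} : Set G) := by
  by_contra hgH
  have h1 := h.hTI g hgH
  have h2 : g * k * g⁻¹ ∈ K ⊓ K.map (MulAut.conj g).toMonoidHom := by
    rw [Subgroup.mem_inf]
    exact ⟨hg, conj_mem_cj hk⟩
  rw [h1, Subgroup.mem_bot] at h2
  apply hk1
  have : k = g⁻¹ * (g * k * g⁻¹) * g := by group
  rw [this, h2]; group

theorem cent_K_le_H {k c : G} (hk : k ∈ K) (hk1 : k ≠ 1) (hc : Commute c k) :
    c ∈ Subgroup.centralizer ({t} : Set G) := by
  apply TI h hk hk1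
  have : c * k * c⁻¹ = k := by
    rw [hc.eq]; group
  rw [this]; exact hk

theorem cent_K {k c : G} (hk : k ∈ K) (hk1 : k ≠ 1) (hkt : k ≠ t) (hc : Commute c k) : c ∈ K := by
  by_contra hcK
  have hcH := cent_K_le_H h hk hk1 hc
  have h1 := (HK h hcH hcK).2 k hk
  have h2 : c * k * c⁻¹ = k := by rw [hc.eq]; group
  rw [h2] at h1
  have h3 : k * k = 1 := by
    calc k * k = k * k⁻¹ := by rw [← h1]
      _ = 1 := by group
  rcases inv_of_K h hk h3 with e | e
  · exact hk1 e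
  · exact hkt e

theorem inv_mem_calK {u : G} (hu : orderOf u = 2) : u ∈ calK K := by
  obtain ⟨c, hc⟩ := isConj_iff.1 (h.hconj t u h.ht hu)
  exact ⟨t, h.htK, t_ne_one h, c, hc⟩

/-- A non-identity element of a conjugate of `H` lies in `calK`. -/
theorem mem_calK_of_conj_mem_H {c g : G} (hc : g⁻¹ * c * g ∈ Subgroup.centralizer ({t} : Set G))
    (hc1 : c ≠ 1) : c ∈ calK K := by
  by_cases hK : g⁻¹ * c * g ∈ K
  · refine ⟨g⁻¹ * c * g, hK, ?_, g, by group⟩
    intro e
    apply hc1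
    have : c = g * (g⁻¹ * c * g) * g⁻¹ := by group
    rw [this, e]; group
  · have h2 := (HK h hc hK).1
    apply inv_mem_calK h
    have : c = g * (g⁻¹ * c * g) * g⁻¹ := by group
    rw [this, orderOf_cj]; exact h2

theorem cent_inv_calK {u c : G} (hu : orderOf u = 2) (hc : Commute c u) (hc1 : c ≠ 1) :
    c ∈ calK K := by
  obtain ⟨g, hg⟩ := isConj_iff.1 (h.hconj t u h.ht hu)
  apply mem_calK_of_conj_mem_H h (g := g) _ hc1
  rw [mem_H_iff h]
  have h1 : c * (g * t * g⁻¹) = (g * t * g⁻¹) * c := by rw [hg]; exact hc.eq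
  calc g⁻¹ * c * g * t = g⁻¹ * (c * (g * t * g⁻¹)) * g := by group
    _ = g⁻¹ * ((g * t * g⁻¹) * c) * g := by rw [h1]
    _ = t * (g⁻¹ * c * g) := by group

theorem cent_calK {y c : G} (hy : y ∈ calK K) (hc : Commute c y) (hc1 : c ≠ 1) : c ∈ calK K := by
  obtain ⟨k, hk, hk1, g, rfl⟩ := hy
  apply mem_calK_of_conj_mem_H h (g := g) _ hc1
  apply cent_K_le_H h hk hk1
  show g⁻¹ * c * g * k = k * (g⁻¹ * c * g)
  have h1 : c * (g * k * g⁻¹) = (g * k * g⁻¹) * c := hc.eq
  calc g⁻¹ * c * g * k = g⁻¹ * (c * (g * k * g⁻¹)) * g := by group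
    _ = g⁻¹ * ((g * k * g⁻¹) * c) * g := by rw [h1]
    _ = k * (g⁻¹ * c * g) := by group

/-- Centralizers of elements outside `calK ∪ {1}` avoid `calK`. -/
theorem cent_G0 {y c : G} (hy : y ∉ calK K) (hy1 : y ≠ 1) (hc : Commute c y) : c ∉ calK K :=
  fun hcK => hy (cent_calK h hcK hc.symm hy1)

theorem not_inv_of_G0 {y : G} (hy : y ∉ calK K) : orderOf y ≠ 2 :=
  fun h2 => hy (inv_mem_calK h h2)

theorem order_dvd_of_calK {y : G} (hy : y ∈ calK K) : orderOf y ∣ Nat.card K := by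
  obtain ⟨k, hk, hk1, g, rfl⟩ := hy
  rw [orderOf_cj]
  exact K.orderOf_dvd_natCard hk

/-- Elements commuting with an element outside `calK ∪ {1}` have odd order. -/
theorem odd_order_of_cent [Finite G] {y c : G} (hy : y ∉ calK K) (hy1 : y ≠ 1) (hc : Commute c y) :
    Odd (orderOf c) := by
  rw [← Nat.not_even_iff_odd]
  rintro ⟨m, hm⟩
  have hpos : 0 < orderOf c := orderOf_pos c
  have hm0 : 0 < m := by omega
  have h2 : orderOf (c ^ m) = 2 := by
    rw [orderOf_pow' c hm0.ne', hm, Nat.gcd_eq_right (Dvd.intro 2 (by ring))]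
    exact Nat.div_eq_of_eq_mul_left hm0 (by ring)
  exact cent_G0 h hy hy1 (hc.pow_left m) (inv_mem_calK h h2)

end Hyp

end Cfsg.Agent.Lib.H15.BSWEnd
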