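import Cfsg.Agent.Lib.H15.BSWEnd9

set_option autoImplicit false

/-!
helper15: Brauer–Suzuki–Wall (S3282), second half, part 10: the case `δ = -1`, second part:
(P6), (P7), and the structure of the family.
-/

namespace Cfsg.Agent.Lib.H15.BSWEnd

open Cfsg.Agent.Lib.H8 Cfsg.Agent.Lib.H15 Finset
open scoped Classical

variable {G : Type*} [Group G] [Fintype G]

theorem bsw_arith (q r e f j : ℤ) (hr : 1 ≤ r) (hq : q = 2 * r + 1) (he : 1 ≤ e) (hf : 1 ≤ f)
    (a1 : f * e = r)
    (a4 : (q * r) ^ 2 ≤ q * j * (q * r + (r + 1) * (q * e - q)))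
    (a5 : q * j ≤ f * (q + 1) - 1)
    (a6 : f * (q + 1) + (q - 1) * f ≤ q + q * j + (f * (q + 1) - 1 - q * j) * (q - 1)) :
    f = 1 := by
  have hq0 : 0 < q := by rw [hq]; linarith
  have hqq : 0 < q * q := mul_pos hq0 hq0
  have s1 : r ^ 2 ≤ j * (r * e + e - 1) := by
    have : (q * q) * r ^ 2 ≤ (q * q) * (j * (r * e + e - 1)) := by
      calc (q * q) * r ^ 2 = (q * r) ^ 2 := by ring
        _ ≤ q * j * (q * r + (r + 1) * (q * e - q)) := a4
        _ = (q * q) * (j * (r * e + e - 1)) := by ring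
    exact le_of_mul_le_mul_left this hqq
  have hA : 0 ≤ r * e + e - 1 := by nlinarith
  have s2 : f ≤ j := by
    by_contra hlt
    push Not at hlt
    have h1 : j ≤ f - 1 := by linarith
    have h2 : e * j ≤ r - e := by
      have : e * j ≤ e * (f - 1) := mul_le_mul_of_nonneg_left h1 (by linarith)
      calc e * j ≤ e * (f - 1) := this
        _ = r - e := by rw [← a1]; ring
    have h3 : e * r ^ 2 ≤ (r - e) * (r * e + e - 1) := by
      calc e * r ^ 2 ≤ e * (j * (r * e + e - 1)) := mul_le_mul_of_nonneg_left s1 (by linarith)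
        _ = (e * j) * (r * e + e - 1) := by ring
        _ ≤ (r - e) * (r * e + e - 1) := mul_le_mul_of_nonneg_right h2 hA
    nlinarith [mul_nonneg (by linarith : (0:ℤ) ≤ e - 1) (by linarith : (0:ℤ) ≤ e),
      mul_nonneg (by linarith : (0:ℤ) ≤ r - 1)
        (mul_nonneg (by linarith : (0:ℤ) ≤ e - 1) (by linarith : (0:ℤ) ≤ e))]
  have hfr : f ≤ r := by
    calc f = f * 1 := by ring
      _ ≤ f * e := mul_le_mul_of_nonneg_left he (by linarith)
      _ = r := a1
  have s3 : j ≤ f := by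
    by_contra hlt
    push Not at hlt
    have h1 : f + 1 ≤ j := by linarith
    have : q * (f + 1) ≤ q * j := mul_le_mul_of_nonneg_left h1 hq0.le
    nlinarith
  have hjf : j = f := le_antisymm s3 s2
  rw [hjf] at a6
  nlinarith

theorem filter_mem_inf (Q P : Subgroup G) :
    (univ.filter (fun g : G => g ∈ Q)).filter (fun g => g ∈ P) =
      univ.filter (fun g : G => g ∈ Q ⊓ P) := by
  ext g
  rw [mem_filter, mem_filter, mem_filter, Subgroup.mem_inf]
  tauto

variable {t s : G} {K : Subgroup G} {δ : ℤ} {q : ℕ} {ξ : G → ℤ}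

section Hyp

variable (h : BSWHyp t K s) (x : XD K δ q ξ)
include h x

theorem q_eq_neg (hδ : δ = -1) : (q : ℤ) = 2 * (Nat.card K : ℤ) - 1 := by
  have := x.hq; rw [hδ] at this; linarith

theorem card_Inv_neg (hδ : δ = -1) :
    ((univ.filter (fun u : G => orderOf u = 2)).card : ℤ) = (q : ℤ) * ((Nat.card K : ℤ) - 1) := by
  have h1 := card_Inv h
  have h2 := x.hG
  rw [hδ] at h2
  have hq := q_eq_neg h x hδ
  have hn := n_pos h x
  have h3 : ((univ.filter (fun u : G => orderOf u = 2)).card : ℤ) * (2 * (Nat.card K : ℤ)) =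
      (Nat.card G : ℤ) := by exact_mod_cast h1
  have h4 : (2 * (Nat.card K : ℤ)) * (((univ.filter (fun u : G => orderOf u = 2)).card : ℤ) -
      (q : ℤ) * ((Nat.card K : ℤ) - 1)) = 0 := by
    rw [h2] at h3
    linear_combination h3 + (Nat.card K : ℤ) * (q : ℤ) * hq
  rcases mul_eq_zero.1 h4 with e | e
  · omega
  · linarith

theorem Fam_eq_class (hδ : δ = -1) {Q : Subgroup G} (hQ : Q ∈ Fam K ξ) :
    Fam K ξ = univ.filter (fun P : Subgroup G => ∃ g : G, cj g Q = P) := by
  ext P
  rw [mem_filter]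
  constructor
  · intro hP
    exact ⟨mem_univ _, trans_neg h x hδ hQ hP⟩
  · rintro ⟨-, g, rfl⟩
    exact Fam_conj h x hQ g

theorem card_G_eq (hδ : δ = -1) {Q : Subgroup G} (hQ : Q ∈ Fam K ξ) :
    (Fam K ξ).card * Nat.card (Subgroup.normalizer (Q : Set G)) = Nat.card G := by
  rw [Fam_eq_class h x hδ hQ]
  exact card_sclass_mul Q

/-- the sum of the squares of the fibre sizes of `u ↦ u Q u⁻¹` on the involutions -/
theorem sum_sq_phi {Q : Subgroup G} (J : Finset (Subgroup G))
    (hJ : ∀ u : G, orderOf u = 2 → cj u Q ∈ J) :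
    ∑ P ∈ J, ((univ.filter (fun u : G => orderOf u = 2)).filter (fun u => cj u Q = P)).card ^ 2 =
      ∑ g ∈ univ.filter (fun g : G => g ∈ Subgroup.normalizer (Q : Set G)), (IP g).card := by
  set Inv := univ.filter (fun u : G => orderOf u = 2) with hInv
  set T := (Inv ×ˢ Inv).filter (fun p : G × G => cj p.1 Q = cj p.2 Q) with hT
  have hmemInv : ∀ u, u ∈ Inv ↔ orderOf u = 2 := by
    intro u; rw [hInv, mem_filter]; simp
  -- first count
  have c1 : T.card = ∑ P ∈ J, (Inv.filter (fun u => cj u Q = P)).card ^ 2 := by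
    rw [Finset.card_eq_sum_card_fiberwise (f := fun p : G × G => cj p.1 Q) (t := J)]
    · refine Finset.sum_congr rfl fun P hP => ?_
      have : T.filter (fun p : G × G => cj p.1 Q = P) =
          (Inv.filter (fun u => cj u Q = P)) ×ˢ (Inv.filter (fun u => cj u Q = P)) := by
        ext p
        simp only [hT, mem_filter, mem_product]
        constructor
        · rintro ⟨⟨⟨h1, h2⟩, h3⟩, h4⟩
          exact ⟨⟨h1, h4⟩, h2, by rw [← h3]; exact h4⟩
        · rintro ⟨⟨h1, h4⟩, h2, h5⟩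
          exact ⟨⟨⟨h1, h2⟩, by rw [h4, h5]⟩, h4⟩
      rw [this, Finset.card_product, pow_two]
    · intro p hp
      have hp := Finset.mem_coe.1 hp
      rw [hT, mem_filter, mem_product] at hp
      exact Finset.mem_coe.2 (hJ p.1 ((hmemInv _).1 hp.1.1))
  -- second count
  have c2 : T.card = ∑ g ∈ univ.filter (fun g : G => g ∈ Subgroup.normalizer (Q : Set G)),
      (IP g).card := by
    rw [Finset.card_eq_sum_card_fiberwise (f := fun p : G × G => p.1 * p.2)
      (t := univ.filter (fun g : G => g ∈ Subgroup.normalizer (Q : Set G)))]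
    · refine Finset.sum_congr rfl fun g hg => ?_
      rw [mem_filter] at hg
      have hgN := hg.2
      apply Finset.card_bij (fun p _ => p.1)
      · intro p hp
        rw [mem_filter, hT, mem_filter, mem_product] at hp
        obtain ⟨⟨⟨h1, h2⟩, -⟩, h4⟩ := hp
        unfold IP
        rw [mem_filter]
        refine ⟨mem_univ _, (hmemInv _).1 h1, ?_⟩
        have : p.1⁻¹ * g = p.2 := by rw [← h4]; group
        rw [this]; exact (hmemInv _).1 h2
      · intro p hp p' hp' e
        rw [mem_filter] at hp hp'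
        have e : p.1 = p'.1 := e
        refine Prod.ext e ?_
        have h4 : p.1 * p.2 = g := hp.2
        have h4' : p'.1 * p'.2 = g := hp'.2
        rw [← h4', e] at h4
        exact mul_left_cancel h4
      · intro u hu
        unfold IP at hu
        rw [mem_filter] at hu
        refine ⟨(u, u⁻¹ * g), ?_, rfl⟩
        rw [mem_filter, hT, mem_filter, mem_product]
        refine ⟨⟨⟨(hmemInv _).2 hu.2.1, (hmemInv _).2 hu.2.2⟩, ?_⟩, by simp⟩
        show cj u Q = cj (u⁻¹ * g) Q
        rw [← cj_cj, mem_normalizer_iff_cj_eq.1 hgN, inv_eq_self hu.2.1]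
    · intro p hp
      have hp := Finset.mem_coe.1 hp
      rw [hT, mem_filter, mem_product] at hp
      apply Finset.mem_coe.2
      rw [mem_filter]
      refine ⟨mem_univ _, ?_⟩
      rw [mem_normalizer_iff_cj_eq]
      have h1 := inv_eq_self ((hmemInv _).1 hp.1.1)
      have : cj (p.1 * p.2) Q = cj p.1 (cj p.2 Q) := (cj_cj Q p.1 p.2).symm
      rw [this, ← hp.2, cj_cj]
      have : p.1 * p.1 = 1 := (inv_iff.1 ((hmemInv _).1 hp.1.1)).2
      rw [this, cj_one]
  rw [← c1, c2]

/-- the upper bound for the sum of `N(g)` over the normalizer of a member -/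
theorem bound_sum_IP (hδ : δ = -1) {Q : Subgroup G} (hQ : Q ∈ Fam K ξ) :
    ((∑ g ∈ univ.filter (fun g : G => g ∈ Subgroup.normalizer (Q : Set G)), (IP g).card : ℕ) : ℤ) ≤
      (q : ℤ) * ((Nat.card K : ℤ) - 1) + (Nat.card K : ℤ) *
        ((Nat.card (Subgroup.normalizer (Q : Set G)) : ℤ) - (q : ℤ)) := by
  set Nf := univ.filter (fun g : G => g ∈ Subgroup.normalizer (Q : Set G)) with hNf
  set Qf := univ.filter (fun g : G => g ∈ Q) with hQf
  have hQN : Qf ⊆ Nf := by
    intro g hg
    rw [hQf, mem_filter] at hg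
    rw [hNf, mem_filter]
    exact ⟨mem_univ _, Subgroup.le_normalizer hg.2⟩
  have hsplit : ∑ g ∈ Nf, (IP g).card = ∑ g ∈ Nf \ Qf, (IP g).card + ∑ g ∈ Qf, (IP g).card :=
    (Finset.sum_sdiff hQN).symm
  have h1mem : (1 : G) ∈ Qf := by rw [hQf, mem_filter]; exact ⟨mem_univ _, Q.one_mem⟩
  have hQsum : ∑ g ∈ Qf, (IP g).card = (univ.filter (fun u : G => orderOf u = 2)).card := by
    rw [← Finset.add_sum_erase _ _ h1mem, IP_one]
    have : ∑ g ∈ Qf.erase 1, (IP g).card = 0 := by
      apply Finset.sum_eq_zero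
      intro g hg
      rw [mem_erase, hQf, mem_filter] at hg
      rw [IP_Zs_neg h x hδ (Fam_sub_Zs h x hQ hg.2.2 hg.1), Finset.card_empty]
    rw [this, add_zero]
  have hrest : ∑ g ∈ Nf \ Qf, (IP g).card ≤ (Nf \ Qf).card * Nat.card K := by
    rw [← smul_eq_mul]
    apply Finset.sum_le_card_nsmul
    intro g hg
    rw [mem_sdiff, hNf, hQf, mem_filter, mem_filter] at hg
    have hgN := hg.1.2
    have hgQ : g ∉ Q := fun hc => hg.2 ⟨mem_univ _, hc⟩
    have hg1 : g ≠ 1 := fun e => hgQ (e ▸ Q.one_mem)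
    by_cases hgK : g ∈ calK K
    · exact card_IP_le_of_calK h hgK
    · rcases Zs_or_Rs h x hgK hg1 with hZ | hR
      · exact absurd (P1 h x (card_mem_neg h x hδ hQ) hZ hgN) hgQ
      · have := IP_Rs h x hR
        rw [hδ] at this
        have : ((IP g).card : ℤ) ≤ (Nat.card K : ℤ) := by linarith
        exact_mod_cast this
  have hcardsd : (Nf \ Qf).card = Nf.card - Qf.card := Finset.card_sdiff_of_subset hQN
  have hNfcard : Nf.card = Nat.card (Subgroup.normalizer (Q : Set G)) := (card_sub _).symm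
  have hQfcard : Qf.card = q := by rw [hQf, ← card_sub, card_mem_neg h x hδ hQ]
  have hle : Qf.card ≤ Nf.card := Finset.card_le_card hQN
  have h1 : ((∑ g ∈ Nf \ Qf, (IP g).card : ℕ) : ℤ) ≤ (((Nf \ Qf).card * Nat.card K : ℕ) : ℤ) := by
    exact_mod_cast hrest
  rw [hNfcard, hQfcard] at hle
  have h2 : (((Nf \ Qf).card * Nat.card K : ℕ) : ℤ) = (Nat.card K : ℤ) *
      ((Nat.card (Subgroup.normalizer (Q : Set G)) : ℤ) - (q : ℤ)) := by
    rw [hcardsd, hNfcard, hQfcard, Nat.cast_mul, Nat.cast_sub hle]; ring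
  rw [h2] at h1
  rw [hsplit, hQsum, Nat.cast_add, card_Inv_neg h x hδ]
  linarith

end Hyp

end Cfsg.Agent.Lib.H15.BSWEnd
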