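import Cfsg.Agent.Lib.H15.BSWEnd10

set_option autoImplicit false

/-!
helper15: Brauer–Suzuki–Wall (S3282), second half, part 11: the case `δ = -1`, conclusion
(P7): every element of `Z` lies in exactly one member of the family.
-/

namespace Cfsg.Agent.Lib.H15.BSWEnd

open Cfsg.Agent.Lib.H8 Cfsg.Agent.Lib.H15 Finset
open scoped Classical

variable {G : Type*} [Group G] [Fintype G]

variable {t s : G} {K : Subgroup G} {δ : ℤ} {q : ℕ} {ξ : G → ℤ}

section Hyp

variable (h : BSWHyp t K s) (x : XD K δ q ξ)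
include h x

/-- the upper bound for `∑_{P ∈ F} |Q ∩ P|` -/
theorem sum_inter_le (hδ : δ = -1) {Q : Subgroup G} (hQ : Q ∈ Fam K ξ) :
    ∑ P ∈ Fam K ξ, ((univ.filter (fun g : G => g ∈ Q)).filter (fun g => g ∈ P)).card ≤
      q + ((Fam K ξ).filter (fun P => Q ⊓ P = ⊥)).card +
        ((Fam K ξ).card - 1 - ((Fam K ξ).filter (fun P => Q ⊓ P = ⊥)).card) * (q - 1) := by
  set J := (Fam K ξ).filter (fun P => Q ⊓ P = ⊥) with hJ
  have hcQ := card_mem_neg h x hδ hQ
  have hq3 : 3 ≤ q := by exact_mod_cast three_le_q h x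
  have hc : ∀ P : Subgroup G, ((univ.filter (fun g : G => g ∈ Q)).filter (fun g => g ∈ P)).card =
      Nat.card (Q ⊓ P : Subgroup G) := by
    intro P; rw [filter_mem_inf, ← card_sub]
  simp only [hc]
  have hQJ : Q ∉ J := by
    intro hc
    rw [hJ, mem_filter, inf_idem] at hc
    have := hc.2
    rw [this, Subgroup.card_bot] at hcQ
    omega
  rw [← Finset.add_sum_erase _ _ hQ, inf_idem, hcQ,
    ← Finset.sum_filter_add_sum_filter_not ((Fam K ξ).erase Q) (fun P => Q ⊓ P = ⊥)]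
  have hJeq : ((Fam K ξ).erase Q).filter (fun P => Q ⊓ P = ⊥) = J := by
    ext P
    rw [mem_filter, mem_erase, hJ, mem_filter]
    constructor
    · rintro ⟨⟨-, hP⟩, e⟩; exact ⟨hP, e⟩
    · rintro ⟨hP, e⟩
      refine ⟨⟨?_, hP⟩, e⟩
      rintro rfl
      exact hQJ (by rw [hJ, mem_filter]; exact ⟨hP, e⟩)
  rw [hJeq]
  have hJsum : ∑ P ∈ J, Nat.card (Q ⊓ P : Subgroup G) = J.card := by
    rw [Finset.sum_const_nat (m := 1)]
    · rw [mul_one]
    · intro P hP
      rw [hJ, mem_filter] at hP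
      rw [hP.2, Subgroup.card_bot]
  rw [hJsum]
  set Rem := ((Fam K ξ).erase Q).filter (fun P => ¬ Q ⊓ P = ⊥) with hRem
  have hRemcard : Rem.card = (Fam K ξ).card - 1 - J.card := by
    have h1 := Finset.card_filter_add_card_filter_not (s := (Fam K ξ).erase Q)
      (fun P => Q ⊓ P = ⊥)
    rw [hJeq, Finset.card_erase_of_mem hQ] at h1
    rw [← h1, Nat.add_sub_cancel_left]
  have hRemsum : ∑ P ∈ Rem, Nat.card (Q ⊓ P : Subgroup G) ≤ Rem.card * (q - 1) := by
    rw [← smul_eq_mul]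
    apply Finset.sum_le_card_nsmul
    intro P hP
    rw [hRem, mem_filter, mem_erase] at hP
    have hle : Nat.card (Q ⊓ P : Subgroup G) ≤ q := by
      rw [← hcQ]; exact Subgroup.card_le_of_le inf_le_left
    have hne : Nat.card (Q ⊓ P : Subgroup G) ≠ q := by
      intro e
      apply hP.1.1
      have h1 : Q ⊓ P = Q := eq_of_le_of_card_le' inf_le_left (by rw [e, hcQ])
      have h2 : Q ≤ P := by rw [← h1]; exact inf_le_right
      exact (eq_of_le_of_card_le' h2 (by rw [hcQ, card_mem_neg h x hδ hP.1.2])).symm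
    omega
  rw [hRemcard] at hRemsum
  linarith [hRemsum]

/-- **(P7)** for `δ = -1` every element of `Z` lies in exactly one member. -/
theorem fcnt_eq_one (hδ : δ = -1) {z : G} (hz : z ∈ Zs K ξ) : fcnt K ξ z = 1 := by
  set Q := Subgroup.centralizer ({z} : Set G) with hQdef
  have hQ : Q ∈ Fam K ξ := cent_mem_Fam h x hz
  have hcQ := card_mem_neg h x hδ hQ
  have hq3 := three_le_q h x
  have hqeq := q_eq_neg h x hδ
  have hn2 := two_le_n h x
  have hf1 : 1 ≤ fcnt K ξ z := fcnt_pos h x hz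
  -- |F| = f (q + 1)
  have hP3 := P3 h x hδ hz
  have hq1 : 1 ≤ q := q_pos h x
  have hq21 : 1 ≤ q ^ 2 := Nat.one_le_pow _ _ hq1
  have hF : ((Fam K ξ).card : ℤ) = (fcnt K ξ z : ℤ) * ((q : ℤ) + 1) := by
    have h1 : ((Fam K ξ).card : ℤ) * ((q : ℤ) - 1) = (fcnt K ξ z : ℤ) * ((q : ℤ) ^ 2 - 1) := by
      have := congrArg (fun m : ℕ => (m : ℤ)) hP3
      push_cast [Nat.cast_sub hq1, Nat.cast_sub hq21] at this
      exact this
    have h2 : ((q : ℤ) - 1) * (((Fam K ξ).card : ℤ) - (fcnt K ξ z : ℤ) * ((q : ℤ) + 1)) = 0 := by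
      linear_combination h1
    rcases mul_eq_zero.1 h2 with e | e
    · omega
    · linarith
  -- |N(Q)| = q e
  have hdvd : q ∣ Nat.card (Subgroup.normalizer (Q : Set G)) := by
    rw [← hcQ]; exact Subgroup.card_dvd_of_le Subgroup.le_normalizer
  obtain ⟨e, he⟩ := hdvd
  have hGeq := card_G_eq h x hδ hQ
  have h2G := two_card_G_int h x
  -- f e = r
  have hfe : (fcnt K ξ z : ℤ) * (e : ℤ) = (Nat.card K : ℤ) - 1 := by
    have h1 : ((Fam K ξ).card : ℤ) * ((q : ℤ) * (e : ℤ)) = (Nat.card G : ℤ) := by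
      rw [he] at hGeq; exact_mod_cast hGeq
    rw [hF] at h1
    have h3 : ((q : ℤ) * ((q : ℤ) + 1)) * (2 * ((fcnt K ξ z : ℤ) * (e : ℤ)) - ((q : ℤ) - 1)) = 0 := by
      linear_combination 2 * h1 + h2G
    rcases mul_eq_zero.1 h3 with e1 | e1
    · rcases mul_eq_zero.1 e1 with e2 | e2 <;> omega
    · rw [hqeq] at e1; linarith
  have he1 : 1 ≤ (e : ℤ) := by
    have : (0 : ℤ) < (fcnt K ξ z : ℤ) * (e : ℤ) := by rw [hfe]; linarith
    have hf0 : (0 : ℤ) ≤ (fcnt K ξ z : ℤ) := by positivity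
    by_contra hlt
    push Not at hlt
    have : (e : ℤ) ≤ 0 := by omega
    nlinarith
  -- J
  set J := (Fam K ξ).filter (fun P => Q ⊓ P = ⊥) with hJ
  obtain ⟨j, hj⟩ := P5 h x hδ hQ
  -- Cauchy-Schwarz
  have hmaps : ∀ u : G, orderOf u = 2 → cj u Q ∈ J := by
    intro u hu
    rw [hJ, mem_filter]
    exact ⟨Fam_conj h x hQ u, P2 h x hδ hQ hu⟩
  set Inv := univ.filter (fun u : G => orderOf u = 2) with hInv
  have hS1 : ∑ P ∈ J, (Inv.filter (fun u => cj u Q = P)).card = Inv.card := by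
    symm
    apply Finset.card_eq_sum_card_fiberwise
    intro u hu
    have hu := Finset.mem_coe.1 hu
    rw [hInv, mem_filter] at hu
    exact Finset.mem_coe.2 (hmaps u hu.2)
  have hS2 := sum_sq_phi h x (Q := Q) J hmaps
  have hCS := sq_sum_le_card_mul_sum_sq (s := J)
    (f := fun P => (Inv.filter (fun u => cj u Q = P)).card)
  rw [hS1, hS2] at hCS
  have hbound := bound_sum_IP h x hδ hQ
  have hInvcard := card_Inv_neg h x hδ
  have a4 : ((q : ℤ) * ((Nat.card K : ℤ) - 1)) ^ 2 ≤ (q : ℤ) * (j : ℤ) *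
      ((q : ℤ) * ((Nat.card K : ℤ) - 1) + ((Nat.card K : ℤ) - 1 + 1) * ((q : ℤ) * (e : ℤ) - (q : ℤ))) := by
    have h1 : ((Inv.card : ℤ)) ^ 2 ≤ (J.card : ℤ) *
        ((∑ g ∈ univ.filter (fun g : G => g ∈ Subgroup.normalizer (Q : Set G)), (IP g).card : ℕ) : ℤ) := by
      exact_mod_cast hCS
    rw [hInvcard] at h1
    have hJ0 : (0 : ℤ) ≤ (J.card : ℤ) := by positivity
    have h2 := mul_le_mul_of_nonneg_left hbound hJ0
    have h3 := le_trans h1 h2
    rw [hj, he] at h3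
    push_cast at h3
    calc ((q : ℤ) * ((Nat.card K : ℤ) - 1)) ^ 2 ≤ _ := h3
      _ = _ := by ring
  -- a5
  have hQJ : Q ∉ J := by
    intro hc
    rw [hJ, mem_filter, inf_idem] at hc
    have := hc.2
    rw [this, Subgroup.card_bot] at hcQ
    omega
  have hJle : J.card ≤ (Fam K ξ).card - 1 := by
    rw [← Finset.card_erase_of_mem hQ]
    apply Finset.card_le_card
    intro P hP
    rw [mem_erase]
    refine ⟨?_, (mem_filter.1 hP).1⟩
    rintro rfl
    exact hQJ hP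
  have hFpos : 1 ≤ (Fam K ξ).card := Finset.card_pos.2 ⟨Q, hQ⟩
  have a5 : (q : ℤ) * (j : ℤ) ≤ (fcnt K ξ z : ℤ) * ((q : ℤ) + 1) - 1 := by
    rw [← hF]
    have : ((J.card : ℕ) : ℤ) ≤ (((Fam K ξ).card - 1 : ℕ) : ℤ) := by exact_mod_cast hJle
    rw [hj, Nat.cast_sub hFpos] at this
    push_cast at this
    exact this
  -- a6
  have hP4 := P4 h x hδ hQ hz
  have hsum := sum_inter_le h x hδ hQ
  rw [hP4] at hsum
  have a6 : (fcnt K ξ z : ℤ) * ((q : ℤ) + 1) + ((q : ℤ) - 1) * (fcnt K ξ z : ℤ) ≤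
      (q : ℤ) + (q : ℤ) * (j : ℤ) +
        ((fcnt K ξ z : ℤ) * ((q : ℤ) + 1) - 1 - (q : ℤ) * (j : ℤ)) * ((q : ℤ) - 1) := by
    rw [← hF]
    have hle2 : J.card ≤ (Fam K ξ).card - 1 := hJle
    have : (((Fam K ξ).card + (q - 1) * fcnt K ξ z : ℕ) : ℤ) ≤
        ((q + J.card + ((Fam K ξ).card - 1 - J.card) * (q - 1) : ℕ) : ℤ) := by
      exact_mod_cast hsum
    rw [Nat.cast_add, Nat.cast_mul, Nat.cast_sub hq1, Nat.cast_add, Nat.cast_add, Nat.cast_mul,
      Nat.cast_sub hle2, Nat.cast_sub hFpos, Nat.cast_sub hq1, hj] at this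
    push_cast at this
    linarith
  have := bsw_arith (q : ℤ) ((Nat.card K : ℤ) - 1) (e : ℤ) (fcnt K ξ z : ℤ) (j : ℤ)
    (by linarith) (by rw [hqeq]; ring) he1 (by exact_mod_cast hf1) hfe a4 a5 a6
  exact_mod_cast this

theorem FD_of_neg (hδ : δ = -1) : FD K q ξ := by
  have hcard : ∀ P ∈ Fam K ξ, Nat.card P = q := fun P hP => card_mem_neg h x hδ hP
  have hcent : ∀ P ∈ Fam K ξ, ∀ c ∈ P, c ≠ 1 → Subgroup.centralizer ({c} : Set G) = P := by
    intro P hP c hc hc1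
    have hcZ := Fam_sub_Zs h x hP hc hc1
    have h1 := fcnt_eq_one h x hδ hcZ
    unfold fcnt at h1
    have h2 : Subgroup.centralizer ({c} : Set G) ∈ (Fam K ξ).filter (fun P => c ∈ P) := by
      rw [mem_filter]; exact ⟨cent_mem_Fam h x hcZ, memC.2 (Commute.refl c)⟩
    have h3 : P ∈ (Fam K ξ).filter (fun P => c ∈ P) := by
      rw [mem_filter]; exact ⟨hP, hc⟩
    exact Finset.card_le_one.1 h1.le _ h2 _ h3
  have hF := card_Fam_of_cent h x hcard hcent
  exact ⟨hF, hcard, hcent, fun P hP P' hP' => trans_neg h x hδ hP hP'⟩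

end Hyp

end Cfsg.Agent.Lib.H15.BSWEnd
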