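import Cfsg.Agent.Lib.H15.BSWEnd11

set_option autoImplicit false

/-!
helper15: Brauer–Suzuki–Wall (S3282), second half, part 12: Step 4: the action on the family,
the two-point stabilizer `D`.
-/

namespace Cfsg.Agent.Lib.H15.BSWEnd

open Cfsg.Agent.Lib.H8 Cfsg.Agent.Lib.H15 Finset
open scoped Classical

variable {G : Type*} [Group G] [Fintype G]

/-- the two-point stabilizer -/
def DD (Q Q' : Subgroup G) : Subgroup G :=
  Subgroup.normalizer (Q : Set G) ⊓ Subgroup.normalizer (Q' : Set G)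

theorem mem_DD {Q Q' : Subgroup G} {g : G} :
    g ∈ DD Q Q' ↔ cj g Q = Q ∧ cj g Q' = Q' := by
  unfold DD
  rw [Subgroup.mem_inf, mem_normalizer_iff_cj_eq, mem_normalizer_iff_cj_eq]

variable {t s : G} {K : Subgroup G} {δ : ℤ} {q : ℕ} {ξ : G → ℤ}

section Hyp

variable (h : BSWHyp t K s) (x : XD K δ q ξ) (fd : FD K q ξ)
include h x fd

theorem three_le_q' : 3 ≤ q := by exact_mod_cast three_le_q h x

theorem inf_normalizer_bot {P P' : Subgroup G} (hP : P ∈ Fam K ξ) (hP' : P' ∈ Fam K ξ)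
    (hne : P ≠ P') : P ⊓ Subgroup.normalizer (P' : Set G) = ⊥ := by
  rw [Subgroup.eq_bot_iff_forall]
  intro y hy
  rw [Subgroup.mem_inf] at hy
  by_contra hy1
  have hyZ := Fam_sub_Zs h x hP hy.1 hy1
  have hyP' := P1 h x (fd.card_mem P' hP') hyZ hy.2
  apply hne
  rw [← fd.cent P hP y hy.1 hy1, fd.cent P' hP' y hyP' hy1]

theorem inter_bot_of_ne {P P' : Subgroup G} (hP : P ∈ Fam K ξ) (hP' : P' ∈ Fam K ξ)
    (hne : P ≠ P') : P ⊓ P' = ⊥ := by
  rw [eq_bot_iff, ← inf_normalizer_bot h x fd hP hP' hne]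
  exact inf_le_inf_left _ Subgroup.le_normalizer

theorem Fam_eq_class' {Q : Subgroup G} (hQ : Q ∈ Fam K ξ) :
    Fam K ξ = univ.filter (fun P : Subgroup G => ∃ g : G, cj g Q = P) := by
  ext P
  rw [mem_filter]
  constructor
  · intro hP
    exact ⟨mem_univ _, fd.trans Q hQ P hP⟩
  · rintro ⟨-, g, rfl⟩
    exact Fam_conj h x hQ g

theorem card_N {Q : Subgroup G} (hQ : Q ∈ Fam K ξ) :
    2 * Nat.card (Subgroup.normalizer (Q : Set G)) = q * (q - 1) := by
  have h1 := card_sclass_mul Q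
  rw [← Fam_eq_class' h x fd hQ, fd.card_F] at h1
  have h2 := two_card_G h x
  have hq3 := three_le_q' h x fd
  have h3 : q ^ 2 - 1 = (q + 1) * (q - 1) := by
    obtain ⟨m, rfl⟩ : ∃ m, q = m + 1 := ⟨q - 1, by omega⟩
    simp only [Nat.add_sub_cancel]
    have : (m + 1) ^ 2 = (m + 1 + 1) * m + 1 := by ring
    rw [this, Nat.add_sub_cancel]
  rw [h3, ← h1] at h2
  have h4 : (q + 1) * (2 * Nat.card (Subgroup.normalizer (Q : Set G))) = (q + 1) * (q * (q - 1)) := by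
    calc (q + 1) * (2 * Nat.card (Subgroup.normalizer (Q : Set G)))
        = 2 * ((q + 1) * Nat.card (Subgroup.normalizer (Q : Set G))) := by ring
      _ = q * ((q + 1) * (q - 1)) := h2
      _ = (q + 1) * (q * (q - 1)) := by ring
  exact Nat.eq_of_mul_eq_mul_left (by omega) h4

variable {Q Q' : Subgroup G} (hQ : Q ∈ Fam K ξ) (hQ' : Q' ∈ Fam K ξ) (hne : Q ≠ Q')
include hQ hQ' hne

/-- `Q` is regular on the other members. -/
theorem exists_conj {P : Subgroup G} (hP : P ∈ Fam K ξ) (hPQ : P ≠ Q) :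
    ∃ y ∈ Q, cj y Q' = P := by
  set Qf := univ.filter (fun g : G => g ∈ Q) with hQf
  have hmaps : ∀ y ∈ Qf, cj y Q' ∈ (Fam K ξ).erase Q := by
    intro y hy
    rw [hQf, mem_filter] at hy
    rw [mem_erase]
    refine ⟨?_, Fam_conj h x hQ' y⟩
    intro e
    apply hne
    have := congrArg (cj y⁻¹) e
    rw [cj_inv_cj, cj_eq_self_of_mem (Q.inv_mem hy.2)] at this
    exact this.symm
  have hinj : Set.InjOn (fun y => cj y Q') Qf := by
    intro a ha b hb e
    have ha := (mem_filter.1 (Finset.mem_coe.1 ha)).2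
    have hb := (mem_filter.1 (Finset.mem_coe.1 hb)).2
    simp only at e
    have h1 : cj (b⁻¹ * a) Q' = Q' := by
      have := congrArg (cj b⁻¹) e
      rwa [cj_cj, cj_cj, inv_mul_cancel, cj_one] at this
    have h2 : b⁻¹ * a ∈ Q ⊓ Subgroup.normalizer (Q' : Set G) :=
      Subgroup.mem_inf.2 ⟨Q.mul_mem (Q.inv_mem hb) ha, mem_normalizer_iff_cj_eq.2 h1⟩
    rw [inf_normalizer_bot h x fd hQ hQ' hne, Subgroup.mem_bot] at h2
    calc a = b * (b⁻¹ * a) := by group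
      _ = b := by rw [h2, mul_one]
  have hcard : ((Fam K ξ).erase Q).card ≤ Qf.card := by
    rw [Finset.card_erase_of_mem hQ, fd.card_F, hQf, ← card_sub, fd.card_mem Q hQ]
    omega
  have hsurj := Finset.surjOn_of_injOn_of_card_le (fun y => cj y Q') hmaps hinj hcard
  have hP' : P ∈ (Fam K ξ).erase Q := by rw [mem_erase]; exact ⟨hPQ, hP⟩
  obtain ⟨y, hy, e⟩ := hsurj (Finset.mem_coe.2 hP')
  have hy := Finset.mem_coe.1 hy
  rw [hQf, mem_filter] at hy
  exact ⟨y, hy.2, e⟩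

theorem Q_inf_D : Q ⊓ DD Q Q' = ⊥ := by
  rw [eq_bot_iff, ← inf_normalizer_bot h x fd hQ hQ' hne]
  exact inf_le_inf_left _ inf_le_right

theorem N_decomp {g : G} (hg : g ∈ Subgroup.normalizer (Q : Set G)) :
    ∃ y ∈ Q, ∃ d ∈ DD Q Q', g = y * d := by
  have hgQ := mem_normalizer_iff_cj_eq.1 hg
  have hP : cj g Q' ∈ Fam K ξ := Fam_conj h x hQ' g
  have hPQ : cj g Q' ≠ Q := by
    intro e
    apply hne
    rw [← hgQ] at e
    have := congrArg (cj g⁻¹) e
    rw [cj_inv_cj, cj_inv_cj] at this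
    exact this.symm
  obtain ⟨y, hy, e⟩ := exists_conj h x fd hQ hQ' hne hP hPQ
  refine ⟨y, hy, y⁻¹ * g, ?_, by group⟩
  rw [mem_DD]
  constructor
  · rw [← cj_cj, hgQ, cj_eq_self_of_mem (Q.inv_mem hy)]
  · rw [← cj_cj, ← e, cj_inv_cj]

theorem N_eq_sup : Subgroup.normalizer (Q : Set G) = Q ⊔ DD Q Q' := by
  apply le_antisymm
  · intro g hg
    obtain ⟨y, hy, d, hd, rfl⟩ := N_decomp h x fd hQ hQ' hne hg
    exact Subgroup.mul_mem _ (Subgroup.mem_sup_left hy) (Subgroup.mem_sup_right hd)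
  · exact sup_le Subgroup.le_normalizer inf_le_left

theorem card_N_eq_mul : Nat.card (Subgroup.normalizer (Q : Set G)) = q * Nat.card (DD Q Q') := by
  rw [card_sub, ← fd.card_mem Q hQ, card_sub Q, card_sub (DD Q Q'), ← Finset.card_product]
  symm
  apply Finset.card_bij (fun p _ => p.1 * p.2)
  · intro p hp
    rw [mem_product, mem_filter, mem_filter] at hp
    rw [mem_filter]
    refine ⟨mem_univ _, Subgroup.mul_mem _ (Subgroup.le_normalizer hp.1.2) ?_⟩
    exact (Subgroup.mem_inf.1 hp.2.2).1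
  · intro p hp p' hp' e
    rw [mem_product, mem_filter, mem_filter] at hp hp'
    have e : p.1 * p.2 = p'.1 * p'.2 := e
    have h1 : p'.1⁻¹ * p.1 = p'.2 * p.2⁻¹ := by
      calc p'.1⁻¹ * p.1 = p'.1⁻¹ * (p.1 * p.2) * p.2⁻¹ := by group
        _ = p'.1⁻¹ * (p'.1 * p'.2) * p.2⁻¹ := by rw [e]
        _ = p'.2 * p.2⁻¹ := by group
    have h2 : p'.1⁻¹ * p.1 ∈ Q ⊓ DD Q Q' := by
      rw [Subgroup.mem_inf]
      refine ⟨Q.mul_mem (Q.inv_mem hp'.1.2) hp.1.2, ?_⟩
      rw [h1]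
      exact Subgroup.mul_mem _ hp'.2.2 (Subgroup.inv_mem _ hp.2.2)
    rw [Q_inf_D h x fd hQ hQ' hne, Subgroup.mem_bot] at h2
    have h3 : p.1 = p'.1 := by
      calc p.1 = p'.1 * (p'.1⁻¹ * p.1) := by group
        _ = p'.1 := by rw [h2, mul_one]
    refine Prod.ext h3 ?_
    rw [h3] at e
    exact mul_left_cancel e
  · intro g hg
    rw [mem_filter] at hg
    obtain ⟨y, hy, d, hd, rfl⟩ := N_decomp h x fd hQ hQ' hne hg.2
    refine ⟨(y, d), ?_, rfl⟩
    rw [mem_product, mem_filter, mem_filter]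
    exact ⟨⟨mem_univ _, hy⟩, mem_univ _, hd⟩

theorem card_D : 2 * Nat.card (DD Q Q') + 1 = q := by
  have h1 := card_N h x fd hQ
  rw [card_N_eq_mul h x fd hQ hQ' hne] at h1
  have hq3 := three_le_q' h x fd
  have h2 : q * (2 * Nat.card (DD Q Q')) = q * (q - 1) := by
    rw [← h1]; ring
  have := Nat.eq_of_mul_eq_mul_left (by omega) h2
  omega

/-- three-point stabilizers are trivial -/
theorem fix_two {d : G} (hd : d ∈ DD Q Q') (hd1 : d ≠ 1) {P : Subgroup G} (hP : P ∈ Fam K ξ)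
    (hdP : d ∈ Subgroup.normalizer (P : Set G)) : P = Q ∨ P = Q' := by
  by_contra hcon
  push Not at hcon
  obtain ⟨y, hy, e⟩ := exists_conj h x fd hQ hQ' hne hP hcon.1
  have hy1 : y ≠ 1 := by
    rintro rfl
    rw [cj_one] at e
    exact hcon.2 e.symm
  have hdD := mem_DD.1 hd
  -- y⁻¹ d y ∈ D
  have h1 : y⁻¹ * d * y ∈ DD Q Q' := by
    rw [mem_DD]
    constructor
    · have hyN : cj y Q = Q := cj_eq_self_of_mem hy
      have hyN' : cj y⁻¹ Q = Q := cj_eq_self_of_mem (Q.inv_mem hy)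
      rw [← cj_cj, ← cj_cj, hyN, hdD.1, hyN']
    · have hdP' := mem_normalizer_iff_cj_eq.1 hdP
      rw [← cj_cj, ← cj_cj, e, hdP', ← e, cj_inv_cj]
  -- the commutator lies in Q ∩ D
  have h2 : y⁻¹ * d * y * d⁻¹ ∈ Q ⊓ DD Q Q' := by
    rw [Subgroup.mem_inf]
    constructor
    · have h3 : d * y * d⁻¹ ∈ Q := by
        have := conj_mem_cj (g := d) hy
        rwa [hdD.1] at this
      have : y⁻¹ * d * y * d⁻¹ = y⁻¹ * (d * y * d⁻¹) := by group
      rw [this]
      exact Q.mul_mem (Q.inv_mem hy) h3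
    · exact Subgroup.mul_mem _ h1 (Subgroup.inv_mem _ hd)
  rw [Q_inf_D h x fd hQ hQ' hne, Subgroup.mem_bot] at h2
  have hcomm : Commute d y := by
    show d * y = y * d
    calc d * y = y * (y⁻¹ * d * y * d⁻¹) * d := by group
      _ = y * d := by rw [h2, mul_one]
  have hdQ : d ∈ Q := by
    rw [← fd.cent Q hQ y hy hy1, memC]
    exact hcomm
  have : d ∈ Q ⊓ DD Q Q' := Subgroup.mem_inf.2 ⟨hdQ, hd⟩
  rw [Q_inf_D h x fd hQ hQ' hne, Subgroup.mem_bot] at this
  exact hd1 this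

end Hyp

end Cfsg.Agent.Lib.H15.BSWEnd
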