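import Cfsg.Agent.Lib.H15.BSWEnd1

set_option autoImplicit false

/-!
helper15: Brauer–Suzuki–Wall (S3282), second half, part 2: counting lemmas.
-/

namespace Cfsg.Agent.Lib.H15.BSWEnd

open Cfsg.Agent.Lib.H8 Cfsg.Agent.Lib.H15 Finset
open scoped Classical

variable {G : Type*} [Group G] [Fintype G]

theorem card_sub (P : Subgroup G) : Nat.card P = (univ.filter (fun g : G => g ∈ P)).card := by
  rw [Nat.card_eq_fintype_card, ← Fintype.card_subtype]

/-- Fibre counting: a map from `G` whose fibres are the left cosets of a subgroup. -/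
theorem card_image_mul {α : Type*} (f : G → α) (S : Subgroup G)
    (hf : ∀ g g', f g = f g' ↔ g⁻¹ * g' ∈ S) :
    (univ.image f).card * Nat.card S = Nat.card G := by
  rw [Nat.card_eq_fintype_card (α := G), ← Finset.card_univ,
    Finset.card_eq_sum_card_fiberwise (f := f) (s := univ) (t := univ.image f)
      (fun x _ => mem_image_of_mem f (mem_univ x))]
  symm
  apply Finset.sum_const_nat
  intro a ha
  obtain ⟨g₀, -, rfl⟩ := mem_image.1 ha
  rw [card_sub S]
  symm
  apply Finset.card_bij (fun c _ => g₀ * c)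
  · intro c hc
    rw [mem_filter] at hc ⊢
    refine ⟨mem_univ _, ?_⟩
    rw [hf]
    have : (g₀ * c)⁻¹ * g₀ = c⁻¹ := by group
    rw [this]
    exact S.inv_mem hc.2
  · intro a _ b _ e
    exact mul_left_cancel e
  · intro g hg
    rw [mem_filter] at hg
    refine ⟨g₀⁻¹ * g, ?_, by group⟩
    rw [mem_filter]
    exact ⟨mem_univ _, (hf _ _).1 hg.2.symm⟩

/-- Class equation for one class. -/
theorem card_class_mul (y : G) :
    (univ.filter (fun x : G => ∃ g : G, g * y * g⁻¹ = x)).card *
      Nat.card (Subgroup.centralizer ({y} : Set G)) = Nat.card G := by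
  have h1 : univ.filter (fun x : G => ∃ g : G, g * y * g⁻¹ = x) =
      univ.image (fun g : G => g * y * g⁻¹) := by
    ext x
    simp only [mem_filter, mem_univ, true_and, mem_image]
  rw [h1]
  apply card_image_mul
  intro g g'
  rw [Subgroup.mem_centralizer_singleton_iff]
  constructor
  · intro e
    calc g⁻¹ * g' * y = g⁻¹ * (g' * y * g'⁻¹) * g' := by group
      _ = g⁻¹ * (g * y * g⁻¹) * g' := by rw [e]
      _ = y * (g⁻¹ * g') := by group
  · intro e
    calc g * y * g⁻¹ = g * (y * (g⁻¹ * g')) * g'⁻¹ := by group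
      _ = g * (g⁻¹ * g' * y) * g'⁻¹ := by rw [e]
      _ = g' * y * g'⁻¹ := by group

/-- The number of conjugates of a subgroup. -/
theorem card_sclass_mul (Q : Subgroup G) :
    (univ.filter (fun P : Subgroup G => ∃ g : G, cj g Q = P)).card *
      Nat.card (Subgroup.normalizer (Q : Set G)) = Nat.card G := by
  have h1 : univ.filter (fun P : Subgroup G => ∃ g : G, cj g Q = P) =
      univ.image (fun g : G => cj g Q) := by
    ext x
    simp only [mem_filter, mem_univ, true_and, mem_image]
  rw [h1]
  apply card_image_mul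
  intro g g'
  rw [mem_normalizer_iff_cj_eq]
  constructor
  · intro e
    have := congrArg (cj g⁻¹) e
    rw [cj_inv_cj, cj_cj] at this
    exact this.symm
  · intro e
    have := congrArg (cj g) e
    rw [cj_cj, mul_inv_cancel_left] at this
    exact this.symm

variable {t s : G} {K : Subgroup G}

section Hyp

variable (h : BSWHyp t K s)
include h

theorem even_card_K : 2 ∣ Nat.card K := by
  have := K.orderOf_dvd_natCard h.htK
  rwa [h.ht] at this

theorem two_le_card_K : 2 ≤ Nat.card K :=
  Nat.le_of_dvd Nat.card_pos (even_card_K h)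

theorem H_normalizes {g k : G} (hg : g ∈ Subgroup.centralizer ({t} : Set G)) (hk : k ∈ K) :
    g * k * g⁻¹ ∈ K := by
  by_cases hgK : g ∈ K
  · exact K.mul_mem (K.mul_mem hgK hk) (K.inv_mem hgK)
  · rw [(HK h hg hgK).2 k hk]; exact K.inv_mem hk

/-- `|H \ K| = |K|`. -/
theorem card_HmK : (univ.filter (fun g : G => g ∈ Subgroup.centralizer ({t} : Set G) ∧ g ∉ K)).card
    = Nat.card K := by
  rw [card_sub K]
  symm
  apply Finset.card_bij (fun k _ => k * s)
  · intro k hk
    rw [mem_filter] at hk ⊢
    exact ⟨mem_univ _, Ks_mem_H h hk.2, Ks_not_mem h hk.2⟩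
  · intro a _ b _ e
    exact mul_right_cancel e
  · intro g hg
    rw [mem_filter] at hg
    rcases H_cases h hg.2.1 with hK | ⟨k, hk, rfl⟩
    · exact absurd hK hg.2.2
    · exact ⟨k, by rw [mem_filter]; exact ⟨mem_univ _, hk⟩, rfl⟩

theorem card_H : Nat.card (Subgroup.centralizer ({t} : Set G)) = 2 * Nat.card K := by
  rw [card_sub]
  have h1 : univ.filter (fun g : G => g ∈ Subgroup.centralizer ({t} : Set G)) =
      univ.filter (fun g : G => g ∈ K) ∪
        univ.filter (fun g : G => g ∈ Subgroup.centralizer ({t} : Set G) ∧ g ∉ K) := by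
    ext g
    simp only [mem_filter, mem_univ, true_and, mem_union]
    constructor
    · intro hg
      by_cases hgK : g ∈ K
      · left; exact hgK
      · right; exact ⟨hg, hgK⟩
    · rintro (hg | hg)
      · exact h.hKH hg
      · exact hg.1
  rw [h1, Finset.card_union_of_disjoint, card_HmK h, ← card_sub K, two_mul]
  rw [Finset.disjoint_left]
  intro g hg hg'
  rw [mem_filter] at hg hg'
  exact hg'.2.2 hg.2

/-- The number of involutions. -/
theorem card_Inv : (univ.filter (fun u : G => orderOf u = 2)).card * (2 * Nat.card K) =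
    Nat.card G := by
  rw [← card_H h, ← card_class_mul t]
  congr 2
  ext u
  simp only [mem_filter, mem_univ, true_and]
  constructor
  · intro hu
    exact isConj_iff.1 (h.hconj t u h.ht hu)
  · rintro ⟨g, rfl⟩
    rw [orderOf_cj]; exact h.ht

/-- The number of conjugates of non-identity elements of `K`. -/
theorem card_calK : (univ.filter (fun y : G => y ∈ calK K)).card * (2 * Nat.card K) =
    Nat.card G * (Nat.card K - 1) := by
  have hKne : (univ.filter (fun k : G => k ∈ K ∧ k ≠ 1)).card = Nat.card K - 1 := by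
    rw [card_sub K]
    have : univ.filter (fun k : G => k ∈ K ∧ k ≠ 1) = (univ.filter (fun k : G => k ∈ K)).erase 1 := by
      ext k
      simp only [mem_filter, mem_univ, true_and, mem_erase]
      tauto
    rw [this, Finset.card_erase_of_mem]
    rw [mem_filter]; exact ⟨mem_univ _, K.one_mem⟩
  have hdom : ((univ : Finset G) ×ˢ (univ.filter (fun k : G => k ∈ K ∧ k ≠ 1))).card =
      Nat.card G * (Nat.card K - 1) := by
    rw [Finset.card_product, hKne, Finset.card_univ, ← Nat.card_eq_fintype_card]
  rw [← hdom, Finset.card_eq_sum_card_fiberwise (f := fun p : G × G => p.1 * p.2 * p.1⁻¹)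
    (t := univ.filter (fun y : G => y ∈ calK K))]
  · symm
    apply Finset.sum_const_nat
    intro y hy
    rw [mem_filter] at hy
    obtain ⟨k₀, hk₀, hk₀1, g₀, rfl⟩ := hy.2
    rw [← card_H h, card_sub]
    symm
    apply Finset.card_bij (fun c _ => (g₀ * c, c⁻¹ * k₀ * c))
    · intro c hc
      rw [mem_filter] at hc
      rw [mem_filter, mem_product, mem_filter]
      refine ⟨⟨mem_univ _, mem_univ _, ?_, ?_⟩, by group⟩
      · have := H_normalizes h (Subgroup.inv_mem _ hc.2) hk₀
        rwa [inv_inv] at this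
      · intro e
        change c⁻¹ * k₀ * c = 1 at e
        apply hk₀1
        have : k₀ = c * (c⁻¹ * k₀ * c) * c⁻¹ := by group
        rw [this, e]; group
    · intro a _ b _ e
      have := congrArg Prod.fst e
      exact mul_left_cancel this
    · rintro ⟨g, k⟩ hgk
      rw [mem_filter, mem_product, mem_filter] at hgk
      obtain ⟨⟨-, -, hk, hk1⟩, e⟩ := hgk
      simp only at e
      have e' : (g₀⁻¹ * g) * k * (g₀⁻¹ * g)⁻¹ = k₀ := by
        calc (g₀⁻¹ * g) * k * (g₀⁻¹ * g)⁻¹ = g₀⁻¹ * (g * k * g⁻¹) * g₀ := by group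
          _ = g₀⁻¹ * (g₀ * k₀ * g₀⁻¹) * g₀ := by rw [e]
          _ = k₀ := by group
      have hH : g₀⁻¹ * g ∈ Subgroup.centralizer ({t} : Set G) :=
        TI h hk hk1 (by rw [e']; exact hk₀)
      refine ⟨g₀⁻¹ * g, by rw [mem_filter]; exact ⟨mem_univ _, hH⟩, ?_⟩
      refine Prod.ext (by simp) ?_
      simp only
      rw [← e']; group
  · intro p hp
    have hp := Finset.mem_coe.1 hp
    rw [mem_product, mem_filter] at hp
    apply Finset.mem_coe.2
    rw [mem_filter]
    exact ⟨mem_univ _, p.2, hp.2.2.1, hp.2.2.2, p.1, rfl⟩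

end Hyp

end Cfsg.Agent.Lib.H15.BSWEnd
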