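import Cfsg.Agent.Lib.H15.BSWEnd2

set_option autoImplicit false

/-!
helper15: Brauer–Suzuki–Wall (S3282), second half, part 3: pairs of involutions and Lemma A.
-/

namespace Cfsg.Agent.Lib.H15.BSWEnd

open Cfsg.Agent.Lib.H8 Cfsg.Agent.Lib.H15 Finset
open scoped Classical

variable {G : Type*} [Group G] [Fintype G]

theorem orderOf_cj' (g x : G) : orderOf (g⁻¹ * x * g) = orderOf x := by
  have := orderOf_cj g⁻¹ x
  rwa [inv_inv] at this

/-- The involutions `u` such that `u⁻¹ y` is an involution. -/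
noncomputable def IP (y : G) : Finset G :=
  univ.filter (fun u : G => orderOf u = 2 ∧ orderOf (u⁻¹ * y) = 2)

theorem invPairs_eq_card (y : G) : invPairs y = (IP y).card := by
  unfold invPairs
  have e : {p : G × G // orderOf p.1 = 2 ∧ orderOf p.2 = 2 ∧ p.1 * p.2 = y} ≃ {u : G // u ∈ IP y} :=
    { toFun := fun p => ⟨p.1.1, by
        unfold IP
        rw [mem_filter]
        refine ⟨mem_univ _, p.2.1, ?_⟩
        have : p.1.1⁻¹ * y = p.1.2 := inv_mul_eq_iff_eq_mul.2 p.2.2.2.symm
        rw [this]; exact p.2.2.1⟩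
      invFun := fun u => ⟨(u.1, u.1⁻¹ * y), by
        have hu := u.2
        unfold IP at hu
        rw [mem_filter] at hu
        exact ⟨hu.2.1, hu.2.2, by group⟩⟩
      left_inv := by
        rintro ⟨⟨a, b⟩, h1, h2, h3⟩
        apply Subtype.ext
        simp only
        rw [← h3]
        refine Prod.ext rfl ?_
        simp
      right_inv := by
        rintro ⟨u, hu⟩
        rfl }
  rw [Nat.card_congr e, Nat.card_eq_fintype_card, Fintype.card_coe]

theorem mem_IP {y u : G} : u ∈ IP y ↔ orderOf u = 2 ∧ u * y * u⁻¹ = y⁻¹ ∧ y ≠ u := by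
  unfold IP
  rw [mem_filter]
  constructor
  · rintro ⟨-, hu, hv⟩
    have hui := inv_eq_self hu
    rw [hui, inv_iff] at hv
    refine ⟨hu, ?_, ?_⟩
    · rw [hui]
      have : u * y * u * y = 1 := by
        have := hv.2
        calc u * y * u * y = u * y * (u * y) := by group
          _ = 1 := this
      exact eq_inv_of_mul_eq_one_left this
    · intro e
      apply hv.1
      rw [e]; exact (inv_iff.1 hu).2
  · rintro ⟨hu, hinv, hne⟩
    have hui := inv_eq_self hu
    refine ⟨mem_univ _, hu, ?_⟩
    rw [hui, inv_iff]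
    refine ⟨fun e => hne ?_, ?_⟩
    · have : y = u⁻¹ := eq_inv_of_mul_eq_one_right e
      rw [this, hui]
    · rw [hui] at hinv
      calc u * y * (u * y) = (u * y * u) * y := by group
        _ = 1 := by rw [hinv]; group

theorem IP_one : IP (1 : G) = univ.filter (fun u : G => orderOf u = 2) := by
  unfold IP
  ext u
  simp only [mem_filter, mem_univ, true_and, mul_one, orderOf_inv, and_self]

variable {t s : G} {K : Subgroup G}

section Hyp

variable (h : BSWHyp t K s)
include h

/-- `N(y) ≤ n` for `y` conjugate to a non-identity element of `K`. -/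
theorem card_IP_le_of_calK {y : G} (hy : y ∈ calK K) : (IP y).card ≤ Nat.card K := by
  obtain ⟨k, hk, hk1, g, rfl⟩ := hy
  rw [← card_HmK h]
  apply Finset.card_le_card_of_injOn (fun u => g⁻¹ * u * g)
  · intro u hu
    have hu := Finset.mem_coe.1 hu
    apply Finset.mem_coe.2
    rw [mem_IP] at hu
    obtain ⟨hu2, hinv, hne⟩ := hu
    have h2 : orderOf (g⁻¹ * u * g) = 2 := by rw [orderOf_cj']; exact hu2
    have hc : (g⁻¹ * u * g) * k * (g⁻¹ * u * g)⁻¹ = k⁻¹ := by
      calc (g⁻¹ * u * g) * k * (g⁻¹ * u * g)⁻¹ = g⁻¹ * (u * (g * k * g⁻¹) * u⁻¹) * g := by group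
        _ = g⁻¹ * (g * k * g⁻¹)⁻¹ * g := by rw [hinv]
        _ = k⁻¹ := by group
    have hH : g⁻¹ * u * g ∈ Subgroup.centralizer ({t} : Set G) :=
      TI h hk hk1 (by rw [hc]; exact K.inv_mem hk)
    rw [mem_filter]
    refine ⟨mem_univ _, hH, ?_⟩
    intro hK
    have hK : g⁻¹ * u * g ∈ K := hK
    rcases inv_of_K h hK (inv_iff.1 h2).2 with e | e
    · exact (inv_iff.1 h2).1 e
    · have h3 : (g⁻¹ * u * g) * k * (g⁻¹ * u * g)⁻¹ = k := by
        rw [comm_K h hK hk]; group
      rw [h3] at hc
      have h4 : k * k = 1 := by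
        calc k * k = k * k⁻¹ := by rw [← hc]
          _ = 1 := by group
      rcases inv_of_K h hk h4 with e' | e'
      · exact hk1 e'
      · apply hne
        have : u = g * (g⁻¹ * u * g) * g⁻¹ := by group
        rw [this, e, e']
  · intro a _ b _ e
    simp only at e
    have := mul_right_cancel e
    exact mul_left_cancel this

/-- **Lemma A.** -/
theorem lemmaA {y u : G} (hy : y ∉ calK K) (hy1 : y ≠ 1) (hu : orderOf u = 2)
    (hinv : u * y * u⁻¹ = y⁻¹) :
    (∀ c, Commute c y → u * c * u⁻¹ = c⁻¹) ∧ (∀ c c', Commute c y → Commute c' y → Commute c c') ∧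
      (IP y).card = Nat.card (Subgroup.centralizer ({y} : Set G)) := by
  have hui := inv_eq_self hu
  have huu := (inv_iff.1 hu).2
  have hnorm : ∀ c, Commute c y → Commute (u * c * u⁻¹) y := by
    intro c hc
    have h1 : Commute (u * c * u⁻¹) y⁻¹ := by
      rw [← hinv]
      show u * c * u⁻¹ * (u * y * u⁻¹) = u * y * u⁻¹ * (u * c * u⁻¹)
      calc u * c * u⁻¹ * (u * y * u⁻¹) = u * (c * y) * u⁻¹ := by group
        _ = u * (y * c) * u⁻¹ := by rw [hc.eq]
        _ = u * y * u⁻¹ * (u * c * u⁻¹) := by group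
    have := h1.inv_right
    rwa [inv_inv] at this
  have memC : ∀ c : G, c ∈ Subgroup.centralizer ({y} : Set G) ↔ Commute c y := by
    intro c
    rw [Subgroup.mem_centralizer_singleton_iff]
    exact Iff.rfl
  let φ : ↥(Subgroup.centralizer ({y} : Set G)) →* ↥(Subgroup.centralizer ({y} : Set G)) :=
    { toFun := fun c => ⟨u * c.1 * u⁻¹, (memC _).2 (hnorm c.1 ((memC _).1 c.2))⟩
      map_one' := by apply Subtype.ext; simp
      map_mul' := by
        intro a b
        apply Subtype.ext
        simp only [Subgroup.coe_mul]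
        group }
  have hφ : MonoidHom.FixedPointFree φ := by
    intro c hc
    have h1 : u * c.1 * u⁻¹ = c.1 := congrArg Subtype.val hc
    by_contra hc1
    have hc1' : c.1 ≠ 1 := fun e => hc1 (Subtype.ext e)
    have hcomm : Commute c.1 u := by
      show c.1 * u = u * c.1
      calc c.1 * u = (u * c.1 * u⁻¹) * u := by rw [h1]
        _ = u * c.1 := by group
    exact cent_G0 h hy hy1 ((memC _).1 c.2) (cent_inv_calK h hu hcomm hc1')
  have h2 : Function.Involutive φ := by
    intro c
    apply Subtype.ext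
    show u * (u * c.1 * u⁻¹) * u⁻¹ = c.1
    rw [hui]
    calc u * (u * c.1 * u) * u = (u * u) * c.1 * (u * u) := by group
      _ = c.1 := by rw [huu]; group
  have hA : ∀ c, Commute c y → u * c * u⁻¹ = c⁻¹ := by
    intro c hc
    have := congrFun (hφ.coe_eq_inv_of_involutive h2) ⟨c, (memC _).2 hc⟩
    exact congrArg Subtype.val this
  refine ⟨hA, ?_, ?_⟩
  · intro c c' hc hc'
    have := hφ.commute_all_of_involutive h2 ⟨c, (memC _).2 hc⟩ ⟨c', (memC _).2 hc'⟩
    exact congrArg Subtype.val this
  · rw [card_sub]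
    symm
    apply Finset.card_bij (fun c _ => c * u)
    · intro c hc
      rw [mem_filter, memC] at hc
      have hc := hc.2
      rw [mem_IP]
      have hcu2 : orderOf (c * u) = 2 := by
        rw [inv_iff]
        constructor
        · intro e
          have : u = c⁻¹ := eq_inv_of_mul_eq_one_right e
          exact cent_G0 h hy hy1 hc.inv_left (this ▸ inv_mem_calK h hu)
        · have h3 := hA c hc
          rw [hui] at h3
          calc c * u * (c * u) = c * (u * c * u) := by group
            _ = 1 := by rw [h3]; group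
      refine ⟨hcu2, ?_, ?_⟩
      · calc c * u * y * (c * u)⁻¹ = c * (u * y * u⁻¹) * c⁻¹ := by group
          _ = c * y⁻¹ * c⁻¹ := by rw [hinv]
          _ = y⁻¹ * c * c⁻¹ := by rw [hc.inv_right.eq]
          _ = y⁻¹ := by group
      · intro e
        exact not_inv_of_G0 h hy (e ▸ hcu2)
    · intro a _ b _ e
      exact mul_right_cancel e
    · intro u' hu'
      rw [mem_IP] at hu'
      obtain ⟨hu'2, hinv', -⟩ := hu'
      have h5 : (u' * u) * y * (u' * u)⁻¹ = y := by
        calc (u' * u) * y * (u' * u)⁻¹ = u' * (u * y * u⁻¹) * u'⁻¹ := by group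
          _ = u' * y⁻¹ * u'⁻¹ := by rw [hinv]
          _ = (u' * y * u'⁻¹)⁻¹ := by group
          _ = y := by rw [hinv', inv_inv]
      refine ⟨u' * u, ?_, by rw [mul_assoc, huu, mul_one]⟩
      rw [mem_filter, memC]
      refine ⟨mem_univ _, ?_⟩
      show u' * u * y = y * (u' * u)
      calc u' * u * y = ((u' * u) * y * (u' * u)⁻¹) * (u' * u) := by group
        _ = y * (u' * u) := by rw [h5]

end Hyp

end Cfsg.Agent.Lib.H15.BSWEnd
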