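import Cfsg.Agent.Lib.H15.BSWEnd3
import Cfsg.Agent.Lib.L0.CharOps

set_option autoImplicit false

/-!
helper15: Brauer–Suzuki–Wall (S3282), second half, part 4: the character data turned into
integer data.
-/

namespace Cfsg.Agent.Lib.H15.BSWEnd

open Cfsg.Agent.Lib.H8 Cfsg.Agent.Lib.H15 Finset
open scoped Classical ComplexConjugate

variable {G : Type*} [Group G] [Fintype G]

/-- The integer-valued data extracted from the character `X`. -/
structure XD (K : Subgroup G) (δ : ℤ) (q : ℕ) (ξ : G → ℤ) : Prop where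
  hδ : δ = 1 ∨ δ = -1
  hq : (q : ℤ) = 2 * (Nat.card K : ℤ) + δ
  hG : (Nat.card G : ℤ) = (Nat.card K : ℤ) * q * (q + δ)
  one : ξ 1 = q
  onK : ∀ y ∈ calK K, ξ y = δ
  cls : ∀ g y, ξ (g * y * g⁻¹) = ξ y
  inv : ∀ y, ξ y⁻¹ = ξ y
  sum_zero : ∑ g, ξ g = 0
  sum_sq : ∑ g, ξ g ^ 2 = Nat.card G
  pairs : ∀ y, y ∉ calK K → 2 * ((IP y).card : ℤ) = q * (1 + δ) + (q - 1) * ξ y
  dvd : ∀ U : Subgroup G, (Nat.card U : ℤ) ∣ ∑ g ∈ univ.filter (fun g : G => g ∈ U), ξ g

theorem int_of_integral_rat {z : ℂ} (hz : IsIntegral ℤ z) (r : ℚ) (hr : z = r) :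
    ∃ n : ℤ, z = n := by
  rw [hr] at hz
  have h2 : IsIntegral ℤ r := (isIntegral_algebraMap_iff (algebraMap ℚ ℂ).injective).mp hz
  obtain ⟨n, hn⟩ := IsIntegrallyClosed.isIntegral_iff.mp h2
  exact ⟨n, by rw [hr, ← hn]; simp⟩

variable {t s : G} {K : Subgroup G}

theorem exists_XD (h : BSWHyp t K s) {δ : ℤ} {q : ℕ} {X : G → ℂ} (hd : BSWCharData K δ q X) :
    ∃ ξ : G → ℤ, XD K δ q ξ := by
  obtain ⟨hδ, hq, hG, hX, hX1, hXK, hXN⟩ := hd
  have hchar : Cfsg.IsCharacter G X := Cfsg.Agent.Lib.L0.isCharacter_of_irr hX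
  have hn2 : 2 ≤ Nat.card K := two_le_card_K h
  have hq3 : (3 : ℤ) ≤ q := by
    have : (2 : ℤ) ≤ (Nat.card K : ℤ) := by exact_mod_cast hn2
    rcases hδ with e | e <;> rw [hq, e] <;> linarith
  have hq1 : ((q : ℂ) - 1) ≠ 0 := by
    have : (q : ℂ) - 1 = ((q - 1 : ℤ) : ℂ) := by push_cast; ring
    rw [this]
    have : (q : ℤ) - 1 ≠ 0 := by omega
    exact_mod_cast this
  have hint : ∀ y, ∃ m : ℤ, X y = m := by
    intro y
    by_cases hy : y ∈ calK K
    · obtain ⟨k, hk, hk1, g, rfl⟩ := hy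
      exact ⟨δ, hXK k hk hk1 g⟩
    · have h1 := hXN y (not_mem_calK_iff.1 hy)
      have h2 : conj (X y) = (((2 * (invPairs y : ℚ) - (q : ℚ) * (1 + (δ : ℚ))) / ((q : ℚ) - 1) : ℚ) : ℂ) := by
        push_cast
        rw [eq_div_iff hq1]
        linear_combination -h1
      have h3 : X y = (((2 * (invPairs y : ℚ) - (q : ℚ) * (1 + (δ : ℚ))) / ((q : ℚ) - 1) : ℚ) : ℂ) := by
        have := congrArg conj h2
        rw [Complex.conj_conj] at this
        rw [this, map_ratCast]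
      exact int_of_integral_rat (Cfsg.Agent.Lib.L0.isCharacter_isIntegral hchar y) _ h3
  choose ξ hξ using hint
  have hconjX : ∀ y, conj (X y) = X y := by
    intro y; rw [hξ y, map_intCast]
  have hGne : (Nat.card G : ℂ) ≠ 0 := by
    exact_mod_cast (Nat.card_pos (α := G)).ne'
  refine ⟨ξ, hδ, hq, hG, ?_, ?_, ?_, ?_, ?_, ?_, ?_, ?_⟩
  · have : (ξ 1 : ℂ) = (q : ℂ) := by rw [← hξ 1, hX1]
    exact_mod_cast this
  · rintro y ⟨k, hk, hk1, g, rfl⟩
    have : (ξ (g * k * g⁻¹) : ℂ) = (δ : ℂ) := by rw [← hξ, hXK k hk hk1 g]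
    exact_mod_cast this
  · intro g y
    have h1 := Cfsg.Agent.Lib.L0.isClassFunction_of_isCharacter hchar y g
    have : (ξ (g * y * g⁻¹) : ℂ) = (ξ y : ℂ) := by rw [← hξ, ← hξ, h1]
    exact_mod_cast this
  · intro y
    have h1 := Cfsg.Agent.Lib.L0.isCharacter_apply_inv hchar y
    have : (ξ y⁻¹ : ℂ) = (ξ y : ℂ) := by rw [← hξ, h1, hconjX, hξ]
    exact_mod_cast this
  · have hne : X ≠ (1 : G → ℂ) := by
      intro e
      have := congrFun e 1
      rw [hX1, Pi.one_apply] at this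
      have h3 : (q : ℤ) = 1 := by exact_mod_cast this
      omega
    have h1 := Cfsg.Agent.Lib.L0.irr_classInner_ne hX Cfsg.Agent.Lib.L0.isIrrCharacter_one hne
    unfold Cfsg.classInner at h1
    rw [mul_eq_zero] at h1
    rcases h1 with h1 | h1
    · exact absurd (inv_eq_zero.1 h1) hGne
    · have : ((∑ g, ξ g : ℤ) : ℂ) = 0 := by
        rw [← h1]
        push_cast
        refine Finset.sum_congr rfl fun g _ => ?_
        rw [Pi.one_apply, map_one, mul_one, hξ]
      exact_mod_cast this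
  · have h1 := Cfsg.Agent.Lib.L0.irr_classInner_self hX
    unfold Cfsg.classInner at h1
    have h2 : ∑ g : G, X g * conj (X g) = (Nat.card G : ℂ) := by
      field_simp at h1
      exact h1
    have : ((∑ g, ξ g ^ 2 : ℤ) : ℂ) = ((Nat.card G : ℤ) : ℂ) := by
      push_cast
      rw [← h2]
      refine Finset.sum_congr rfl fun g _ => ?_
      rw [hconjX, hξ]; ring
    exact_mod_cast this
  · intro y hy
    have h1 := hXN y (not_mem_calK_iff.1 hy)
    rw [hconjX, hξ, invPairs_eq_card] at h1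
    exact_mod_cast h1
  · intro U
    obtain ⟨m, hm⟩ := Cfsg.Agent.Lib.L0.classInner_char_irr_nat
      (Cfsg.Agent.Lib.L0.isCharacter_restrict U hchar)
      (Cfsg.Agent.Lib.L0.isIrrCharacter_one (G := U))
    unfold Cfsg.classInner at hm
    have hUne : (Nat.card U : ℂ) ≠ 0 := by
      exact_mod_cast (Nat.card_pos (α := U)).ne'
    have h2 : ∑ u : U, X u = (m : ℂ) * (Nat.card U : ℂ) := by
      have h3 : ∑ u : U, X u = ∑ u : U, X u * conj ((1 : U → ℂ) u) := by
        refine Finset.sum_congr rfl fun u _ => ?_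
        rw [Pi.one_apply, map_one, mul_one]
      rw [h3]
      field_simp at hm
      linear_combination hm
    have h4 : ∑ g ∈ univ.filter (fun g : G => g ∈ U), ξ g = ∑ u : U, ξ u :=
      Finset.sum_subtype _ (fun x => by simp) _
    rw [h4]
    refine ⟨m, ?_⟩
    have : ((∑ u : U, ξ u : ℤ) : ℂ) = (((Nat.card U : ℤ) * (m : ℤ) : ℤ) : ℂ) := by
      push_cast
      rw [mul_comm, ← h2]
      refine Finset.sum_congr rfl fun u _ => ?_
      rw [hξ]
    exact_mod_cast this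

end Cfsg.Agent.Lib.H15.BSWEnd
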