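import Cfsg.Agent.Lib.H15.BSWEnd4

set_option autoImplicit false

/-!
helper15: Brauer–Suzuki–Wall (S3282), second half, part 5: the values of `X` off the conjugates
of `K`; the sets `Z` and `R`.
-/

namespace Cfsg.Agent.Lib.H15.BSWEnd

open Cfsg.Agent.Lib.H8 Cfsg.Agent.Lib.H15 Finset
open scoped Classical

variable {G : Type*} [Group G] [Fintype G]

/-- the elements outside `calK ∪ {1}` where `X` vanishes -/
noncomputable def Zs (K : Subgroup G) (ξ : G → ℤ) : Finset G :=
  univ.filter (fun y : G => y ∉ calK K ∧ y ≠ 1 ∧ ξ y = 0)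

/-- the elements outside `calK ∪ {1}` where `X = -δ` -/
noncomputable def Rs (K : Subgroup G) (δ : ℤ) (ξ : G → ℤ) : Finset G :=
  univ.filter (fun y : G => y ∉ calK K ∧ y ≠ 1 ∧ ξ y = -δ)

theorem mem_Zs {K : Subgroup G} {ξ : G → ℤ} {y : G} :
    y ∈ Zs K ξ ↔ y ∉ calK K ∧ y ≠ 1 ∧ ξ y = 0 := by
  unfold Zs; rw [mem_filter]; simp

theorem mem_Rs {K : Subgroup G} {δ : ℤ} {ξ : G → ℤ} {y : G} :
    y ∈ Rs K δ ξ ↔ y ∉ calK K ∧ y ≠ 1 ∧ ξ y = -δ := by
  unfold Rs; rw [mem_filter]; simp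

theorem int_mul_add_nonneg (x δ : ℤ) (hδ : δ = 1 ∨ δ = -1) : 0 ≤ x * (x + δ) := by
  rcases hδ with rfl | rfl
  · rcases le_or_gt 0 x with hx | hx
    · nlinarith
    · have : x + 1 ≤ 0 := by omega
      nlinarith
  · rcases le_or_gt x 0 with hx | hx
    · nlinarith
    · have : 0 ≤ x + -1 := by omega
      nlinarith

variable {t s : G} {K : Subgroup G} {δ : ℤ} {q : ℕ} {ξ : G → ℤ}

section Hyp

variable (h : BSWHyp t K s) (x : XD K δ q ξ)
include h x

theorem delta_sq : δ * δ = 1 := by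
  rcases x.hδ with e | e <;> rw [e] <;> norm_num

theorem delta_ne_zero : δ ≠ 0 := by
  rcases x.hδ with e | e <;> rw [e] <;> norm_num

theorem n_pos : (0 : ℤ) < (Nat.card K : ℤ) := by
  have := two_le_card_K h
  exact_mod_cast (by omega : 0 < Nat.card K)

theorem two_le_n : (2 : ℤ) ≤ (Nat.card K : ℤ) := by
  exact_mod_cast two_le_card_K h

theorem three_le_q : (3 : ℤ) ≤ (q : ℤ) := by
  have := two_le_n h x
  rcases x.hδ with e | e <;> rw [x.hq, e] <;> linarith

theorem card_calK_int : ((univ.filter (fun y : G => y ∈ calK K)).card : ℤ) * (2 * (Nat.card K : ℤ)) =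
    (Nat.card G : ℤ) * ((Nat.card K : ℤ) - 1) := by
  have h1 := card_calK h
  have h2 : 1 ≤ Nat.card K := by have := two_le_card_K h; omega
  have : ((Nat.card K - 1 : ℕ) : ℤ) = (Nat.card K : ℤ) - 1 := by
    rw [Nat.cast_sub h2]; simp
  rw [← this]
  exact_mod_cast h1

/-- key identity: the sum of `ξ (ξ + δ)` off `calK ∪ {1}` vanishes. -/
theorem sum_rest : ∑ g ∈ (univ.filter (fun y : G => y ∉ calK K)).erase 1, ξ g * (ξ g + δ) = 0 := by
  have hn := n_pos h x
  have htot : ∑ g : G, ξ g * (ξ g + δ) = (Nat.card G : ℤ) := by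
    have : ∀ g : G, ξ g * (ξ g + δ) = ξ g ^ 2 + δ * ξ g := fun g => by ring
    simp only [this]
    rw [Finset.sum_add_distrib, ← Finset.mul_sum, x.sum_zero, x.sum_sq]; ring
  have hsplit := Finset.sum_filter_add_sum_filter_not (univ : Finset G) (fun y : G => y ∈ calK K)
    (fun g => ξ g * (ξ g + δ))
  have hK : ∑ g ∈ univ.filter (fun y : G => y ∈ calK K), ξ g * (ξ g + δ) =
      2 * ((univ.filter (fun y : G => y ∈ calK K)).card : ℤ) := by
    rw [Finset.sum_congr rfl (g := fun _ => (2 : ℤ))]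
    · rw [Finset.sum_const, nsmul_eq_mul]; ring
    · intro g hg
      rw [mem_filter] at hg
      rw [x.onK g hg.2]
      have := delta_sq h x
      linear_combination 2 * this
  have h1mem : (1 : G) ∈ univ.filter (fun y : G => y ∉ calK K) := by
    rw [mem_filter]; exact ⟨mem_univ _, one_not_mem_calK⟩
  have herase := Finset.add_sum_erase (univ.filter (fun y : G => y ∉ calK K))
    (fun g => ξ g * (ξ g + δ)) h1mem
  rw [x.one] at herase
  have hc := card_calK_int h x
  have hG := x.hG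
  have key : (Nat.card K : ℤ) *
      ∑ g ∈ (univ.filter (fun y : G => y ∉ calK K)).erase 1, ξ g * (ξ g + δ) = 0 := by
    have e1 : ∑ g ∈ (univ.filter (fun y : G => y ∉ calK K)).erase 1, ξ g * (ξ g + δ) =
        (Nat.card G : ℤ) - 2 * ((univ.filter (fun y : G => y ∈ calK K)).card : ℤ) -
          (q : ℤ) * ((q : ℤ) + δ) := by
      linarith
    rw [e1]
    linear_combination (-1 : ℤ) * hc + hG
  rcases mul_eq_zero.1 key with e | e
  · omega
  · exact e

theorem xi_cases {y : G} (hy : y ∉ calK K) (hy1 : y ≠ 1) : ξ y = 0 ∨ ξ y = -δ := by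
  have h1 := sum_rest h x
  rw [Finset.sum_eq_zero_iff_of_nonneg (fun g _ => int_mul_add_nonneg (ξ g) δ x.hδ)] at h1
  have hy' : y ∈ (univ.filter (fun y : G => y ∉ calK K)).erase 1 := by
    rw [mem_erase, mem_filter]; exact ⟨hy1, mem_univ _, hy⟩
  rcases mul_eq_zero.1 (h1 y hy') with e | e
  · left; exact e
  · right; linarith

theorem Zs_or_Rs {y : G} (hy : y ∉ calK K) (hy1 : y ≠ 1) : y ∈ Zs K ξ ∨ y ∈ Rs K δ ξ := by
  rcases xi_cases h x hy hy1 with e | e
  · left; exact mem_Zs.2 ⟨hy, hy1, e⟩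
  · right; exact mem_Rs.2 ⟨hy, hy1, e⟩

theorem Zs_Rs_disjoint : Disjoint (Zs K ξ) (Rs K δ ξ) := by
  rw [Finset.disjoint_left]
  intro y hz hr
  have h1 := (mem_Zs.1 hz).2.2
  have h2 := (mem_Rs.1 hr).2.2
  have := delta_ne_zero h x
  rw [h1] at h2
  omega

theorem rest_eq_union : (univ.filter (fun y : G => y ∉ calK K)).erase 1 = Zs K ξ ∪ Rs K δ ξ := by
  ext y
  rw [mem_erase, mem_filter, mem_union]
  constructor
  · rintro ⟨hy1, -, hy⟩
    exact Zs_or_Rs h x hy hy1
  · rintro (hy | hy)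
    · have := mem_Zs.1 hy; exact ⟨this.2.1, mem_univ _, this.1⟩
    · have := mem_Rs.1 hy; exact ⟨this.2.1, mem_univ _, this.1⟩

theorem card_Zs : ((Zs K ξ).card : ℤ) = (q : ℤ) ^ 2 - 1 := by
  have hn := n_pos h x
  have hd2 := delta_sq h x
  -- cardinalities
  have hcard : (Nat.card G : ℤ) = ((univ.filter (fun y : G => y ∈ calK K)).card : ℤ) + 1 +
      ((Zs K ξ).card : ℤ) + ((Rs K δ ξ).card : ℤ) := by
    have h1 := Finset.card_filter_add_card_filter_not (s := (univ : Finset G))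
      (fun y : G => y ∈ calK K)
    have h1mem : (1 : G) ∈ univ.filter (fun y : G => y ∉ calK K) := by
      rw [mem_filter]; exact ⟨mem_univ _, one_not_mem_calK⟩
    have h2 := Finset.card_erase_add_one h1mem
    rw [rest_eq_union h x, Finset.card_union_of_disjoint (Zs_Rs_disjoint h x)] at h2
    rw [Finset.card_univ, ← Nat.card_eq_fintype_card] at h1
    have : Nat.card G = (univ.filter (fun y : G => y ∈ calK K)).card + 1 + (Zs K ξ).card +
        (Rs K δ ξ).card := by omega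
    exact_mod_cast this
  -- the sum of ξ
  have hsum : δ * ((univ.filter (fun y : G => y ∈ calK K)).card : ℤ) + (q : ℤ) -
      δ * ((Rs K δ ξ).card : ℤ) = 0 := by
    have hsplit := Finset.sum_filter_add_sum_filter_not (univ : Finset G) (fun y : G => y ∈ calK K) ξ
    rw [x.sum_zero] at hsplit
    have hK : ∑ g ∈ univ.filter (fun y : G => y ∈ calK K), ξ g =
        δ * ((univ.filter (fun y : G => y ∈ calK K)).card : ℤ) := by
      rw [Finset.sum_congr rfl (g := fun _ => δ)]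
      · rw [Finset.sum_const, nsmul_eq_mul]; ring
      · intro g hg
        rw [mem_filter] at hg
        exact x.onK g hg.2
    have h1mem : (1 : G) ∈ univ.filter (fun y : G => y ∉ calK K) := by
      rw [mem_filter]; exact ⟨mem_univ _, one_not_mem_calK⟩
    have herase := Finset.add_sum_erase (univ.filter (fun y : G => y ∉ calK K)) ξ h1mem
    rw [x.one, rest_eq_union h x, Finset.sum_union (Zs_Rs_disjoint h x)] at herase
    have hZ : ∑ g ∈ Zs K ξ, ξ g = 0 :=
      Finset.sum_eq_zero fun g hg => (mem_Zs.1 hg).2.2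
    have hR : ∑ g ∈ Rs K δ ξ, ξ g = -δ * ((Rs K δ ξ).card : ℤ) := by
      rw [Finset.sum_congr rfl (g := fun _ => -δ)]
      · rw [Finset.sum_const, nsmul_eq_mul]; ring
      · intro g hg; exact (mem_Rs.1 hg).2.2
    rw [hZ, hR] at herase
    linarith
  have hc := card_calK_int h x
  have hG := x.hG
  have key : (Nat.card K : ℤ) * (((Zs K ξ).card : ℤ) - ((q : ℤ) ^ 2 - 1)) = 0 := by
    have hR : ((Rs K δ ξ).card : ℤ) =
        ((univ.filter (fun y : G => y ∈ calK K)).card : ℤ) + δ * q := by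
      linear_combination (-δ) * hsum + (((univ.filter (fun y : G => y ∈ calK K)).card : ℤ) -
        ((Rs K δ ξ).card : ℤ)) * hd2
    have hZ : ((Zs K ξ).card : ℤ) = (Nat.card G : ℤ) - 1 -
        2 * ((univ.filter (fun y : G => y ∈ calK K)).card : ℤ) - δ * q := by
      linarith
    rw [hZ]
    linear_combination (-1 : ℤ) * hc + hG
  rcases mul_eq_zero.1 key with e | e
  · omega
  · linarith

theorem IP_Zs {z : G} (hz : z ∈ Zs K ξ) : 2 * ((IP z).card : ℤ) = (q : ℤ) * (1 + δ) := by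
  have h1 := mem_Zs.1 hz
  have := x.pairs z h1.1
  rw [h1.2.2] at this
  linarith

theorem IP_Rs {d : G} (hd : d ∈ Rs K δ ξ) : ((IP d).card : ℤ) = (Nat.card K : ℤ) + δ := by
  have h1 := mem_Rs.1 hd
  have := x.pairs d h1.1
  rw [h1.2.2, x.hq] at this
  have hd2 := delta_sq h x
  have : 2 * ((IP d).card : ℤ) = 2 * ((Nat.card K : ℤ) + δ) := by
    linear_combination this
  linarith

theorem Zs_conj {z : G} (hz : z ∈ Zs K ξ) (g : G) : g * z * g⁻¹ ∈ Zs K ξ := by
  have h1 := mem_Zs.1 hz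
  refine mem_Zs.2 ⟨fun hc => h1.1 ((calK_conj_iff g).1 hc), ?_, by rw [x.cls]; exact h1.2.2⟩
  intro e
  apply h1.2.1
  have : z = g⁻¹ * (g * z * g⁻¹) * g := by group
  rw [this, e]; group

theorem Zs_inv {z : G} (hz : z ∈ Zs K ξ) : z⁻¹ ∈ Zs K ξ := by
  have h1 := mem_Zs.1 hz
  refine mem_Zs.2 ⟨fun hc => h1.1 (by simpa using calK_inv hc), by simpa using h1.2.1,
    by rw [x.inv]; exact h1.2.2⟩

theorem Rs_conj {z : G} (hz : z ∈ Rs K δ ξ) (g : G) : g * z * g⁻¹ ∈ Rs K δ ξ := by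
  have h1 := mem_Rs.1 hz
  refine mem_Rs.2 ⟨fun hc => h1.1 ((calK_conj_iff g).1 hc), ?_, by rw [x.cls]; exact h1.2.2⟩
  intro e
  apply h1.2.1
  have : z = g⁻¹ * (g * z * g⁻¹) * g := by group
  rw [this, e]; group

end Hyp

end Cfsg.Agent.Lib.H15.BSWEnd
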