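import Cfsg.Agent.Lib.H15.BSWEnd5

set_option autoImplicit false

/-!
helper15: Brauer–Suzuki–Wall (S3282), second half, part 6: centralizers of the elements of `R`
and of `Z`.
-/

namespace Cfsg.Agent.Lib.H15.BSWEnd

open Cfsg.Agent.Lib.H8 Cfsg.Agent.Lib.H15 Finset
open scoped Classical

variable {G : Type*} [Group G] [Fintype G]

theorem memC {y c : G} : c ∈ Subgroup.centralizer ({y} : Set G) ↔ Commute c y := by
  rw [Subgroup.mem_centralizer_singleton_iff]
  exact Iff.rfl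

theorem coprime_sq_sub_one (q : ℕ) (hq : 1 ≤ q) : Nat.Coprime q (q ^ 2 - 1) := by
  apply Nat.Coprime.symm
  rw [Nat.coprime_iff_gcd_eq_one]
  apply Nat.dvd_one.1
  have h1 : Nat.gcd (q ^ 2 - 1) q ∣ q ^ 2 := dvd_pow (Nat.gcd_dvd_right _ _) two_ne_zero
  have h2 : Nat.gcd (q ^ 2 - 1) q ∣ q ^ 2 - 1 := Nat.gcd_dvd_left _ _
  have h3 := Nat.dvd_sub h1 h2
  have : 1 ≤ q ^ 2 := Nat.one_le_pow _ _ hq
  rwa [Nat.sub_sub_self this] at h3

/-- A normal Hall subgroup contains every element whose order is prime to its index. -/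
theorem mem_of_normal_coprime {N : Type*} [Group N] [Finite N] (P : Subgroup N) [P.Normal]
    (y : N) (hc : Nat.Coprime (orderOf y) (Nat.card (N ⧸ P))) : y ∈ P := by
  rw [← QuotientGroup.eq_one_iff]
  rw [← orderOf_eq_one_iff]
  have h1 : orderOf ((QuotientGroup.mk' P) y) ∣ orderOf y := orderOf_map_dvd _ y
  have h2 : orderOf ((QuotientGroup.mk' P) y) ∣ Nat.card (N ⧸ P) := orderOf_dvd_natCard _
  exact Nat.eq_one_of_dvd_coprimes hc h1 h2

variable {t s : G} {K : Subgroup G} {δ : ℤ} {q : ℕ} {ξ : G → ℤ}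

section Hyp

variable (h : BSWHyp t K s) (x : XD K δ q ξ)
include h x

theorem two_card_G_int : 2 * (Nat.card G : ℤ) = (q : ℤ) * ((q : ℤ) ^ 2 - 1) := by
  have h1 := x.hG
  have h2 := x.hq
  have h3 := delta_sq h x
  have hn : 2 * (Nat.card K : ℤ) = (q : ℤ) - δ := by linarith
  calc 2 * (Nat.card G : ℤ) = (2 * (Nat.card K : ℤ)) * q * (q + δ) := by rw [h1]; ring
    _ = ((q : ℤ) - δ) * q * (q + δ) := by rw [hn]
    _ = (q : ℤ) * ((q : ℤ) ^ 2 - δ * δ) := by ring
    _ = (q : ℤ) * ((q : ℤ) ^ 2 - 1) := by rw [h3]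

theorem q_pos : 1 ≤ q := by
  have := three_le_q h x
  omega

theorem two_card_G : 2 * Nat.card G = q * (q ^ 2 - 1) := by
  have h1 := two_card_G_int h x
  have h2 : 1 ≤ q ^ 2 := Nat.one_le_pow _ _ (q_pos h x)
  have : ((q ^ 2 - 1 : ℕ) : ℤ) = (q : ℤ) ^ 2 - 1 := by
    rw [Nat.cast_sub h2]; simp
  rw [← this] at h1
  exact_mod_cast h1

/-- structure of the centralizer of an element of `R` -/
theorem Rs_struct {d : G} (hd : d ∈ Rs K δ ξ) : ∃ u : G, orderOf u = 2 ∧ u * d * u⁻¹ = d⁻¹ ∧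
    (∀ c, Commute c d → u * c * u⁻¹ = c⁻¹) ∧
    (∀ c c', Commute c d → Commute c' d → Commute c c') ∧
    (Nat.card (Subgroup.centralizer ({d} : Set G)) : ℤ) = (Nat.card K : ℤ) + δ := by
  have h1 := mem_Rs.1 hd
  have hN := IP_Rs h x hd
  have hpos : 0 < (IP d).card := by
    have := two_le_n h x
    have : (0 : ℤ) < ((IP d).card : ℤ) := by
      rw [hN]; rcases x.hδ with e | e <;> rw [e] <;> linarith
    exact_mod_cast this
  obtain ⟨u, hu⟩ := Finset.card_pos.1 hpos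
  rw [mem_IP] at hu
  obtain ⟨hA, hB, hC⟩ := lemmaA h h1.1 h1.2.1 hu.1 hu.2.1
  exact ⟨u, hu.1, hu.2.1, hA, hB, by rw [← hC]; exact hN⟩

/-- every non-identity element of the centralizer of an element of `R` lies in `R` -/
theorem Rs_cent {d c : G} (hd : d ∈ Rs K δ ξ) (hc : Commute c d) (hc1 : c ≠ 1) :
    c ∈ Rs K δ ξ := by
  have h1 := mem_Rs.1 hd
  obtain ⟨u, -, -, -, -, hcard⟩ := Rs_struct h x hd
  set Cf := univ.filter (fun g : G => g ∈ Subgroup.centralizer ({d} : Set G)) with hCf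
  have hCfcard : (Cf.card : ℤ) = (Nat.card K : ℤ) + δ := by
    rw [← hcard, card_sub]
  have h1mem : (1 : G) ∈ Cf := by
    rw [hCf, mem_filter]; exact ⟨mem_univ _, Subgroup.one_mem _⟩
  have hmemCf : ∀ g, g ∈ Cf ↔ Commute g d := by
    intro g; rw [hCf, mem_filter, memC]; simp
  have hval : ∀ g ∈ Cf.erase 1, ξ g = 0 ∨ ξ g = -δ := by
    intro g hg
    rw [mem_erase] at hg
    exact xi_cases h x (cent_G0 h h1.1 h1.2.1 ((hmemCf g).1 hg.2)) hg.1
  set A := (Cf.erase 1).filter (fun g => ξ g = -δ) with hA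
  have hsum : ∑ g ∈ Cf, ξ g = (q : ℤ) - δ * (A.card : ℤ) := by
    rw [← Finset.add_sum_erase Cf ξ h1mem, x.one,
      ← Finset.sum_filter_add_sum_filter_not (Cf.erase 1) (fun g => ξ g = -δ) ξ]
    have e1 : ∑ g ∈ (Cf.erase 1).filter (fun g => ξ g = -δ), ξ g = -δ * (A.card : ℤ) := by
      rw [Finset.sum_congr rfl (g := fun _ => -δ)]
      · rw [Finset.sum_const, nsmul_eq_mul]; ring
      · intro g hg; exact (mem_filter.1 hg).2
    have e2 : ∑ g ∈ (Cf.erase 1).filter (fun g => ¬ ξ g = -δ), ξ g = 0 := by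
      apply Finset.sum_eq_zero
      intro g hg
      rw [mem_filter] at hg
      rcases hval g hg.1 with e | e
      · exact e
      · exact absurd e hg.2
    rw [e1, e2]; ring
  have hdvd := x.dvd (Subgroup.centralizer ({d} : Set G))
  rw [hcard] at hdvd
  have hsum' : ∑ g ∈ univ.filter (fun g : G => g ∈ Subgroup.centralizer ({d} : Set G)), ξ g =
      (q : ℤ) - δ * (A.card : ℤ) := hsum
  rw [hsum'] at hdvd
  obtain ⟨k, hk⟩ := hdvd
  have hd2 := delta_sq h x
  have hq := x.hq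
  -- r' divides 1 + a
  have hdvd2 : ((Nat.card K : ℤ) + δ) ∣ 1 + (A.card : ℤ) := by
    refine ⟨δ * (2 - k), ?_⟩
    have : 1 + (A.card : ℤ) = δ * δ * (1 + (A.card : ℤ)) := by rw [hd2, one_mul]
    rw [this]
    linear_combination (-δ) * hk + δ * hq
  have hdA : d ∈ A := by
    rw [hA, mem_filter, mem_erase]
    exact ⟨⟨h1.2.1, (hmemCf d).2 (Commute.refl d)⟩, h1.2.2⟩
  have hApos : 0 < A.card := Finset.card_pos.2 ⟨d, hdA⟩
  have hAle : A.card ≤ (Cf.erase 1).card := Finset.card_le_card (Finset.filter_subset _ _)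
  have herase : (Cf.erase 1).card = Cf.card - 1 := Finset.card_erase_of_mem h1mem
  have hle := Int.le_of_dvd (by positivity) hdvd2
  have hCfpos : 0 < Cf.card := Finset.card_pos.2 ⟨1, h1mem⟩
  have hcardle : (Cf.erase 1).card ≤ A.card := by
    have : (Cf.card : ℤ) ≤ 1 + (A.card : ℤ) := by rw [hCfcard]; exact hle
    have : Cf.card ≤ 1 + A.card := by exact_mod_cast this
    omega
  have hAeq : A = Cf.erase 1 :=
    Finset.eq_of_subset_of_card_le (Finset.filter_subset _ _) hcardle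
  have hcA : c ∈ A := by
    rw [hAeq, mem_erase]; exact ⟨hc1, (hmemCf c).2 hc⟩
  rw [hA, mem_filter] at hcA
  exact mem_Rs.2 ⟨cent_G0 h h1.1 h1.2.1 hc, hc1, hcA.2⟩

theorem Rs_cent_eq {d c : G} (hd : d ∈ Rs K δ ξ) (hc : Commute c d) (hc1 : c ≠ 1) :
    Subgroup.centralizer ({c} : Set G) = Subgroup.centralizer ({d} : Set G) := by
  have hcR := Rs_cent h x hd hc hc1
  obtain ⟨-, -, -, -, hab, hcard⟩ := Rs_struct h x hd
  obtain ⟨-, -, -, -, -, hcard'⟩ := Rs_struct h x hcR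
  have hle : Subgroup.centralizer ({d} : Set G) ≤ Subgroup.centralizer ({c} : Set G) := by
    intro g hg
    rw [memC] at hg ⊢
    exact hab g c hg hc
  symm
  apply eq_of_le_of_card_le' hle
  have : (Nat.card (Subgroup.centralizer ({c} : Set G)) : ℤ) =
      (Nat.card (Subgroup.centralizer ({d} : Set G)) : ℤ) := by rw [hcard, hcard']
  have : Nat.card (Subgroup.centralizer ({c} : Set G)) =
      Nat.card (Subgroup.centralizer ({d} : Set G)) := by exact_mod_cast this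
  omega

theorem Zs_cent {z c : G} (hz : z ∈ Zs K ξ) (hc : Commute c z) (hc1 : c ≠ 1) : c ∈ Zs K ξ := by
  have h1 := mem_Zs.1 hz
  rcases Zs_or_Rs h x (cent_G0 h h1.1 h1.2.1 hc) hc1 with hcZ | hcR
  · exact hcZ
  · exfalso
    have := Rs_cent h x hcR hc.symm h1.2.1
    exact Finset.disjoint_left.1 (Zs_Rs_disjoint h x) hz this

theorem card_dvd_q_of_sub_Zs {U : Subgroup G} (hU : ∀ u ∈ U, u ≠ 1 → u ∈ Zs K ξ) :
    Nat.card U ∣ q := by
  have hdvd := x.dvd U
  have h1mem : (1 : G) ∈ univ.filter (fun g : G => g ∈ U) := by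
    rw [mem_filter]; exact ⟨mem_univ _, U.one_mem⟩
  rw [← Finset.add_sum_erase _ ξ h1mem, x.one] at hdvd
  have e2 : ∑ g ∈ (univ.filter (fun g : G => g ∈ U)).erase 1, ξ g = 0 := by
    apply Finset.sum_eq_zero
    intro g hg
    rw [mem_erase, mem_filter] at hg
    exact (mem_Zs.1 (hU g hg.2.2 hg.1)).2.2
  rw [e2, add_zero] at hdvd
  exact Int.natCast_dvd_natCast.1 hdvd

theorem card_cent_dvd_q {z : G} (hz : z ∈ Zs K ξ) :
    Nat.card (Subgroup.centralizer ({z} : Set G)) ∣ q :=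
  card_dvd_q_of_sub_Zs h x fun u hu hu1 => Zs_cent h x hz (memC.1 hu) hu1

theorem order_dvd_q {z : G} (hz : z ∈ Zs K ξ) : orderOf z ∣ q := by
  rw [← Nat.card_zpowers]
  apply card_dvd_q_of_sub_Zs h x
  intro u hu hu1
  rw [Subgroup.mem_zpowers_iff] at hu
  obtain ⟨k, rfl⟩ := hu
  exact Zs_cent h x hz ((Commute.refl z).zpow_left k) hu1

/-- **(P1)** an element of `Z` normalizing a subgroup of order `q` lies in it. -/
theorem P1 {P : Subgroup G} (hP : Nat.card P = q) {z : G} (hz : z ∈ Zs K ξ)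
    (hzN : z ∈ Subgroup.normalizer (P : Set G)) : z ∈ P := by
  have hle : P ≤ Subgroup.normalizer (P : Set G) := Subgroup.le_normalizer
  have hcardP' : Nat.card (P.subgroupOf (Subgroup.normalizer (P : Set G))) = q := by
    rw [Nat.card_congr (Subgroup.subgroupOfEquivOfLe hle).toEquiv, hP]
  have h1 := Subgroup.card_eq_card_quotient_mul_card_subgroup
    (P.subgroupOf (Subgroup.normalizer (P : Set G)))
  rw [hcardP'] at h1
  have h2 : Nat.card (Subgroup.normalizer (P : Set G)) ∣ Nat.card G := Subgroup.card_subgroup_dvd_card _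
  have h3 := two_card_G h x
  have hq0 : 0 < q := q_pos h x
  have h4 : Nat.card (↥(Subgroup.normalizer (P : Set G)) ⧸
      P.subgroupOf (Subgroup.normalizer (P : Set G))) ∣ q ^ 2 - 1 := by
    have : Nat.card (↥(Subgroup.normalizer (P : Set G)) ⧸
        P.subgroupOf (Subgroup.normalizer (P : Set G))) * q ∣ (q ^ 2 - 1) * q := by
      rw [← h1, mul_comm (q ^ 2 - 1) q, ← h3]
      exact Dvd.dvd.mul_left h2 2
    exact Nat.dvd_of_mul_dvd_mul_right hq0 this
  have hcop : Nat.Coprime (orderOf (⟨z, hzN⟩ : ↥(Subgroup.normalizer (P : Set G))))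
      (Nat.card (↥(Subgroup.normalizer (P : Set G)) ⧸
        P.subgroupOf (Subgroup.normalizer (P : Set G)))) := by
    rw [Subgroup.orderOf_mk]
    exact Nat.Coprime.coprime_dvd_left (order_dvd_q h x hz)
      (Nat.Coprime.coprime_dvd_right h4 (coprime_sq_sub_one q hq0))
  have := mem_of_normal_coprime (P.subgroupOf (Subgroup.normalizer (P : Set G))) ⟨z, hzN⟩ hcop
  rwa [Subgroup.mem_subgroupOf] at this

end Hyp

end Cfsg.Agent.Lib.H15.BSWEnd
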