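import Cfsg.Agent.Lib.H15.BSWEnd6

set_option autoImplicit false

/-!
helper15: Brauer–Suzuki–Wall (S3282), second half, part 7: free conjugation actions, involutions
normalizing subgroups off `calK`, the family of centralizers of the elements of `Z`.
-/

namespace Cfsg.Agent.Lib.H15.BSWEnd

open Cfsg.Agent.Lib.H8 Cfsg.Agent.Lib.H15 Finset
open scoped Classical

variable {G : Type*} [Group G] [Fintype G]

/-- A subgroup acting freely by conjugation on a finite set of subgroups: its order divides the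
size of the set. -/
theorem card_dvd_of_free (Q : Subgroup G) : ∀ (n : ℕ) (S : Finset (Subgroup G)), S.card = n →
    (∀ P ∈ S, ∀ x ∈ Q, cj x P ∈ S) → (∀ P ∈ S, ∀ x ∈ Q, cj x P = P → x = 1) →
    Nat.card Q ∣ S.card := by
  intro n
  induction n using Nat.strong_induction_on with
  | _ n ih =>
    intro S hn hinv hfree
    rcases S.eq_empty_or_nonempty with rfl | ⟨P, hP⟩
    · simp
    · set O := (univ.filter (fun x : G => x ∈ Q)).image (fun x => cj x P) with hO
      have hOS : O ⊆ S := by
        intro P' hP'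
        rw [hO, mem_image] at hP'
        obtain ⟨x, hx, rfl⟩ := hP'
        rw [mem_filter] at hx
        exact hinv P hP x hx.2
      have hOcard : O.card = Nat.card Q := by
        rw [hO, card_sub Q]
        apply Finset.card_image_of_injOn
        intro a ha b hb e
        have ha := (mem_filter.1 (Finset.mem_coe.1 ha)).2
        have hb := (mem_filter.1 (Finset.mem_coe.1 hb)).2
        simp only at e
        have h1 : cj (b⁻¹ * a) P = P := by
          have := congrArg (cj b⁻¹) e
          rwa [cj_cj, cj_cj, inv_mul_cancel, cj_one] at this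
        have := hfree P hP (b⁻¹ * a) (Q.mul_mem (Q.inv_mem hb) ha) h1
        calc a = b * (b⁻¹ * a) := by group
          _ = b := by rw [this, mul_one]
      have hPO : P ∈ O := by
        rw [hO, mem_image]
        exact ⟨1, by rw [mem_filter]; exact ⟨mem_univ _, Q.one_mem⟩, cj_one P⟩
      have hsplit : S.card = (S \ O).card + O.card := (Finset.card_sdiff_add_card_eq_card hOS).symm
      have hlt : (S \ O).card < n := by
        have : 0 < O.card := Finset.card_pos.2 ⟨P, hPO⟩
        omega
      have ih' := ih (S \ O).card hlt (S \ O) rfl ?_ ?_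
      · rw [hsplit, hOcard]
        exact Dvd.dvd.add ih' (dvd_refl _)
      · intro P' hP' x hx
        rw [mem_sdiff] at hP' ⊢
        refine ⟨hinv P' hP'.1 x hx, ?_⟩
        intro hc
        apply hP'.2
        rw [hO, mem_image] at hc ⊢
        obtain ⟨x₀, hx₀, e⟩ := hc
        rw [mem_filter] at hx₀
        refine ⟨x⁻¹ * x₀, by rw [mem_filter]; exact ⟨mem_univ _, Q.mul_mem (Q.inv_mem hx) hx₀.2⟩, ?_⟩
        have := congrArg (cj x⁻¹) e
        rwa [cj_cj, cj_inv_cj] at this
      · intro P' hP' x hx e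
        exact hfree P' (mem_sdiff.1 hP').1 x hx e

theorem cj_centralizer (g z : G) :
    cj g (Subgroup.centralizer ({z} : Set G)) = Subgroup.centralizer ({g * z * g⁻¹} : Set G) := by
  ext c
  rw [mem_cj_iff, memC, memC]
  constructor
  · intro hc
    show c * (g * z * g⁻¹) = g * z * g⁻¹ * c
    have h1 : g⁻¹ * c * g * z = z * (g⁻¹ * c * g) := hc.eq
    calc c * (g * z * g⁻¹) = g * (g⁻¹ * c * g * z) * g⁻¹ := by group
      _ = g * (z * (g⁻¹ * c * g)) * g⁻¹ := by rw [h1]
      _ = g * z * g⁻¹ * c := by group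
  · intro hc
    show g⁻¹ * c * g * z = z * (g⁻¹ * c * g)
    have h1 : c * (g * z * g⁻¹) = g * z * g⁻¹ * c := hc.eq
    calc g⁻¹ * c * g * z = g⁻¹ * (c * (g * z * g⁻¹)) * g := by group
      _ = g⁻¹ * (g * z * g⁻¹ * c) * g := by rw [h1]
      _ = z * (g⁻¹ * c * g) := by group

theorem centralizer_inv (z : G) :
    Subgroup.centralizer ({z⁻¹} : Set G) = Subgroup.centralizer ({z} : Set G) := by
  ext c
  rw [memC, memC]
  constructor
  · intro hc; have := hc.inv_right; rwa [inv_inv] at this
  · intro hc; exact hc.inv_right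

variable {t s : G} {K : Subgroup G} {δ : ℤ} {q : ℕ} {ξ : G → ℤ}

/-- An involution normalizing a subgroup that avoids `calK` inverts it. -/
theorem inverts_of_normalizes (h : BSWHyp t K s) {I : Subgroup G} {u : G} (hu : orderOf u = 2)
    (hn : ∀ c ∈ I, u * c * u⁻¹ ∈ I) (hI : ∀ c ∈ I, c ≠ 1 → c ∉ calK K) :
    ∀ c ∈ I, u * c * u⁻¹ = c⁻¹ := by
  have hui := inv_eq_self hu
  have huu := (inv_iff.1 hu).2
  let φ : ↥I →* ↥I :=
    { toFun := fun c => ⟨u * c.1 * u⁻¹, hn c.1 c.2⟩
      map_one' := by apply Subtype.ext; simp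
      map_mul' := by
        intro a b
        apply Subtype.ext
        simp only [Subgroup.coe_mul]
        group }
  have hφ : MonoidHom.FixedPointFree φ := by
    intro c hc
    have h1 : u * c.1 * u⁻¹ = c.1 := congrArg Subtype.val hc
    by_contra hc1
    have hc1' : c.1 ≠ 1 := fun e => hc1 (Subtype.ext e)
    have hcomm : Commute c.1 u := by
      show c.1 * u = u * c.1
      calc c.1 * u = (u * c.1 * u⁻¹) * u := by rw [h1]
        _ = u * c.1 := by group
    exact hI c.1 c.2 hc1' (cent_inv_calK h hu hcomm hc1')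
  have h2 : Function.Involutive φ := by
    intro c
    apply Subtype.ext
    show u * (u * c.1 * u⁻¹) * u⁻¹ = c.1
    rw [hui]
    calc u * (u * c.1 * u) * u = (u * u) * c.1 * (u * u) := by group
      _ = c.1 := by rw [huu]; group
  intro c hc
  have := congrFun (hφ.coe_eq_inv_of_involutive h2) ⟨c, hc⟩
  exact congrArg Subtype.val this

/-- The family of the centralizers of the elements of `Z`. -/
noncomputable def Fam (K : Subgroup G) (ξ : G → ℤ) : Finset (Subgroup G) :=
  (Zs K ξ).image (fun z => Subgroup.centralizer ({z} : Set G))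

theorem mem_Fam {P : Subgroup G} : P ∈ Fam K ξ ↔ ∃ z ∈ Zs K ξ, Subgroup.centralizer ({z} : Set G) = P := by
  unfold Fam; rw [mem_image]

section Hyp

variable (h : BSWHyp t K s) (x : XD K δ q ξ)
include h x

theorem Fam_conj {P : Subgroup G} (hP : P ∈ Fam K ξ) (g : G) : cj g P ∈ Fam K ξ := by
  obtain ⟨z, hz, rfl⟩ := mem_Fam.1 hP
  exact mem_Fam.2 ⟨g * z * g⁻¹, Zs_conj h x hz g, (cj_centralizer g z).symm⟩

theorem Fam_sub_Zs {P : Subgroup G} (hP : P ∈ Fam K ξ) {c : G} (hc : c ∈ P) (hc1 : c ≠ 1) :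
    c ∈ Zs K ξ := by
  obtain ⟨z, hz, rfl⟩ := mem_Fam.1 hP
  exact Zs_cent h x hz (memC.1 hc) hc1

theorem Fam_avoid {P : Subgroup G} (hP : P ∈ Fam K ξ) {c : G} (hc : c ∈ P) (hc1 : c ≠ 1) :
    c ∉ calK K := (mem_Zs.1 (Fam_sub_Zs h x hP hc hc1)).1

theorem cent_mem_Fam {z : G} (hz : z ∈ Zs K ξ) : Subgroup.centralizer ({z} : Set G) ∈ Fam K ξ :=
  mem_Fam.2 ⟨z, hz, rfl⟩

theorem Zs_nonempty : (Zs K ξ).Nonempty := by
  have h1 := card_Zs h x
  have h2 := three_le_q h x
  have : (0 : ℤ) < ((Zs K ξ).card : ℤ) := by rw [h1]; nlinarith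
  exact Finset.card_pos.1 (by exact_mod_cast this)

end Hyp

end Cfsg.Agent.Lib.H15.BSWEnd
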