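import Cfsg.Agent.Lib.H15.BSWEnd7

set_option autoImplicit false

/-!
helper15: Brauer–Suzuki–Wall (S3282), second half, part 8: the structure of the family `F`;
the case `δ = 1`.
-/

namespace Cfsg.Agent.Lib.H15.BSWEnd

open Cfsg.Agent.Lib.H8 Cfsg.Agent.Lib.H15 Finset
open scoped Classical

variable {G : Type*} [Group G] [Fintype G]

/-- The final structure of the family of centralizers of the elements of `Z`. -/
structure FD (K : Subgroup G) (q : ℕ) (ξ : G → ℤ) : Prop where
  card_F : (Fam K ξ).card = q + 1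
  card_mem : ∀ P ∈ Fam K ξ, Nat.card P = q
  cent : ∀ P ∈ Fam K ξ, ∀ c ∈ P, c ≠ 1 → Subgroup.centralizer ({c} : Set G) = P
  trans : ∀ P ∈ Fam K ξ, ∀ P' ∈ Fam K ξ, ∃ g : G, cj g P = P'

variable {t s : G} {K : Subgroup G} {δ : ℤ} {q : ℕ} {ξ : G → ℤ}

section Hyp

variable (h : BSWHyp t K s) (x : XD K δ q ξ)
include h x

theorem Zs_struct_pos (hδ : δ = 1) {z : G} (hz : z ∈ Zs K ξ) :
    (∀ c c', Commute c z → Commute c' z → Commute c c') ∧
      Nat.card (Subgroup.centralizer ({z} : Set G)) = q := by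
  have h1 := mem_Zs.1 hz
  have hN := IP_Zs h x hz
  rw [hδ] at hN
  have hN' : (IP z).card = q := by
    have : ((IP z).card : ℤ) = (q : ℤ) := by linarith
    exact_mod_cast this
  have hpos : 0 < (IP z).card := by rw [hN']; exact q_pos h x
  obtain ⟨u, hu⟩ := Finset.card_pos.1 hpos
  rw [mem_IP] at hu
  obtain ⟨-, hB, hC⟩ := lemmaA h h1.1 h1.2.1 hu.1 hu.2.1
  exact ⟨hB, by rw [← hC]; exact hN'⟩

theorem cent_eq_pos (hδ : δ = 1) {z c : G} (hz : z ∈ Zs K ξ) (hc : Commute c z) (hc1 : c ≠ 1) :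
    Subgroup.centralizer ({c} : Set G) = Subgroup.centralizer ({z} : Set G) := by
  have hcZ := Zs_cent h x hz hc hc1
  obtain ⟨hab, hcard⟩ := Zs_struct_pos h x hδ hz
  obtain ⟨-, hcard'⟩ := Zs_struct_pos h x hδ hcZ
  have hle : Subgroup.centralizer ({z} : Set G) ≤ Subgroup.centralizer ({c} : Set G) := by
    intro g hg
    rw [memC] at hg ⊢
    exact hab g c hg hc
  symm
  apply eq_of_le_of_card_le' hle
  rw [hcard, hcard']

/-- if every member has order `q` and is the centralizer of each of its non-identity elements,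
the family has `q + 1` members -/
theorem card_Fam_of_cent (hcard : ∀ P ∈ Fam K ξ, Nat.card P = q)
    (hcent : ∀ P ∈ Fam K ξ, ∀ c ∈ P, c ≠ 1 → Subgroup.centralizer ({c} : Set G) = P) :
    (Fam K ξ).card = q + 1 := by
  have h1 : (Zs K ξ).card = ∑ P ∈ Fam K ξ,
      ((Zs K ξ).filter (fun z => Subgroup.centralizer ({z} : Set G) = P)).card := by
    apply Finset.card_eq_sum_card_fiberwise
    intro z hz
    exact Finset.mem_coe.2 (mem_Fam.2 ⟨z, Finset.mem_coe.1 hz, rfl⟩)
  have h2 : ∀ P ∈ Fam K ξ,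
      ((Zs K ξ).filter (fun z => Subgroup.centralizer ({z} : Set G) = P)).card = q - 1 := by
    intro P hP
    have : (Zs K ξ).filter (fun z => Subgroup.centralizer ({z} : Set G) = P) =
        (univ.filter (fun g : G => g ∈ P)).erase 1 := by
      ext z
      rw [mem_filter, mem_erase, mem_filter]
      constructor
      · rintro ⟨hz, rfl⟩
        exact ⟨(mem_Zs.1 hz).2.1, mem_univ _, memC.2 (Commute.refl z)⟩
      · rintro ⟨hz1, -, hzP⟩
        exact ⟨Fam_sub_Zs h x hP hzP hz1, hcent P hP z hzP hz1⟩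
    rw [this, Finset.card_erase_of_mem, ← card_sub, hcard P hP]
    rw [mem_filter]; exact ⟨mem_univ _, P.one_mem⟩
  rw [Finset.sum_const_nat h2] at h1
  have h3 := card_Zs h x
  have hq3 := three_le_q h x
  have hq1 : 1 ≤ q := q_pos h x
  have h4 : ((Zs K ξ).card : ℤ) = ((Fam K ξ).card : ℤ) * ((q : ℤ) - 1) := by
    rw [h1]; push_cast [Nat.cast_sub hq1]; ring
  rw [h3] at h4
  have h5 : ((q : ℤ) - 1) * (((Fam K ξ).card : ℤ) - ((q : ℤ) + 1)) = 0 := by
    linear_combination (-1 : ℤ) * h4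
  rcases mul_eq_zero.1 h5 with e | e
  · omega
  · have : ((Fam K ξ).card : ℤ) = ((q + 1 : ℕ) : ℤ) := by push_cast; linarith
    exact_mod_cast this

/-- transitivity from `P1`, when the members are centralizers of their non-identity elements. -/
theorem trans_of_cent (hcard : ∀ P ∈ Fam K ξ, Nat.card P = q)
    (hcent : ∀ P ∈ Fam K ξ, ∀ c ∈ P, c ≠ 1 → Subgroup.centralizer ({c} : Set G) = P)
    (hF : (Fam K ξ).card = q + 1) :
    ∀ P ∈ Fam K ξ, ∀ P' ∈ Fam K ξ, ∃ g : G, cj g P = P' := by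
  intro Q hQ
  have hq3 := three_le_q h x
  have hq3' : 3 ≤ q := by exact_mod_cast hq3
  set C := (Fam K ξ).filter (fun P => ∃ g : G, cj g Q = P) with hC
  have hQC : Q ∈ C := by rw [hC, mem_filter]; exact ⟨hQ, 1, cj_one Q⟩
  -- the free action on `C \ {Q}`
  have hdvd : Nat.card Q ∣ (C.erase Q).card := by
    apply card_dvd_of_free Q _ (C.erase Q) rfl
    · intro P hP y hy
      rw [mem_erase, hC, mem_filter] at hP ⊢
      obtain ⟨hPQ, hPF, g, rfl⟩ := hP
      refine ⟨?_, Fam_conj h x hPF y, y * g, by rw [cj_cj]⟩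
      intro e
      apply hPQ
      have := congrArg (cj y⁻¹) e
      rw [cj_inv_cj, cj_eq_self_of_mem (Q.inv_mem hy)] at this
      exact this
    · intro P hP y hy e
      rw [mem_erase, hC, mem_filter] at hP
      by_contra hy1
      have hyZ := Fam_sub_Zs h x hQ hy hy1
      have hyN : y ∈ Subgroup.normalizer (P : Set G) := mem_normalizer_iff_cj_eq.2 e
      have hyP := P1 h x (hcard P hP.2.1) hyZ hyN
      apply hP.1
      rw [← hcent P hP.2.1 y hyP hy1, hcent Q hQ y hy hy1]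
  rw [hcard Q hQ] at hdvd
  have hCle : C.card ≤ q + 1 := by rw [← hF]; exact Finset.card_le_card (Finset.filter_subset _ _)
  have hCer : (C.erase Q).card = C.card - 1 := Finset.card_erase_of_mem hQC
  have hCpos : 0 < C.card := Finset.card_pos.2 ⟨Q, hQC⟩
  -- `C` is not `{Q}`
  have hne : C.card ≠ 1 := by
    intro hC1
    -- a second member
    have h2 : 1 < (Fam K ξ).card := by rw [hF]; omega
    obtain ⟨Q', hQ', hne⟩ := Finset.exists_mem_ne h2 Q
    -- Q is normal
    have hnorm : ∀ g : G, cj g Q = Q := by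
      intro g
      have hg : cj g Q ∈ C := by rw [hC, mem_filter]; exact ⟨Fam_conj h x hQ g, g, rfl⟩
      obtain ⟨a, ha⟩ := Finset.card_eq_one.1 hC1
      rw [ha, mem_singleton] at hg hQC
      rw [hg, hQC]
    -- a non-identity element of Q'
    have hQ'card := hcard Q' hQ'
    have : 1 < Nat.card Q' := by rw [hQ'card]; omega
    haveI : Nontrivial Q' := (Finite.one_lt_card_iff_nontrivial).1 this
    obtain ⟨⟨y, hy⟩, hy1⟩ := exists_ne (1 : Q')
    have hy1' : y ≠ 1 := fun e => hy1 (Subtype.ext e)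
    have hyZ := Fam_sub_Zs h x hQ' hy hy1'
    have hyN : y ∈ Subgroup.normalizer (Q : Set G) := mem_normalizer_iff_cj_eq.2 (hnorm y)
    have hyQ := P1 h x (hcard Q hQ) hyZ hyN
    apply hne
    rw [← hcent Q' hQ' y hy hy1', hcent Q hQ y hyQ hy1']
  have hCcard : C.card = q + 1 := by
    obtain ⟨k, hk⟩ := hdvd
    rw [hCer] at hk
    rcases Nat.eq_zero_or_pos k with rfl | hkpos
    · omega
    · have : q ≤ q * k := Nat.le_mul_of_pos_right q hkpos
      omega
  have hCF : C = Fam K ξ := by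
    apply Finset.eq_of_subset_of_card_le (Finset.filter_subset _ _)
    rw [hF, hCcard]
  intro P' hP'
  rw [← hCF, hC, mem_filter] at hP'
  exact hP'.2

theorem FD_of_pos (hδ : δ = 1) : FD K q ξ := by
  have hcard : ∀ P ∈ Fam K ξ, Nat.card P = q := by
    intro P hP
    obtain ⟨z, hz, rfl⟩ := mem_Fam.1 hP
    exact (Zs_struct_pos h x hδ hz).2
  have hcent : ∀ P ∈ Fam K ξ, ∀ c ∈ P, c ≠ 1 → Subgroup.centralizer ({c} : Set G) = P := by
    intro P hP c hc hc1
    obtain ⟨z, hz, rfl⟩ := mem_Fam.1 hP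
    exact cent_eq_pos h x hδ hz (memC.1 hc) hc1
  have hF := card_Fam_of_cent h x hcard hcent
  exact ⟨hF, hcard, hcent, trans_of_cent h x hcard hcent hF⟩

end Hyp

end Cfsg.Agent.Lib.H15.BSWEnd
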