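import Cfsg.Agent.Lib.H15.BSWEnd8

set_option autoImplicit false

/-!
helper15: Brauer–Suzuki–Wall (S3282), second half, part 9: the case `δ = -1`, first part:
the classes of `Z`, the members of `F` have order `q`, transitivity, (P2)–(P5).
-/

namespace Cfsg.Agent.Lib.H15.BSWEnd

open Cfsg.Agent.Lib.H8 Cfsg.Agent.Lib.H15 Finset
open scoped Classical

variable {G : Type*} [Group G] [Fintype G]

theorem double_count {α β : Type*} (s : Finset α) (t : Finset β) (r : α → β → Prop) :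
    ∑ a ∈ s, (t.filter (fun b => r a b)).card = ∑ b ∈ t, (s.filter (fun a => r a b)).card :=
  Finset.sum_card_bipartiteAbove_eq_sum_card_bipartiteBelow r

theorem card_erase_one (P : Subgroup G) :
    ((univ.filter (fun g : G => g ∈ P)).erase 1).card = Nat.card P - 1 := by
  rw [Finset.card_erase_of_mem, ← card_sub]
  rw [mem_filter]; exact ⟨mem_univ _, P.one_mem⟩

variable {t s : G} {K : Subgroup G} {δ : ℤ} {q : ℕ} {ξ : G → ℤ}

/-- the number of members of the family containing `y` -/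
noncomputable def fcnt (K : Subgroup G) (ξ : G → ℤ) (y : G) : ℕ :=
  ((Fam K ξ).filter (fun P => y ∈ P)).card

section Hyp

variable (h : BSWHyp t K s) (x : XD K δ q ξ)
include h x

theorem IP_Zs_neg (hδ : δ = -1) {z : G} (hz : z ∈ Zs K ξ) : IP z = ∅ := by
  have hN := IP_Zs h x hz
  rw [hδ] at hN
  have : ((IP z).card : ℤ) = 0 := by linarith
  exact Finset.card_eq_zero.1 (by exact_mod_cast this)

/-- **(D1)** for `δ = -1` no element of `Z` is conjugate to its inverse. -/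
theorem not_conj_inv (hδ : δ = -1) {z : G} (hz : z ∈ Zs K ξ) (g : G) : g * z * g⁻¹ ≠ z⁻¹ := by
  intro e
  have h1 := mem_Zs.1 hz
  have hgg : Commute (g * g) z := by
    show g * g * z = z * (g * g)
    have e' : g * z⁻¹ * g⁻¹ = z := by
      calc g * z⁻¹ * g⁻¹ = (g * z * g⁻¹)⁻¹ := by group
        _ = z := by rw [e, inv_inv]
    calc g * g * z = g * (g * z * g⁻¹) * g := by group
      _ = g * z⁻¹ * g := by rw [e]
      _ = (g * z⁻¹ * g⁻¹) * (g * g) := by group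
      _ = z * (g * g) := by rw [e']
  have hodd := odd_order_of_cent h h1.1 h1.2.1 hgg
  obtain ⟨j, hj⟩ := hodd
  set u := g ^ (orderOf (g * g)) with hu
  have huu : u * u = 1 := by
    rw [hu, ← pow_add, ← two_mul, pow_mul, pow_two, pow_orderOf_eq_one]
  have hinv : u * z * u⁻¹ = z⁻¹ := by
    have hu' : u = (g * g) ^ j * g := by
      rw [hu, hj, pow_succ, pow_mul, pow_two]
    have hc : Commute ((g * g) ^ j) z⁻¹ := (hgg.pow_left j).inv_right
    rw [hu']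
    calc (g * g) ^ j * g * z * ((g * g) ^ j * g)⁻¹
        = (g * g) ^ j * (g * z * g⁻¹) * ((g * g) ^ j)⁻¹ := by group
      _ = (g * g) ^ j * z⁻¹ * ((g * g) ^ j)⁻¹ := by rw [e]
      _ = z⁻¹ * (g * g) ^ j * ((g * g) ^ j)⁻¹ := by rw [hc.eq]
      _ = z⁻¹ := by group
  have hznot2 : orderOf z ≠ 2 := not_inv_of_G0 h h1.1
  have hu1 : u ≠ 1 := by
    intro e1
    rw [e1] at hinv
    apply hznot2
    rw [inv_iff]
    refine ⟨h1.2.1, ?_⟩
    have : z = z⁻¹ := by simpa using hinv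
    calc z * z = z * z⁻¹ := by rw [← this]
      _ = 1 := by group
  have hu2 : orderOf u = 2 := inv_iff.2 ⟨hu1, huu⟩
  have : u ∈ IP z := mem_IP.2 ⟨hu2, hinv, fun e2 => hznot2 (e2 ▸ hu2)⟩
  rw [IP_Zs_neg h x hδ hz] at this
  exact Finset.notMem_empty _ this

/-- **(D2)** for `δ = -1` the centralizer of an element of `Z` has order `q`, and `Z` consists of
the conjugates of `z` and of `z⁻¹`. -/
theorem card_cent_neg (hδ : δ = -1) {z : G} (hz : z ∈ Zs K ξ) :
    Nat.card (Subgroup.centralizer ({z} : Set G)) = q ∧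
      ∀ z' ∈ Zs K ξ, ∃ g : G, g * z * g⁻¹ = z' ∨ g * z⁻¹ * g⁻¹ = z' := by
  set A := univ.filter (fun y : G => ∃ g : G, g * z * g⁻¹ = y) with hA
  set B := univ.filter (fun y : G => ∃ g : G, g * z⁻¹ * g⁻¹ = y) with hB
  have hAZ : A ⊆ Zs K ξ := by
    intro y hy
    rw [hA, mem_filter] at hy
    obtain ⟨-, g, rfl⟩ := hy
    exact Zs_conj h x hz g
  have hBZ : B ⊆ Zs K ξ := by
    intro y hy
    rw [hB, mem_filter] at hy
    obtain ⟨-, g, rfl⟩ := hy
    exact Zs_conj h x (Zs_inv h x hz) g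
  have hdisj : Disjoint A B := by
    rw [Finset.disjoint_left]
    intro y hyA hyB
    rw [hA, mem_filter] at hyA
    rw [hB, mem_filter] at hyB
    obtain ⟨-, g, rfl⟩ := hyA
    obtain ⟨-, g', e⟩ := hyB
    apply not_conj_inv h x hδ hz (g'⁻¹ * g)
    calc g'⁻¹ * g * z * (g'⁻¹ * g)⁻¹ = g'⁻¹ * (g * z * g⁻¹) * g' := by group
      _ = g'⁻¹ * (g' * z⁻¹ * g'⁻¹) * g' := by rw [e]
      _ = z⁻¹ := by group
  have hAc := card_class_mul z
  have hBc := card_class_mul z⁻¹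
  rw [centralizer_inv] at hBc
  have hcdvd := card_cent_dvd_q h x hz
  have hq0 : 0 < q := q_pos h x
  have hcle : Nat.card (Subgroup.centralizer ({z} : Set G)) ≤ q := Nat.le_of_dvd hq0 hcdvd
  have hunion : (A ∪ B).card = A.card + B.card := Finset.card_union_of_disjoint hdisj
  have hsub : A ∪ B ⊆ Zs K ξ := Finset.union_subset hAZ hBZ
  have hle : A.card + B.card ≤ (Zs K ξ).card := by rw [← hunion]; exact Finset.card_le_card hsub
  have hZcard : (Zs K ξ).card = q ^ 2 - 1 := by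
    have h1 := card_Zs h x
    have h2 : 1 ≤ q ^ 2 := Nat.one_le_pow _ _ hq0
    have : ((q ^ 2 - 1 : ℕ) : ℤ) = (q : ℤ) ^ 2 - 1 := by rw [Nat.cast_sub h2]; simp
    rw [← this] at h1
    exact_mod_cast h1
  have h2G := two_card_G h x
  set c := Nat.card (Subgroup.centralizer ({z} : Set G)) with hc
  have hsum : (A.card + B.card) * c = q * (q ^ 2 - 1) := by
    rw [add_mul, hAc, hBc, ← two_mul, h2G]
  have hq21 : 0 < q ^ 2 - 1 := by
    have := three_le_q h x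
    have h3 : 3 ≤ q := by exact_mod_cast this
    have : 9 ≤ q ^ 2 := by nlinarith
    omega
  have hqc : q ≤ c := by
    have : q * (q ^ 2 - 1) ≤ (q ^ 2 - 1) * c := by
      rw [← hsum]
      exact Nat.mul_le_mul_right c (hZcard ▸ hle)
    rw [mul_comm q] at this
    exact Nat.le_of_mul_le_mul_left this hq21
  have hceq : c = q := le_antisymm hcle hqc
  refine ⟨hceq, ?_⟩
  have hAB : A.card + B.card = q ^ 2 - 1 := by
    rw [hceq, mul_comm] at hsum
    exact Nat.eq_of_mul_eq_mul_left hq0 hsum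
  have hABZ : A ∪ B = Zs K ξ := by
    apply Finset.eq_of_subset_of_card_le hsub
    rw [hunion, hAB, hZcard]
  intro z' hz'
  rw [← hABZ, mem_union, hA, hB, mem_filter, mem_filter] at hz'
  rcases hz' with ⟨-, g, e⟩ | ⟨-, g, e⟩
  · exact ⟨g, Or.inl e⟩
  · exact ⟨g, Or.inr e⟩

theorem card_mem_neg (hδ : δ = -1) {P : Subgroup G} (hP : P ∈ Fam K ξ) : Nat.card P = q := by
  obtain ⟨z, hz, rfl⟩ := mem_Fam.1 hP
  exact (card_cent_neg h x hδ hz).1

theorem trans_neg (hδ : δ = -1) {P P' : Subgroup G} (hP : P ∈ Fam K ξ) (hP' : P' ∈ Fam K ξ) :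
    ∃ g : G, cj g P = P' := by
  obtain ⟨z, hz, rfl⟩ := mem_Fam.1 hP
  obtain ⟨z', hz', rfl⟩ := mem_Fam.1 hP'
  obtain ⟨g, e | e⟩ := (card_cent_neg h x hδ hz).2 z' hz'
  · exact ⟨g, by rw [cj_centralizer, e]⟩
  · exact ⟨g, by rw [← centralizer_inv z, cj_centralizer, e]⟩

/-- **(P2)** for `δ = -1` a member of the family meets its conjugate under an involution trivially. -/
theorem P2 (hδ : δ = -1) {P : Subgroup G} (hP : P ∈ Fam K ξ) {u : G} (hu : orderOf u = 2) :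
    P ⊓ cj u P = ⊥ := by
  rw [Subgroup.eq_bot_iff_forall]
  intro c hc
  by_contra hc1
  have hui := inv_eq_self hu
  have huu := (inv_iff.1 hu).2
  have hnorm : ∀ c ∈ P ⊓ cj u P, u * c * u⁻¹ ∈ P ⊓ cj u P := by
    intro c hc
    rw [Subgroup.mem_inf] at hc ⊢
    refine ⟨?_, conj_mem_cj hc.1⟩
    have := mem_cj_iff.1 hc.2
    rwa [hui] at this ⊢
  have havoid : ∀ c ∈ P ⊓ cj u P, c ≠ 1 → c ∉ calK K := by
    intro c hc hc1
    exact Fam_avoid h x hP (Subgroup.mem_inf.1 hc).1 hc1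
  have hinv := inverts_of_normalizes h hu hnorm havoid c hc
  have hcZ := Fam_sub_Zs h x hP (Subgroup.mem_inf.1 hc).1 hc1
  have hcnot2 : orderOf c ≠ 2 := not_inv_of_G0 h (mem_Zs.1 hcZ).1
  have : u ∈ IP c := mem_IP.2 ⟨hu, hinv, fun e2 => hcnot2 (e2 ▸ hu)⟩
  rw [IP_Zs_neg h x hδ hcZ] at this
  exact Finset.notMem_empty _ this

theorem fcnt_conj (g y : G) : fcnt K ξ (g * y * g⁻¹) = fcnt K ξ y := by
  unfold fcnt
  symm
  apply Finset.card_bij (fun P _ => cj g P)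
  · intro P hP
    rw [mem_filter] at hP ⊢
    exact ⟨Fam_conj h x hP.1 g, conj_mem_cj hP.2⟩
  · intro P _ P' _ e
    have := congrArg (cj g⁻¹) e
    rwa [cj_inv_cj, cj_inv_cj] at this
  · intro P' hP'
    rw [mem_filter] at hP'
    refine ⟨cj g⁻¹ P', ?_, cj_cj_inv P' g⟩
    rw [mem_filter]
    refine ⟨Fam_conj h x hP'.1 g⁻¹, ?_⟩
    rw [mem_cj_iff, inv_inv]
    exact hP'.2

theorem fcnt_inv (y : G) : fcnt K ξ y⁻¹ = fcnt K ξ y := by
  unfold fcnt
  congr 1
  ext P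
  rw [mem_filter, mem_filter, inv_mem_iff]

theorem fcnt_const (hδ : δ = -1) {z z' : G} (hz : z ∈ Zs K ξ) (hz' : z' ∈ Zs K ξ) :
    fcnt K ξ z' = fcnt K ξ z := by
  obtain ⟨g, e | e⟩ := (card_cent_neg h x hδ hz).2 z' hz'
  · rw [← e, fcnt_conj h x]
  · rw [← e, fcnt_conj h x, fcnt_inv h x]

theorem fcnt_one : fcnt K ξ 1 = (Fam K ξ).card := by
  unfold fcnt
  congr 1
  apply Finset.filter_true_of_mem
  intro P _
  exact P.one_mem

theorem fcnt_pos {z : G} (hz : z ∈ Zs K ξ) : 0 < fcnt K ξ z := by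
  unfold fcnt
  apply Finset.card_pos.2
  exact ⟨Subgroup.centralizer ({z} : Set G), by
    rw [mem_filter]; exact ⟨cent_mem_Fam h x hz, memC.2 (Commute.refl z)⟩⟩

/-- `Z ∩ P = P \ {1}` for a member `P`. -/
theorem Zs_filter_mem {P : Subgroup G} (hP : P ∈ Fam K ξ) :
    (Zs K ξ).filter (fun z => z ∈ P) = (univ.filter (fun g : G => g ∈ P)).erase 1 := by
  ext z
  rw [mem_filter, mem_erase, mem_filter]
  constructor
  · rintro ⟨hz, hzP⟩
    exact ⟨(mem_Zs.1 hz).2.1, mem_univ _, hzP⟩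
  · rintro ⟨hz1, -, hzP⟩
    exact ⟨Fam_sub_Zs h x hP hzP hz1, hzP⟩

/-- **(P3)** `|F| (q - 1) = f (q² - 1)`. -/
theorem P3 (hδ : δ = -1) {z : G} (hz : z ∈ Zs K ξ) :
    (Fam K ξ).card * (q - 1) = fcnt K ξ z * (q ^ 2 - 1) := by
  have h1 := double_count (Fam K ξ) (Zs K ξ) (fun P z => z ∈ P)
  have h2 : ∀ P ∈ Fam K ξ, ((Zs K ξ).filter (fun z => z ∈ P)).card = q - 1 := by
    intro P hP
    rw [Zs_filter_mem h x hP, card_erase_one, card_mem_neg h x hδ hP]
  have h3 : ∀ z' ∈ Zs K ξ, ((Fam K ξ).filter (fun P => z' ∈ P)).card = fcnt K ξ z := by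
    intro z' hz'
    exact fcnt_const h x hδ hz hz'
  rw [Finset.sum_const_nat h2, Finset.sum_const_nat h3] at h1
  rw [h1]
  have hq0 : 0 < q := q_pos h x
  have hZcard : (Zs K ξ).card = q ^ 2 - 1 := by
    have h1 := card_Zs h x
    have h2 : 1 ≤ q ^ 2 := Nat.one_le_pow _ _ hq0
    have : ((q ^ 2 - 1 : ℕ) : ℤ) = (q : ℤ) ^ 2 - 1 := by rw [Nat.cast_sub h2]; simp
    rw [← this] at h1
    exact_mod_cast h1
  rw [hZcard, mul_comm]

/-- **(P4)** `∑_{P ∈ F} |Q ∩ P| = |F| + (q - 1) f`. -/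
theorem P4 (hδ : δ = -1) {Q : Subgroup G} (hQ : Q ∈ Fam K ξ) {z : G} (hz : z ∈ Zs K ξ) :
    ∑ P ∈ Fam K ξ, ((univ.filter (fun g : G => g ∈ Q)).filter (fun g => g ∈ P)).card =
      (Fam K ξ).card + (q - 1) * fcnt K ξ z := by
  have h1 := double_count (Fam K ξ) (univ.filter (fun g : G => g ∈ Q)) (fun P g => g ∈ P)
  rw [h1]
  have h1mem : (1 : G) ∈ univ.filter (fun g : G => g ∈ Q) := by
    rw [mem_filter]; exact ⟨mem_univ _, Q.one_mem⟩
  rw [← Finset.add_sum_erase _ _ h1mem]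
  have h2 : ((Fam K ξ).filter (fun P => (1 : G) ∈ P)).card = (Fam K ξ).card := fcnt_one h x
  have h3 : ∀ y ∈ (univ.filter (fun g : G => g ∈ Q)).erase 1,
      ((Fam K ξ).filter (fun P => y ∈ P)).card = fcnt K ξ z := by
    intro y hy
    rw [mem_erase, mem_filter] at hy
    exact fcnt_const h x hδ hz (Fam_sub_Zs h x hQ hy.2.2 hy.1)
  rw [h2, Finset.sum_const_nat h3, card_erase_one, card_mem_neg h x hδ hQ]

/-- **(P5)** `q` divides the number of members meeting `Q` trivially. -/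
theorem P5 (hδ : δ = -1) {Q : Subgroup G} (hQ : Q ∈ Fam K ξ) :
    q ∣ ((Fam K ξ).filter (fun P => Q ⊓ P = ⊥)).card := by
  have := card_dvd_of_free Q _ ((Fam K ξ).filter (fun P => Q ⊓ P = ⊥)) rfl ?_ ?_
  · rwa [card_mem_neg h x hδ hQ] at this
  · intro P hP y hy
    rw [mem_filter] at hP ⊢
    refine ⟨Fam_conj h x hP.1 y, ?_⟩
    rw [Subgroup.eq_bot_iff_forall] at hP ⊢
    intro c hc
    rw [Subgroup.mem_inf, mem_cj_iff] at hc
    have h1 : y⁻¹ * c * y ∈ Q := Q.mul_mem (Q.mul_mem (Q.inv_mem hy) hc.1) hy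
    have h2 := hP.2 (y⁻¹ * c * y) (Subgroup.mem_inf.2 ⟨h1, hc.2⟩)
    calc c = y * (y⁻¹ * c * y) * y⁻¹ := by group
      _ = 1 := by rw [h2]; group
  · intro P hP y hy e
    rw [mem_filter] at hP
    by_contra hy1
    have hyZ := Fam_sub_Zs h x hQ hy hy1
    have hyN : y ∈ Subgroup.normalizer (P : Set G) := mem_normalizer_iff_cj_eq.2 e
    have hyP := P1 h x (card_mem_neg h x hδ hP.1) hyZ hyN
    have : y ∈ Q ⊓ P := Subgroup.mem_inf.2 ⟨hy, hyP⟩
    rw [hP.2, Subgroup.mem_bot] at this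
    exact hy1 this

end Hyp

end Cfsg.Agent.Lib.H15.BSWEnd
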