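import Mathlib

/-!
# Cyclic extensions (helper15)

Given a commutative group `A`, an automorphism `φ` of `A`, `n > 0` and `u : A` with `φ u = u` and
`φ ^ n = 1`, we construct the group `Gam φ n u` containing `A` as a normal subgroup with cyclic
quotient of order `n`, generated over `A` by an element `bt` acting as `φ` on `A` and with
`bt ^ n = u`.  It is realised as a quotient of `A ⋊ ℤ` by the central subgroup generated by
`(u⁻¹, n)`.
-/

set_option autoImplicit false

namespace Cfsg.Agent.Lib.H15.CycExt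

variable {A : Type*} [CommGroup A] (φ : MulAut A) (n : ℕ) (u : A)

/-- The action of `ℤ` through powers of `φ`. -/
def act : Multiplicative ℤ →* MulAut A := zpowersHom (MulAut A) φ

theorem act_ofAdd (k : ℤ) : act φ (Multiplicative.ofAdd k) = φ ^ k := by
  simp [act, zpowersHom_apply]

/-- The big group `A ⋊ ℤ`. -/
abbrev Big := A ⋊[act φ] Multiplicative ℤ

/-- The element `(u⁻¹, n)`. -/
def nu : Big φ := ⟨u⁻¹, Multiplicative.ofAdd (n : ℤ)⟩

theorem zpow_fix {x : A} (hx : φ x = x) (k : ℤ) : (φ ^ k) x = x := by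
  have h1 : φ ∈ MulAction.stabilizer (MulAut A) x := by
    rw [MulAction.mem_stabilizer_iff]
    exact hx
  have h2 := (MulAction.stabilizer (MulAut A) x).zpow_mem h1 k
  rw [MulAction.mem_stabilizer_iff] at h2
  exact h2

theorem act_apply (g : Multiplicative ℤ) : act φ g = φ ^ (Multiplicative.toAdd g) := by
  simp [act, zpowersHom_apply]

theorem nu_central (hu : φ u = u) (hn : φ ^ n = 1) (y : Big φ) : y * nu φ n u = nu φ n u * y := by
  obtain ⟨x, g⟩ := y
  ext
  · simp only [nu, SemidirectProduct.mul_left]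
    rw [act_apply, act_ofAdd, map_inv, zpow_fix φ hu _, zpow_natCast, hn, MulAut.one_apply]
    exact mul_comm _ _
  · simp only [nu, SemidirectProduct.mul_right]
    exact mul_comm (G := Multiplicative ℤ) _ _

/-- The central subgroup generated by `nu`. -/
def NN : Subgroup (Big φ) := Subgroup.zpowers (nu φ n u)

theorem NN_central (hu : φ u = u) (hn : φ ^ n = 1) {z : Big φ} (hz : z ∈ NN φ n u) (y : Big φ) :
    y * z = z * y := by
  obtain ⟨k, rfl⟩ := Subgroup.mem_zpowers_iff.mp hz
  have : Commute y (nu φ n u) := nu_central φ n u hu hn y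
  exact (this.zpow_right k)

/-- The hypotheses packaged as a class-like structure. -/
structure Hyp : Prop where
  hu : φ u = u
  hn : φ ^ n = 1
  npos : 0 < n

variable {φ n u}

theorem NN_normal (h : Hyp φ n u) : (NN φ n u).Normal := by
  constructor
  intro z hz g
  have := NN_central φ n u h.hu h.hn hz g
  rw [this, mul_inv_cancel_right]
  exact hz

instance [hF : Fact (Hyp φ n u)] : (NN φ n u).Normal := NN_normal hF.out

variable (φ n u) in
/-- The cyclic extension: quotient of `A ⋊ ℤ` by `⟨(u⁻¹, n)⟩`. -/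
abbrev Gam [Fact (Hyp φ n u)] : Type _ := Big φ ⧸ NN φ n u

variable [hF : Fact (Hyp φ n u)]

variable (φ n u) in
/-- The quotient map. -/
def qm : Big φ →* Gam φ n u := QuotientGroup.mk' (NN φ n u)

theorem qm_surjective : Function.Surjective (qm φ n u) := QuotientGroup.mk'_surjective _

theorem qm_eq_one_iff (y : Big φ) : qm φ n u y = 1 ↔ y ∈ NN φ n u :=
  QuotientGroup.eq_one_iff y

variable (φ n u) in
/-- The embedding of `A`. -/
def iot : A →* Gam φ n u := (qm φ n u).comp SemidirectProduct.inl

variable (φ n u) in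
/-- The generator of the cyclic quotient. -/
def bt : Gam φ n u := qm φ n u (SemidirectProduct.inr (Multiplicative.ofAdd (1 : ℤ)))

theorem bt_conj (x : A) : bt φ n u * iot φ n u x * (bt φ n u)⁻¹ = iot φ n u (φ x) := by
  have h1 := SemidirectProduct.inl_aut (φ := act φ) (Multiplicative.ofAdd (1 : ℤ)) x
  rw [act_ofAdd, zpow_one] at h1
  simp only [iot, bt, MonoidHom.comp_apply]
  rw [h1]
  simp only [map_mul, map_inv]

omit hF in
theorem nu_right_zpow (k : ℤ) :
    ((nu φ n u) ^ k).right = Multiplicative.ofAdd ((n : ℤ) * k) := by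
  have h1 : ((nu φ n u) ^ k).right = ((nu φ n u).right) ^ k :=
    map_zpow (SemidirectProduct.rightHom (φ := act φ)) (nu φ n u) k
  rw [h1]
  simp only [nu]
  rw [← ofAdd_zsmul, smul_eq_mul, mul_comm]

theorem bt_pow : (bt φ n u) ^ n = iot φ n u u := by
  have h1 : (SemidirectProduct.inr (Multiplicative.ofAdd (1 : ℤ)) : Big φ) ^ n
      = SemidirectProduct.inl u * nu φ n u := by
    rw [← map_pow]
    ext
    · simp only [nu, SemidirectProduct.mul_left, SemidirectProduct.left_inl,
        SemidirectProduct.right_inl, map_one, MulAut.one_apply, SemidirectProduct.left_inr]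
      rw [mul_inv_cancel]
    · simp only [nu, SemidirectProduct.mul_right, SemidirectProduct.right_inl,
        SemidirectProduct.right_inr, one_mul]
      rw [← ofAdd_nsmul]
      simp
  have h2 : qm φ n u (nu φ n u) = 1 := by
    rw [qm_eq_one_iff]
    exact Subgroup.mem_zpowers _
  simp only [bt, iot, MonoidHom.comp_apply]
  rw [← map_pow, h1, map_mul, h2, mul_one]

theorem iot_injective : Function.Injective (iot φ n u) := by
  rw [injective_iff_map_eq_one]
  intro x hx
  simp only [iot, MonoidHom.comp_apply] at hx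
  rw [qm_eq_one_iff] at hx
  obtain ⟨k, hk⟩ := Subgroup.mem_zpowers_iff.mp hx
  have h1 := nu_right_zpow (φ := φ) (n := n) (u := u) k
  rw [hk, SemidirectProduct.right_inl] at h1
  have h2 : (n : ℤ) * k = 0 := by
    have := congrArg Multiplicative.toAdd h1
    rw [toAdd_one, toAdd_ofAdd] at this
    exact this.symm
  have hn0 : (n : ℤ) ≠ 0 := by
    have := hF.out.npos
    exact_mod_cast this.ne'
  have hk0 : k = 0 := by
    rcases mul_eq_zero.mp h2 with h3 | h3
    · exact absurd h3 hn0
    · exact h3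
  rw [hk0, zpow_zero] at hk
  have := congrArg SemidirectProduct.left hk
  simpa using this.symm

theorem exists_rep (y : Gam φ n u) :
    ∃ (x : A) (k : ℕ), k < n ∧ y = iot φ n u x * (bt φ n u) ^ k := by
  obtain ⟨⟨x, g⟩, rfl⟩ := qm_surjective (φ := φ) (n := n) (u := u) y
  set j : ℤ := Multiplicative.toAdd g with hj
  have hn0 : (n : ℤ) ≠ 0 := by
    have := hF.out.npos
    exact_mod_cast this.ne'
  have hnpos : (0 : ℤ) < n := by
    have := hF.out.npos
    exact_mod_cast this
  have hk0 : 0 ≤ j % n := Int.emod_nonneg j hn0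
  have hk1 : j % n < n := Int.emod_lt_of_pos j hnpos
  refine ⟨x * u ^ (j / n), (j % n).toNat, ?_, ?_⟩
  · have : ((j % n).toNat : ℤ) < n := by rw [Int.toNat_of_nonneg hk0]; exact hk1
    exact_mod_cast this
  · have h0 : (SemidirectProduct.inr (Multiplicative.ofAdd (1 : ℤ)) : Big φ) ^ j
        = SemidirectProduct.inr g := by
      rw [← map_zpow, ← ofAdd_zsmul]
      simp [hj]
    have h1 : (⟨x, g⟩ : Big φ) = SemidirectProduct.inl x *
        SemidirectProduct.inr (Multiplicative.ofAdd (1 : ℤ)) ^ j := by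
      rw [h0]
      ext
      · simp
      · simp
    rw [h1, map_mul, map_zpow]
    change iot φ n u x * (bt φ n u) ^ j = _
    have h2 : j = n * (j / n) + (j % n).toNat := by
      rw [Int.toNat_of_nonneg hk0]
      exact (Int.mul_ediv_add_emod j n).symm
    have h3 : (bt φ n u) ^ j = iot φ n u (u ^ (j / n)) * (bt φ n u) ^ (j % n).toNat := by
      conv_lhs => rw [h2]
      rw [zpow_add, zpow_mul, zpow_natCast, zpow_natCast, bt_pow, ← map_zpow]
    rw [h3, map_mul, mul_assoc]

theorem finite_gam [Finite A] : Finite (Gam φ n u) := by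
  let f : A × Fin n → Gam φ n u := fun p => iot φ n u p.1 * (bt φ n u) ^ (p.2 : ℕ)
  apply Finite.of_surjective f
  intro y
  obtain ⟨x, k, hk, rfl⟩ := exists_rep y
  exact ⟨(x, ⟨k, hk⟩), rfl⟩

theorem closure_eq_top :
    Subgroup.closure (Set.range (iot φ n u) ∪ {bt φ n u}) = ⊤ := by
  rw [eq_top_iff]
  intro y _
  obtain ⟨x, k, -, rfl⟩ := exists_rep y
  have hb : bt φ n u ∈ Subgroup.closure (Set.range (iot φ n u) ∪ {bt φ n u}) :=
    Subgroup.subset_closure (Or.inr rfl)
  have hx : iot φ n u x ∈ Subgroup.closure (Set.range (iot φ n u) ∪ {bt φ n u}) :=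
    Subgroup.subset_closure (Or.inl ⟨x, rfl⟩)
  exact Subgroup.mul_mem _ hx (pow_mem hb k)

theorem hom_ext {H : Type*} [Group H] (f g : Gam φ n u →* H)
    (h1 : ∀ x, f (iot φ n u x) = g (iot φ n u x)) (h2 : f (bt φ n u) = g (bt φ n u)) : f = g := by
  have : (⊤ : Subgroup (Gam φ n u)) ≤ f.eqLocus g := by
    rw [← closure_eq_top, Subgroup.closure_le]
    rintro y (⟨x, rfl⟩ | rfl)
    · exact h1 x
    · exact h2
  ext y
  exact this (Subgroup.mem_top y)

section lift

variable {H : Type*} [Group H] (f : A →* H) (b' : H)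

omit hF in
theorem conj_zpow (h1 : ∀ x, b' * f x * b'⁻¹ = f (φ x)) (k : ℤ) (x : A) :
    f ((φ ^ k) x) = b' ^ k * f x * (b' ^ k)⁻¹ := by
  induction k using Int.induction_on generalizing x with
  | zero => simp
  | succ i ih =>
    rw [zpow_add_one, MulAut.mul_apply, ih, ← h1, zpow_add_one]
    group
  | pred i ih =>
    have h3 : ∀ y, f (φ⁻¹ y) = b'⁻¹ * f y * b' := by
      intro y
      have := h1 (φ⁻¹ y)
      rw [MulAut.apply_inv_self] at this
      rw [← this]
      group
    rw [zpow_sub_one, MulAut.mul_apply, ih, h3, zpow_sub_one]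
    group

omit hF in
/-- The lift on the big group. -/
def liftBig (h1 : ∀ x, b' * f x * b'⁻¹ = f (φ x)) : Big φ →* H :=
  SemidirectProduct.lift f (zpowersHom H b') (by
    intro g
    ext x
    simp only [MonoidHom.comp_apply, MulEquiv.coe_toMonoidHom, MulAut.conj_apply]
    rw [act_apply, conj_zpow f b' h1, zpowersHom_apply])

omit hF in
theorem liftBig_nu (h1 : ∀ x, b' * f x * b'⁻¹ = f (φ x)) (h2 : b' ^ n = f u) :
    liftBig f b' h1 (nu φ n u) = 1 := by
  have : nu φ n u = SemidirectProduct.inl u⁻¹ *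
      SemidirectProduct.inr (Multiplicative.ofAdd (n : ℤ)) := by
    ext
    · simp [nu]
    · simp [nu]
  rw [this, map_mul, liftBig, SemidirectProduct.lift_inl, SemidirectProduct.lift_inr,
    zpowersHom_apply, toAdd_ofAdd, zpow_natCast, h2, map_inv, inv_mul_cancel]

/-- The universal property of the cyclic extension. -/
def lift (h1 : ∀ x, b' * f x * b'⁻¹ = f (φ x)) (h2 : b' ^ n = f u) :
    Gam φ n u →* H :=
  QuotientGroup.lift (NN φ n u) (liftBig f b' h1)
    (by
      intro z hz
      obtain ⟨k, rfl⟩ := Subgroup.mem_zpowers_iff.mp hz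
      rw [MonoidHom.mem_ker, map_zpow, liftBig_nu f b' h1 h2, one_zpow])

theorem lift_iot (h1 : ∀ x, b' * f x * b'⁻¹ = f (φ x)) (h2 : b' ^ n = f u)
    (x : A) : lift f b' h1 h2 (iot φ n u x) = f x := by
  simp only [lift, iot, qm, MonoidHom.comp_apply, QuotientGroup.mk'_apply, QuotientGroup.lift_mk,
    liftBig, SemidirectProduct.lift_inl]

theorem lift_bt (h1 : ∀ x, b' * f x * b'⁻¹ = f (φ x)) (h2 : b' ^ n = f u) :
    lift f b' h1 h2 (bt φ n u) = b' := by
  simp only [lift, bt, qm, QuotientGroup.mk'_apply, QuotientGroup.lift_mk, liftBig,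
    SemidirectProduct.lift_inr, zpowersHom_apply, toAdd_ofAdd, zpow_one]

end lift

end Cfsg.Agent.Lib.H15.CycExt
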