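import Mathlib
import Cfsg.Agent.Lib.H15.CycExt

/-!
# The covering group of a metacyclic group (helper15)

Parameters: naturals `d q ρ e l n r`, integers `s k'` with
`r = d ρ + 1`, `e ∣ d`, `e ∣ l`, `1 - s ρ = q k'`, `q e ∣ ∑_{i<n} r^i`.
Put `m = d q`, `Q = q e`, `t = q l`.  We construct a finite group `Gm` generated by `al`, `bt`
with a central element `ww` of order `e` inside the commutator subgroup such that
`al ^ m = ww ^ s`, `bt ^ n = al ^ t`, `bt * al * bt⁻¹ = al ^ r * ww ^ k'`.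
-/

set_option autoImplicit false

namespace Cfsg.Agent.Lib.H15.Beyl

open Cfsg.Agent.Lib.H15

/-- The parameters. -/
structure Par where
  d : ℕ
  q : ℕ
  ρ : ℕ
  e : ℕ
  l : ℕ
  n : ℕ
  r : ℕ
  s : ℤ
  k' : ℤ
  dpos : 0 < d
  qpos : 0 < q
  epos : 0 < e
  npos : 0 < n
  hr : r = d * ρ + 1
  hed : e ∣ d
  hel : e ∣ l
  hs : 1 - s * (ρ : ℤ) = (q : ℤ) * k'
  hS : q * e ∣ ∑ i ∈ Finset.range n, r ^ i

namespace Par

variable (P : Par)

/-- `m = d q`. -/
def m : ℕ := P.d * P.q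

/-- `Q = q e`. -/
def Q : ℕ := P.q * P.e

/-- `t = q l`. -/
def t : ℕ := P.q * P.l

/-- partial geometric sums in `ℤ`. -/
def Si (i : ℕ) : ℤ := ∑ j ∈ Finset.range i, (P.r : ℤ) ^ j

theorem Si_zero : P.Si 0 = 0 := by simp [Si]

theorem Si_succ (i : ℕ) : P.Si (i + 1) = 1 + P.r * P.Si i := by
  simp only [Si]
  rw [Finset.sum_range_succ', Finset.mul_sum, pow_zero, add_comm]
  congr 1
  apply Finset.sum_congr rfl
  intro j _
  rw [pow_succ, mul_comm]

theorem r_sub_one : (P.r : ℤ) - 1 = P.d * P.ρ := by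
  rw [P.hr]; push_cast; ring

theorem geom (i : ℕ) : ((P.r : ℤ) - 1) * P.Si i = (P.r : ℤ) ^ i - 1 := by
  induction i with
  | zero => simp [Si_zero]
  | succ i ih =>
    rw [Si_succ, pow_succ]
    linear_combination (P.r : ℤ) * ih

theorem Q_dvd_S : (P.Q : ℤ) ∣ P.Si P.n := by
  have := P.hS
  have h2 : ((P.q * P.e : ℕ) : ℤ) ∣ ((∑ i ∈ Finset.range P.n, P.r ^ i : ℕ) : ℤ) :=
    Int.natCast_dvd_natCast.mpr this
  simpa [Q, Si] using h2

theorem Q_dvd_m : (P.Q : ℤ) ∣ P.m := by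
  obtain ⟨c, hc⟩ := P.hed
  refine ⟨c, ?_⟩
  simp only [Q, m]
  rw [hc]
  push_cast
  ring

/-- The lattice of relations. -/
def Lam : AddSubgroup (ℤ × ℤ) where
  carrier := {p | ∃ k : ℤ, p.1 = P.d * k ∧ (P.Q : ℤ) ∣ p.2 + P.s * k}
  zero_mem' := ⟨0, by simp, by simp⟩
  add_mem' := by
    rintro a b ⟨k, h1, h2⟩ ⟨k', h1', h2'⟩
    refine ⟨k + k', by simp [h1, h1', mul_add], ?_⟩
    have := dvd_add h2 h2'
    have e1 : (a + b).2 + P.s * (k + k') = a.2 + P.s * k + (b.2 + P.s * k') := by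
      simp only [Prod.snd_add]; ring
    rw [e1]; exact this
  neg_mem' := by
    rintro a ⟨k, h1, h2⟩
    refine ⟨-k, by simp [h1], ?_⟩
    have e1 : (-a).2 + P.s * (-k) = -(a.2 + P.s * k) := by
      simp only [Prod.snd_neg]; ring
    rw [e1]; exact (dvd_neg).mpr h2

theorem mem_Lam {p : ℤ × ℤ} :
    p ∈ P.Lam ↔ ∃ k : ℤ, p.1 = P.d * k ∧ (P.Q : ℤ) ∣ p.2 + P.s * k := Iff.rfl

/-- The abelian group `A` written additively. -/
abbrev A0 : Type := (ℤ × ℤ) ⧸ P.Lam

/-- The endomorphism of `ℤ × ℤ`. -/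
def phi0 : (ℤ × ℤ) →+ (ℤ × ℤ) where
  toFun p := (p.1, p.1 + P.r * p.2)
  map_zero' := by simp
  map_add' := by
    intro a b
    ext
    · simp
    · simp only [Prod.fst_add, Prod.snd_add]; ring

theorem phi0_apply (x y : ℤ) : P.phi0 (x, y) = (x, x + P.r * y) := rfl

theorem key1 : (P.Q : ℤ) ∣ P.d - P.s * (P.r - 1) := by
  have h1 : (P.d : ℤ) - P.s * (P.r - 1) = P.m * P.k' := by
    rw [P.r_sub_one]
    have := P.hs
    simp only [m]
    push_cast
    linear_combination (P.d : ℤ) * this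
  rw [h1]
  exact Dvd.dvd.mul_right P.Q_dvd_m _

theorem phi0_mem {p : ℤ × ℤ} (hp : p ∈ P.Lam) : P.phi0 p ∈ P.Lam := by
  obtain ⟨k, h1, h2⟩ := hp
  refine ⟨k, h1, ?_⟩
  obtain ⟨x, y⟩ := p
  simp only at h1 h2
  simp only [phi0_apply]
  have e1 : x + P.r * y + P.s * k = P.r * (y + P.s * k) + k * (P.d - P.s * (P.r - 1)) := by
    rw [h1]; ring
  rw [e1]
  exact dvd_add (Dvd.dvd.mul_left h2 _) (Dvd.dvd.mul_left P.key1 _)

/-- The endomorphism of `A0`. -/
def phiA : AddMonoid.End P.A0 :=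
  QuotientAddGroup.map P.Lam P.Lam P.phi0 (fun _ hp => P.phi0_mem hp)

theorem phiA_mk (x y : ℤ) :
    P.phiA (QuotientAddGroup.mk (x, y)) = QuotientAddGroup.mk (x, x + P.r * y) := rfl

theorem phiA_pow_mk (i : ℕ) (x y : ℤ) :
    (P.phiA ^ i) (QuotientAddGroup.mk (x, y) : P.A0) =
      QuotientAddGroup.mk (x, P.Si i * x + (P.r : ℤ) ^ i * y) := by
  induction i with
  | zero => simp [Si_zero]
  | succ i ih =>
    rw [pow_succ']
    change P.phiA ((P.phiA ^ i) _) = _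
    rw [ih, phiA_mk, Si_succ, pow_succ]
    congr 2
    ring

theorem mk_eq_mk {p p' : ℤ × ℤ} :
    (QuotientAddGroup.mk p : P.A0) = QuotientAddGroup.mk p' ↔ p - p' ∈ P.Lam := by
  rw [QuotientAddGroup.eq]
  constructor
  · intro h
    have := P.Lam.neg_mem h
    have e1 : -(-p + p') = p - p' := by abel
    rwa [e1] at this
  · intro h
    have := P.Lam.neg_mem h
    have e1 : -(p - p') = -p + p' := by abel
    rwa [e1] at this

theorem phiA_pow_n : P.phiA ^ P.n = 1 := by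
  ext v
  obtain ⟨⟨x, y⟩, rfl⟩ := QuotientAddGroup.mk_surjective v
  rw [phiA_pow_mk, AddMonoid.End.one_apply, mk_eq_mk]
  refine ⟨0, by simp, ?_⟩
  simp only [Prod.snd_sub, mul_zero, add_zero]
  have h1 : P.Si P.n * x + (P.r : ℤ) ^ P.n * y - y = P.Si P.n * (x + (P.r - 1) * y) := by
    have := P.geom P.n
    linear_combination (-y) * this
  rw [h1]
  exact Dvd.dvd.mul_right P.Q_dvd_S _

/-- `phiA` as an additive equivalence. -/
def phiE : P.A0 ≃+ P.A0 :=
  AddMonoidHom.toAddEquiv P.phiA (P.phiA ^ (P.n - 1))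
    (by
      have : P.phiA ^ (P.n - 1) * P.phiA = 1 := by
        rw [← pow_succ, Nat.sub_add_cancel P.npos, phiA_pow_n]
      exact this)
    (by
      have : P.phiA * P.phiA ^ (P.n - 1) = 1 := by
        rw [← pow_succ', Nat.sub_add_cancel P.npos, phiA_pow_n]
      exact this)

theorem phiE_apply (v : P.A0) : P.phiE v = P.phiA v := rfl

/-- The multiplicative version of `A0`. -/
abbrev AM : Type := Multiplicative P.A0

/-- The automorphism. -/
def phiM : MulAut P.AM := AddEquiv.toMultiplicative P.phiE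

theorem phiM_apply (v : P.A0) :
    P.phiM (Multiplicative.ofAdd v) = Multiplicative.ofAdd (P.phiA v) := rfl

theorem phiM_pow_apply (i : ℕ) (v : P.A0) :
    (P.phiM ^ i) (Multiplicative.ofAdd v) = Multiplicative.ofAdd ((P.phiA ^ i) v) := by
  induction i generalizing v with
  | zero => simp
  | succ i ih =>
    rw [pow_succ, MulAut.mul_apply, phiM_apply, ih, pow_succ]
    rfl

theorem phiM_pow_n : P.phiM ^ P.n = 1 := by
  apply MulEquiv.ext
  intro v
  have h1 := P.phiM_pow_apply P.n (Multiplicative.toAdd v)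
  rw [phiA_pow_n] at h1
  exact h1

/-- shorthand for elements of `AM`. -/
def el (x y : ℤ) : P.AM := Multiplicative.ofAdd (QuotientAddGroup.mk (x, y))

theorem el_mul (x y x' y' : ℤ) : P.el x y * P.el x' y' = P.el (x + x') (y + y') := rfl

theorem el_pow (x y : ℤ) (j : ℕ) : P.el x y ^ j = P.el (j * x) (j * y) := by
  induction j with
  | zero =>
    simp only [pow_zero, Nat.cast_zero, zero_mul]
    rfl
  | succ j ih =>
    rw [pow_succ, ih, el_mul]
    congr 1 <;> push_cast <;> ring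

theorem el_inv (x y : ℤ) : (P.el x y)⁻¹ = P.el (-x) (-y) := rfl

theorem el_zpow (x y : ℤ) (j : ℤ) : P.el x y ^ j = P.el (j * x) (j * y) := by
  obtain ⟨k, rfl | rfl⟩ := Int.eq_nat_or_neg j
  · rw [zpow_natCast, el_pow]
  · rw [zpow_neg, zpow_natCast, el_pow, el_inv]
    congr 1 <;> ring

theorem el_eq_iff {x y x' y' : ℤ} :
    P.el x y = P.el x' y' ↔ ∃ k : ℤ, x - x' = P.d * k ∧ (P.Q : ℤ) ∣ y - y' + P.s * k := by
  have : P.el x y = P.el x' y' ↔
      (QuotientAddGroup.mk (x, y) : P.A0) = QuotientAddGroup.mk (x', y') := by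
    constructor
    · intro h; exact Multiplicative.ofAdd.injective h
    · intro h; exact congrArg Multiplicative.ofAdd h
  rw [this, mk_eq_mk, mem_Lam]
  rfl

theorem exists_el (v : P.AM) : ∃ x y, v = P.el x y := by
  obtain ⟨⟨x, y⟩, h⟩ := QuotientAddGroup.mk_surjective (Multiplicative.toAdd v)
  exact ⟨x, y, by rw [el, h]; rfl⟩

theorem phiM_el (x y : ℤ) : P.phiM (P.el x y) = P.el x (x + P.r * y) := rfl

/-- The element `u = t α`. -/
def uu : P.AM := P.el P.t 0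

theorem Q_dvd_t : (P.Q : ℤ) ∣ P.t := by
  obtain ⟨c, hc⟩ := P.hel
  refine ⟨c, ?_⟩
  simp only [Q, t]
  rw [hc]; push_cast; ring

theorem phiM_uu : P.phiM P.uu = P.uu := by
  rw [uu, phiM_el, el_eq_iff]
  refine ⟨0, by simp, ?_⟩
  simp only [mul_zero, add_zero, sub_zero]
  exact P.Q_dvd_t

theorem hyp : CycExt.Hyp P.phiM P.n P.uu := ⟨P.phiM_uu, P.phiM_pow_n, P.npos⟩

instance : Fact (CycExt.Hyp P.phiM P.n P.uu) := ⟨P.hyp⟩

/-- The covering group. -/
abbrev Gm : Type := CycExt.Gam P.phiM P.n P.uu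

instance finite_A0 : Finite P.A0 := by
  let f : Fin P.d × Fin P.Q → P.A0 := fun p => QuotientAddGroup.mk ((p.1 : ℕ), (p.2 : ℕ))
  apply Finite.of_surjective f
  intro v
  obtain ⟨⟨x, y⟩, rfl⟩ := QuotientAddGroup.mk_surjective v
  have hd : (0 : ℤ) < P.d := by exact_mod_cast P.dpos
  have hQ : (0 : ℤ) < P.Q := by
    have : 0 < P.Q := Nat.mul_pos P.qpos P.epos
    exact_mod_cast this
  set i := x % P.d with hi
  set y' := y + P.s * (x / P.d) with hy'
  set j := y' % P.Q with hj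
  have hi0 : 0 ≤ i := Int.emod_nonneg _ hd.ne'
  have hi1 : i < P.d := Int.emod_lt_of_pos _ hd
  have hj0 : 0 ≤ j := Int.emod_nonneg _ hQ.ne'
  have hj1 : j < P.Q := Int.emod_lt_of_pos _ hQ
  refine ⟨(⟨i.toNat, ?_⟩, ⟨j.toNat, ?_⟩), ?_⟩
  · have : (i.toNat : ℤ) < P.d := by rw [Int.toNat_of_nonneg hi0]; exact hi1
    exact_mod_cast this
  · have : (j.toNat : ℤ) < P.Q := by rw [Int.toNat_of_nonneg hj0]; exact hj1
    exact_mod_cast this
  · simp only [f]
    rw [mk_eq_mk, mem_Lam]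
    simp only [Prod.fst_sub, Prod.snd_sub, Int.toNat_of_nonneg hi0, Int.toNat_of_nonneg hj0]
    refine ⟨-(x / P.d), ?_, ?_⟩
    · have := Int.mul_ediv_add_emod x P.d
      rw [hi]; linarith
    · have := Int.mul_ediv_add_emod y' P.Q
      refine ⟨-(y' / P.Q), ?_⟩
      rw [hj]
      rw [hy'] at this ⊢
      linarith

instance : Finite P.AM := inferInstanceAs (Finite P.A0)

instance : Finite P.Gm := CycExt.finite_gam

end Par

end Cfsg.Agent.Lib.H15.Beyl
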