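import Mathlib
import Cfsg.Agent.Lib.H15.BeylA

/-!
# The covering group of a metacyclic group: relations (helper15)
-/

set_option autoImplicit false

namespace Cfsg.Agent.Lib.H15.Beyl

open Cfsg.Agent.Lib.H15
open scoped commutatorElement

namespace Par

variable (P : Par)

/-- The embedding of `A`. -/
def II : P.AM →* P.Gm := CycExt.iot P.phiM P.n P.uu

/-- The generator `α`. -/
def al : P.Gm := P.II (P.el 1 0)

/-- The generator `β`. -/
def bb : P.Gm := CycExt.bt P.phiM P.n P.uu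

/-- The commutator `c`. -/
def cc : P.Gm := P.II (P.el 0 1)

/-- The central element `w = c ^ q`. -/
def ww : P.Gm := P.II (P.el 0 P.q)

theorem II_injective : Function.Injective P.II := CycExt.iot_injective

theorem II_el (x y : ℤ) : P.II (P.el x y) = P.al ^ x * P.cc ^ y := by
  rw [al, cc, ← map_zpow, ← map_zpow, ← map_mul, el_zpow, el_zpow, el_mul]
  congr 2 <;> ring

theorem al_zpow (x : ℤ) : P.al ^ x = P.II (P.el x 0) := by
  rw [al, ← map_zpow, el_zpow]; congr 2 <;> ring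

theorem cc_zpow (x : ℤ) : P.cc ^ x = P.II (P.el 0 x) := by
  rw [cc, ← map_zpow, el_zpow]; congr 2 <;> ring

theorem ww_zpow (x : ℤ) : P.ww ^ x = P.II (P.el 0 (x * P.q)) := by
  rw [ww, ← map_zpow, el_zpow]; congr 2; ring

theorem ww_eq : P.ww = P.cc ^ P.q := by
  rw [← zpow_natCast, cc_zpow, ww]

theorem bb_conj (v : P.AM) : P.bb * P.II v * P.bb⁻¹ = P.II (P.phiM v) := CycExt.bt_conj v

theorem bb_al : P.bb * P.al * P.bb⁻¹ = P.al * P.cc := by
  rw [al, bb_conj, phiM_el, cc, ← map_mul, el_mul]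
  congr 2

theorem cc_eq_comm : P.cc = ⁅P.bb, P.al⁆ := by
  rw [commutatorElement_def, bb_al]
  have : Commute P.al P.cc := by
    rw [al, cc]
    exact (Commute.all (P.el 1 0) (P.el 0 1)).map P.II
  rw [this.eq, mul_inv_cancel_right]

theorem ww_mem_commutator : P.ww ∈ commutator P.Gm := by
  rw [ww_eq]
  apply pow_mem
  rw [cc_eq_comm, commutator_def]
  exact Subgroup.commutator_mem_commutator (Subgroup.mem_top P.bb) (Subgroup.mem_top P.al)

theorem rel3 : P.bb * P.al * P.bb⁻¹ = P.al ^ P.r * P.ww ^ P.k' := by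
  rw [al, bb_conj, phiM_el, ← zpow_natCast, ← al, al_zpow, ww_zpow, ← map_mul, el_mul]
  congr 1
  rw [el_eq_iff]
  refine ⟨-(P.ρ : ℤ), ?_, ?_⟩
  · have := P.r_sub_one
    linarith
  · have := P.hs
    have e1 : (1 : ℤ) + P.r * 0 - (0 + P.k' * P.q) + P.s * (-(P.ρ : ℤ)) = 0 := by
      linarith
    rw [e1]
    exact dvd_zero _

theorem rel1 : P.al ^ P.m = P.ww ^ P.s := by
  rw [← zpow_natCast, al_zpow, ww_zpow]
  congr 1
  rw [el_eq_iff]
  refine ⟨P.q, ?_, ?_⟩
  · simp only [m]; push_cast; ring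
  · have e1 : (0 : ℤ) - P.s * P.q + P.s * P.q = 0 := by ring
    rw [e1]
    exact dvd_zero _

theorem rel2 : P.bb ^ P.n = P.al ^ P.t := by
  rw [bb, CycExt.bt_pow, ← zpow_natCast, al_zpow]
  rfl

theorem bb_ww : P.bb * P.ww * P.bb⁻¹ = P.ww := by
  rw [ww, bb_conj, phiM_el]
  congr 1
  rw [el_eq_iff]
  refine ⟨0, by simp, ?_⟩
  have e1 : (0 : ℤ) + P.r * P.q - P.q + P.s * 0 = P.m * P.ρ := by
    have := P.r_sub_one
    simp only [m]
    push_cast
    linear_combination (P.q : ℤ) * this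
  rw [e1]
  exact Dvd.dvd.mul_right P.Q_dvd_m _

theorem closure_II_bb : Subgroup.closure (Set.range P.II ∪ {P.bb}) = ⊤ :=
  CycExt.closure_eq_top

theorem ww_central : P.ww ∈ Subgroup.center P.Gm := by
  rw [Subgroup.mem_center_iff]
  have h : (⊤ : Subgroup P.Gm) ≤ Subgroup.centralizer {P.ww} := by
    rw [← closure_II_bb, Subgroup.closure_le]
    rintro y (⟨v, rfl⟩ | rfl)
    · rw [SetLike.mem_coe, Subgroup.mem_centralizer_iff]
      intro z hz
      rw [Set.mem_singleton_iff] at hz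
      rw [hz, ww, ← map_mul, ← map_mul, mul_comm]
    · rw [SetLike.mem_coe, Subgroup.mem_centralizer_iff]
      intro z hz
      rw [Set.mem_singleton_iff] at hz
      rw [hz]
      have := P.bb_ww
      calc P.ww * P.bb = (P.bb * P.ww * P.bb⁻¹) * P.bb := by rw [this]
        _ = P.bb * P.ww := by group
  intro g
  have := h (Subgroup.mem_top g)
  rw [Subgroup.mem_centralizer_iff] at this
  exact (this P.ww rfl).symm

theorem ww_zpow_eq_one_iff (j : ℤ) : P.ww ^ j = 1 ↔ (P.e : ℤ) ∣ j := by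
  rw [ww_zpow, ← map_one P.II, P.II_injective.eq_iff]
  have h1 : (1 : P.AM) = P.el 0 0 := rfl
  rw [h1, el_eq_iff]
  have hd : (P.d : ℤ) ≠ 0 := by exact_mod_cast P.dpos.ne'
  have hq : (P.q : ℤ) ≠ 0 := by exact_mod_cast P.qpos.ne'
  constructor
  · rintro ⟨k, h2, h3⟩
    have hk : k = 0 := by
      simp only [sub_zero] at h2
      rcases mul_eq_zero.mp h2.symm with h | h
      · exact absurd h hd
      · exact h
    rw [hk] at h3
    simp only [sub_zero, mul_zero, add_zero, Q] at h3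
    push_cast at h3
    have h4 : (P.q : ℤ) * P.e ∣ P.q * j := by rwa [mul_comm j] at h3
    exact Int.dvd_of_mul_dvd_mul_left hq h4
  · rintro ⟨c, rfl⟩
    refine ⟨0, by simp, ?_⟩
    simp only [sub_zero, mul_zero, add_zero, Q]
    push_cast
    exact ⟨c, by ring⟩

theorem orderOf_ww : orderOf P.ww = P.e := by
  apply Nat.dvd_antisymm
  · apply orderOf_dvd_of_pow_eq_one
    rw [← zpow_natCast, ww_zpow_eq_one_iff]
  · have h1 : P.ww ^ ((orderOf P.ww : ℕ) : ℤ) = 1 := by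
      rw [zpow_natCast, pow_orderOf_eq_one]
    rw [ww_zpow_eq_one_iff] at h1
    exact Int.natCast_dvd_natCast.mp h1

theorem dvd_of_al_zpow_mem {j : ℤ} (h : P.al ^ j ∈ Subgroup.zpowers P.ww) : (P.m : ℤ) ∣ j := by
  obtain ⟨i, hi⟩ := Subgroup.mem_zpowers_iff.mp h
  rw [al_zpow, ww_zpow, P.II_injective.eq_iff, el_eq_iff] at hi
  obtain ⟨k, h1, h2⟩ := hi
  simp only [sub_zero, zero_sub] at h1 h2
  have hqQ : (P.q : ℤ) ∣ P.Q := by
    simp only [Q]; push_cast; exact Dvd.intro _ rfl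
  have h3 : (P.q : ℤ) ∣ i * P.q + P.s * k := dvd_trans hqQ h2
  have h4 : (P.q : ℤ) ∣ P.s * k := by
    have := dvd_sub h3 (Dvd.intro_left i rfl : (P.q : ℤ) ∣ i * P.q)
    simpa using this
  have h5 : (P.q : ℤ) ∣ k := by
    have e1 : k = (P.ρ : ℤ) * (P.s * k) + P.q * (k * P.k') := by
      have := P.hs
      linear_combination k * this
    rw [e1]
    exact dvd_add (Dvd.dvd.mul_left h4 _) (Dvd.intro _ rfl)
  obtain ⟨c, hc⟩ := h5
  refine ⟨-c, ?_⟩
  have h6 : j = -(P.d * k) := by rw [← h1]; ring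
  rw [h6, hc]
  simp only [m]
  push_cast
  ring

theorem closure_al_bb : Subgroup.closure ({P.al, P.bb} : Set P.Gm) = ⊤ := by
  rw [eq_top_iff, ← closure_II_bb, Subgroup.closure_le]
  have ha : P.al ∈ Subgroup.closure ({P.al, P.bb} : Set P.Gm) :=
    Subgroup.subset_closure (by simp)
  have hb : P.bb ∈ Subgroup.closure ({P.al, P.bb} : Set P.Gm) :=
    Subgroup.subset_closure (by simp)
  have hc : P.cc ∈ Subgroup.closure ({P.al, P.bb} : Set P.Gm) := by
    rw [cc_eq_comm, commutatorElement_def]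
    exact Subgroup.mul_mem _ (Subgroup.mul_mem _ (Subgroup.mul_mem _ hb ha)
      (Subgroup.inv_mem _ hb)) (Subgroup.inv_mem _ ha)
  rintro y (⟨v, rfl⟩ | rfl)
  · obtain ⟨x, y, rfl⟩ := P.exists_el v
    rw [SetLike.mem_coe, II_el]
    exact Subgroup.mul_mem _ (Subgroup.zpow_mem _ ha x) (Subgroup.zpow_mem _ hc y)
  · exact hb

theorem hom_ext2 {H : Type*} [Group H] (f g : P.Gm →* H) (h1 : f P.al = g P.al)
    (h2 : f P.bb = g P.bb) : f = g := by
  have : (⊤ : Subgroup P.Gm) ≤ f.eqLocus g := by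
    rw [← closure_al_bb, Subgroup.closure_le]
    rintro y (rfl | rfl)
    · exact h1
    · exact h2
  ext y
  exact this (Subgroup.mem_top y)

section lift

variable {H : Type*} [Group H] (a' b' : H)

/-- The linear form `(x, y) ↦ x + (r - 1) y`. -/
def lin : (ℤ × ℤ) →+ ℤ where
  toFun p := p.1 + ((P.r : ℤ) - 1) * p.2
  map_zero' := by simp
  map_add' := by
    intro a b
    simp only [Prod.fst_add, Prod.snd_add]; ring

theorem m_dvd_lin {p : ℤ × ℤ} (hp : p ∈ P.Lam) : (P.m : ℤ) ∣ P.lin p := by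
  obtain ⟨k, h1, c, h2⟩ := hp
  obtain ⟨x, y⟩ := p
  simp only at h1 h2
  change (P.m : ℤ) ∣ x + ((P.r : ℤ) - 1) * y
  have e1 : x + ((P.r : ℤ) - 1) * y = P.m * (k * P.k' + P.ρ * P.e * c) := by
    have h3 := P.hs
    have h4 := P.r_sub_one
    have h5 : y = P.Q * c - P.s * k := by linarith
    rw [h1, h5, h4]
    simp only [m, Q]
    push_cast
    linear_combination (P.d : ℤ) * k * h3
  rw [e1]
  exact Dvd.intro _ rfl

/-- The additive map `A0 → Additive H`. -/
def f0 (ha : a' ^ P.m = 1) : P.A0 →+ Additive H :=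
  QuotientAddGroup.lift P.Lam
    ((zmultiplesHom (Additive H) (Additive.ofMul a')).comp P.lin)
    (by
      intro p hp
      obtain ⟨c, hc⟩ := P.m_dvd_lin hp
      have : P.m • Additive.ofMul a' = 0 := by
        rw [← ofMul_pow, ha, ofMul_one]
      rw [AddMonoidHom.mem_ker, AddMonoidHom.comp_apply, zmultiplesHom_apply, hc, mul_comm,
        mul_zsmul, natCast_zsmul, this, smul_zero])

/-- The multiplicative map `AM → H`. -/
def fM (ha : a' ^ P.m = 1) : P.AM →* H := AddMonoidHom.toMultiplicativeLeft (P.f0 a' ha)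

theorem fM_el (ha : a' ^ P.m = 1) (x y : ℤ) :
    P.fM a' ha (P.el x y) = a' ^ (x + ((P.r : ℤ) - 1) * y) := by
  change Additive.toMul ((x + ((P.r : ℤ) - 1) * y) • Additive.ofMul a') = _
  rw [← ofMul_zpow, toMul_ofMul]

theorem fM_conj (ha : a' ^ P.m = 1) (hab : b' * a' * b'⁻¹ = a' ^ P.r) (v : P.AM) :
    b' * P.fM a' ha v * b'⁻¹ = P.fM a' ha (P.phiM v) := by
  obtain ⟨x, y, rfl⟩ := P.exists_el v
  rw [phiM_el, fM_el, fM_el]
  have h1 : ∀ j : ℤ, b' * a' ^ j * b'⁻¹ = (a' ^ P.r) ^ j := by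
    intro j
    rw [← hab, conj_zpow]
  rw [h1, ← zpow_natCast, ← zpow_mul]
  congr 1
  ring

theorem fM_uu (ha : a' ^ P.m = 1) (hb : b' ^ P.n = a' ^ P.t) : b' ^ P.n = P.fM a' ha P.uu := by
  rw [uu, fM_el, hb, ← zpow_natCast]
  congr 1
  ring

/-- The homomorphism out of the covering group. -/
def sig (ha : a' ^ P.m = 1) (hab : b' * a' * b'⁻¹ = a' ^ P.r) (hb : b' ^ P.n = a' ^ P.t) :
    P.Gm →* H :=
  CycExt.lift (P.fM a' ha) b' (P.fM_conj a' b' ha hab) (P.fM_uu a' b' ha hb)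

theorem sig_al (ha : a' ^ P.m = 1) (hab : b' * a' * b'⁻¹ = a' ^ P.r) (hb : b' ^ P.n = a' ^ P.t) :
    P.sig a' b' ha hab hb P.al = a' := by
  rw [sig, al, II, CycExt.lift_iot, fM_el]
  simp

theorem sig_bb (ha : a' ^ P.m = 1) (hab : b' * a' * b'⁻¹ = a' ^ P.r) (hb : b' ^ P.n = a' ^ P.t) :
    P.sig a' b' ha hab hb P.bb = b' := by
  rw [sig, bb, CycExt.lift_bt]

theorem sig_ww (ha : a' ^ P.m = 1) (hab : b' * a' * b'⁻¹ = a' ^ P.r) (hb : b' ^ P.n = a' ^ P.t) :
    P.sig a' b' ha hab hb P.ww = 1 := by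
  rw [sig, ww, II, CycExt.lift_iot, fM_el]
  have e1 : (0 : ℤ) + ((P.r : ℤ) - 1) * P.q = P.m * P.ρ := by
    have := P.r_sub_one
    simp only [m]; push_cast
    linear_combination (P.q : ℤ) * this
  rw [e1, zpow_mul, zpow_natCast, zpow_natCast, ha, one_pow]

end lift

end Par

end Cfsg.Agent.Lib.H15.Beyl
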