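import Mathlib

/-!
# Upper bound for stem extensions of metacyclic groups (helper15)

Abstract computation: in a group `Γ` with a central subgroup `K` and elements `α`, `β` such that
modulo `K` we have `α ^ m = 1`, `β ^ n = α ^ t`, `β α β⁻¹ = α ^ r`, the commutator
`c = β α β⁻¹ α⁻¹` satisfies `c ^ m = c ^ S = c ^ t = 1` (`S = ∑_{i<n} r^i`) and, if `Γ` is generated
by `α`, `β` and `K`, the commutator subgroup of `Γ` is the cyclic group generated by `c`.
-/

set_option autoImplicit false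

namespace Cfsg.Agent.Lib.H15.BeylC

open scoped commutatorElement

variable {Γ : Type*} [Group Γ] (K : Subgroup Γ) (α β : Γ) (m n r t : ℕ)

/-- The hypotheses. -/
structure Hyp : Prop where
  hK : K ≤ Subgroup.center Γ
  hr : 0 < r
  h1 : β * α * β⁻¹ * (α ^ r)⁻¹ ∈ K
  h2 : α ^ m ∈ K
  h3 : β ^ n * (α ^ t)⁻¹ ∈ K

variable {K α β m n r t}

namespace Hyp

variable (h : Hyp K α β m n r t)
include h

theorem central {z : Γ} (hz : z ∈ K) (g : Γ) : Commute z g := by
  have := Subgroup.mem_center_iff.mp (h.hK hz) g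
  exact this.symm

/-- `β α β⁻¹ = z₁ α^r`. -/
theorem conj_eq : β * α * β⁻¹ = (β * α * β⁻¹ * (α ^ r)⁻¹) * α ^ r := by group

theorem conj_pow_eq (k : ℕ) :
    β * α ^ k * β⁻¹ = (β * α * β⁻¹ * (α ^ r)⁻¹) ^ k * α ^ (r * k) := by
  have e1 : β * α ^ k * β⁻¹ = (β * α * β⁻¹) ^ k := (conj_pow (a := β) (b := α) (i := k)).symm
  rw [e1]
  conv_lhs => rw [h.conj_eq]
  rw [(h.central h.h1 (α ^ r)).mul_pow, ← pow_mul]

/-- the commutator `c = β α β⁻¹ α⁻¹ = z₁ α^(r-1)`. -/
theorem c_eq : β * α * β⁻¹ * α⁻¹ = (β * α * β⁻¹ * (α ^ r)⁻¹) * α ^ (r - 1) := by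
  have hr := h.hr
  obtain ⟨r', rfl⟩ : ∃ r', r = r' + 1 := ⟨r - 1, by omega⟩
  simp only [Nat.add_sub_cancel]
  rw [pow_succ]
  group

theorem c_pow (k : ℕ) :
    (β * α * β⁻¹ * α⁻¹) ^ k = (β * α * β⁻¹ * (α ^ r)⁻¹) ^ k * α ^ ((r - 1) * k) := by
  rw [h.c_eq, (h.central h.h1 (α ^ (r - 1))).mul_pow, ← pow_mul]

theorem c_comm_al : Commute α (β * α * β⁻¹ * α⁻¹) := by
  rw [h.c_eq]
  exact ((h.central h.h1 α).symm).mul_right (Commute.pow_right (Commute.refl α) _)

/-- If `β` commutes with `α ^ k` then `c ^ k = 1`. -/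
theorem c_pow_eq_one {k : ℕ} (hk : Commute β (α ^ k)) : (β * α * β⁻¹ * α⁻¹) ^ k = 1 := by
  have e1 : β * α ^ k * β⁻¹ = α ^ k := by
    rw [hk.eq, mul_inv_cancel_right]
  rw [h.conj_pow_eq] at e1
  rw [h.c_pow]
  have hr := h.hr
  have e2 : r * k = (r - 1) * k + k := by
    obtain ⟨r', rfl⟩ : ∃ r', r = r' + 1 := ⟨r - 1, by omega⟩
    simp only [Nat.add_sub_cancel]; ring
  rw [e2, pow_add, ← mul_assoc] at e1
  exact mul_eq_right.mp e1

theorem c_pow_m : (β * α * β⁻¹ * α⁻¹) ^ m = 1 :=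
  h.c_pow_eq_one (h.central h.h2 β).symm

theorem be_comm_al_t : Commute β (α ^ t) := by
  -- α^t = z₃⁻¹ β^n
  have e1 : α ^ t = (β ^ n * (α ^ t)⁻¹)⁻¹ * β ^ n := by group
  rw [e1]
  exact ((h.central (K.inv_mem h.h3) β).symm).mul_right (Commute.pow_right (Commute.refl β) _)

theorem c_pow_t : (β * α * β⁻¹ * α⁻¹) ^ t = 1 :=
  h.c_pow_eq_one h.be_comm_al_t

/-- conjugating `α` by `β ^ i`. -/
theorem conj_iter (i : ℕ) :
    β ^ i * α * (β ^ i)⁻¹ =
      (β * α * β⁻¹ * (α ^ r)⁻¹) ^ (∑ j ∈ Finset.range i, r ^ j) * α ^ (r ^ i) := by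
  induction i with
  | zero => simp
  | succ i ih =>
    have e1 : β ^ (i + 1) * α * (β ^ (i + 1))⁻¹ = β * (β ^ i * α * (β ^ i)⁻¹) * β⁻¹ := by
      rw [pow_succ']; group
    rw [e1, ih]
    set z := β * α * β⁻¹ * (α ^ r)⁻¹ with hz
    have hzc : ∀ g, Commute z g := fun g => h.central h.h1 g
    have e2 : β * (z ^ (∑ j ∈ Finset.range i, r ^ j) * α ^ r ^ i) * β⁻¹ =
        z ^ (∑ j ∈ Finset.range i, r ^ j) * (β * α ^ r ^ i * β⁻¹) := by
      have := ((hzc β).pow_left (∑ j ∈ Finset.range i, r ^ j)).eq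
      calc β * (z ^ (∑ j ∈ Finset.range i, r ^ j) * α ^ r ^ i) * β⁻¹
          = (β * z ^ (∑ j ∈ Finset.range i, r ^ j)) * α ^ r ^ i * β⁻¹ := by group
        _ = (z ^ (∑ j ∈ Finset.range i, r ^ j) * β) * α ^ r ^ i * β⁻¹ := by rw [this]
        _ = _ := by group
    rw [e2, h.conj_pow_eq, ← mul_assoc, ← pow_add, Finset.sum_range_succ, pow_succ']

theorem geom_nat (hr : 0 < r) (i : ℕ) : (r - 1) * (∑ j ∈ Finset.range i, r ^ j) + 1 = r ^ i := by
  obtain ⟨r', rfl⟩ : ∃ r', r = r' + 1 := ⟨r - 1, by omega⟩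
  simp only [Nat.add_sub_cancel]
  induction i with
  | zero => simp
  | succ i ih =>
    rw [Finset.sum_range_succ, mul_add, pow_succ]
    have : r' * ∑ j ∈ Finset.range i, (r' + 1) ^ j = (r' + 1) ^ i - 1 := by omega
    have hpos : 0 < (r' + 1) ^ i := pow_pos (by omega) _
    rw [this]
    have e : (r' + 1) ^ i * (r' + 1) = r' * (r' + 1) ^ i + (r' + 1) ^ i := by ring
    rw [e]
    omega

theorem c_pow_S : (β * α * β⁻¹ * α⁻¹) ^ (∑ j ∈ Finset.range n, r ^ j) = 1 := by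
  -- β^n commutes with α
  have hc : Commute (β ^ n) α := by
    have e1 : β ^ n = (β ^ n * (α ^ t)⁻¹) * α ^ t := by group
    rw [e1]
    exact (h.central h.h3 α).mul_left (Commute.pow_left (Commute.refl α) _)
  have e2 : β ^ n * α * (β ^ n)⁻¹ = α := by rw [hc.eq, mul_inv_cancel_right]
  rw [h.conj_iter] at e2
  rw [h.c_pow]
  have e3 := geom_nat h h.hr n
  rw [← e3, pow_succ, ← mul_assoc] at e2
  exact mul_eq_right.mp e2

/-- `β c β⁻¹ = c ^ r`. -/
theorem be_conj_c : β * (β * α * β⁻¹ * α⁻¹) * β⁻¹ = (β * α * β⁻¹ * α⁻¹) ^ r := by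
  rw [h.c_pow]
  conv_lhs => rw [h.c_eq]
  set z := β * α * β⁻¹ * (α ^ r)⁻¹ with hz
  have hzc : ∀ g, Commute z g := fun g => h.central h.h1 g
  have e1 : β * (z * α ^ (r - 1)) * β⁻¹ = z * (β * α ^ (r - 1) * β⁻¹) := by
    calc β * (z * α ^ (r - 1)) * β⁻¹ = (β * z) * α ^ (r - 1) * β⁻¹ := by group
      _ = (z * β) * α ^ (r - 1) * β⁻¹ := by rw [(hzc β).eq]
      _ = _ := by group
  rw [e1, h.conj_pow_eq, ← mul_assoc, ← pow_succ']
  have hr := h.hr
  have e2 : r - 1 + 1 = r := by omega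
  rw [e2, mul_comm r (r - 1)]

theorem be_conj_c_pow (j : ℕ) :
    β * (β * α * β⁻¹ * α⁻¹) ^ j * β⁻¹ = (β * α * β⁻¹ * α⁻¹) ^ (r * j) := by
  rw [← conj_pow, h.be_conj_c, ← pow_mul]

/-- `β⁻¹ c β` is a power of `c`. -/
theorem be_inv_conj_c (hn : 0 < n) (hrn : r ^ n ≡ 1 [MOD m]) :
    β⁻¹ * (β * α * β⁻¹ * α⁻¹) * β = (β * α * β⁻¹ * α⁻¹) ^ (r ^ (n - 1)) := by
  set c := β * α * β⁻¹ * α⁻¹ with hc
  have e1 := h.be_conj_c_pow (r ^ (n - 1))
  rw [← hc, ← pow_succ', Nat.sub_add_cancel hn] at e1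
  have e2 : c ^ (r ^ n) = c := by
    have h1 : orderOf c ∣ m := orderOf_dvd_of_pow_eq_one h.c_pow_m
    have h2 : r ^ n ≡ 1 [MOD orderOf c] := hrn.of_dvd h1
    have := pow_eq_pow_iff_modEq.mpr h2
    rw [this, pow_one]
  rw [e2] at e1
  conv_lhs => rw [← e1]
  group

/-- `zpowers c` is normal when `Γ` is generated by `α`, `β`, `K`. -/
theorem normal_zpowers (hn : 0 < n) (hrn : r ^ n ≡ 1 [MOD m])
    (hgen : Subgroup.closure ({α, β} ∪ (K : Set Γ)) = ⊤) :
    (Subgroup.zpowers (β * α * β⁻¹ * α⁻¹)).Normal := by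
  set c := β * α * β⁻¹ * α⁻¹ with hc
  set C := Subgroup.zpowers c with hC
  let M : Subgroup Γ :=
    { carrier := {g | ∀ x ∈ C, g * x * g⁻¹ ∈ C ∧ g⁻¹ * x * g ∈ C}
      one_mem' := by
        intro x hx
        simp [hx]
      mul_mem' := by
        intro g1 g2 h1 h2 x hx
        constructor
        · have := (h1 _ (h2 x hx).1).1
          have e : g1 * g2 * x * (g1 * g2)⁻¹ = g1 * (g2 * x * g2⁻¹) * g1⁻¹ := by group
          rw [e]; exact this
        · have := (h2 _ (h1 x hx).2).2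
          have e : (g1 * g2)⁻¹ * x * (g1 * g2) = g2⁻¹ * (g1⁻¹ * x * g1) * g2 := by group
          rw [e]; exact this
      inv_mem' := by
        intro g h1 x hx
        constructor
        · have := (h1 x hx).2
          rwa [inv_inv]
        · have := (h1 x hx).1
          rwa [inv_inv] }
  have hαM : α ∈ M := by
    intro x hx
    obtain ⟨j, rfl⟩ := Subgroup.mem_zpowers_iff.mp hx
    have hcomm : Commute α (c ^ j) := (h.c_comm_al).zpow_right j
    constructor
    · rw [hcomm.eq, mul_inv_cancel_right]; exact hx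
    · rw [mul_assoc, ← hcomm.eq, inv_mul_cancel_left]; exact hx
  have hβM : β ∈ M := by
    intro x hx
    obtain ⟨j, rfl⟩ := Subgroup.mem_zpowers_iff.mp hx
    constructor
    · have e : β * c ^ j * β⁻¹ = (β * c * β⁻¹) ^ j := (conj_zpow (a := β) (b := c) (i := j)).symm
      rw [e, h.be_conj_c, ← hc]
      exact Subgroup.zpow_mem _ (Subgroup.pow_mem _ (Subgroup.mem_zpowers c) _) _
    · have e : β⁻¹ * c ^ j * β = (β⁻¹ * c * β) ^ j := by
        have := (conj_zpow (a := β⁻¹) (b := c) (i := j)).symm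
        rwa [inv_inv] at this
      rw [e, h.be_inv_conj_c hn hrn, ← hc]
      exact Subgroup.zpow_mem _ (Subgroup.pow_mem _ (Subgroup.mem_zpowers c) _) _
  have hKM : ∀ k ∈ K, k ∈ M := by
    intro k hk x hx
    have hcomm : Commute k x := h.central hk x
    constructor
    · rw [hcomm.eq, mul_inv_cancel_right]; exact hx
    · rw [mul_assoc, ← hcomm.eq, inv_mul_cancel_left]; exact hx
  have hM : M = ⊤ := by
    rw [eq_top_iff, ← hgen, Subgroup.closure_le]
    rintro y ((rfl | rfl) | hy)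
    · exact hαM
    · exact hβM
    · exact hKM y hy
  constructor
  intro x hx g
  have : g ∈ M := by rw [hM]; exact Subgroup.mem_top g
  exact (this x hx).1

/-- The commutator subgroup is contained in `zpowers c`. -/
theorem commutator_le (hn : 0 < n) (hrn : r ^ n ≡ 1 [MOD m])
    (hgen : Subgroup.closure ({α, β} ∪ (K : Set Γ)) = ⊤) :
    commutator Γ ≤ Subgroup.zpowers (β * α * β⁻¹ * α⁻¹) := by
  haveI := h.normal_zpowers hn hrn hgen
  set c := β * α * β⁻¹ * α⁻¹ with hc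
  set C := Subgroup.zpowers c with hC
  let mk : Γ →* Γ ⧸ C := QuotientGroup.mk' C
  have hmkc : mk c = 1 := by
    rw [QuotientGroup.mk'_apply, QuotientGroup.eq_one_iff]
    exact Subgroup.mem_zpowers c
  have hαβ : Commute (mk α) (mk β) := by
    have e : β * α = c * (α * β) := by rw [hc]; group
    have := congrArg mk e
    rw [map_mul mk c (α * β), hmkc, one_mul, map_mul mk β α, map_mul mk α β] at this
    exact this.symm
  have hKc : ∀ k ∈ K, ∀ g : Γ, Commute (mk k) (mk g) := by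
    intro k hk g
    exact (h.central hk g).map mk
  -- pairwise commuting generators
  have hpair : ∀ s ∈ ({α, β} ∪ (K : Set Γ)), ∀ t ∈ ({α, β} ∪ (K : Set Γ)),
      Commute (mk s) (mk t) := by
    rintro s ((rfl | rfl) | hs) t ((rfl | rfl) | ht)
    · exact Commute.refl _
    · exact hαβ
    · exact (hKc t ht _).symm
    · exact hαβ.symm
    · exact Commute.refl _
    · exact (hKc t ht _).symm
    · exact hKc s hs _
    · exact hKc s hs _
    · exact hKc s hs _
  have hall1 : ∀ s ∈ ({α, β} ∪ (K : Set Γ)), ∀ g : Γ, Commute (mk s) (mk g) := by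
    intro s hs g
    have hg : g ∈ Subgroup.closure ({α, β} ∪ (K : Set Γ)) := by rw [hgen]; exact Subgroup.mem_top g
    induction hg using Subgroup.closure_induction with
    | mem t ht => exact hpair s hs t ht
    | one => rw [map_one]; exact Commute.one_right _
    | mul a b _ _ iha ihb => rw [map_mul]; exact iha.mul_right ihb
    | inv a _ iha => rw [map_inv]; exact iha.inv_right
  have hall2 : ∀ g g' : Γ, Commute (mk g) (mk g') := by
    intro g g'
    have hg : g ∈ Subgroup.closure ({α, β} ∪ (K : Set Γ)) := by rw [hgen]; exact Subgroup.mem_top g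
    induction hg using Subgroup.closure_induction with
    | mem t ht => exact hall1 t ht g'
    | one => rw [map_one]; exact Commute.one_left _
    | mul a b _ _ iha ihb => rw [map_mul]; exact iha.mul_left ihb
    | inv a _ iha => rw [map_inv]; exact iha.inv_left
  rw [commutator_def, Subgroup.commutator_le]
  intro g1 _ g2 _
  have e1 : mk ⁅g1, g2⁆ = 1 := by
    rw [map_commutatorElement, commutatorElement_eq_one_iff_commute]
    exact hall2 g1 g2
  rw [QuotientGroup.mk'_apply, QuotientGroup.eq_one_iff] at e1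
  exact e1

end Hyp

end Cfsg.Agent.Lib.H15.BeylC
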