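import Mathlib
import Cfsg.Prelude.Def_KGroupFacts
import Cfsg.Agent.Lib.H15.BeylB
import Cfsg.Agent.Lib.H15.BeylC
import Cfsg.Agent.Lib.H20.ZModHom

/-!
# Schur multiplier of metacyclic groups: assembly (helper15)
-/

set_option autoImplicit false

namespace Cfsg.Agent.Lib.H15.Beyl

open Cfsg.Agent.Lib.H15
open scoped commutatorElement

namespace Par

variable (P : Par)

theorem q_dvd_of {j : ℤ} (h : (P.m : ℤ) ∣ ((P.r : ℤ) - 1) * j) : (P.q : ℤ) ∣ j := by
  rw [P.r_sub_one] at h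
  have hd : (P.d : ℤ) ≠ 0 := by exact_mod_cast P.dpos.ne'
  have h1 : (P.d : ℤ) * P.q ∣ P.d * (P.ρ * j) := by
    simp only [m] at h
    push_cast at h
    rwa [mul_assoc] at h
  have h2 : (P.q : ℤ) ∣ P.ρ * j := Int.dvd_of_mul_dvd_mul_left hd h1
  have e1 : j = P.s * (P.ρ * j) + P.q * (P.k' * j) := by
    have := P.hs
    linear_combination j * this
  rw [e1]
  exact dvd_add (Dvd.dvd.mul_left h2 _) (Dvd.intro _ rfl)

/-- The relators of the metacyclic presentation. -/
def rels : Set (FreeGroup Bool) :=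
  {FreeGroup.of true ^ P.m, (FreeGroup.of false) ^ P.n * (FreeGroup.of true ^ P.t)⁻¹,
    FreeGroup.of false * FreeGroup.of true * (FreeGroup.of false)⁻¹ * (FreeGroup.of true ^ P.r)⁻¹}

/-- The presented metacyclic group. -/
abbrev Gp : Type := PresentedGroup P.rels

/-- generator `a`. -/
def ga : P.Gp := PresentedGroup.of true

/-- generator `b`. -/
def gb : P.Gp := PresentedGroup.of false

theorem ga_pow : P.ga ^ P.m = 1 := by
  have h : FreeGroup.of true ^ P.m ∈ P.rels := by simp [rels]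
  have := PresentedGroup.one_of_mem h
  rwa [map_pow] at this

theorem gb_pow : P.gb ^ P.n = P.ga ^ P.t := by
  have h : (FreeGroup.of false) ^ P.n * (FreeGroup.of true ^ P.t)⁻¹ ∈ P.rels := by simp [rels]
  have := PresentedGroup.one_of_mem h
  rw [map_mul, map_inv, map_pow, map_pow, mul_inv_eq_one] at this
  exact this

theorem gb_conj : P.gb * P.ga * P.gb⁻¹ = P.ga ^ P.r := by
  have h : FreeGroup.of false * FreeGroup.of true * (FreeGroup.of false)⁻¹ *
      (FreeGroup.of true ^ P.r)⁻¹ ∈ P.rels := by simp [rels]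
  have := PresentedGroup.one_of_mem h
  rw [map_mul, map_inv, map_pow, map_mul, map_mul, map_inv, mul_inv_eq_one] at this
  exact this

theorem closure_ga_gb : Subgroup.closure ({P.ga, P.gb} : Set P.Gp) = ⊤ := by
  rw [eq_top_iff, ← PresentedGroup.closure_range_of, Subgroup.closure_le]
  rintro y ⟨i, rfl⟩
  cases i
  · exact Subgroup.subset_closure (by simp [gb])
  · exact Subgroup.subset_closure (by simp [ga])

/-- The central subgroup `Z = ⟨w⟩` of the covering group. -/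
def ZZ : Subgroup P.Gm := Subgroup.zpowers P.ww

theorem ZZ_le_center : P.ZZ ≤ Subgroup.center P.Gm := by
  rw [ZZ, Subgroup.zpowers_le]
  exact P.ww_central

instance : P.ZZ.Normal := by
  constructor
  intro x hx g
  have := Subgroup.mem_center_iff.mp (P.ZZ_le_center hx) g
  rw [this, mul_inv_cancel_right]
  exact hx

/-- The homomorphism from the covering group onto the presented group. -/
def sg : P.Gm →* P.Gp := P.sig P.ga P.gb P.ga_pow P.gb_conj P.gb_pow

theorem sg_al : P.sg P.al = P.ga := P.sig_al _ _ _ _ _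

theorem sg_bb : P.sg P.bb = P.gb := P.sig_bb _ _ _ _ _

theorem sg_ww : P.sg P.ww = 1 := P.sig_ww _ _ _ _ _

/-- the images of the generators in `Gm ⧸ Z`. -/
def tf : Bool → P.Gm ⧸ P.ZZ := fun i => if i then QuotientGroup.mk P.al else QuotientGroup.mk P.bb

theorem mk_ww_zpow (j : ℤ) : (QuotientGroup.mk (P.ww ^ j) : P.Gm ⧸ P.ZZ) = 1 := by
  rw [QuotientGroup.eq_one_iff]
  exact Subgroup.zpow_mem _ (Subgroup.mem_zpowers _) _

theorem tf_rels : ∀ x ∈ P.rels, FreeGroup.lift P.tf x = 1 := by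
  intro x hx
  simp only [rels, Set.mem_insert_iff, Set.mem_singleton_iff] at hx
  rcases hx with rfl | rfl | rfl
  · simp only [map_pow, FreeGroup.lift_apply_of, tf, if_true]
    rw [← QuotientGroup.mk_pow, rel1, mk_ww_zpow]
  · simp only [map_mul, map_inv, map_pow, FreeGroup.lift_apply_of, tf, if_true]
    simp only [Bool.false_eq_true, if_false]
    rw [← QuotientGroup.mk_pow, ← QuotientGroup.mk_pow, rel2, mul_inv_cancel]
  · simp only [map_mul, map_inv, map_pow, FreeGroup.lift_apply_of, tf, if_true]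
    simp only [Bool.false_eq_true, if_false]
    rw [← QuotientGroup.mk_pow, ← QuotientGroup.mk_inv, ← QuotientGroup.mk_mul,
      ← QuotientGroup.mk_mul, rel3, QuotientGroup.mk_mul, mk_ww_zpow, mul_one, mul_inv_cancel]

/-- The homomorphism from the presented group to `Gm ⧸ Z`. -/
def tau : P.Gp →* P.Gm ⧸ P.ZZ := PresentedGroup.toGroup P.tf_rels

theorem tau_ga : P.tau P.ga = QuotientGroup.mk P.al := by
  rw [tau, ga, PresentedGroup.toGroup.of]; rfl

theorem tau_gb : P.tau P.gb = QuotientGroup.mk P.bb := by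
  rw [tau, gb, PresentedGroup.toGroup.of]; rfl

theorem tau_sg : P.tau.comp P.sg = QuotientGroup.mk' P.ZZ := by
  apply P.hom_ext2
  · rw [MonoidHom.comp_apply, sg_al, tau_ga]; rfl
  · rw [MonoidHom.comp_apply, sg_bb, tau_gb]; rfl

theorem ker_sg : P.sg.ker = P.ZZ := by
  apply le_antisymm
  · intro x hx
    rw [MonoidHom.mem_ker] at hx
    have h1 : P.tau (P.sg x) = 1 := by rw [hx, map_one]
    have h2 : (QuotientGroup.mk' P.ZZ) x = 1 := by
      rw [← tau_sg]; exact h1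
    rwa [QuotientGroup.mk'_apply, QuotientGroup.eq_one_iff] at h2
  · rw [ZZ, Subgroup.zpowers_le, MonoidHom.mem_ker]
    exact P.sg_ww

theorem sg_surjective : Function.Surjective P.sg := by
  rw [← MonoidHom.range_eq_top, eq_top_iff, ← closure_ga_gb, Subgroup.closure_le]
  rintro y (rfl | rfl)
  · exact ⟨P.al, P.sg_al⟩
  · exact ⟨P.bb, P.sg_bb⟩

theorem sg_stem : Cfsg.IsStemExtension P.sg := by
  refine ⟨P.sg_surjective, ?_, ?_⟩
  · rw [ker_sg]; exact P.ZZ_le_center
  · rw [ker_sg, ZZ, Subgroup.zpowers_le]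
    exact P.ww_mem_commutator

theorem card_ZZ : Nat.card P.ZZ = P.e := by
  rw [ZZ, Nat.card_zpowers, orderOf_ww]

theorem ker_equiv : Nonempty (P.sg.ker ≃* Multiplicative (ZMod P.e)) := by
  have e1 : P.sg.ker ≃* P.ZZ := MulEquiv.subgroupCongr P.ker_sg
  haveI : IsCyclic P.ZZ := by
    rw [ZZ]; infer_instance
  have e2 : Multiplicative (ZMod (Nat.card P.ZZ)) ≃* P.ZZ := zmodCyclicMulEquiv inferInstance
  have e3 : Multiplicative (ZMod (Nat.card P.ZZ)) ≃* Multiplicative (ZMod P.e) :=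
    AddEquiv.toMultiplicative (ZMod.ringEquivCongr P.card_ZZ).toAddEquiv
  exact ⟨e1.trans (e2.symm.trans e3)⟩

/-- In the presented group, `a ^ j = 1` forces `m ∣ j`. -/
theorem dvd_of_ga_zpow {j : ℤ} (h : P.ga ^ j = 1) : (P.m : ℤ) ∣ j := by
  have h1 : P.tau (P.ga ^ j) = 1 := by rw [h, map_one]
  rw [map_zpow, tau_ga, ← QuotientGroup.mk_zpow, QuotientGroup.eq_one_iff] at h1
  exact P.dvd_of_al_zpow_mem h1

section upper

variable {Γ : Type} [Group Γ] (σ : Γ →* P.Gp)

theorem upper (hσ : Cfsg.IsStemExtension σ) (hrn : P.r ^ P.n ≡ 1 [MOD P.m])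
    (hbig : Nat.gcd P.t (Nat.gcd P.m (∑ i ∈ Finset.range P.n, P.r ^ i)) ∣ P.q * P.e) :
    ∃ π : Multiplicative (ZMod P.e) →* σ.ker, Function.Surjective π := by
  obtain ⟨hsurj, hcen, hcomm⟩ := hσ
  obtain ⟨α, hα⟩ := hsurj P.ga
  obtain ⟨β, hβ⟩ := hsurj P.gb
  have hrpos : 0 < P.r := by rw [P.hr]; omega
  have hyp : BeylC.Hyp σ.ker α β P.m P.n P.r P.t := by
    refine ⟨hcen, hrpos, ?_, ?_, ?_⟩
    · rw [MonoidHom.mem_ker, map_mul, map_inv, map_pow, map_mul, map_mul, map_inv, hα, hβ,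
        P.gb_conj, mul_inv_cancel]
    · rw [MonoidHom.mem_ker, map_pow, hα, P.ga_pow]
    · rw [MonoidHom.mem_ker, map_mul, map_inv, map_pow, map_pow, hα, hβ, P.gb_pow, mul_inv_cancel]
  have hgen : Subgroup.closure ({α, β} ∪ (σ.ker : Set Γ)) = ⊤ := by
    rw [eq_top_iff]
    intro x _
    set H := Subgroup.closure ({α, β} ∪ (σ.ker : Set Γ)) with hH
    have hmap : H.map σ = ⊤ := by
      rw [eq_top_iff, ← P.closure_ga_gb, Subgroup.closure_le]
      rintro y (rfl | rfl)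
      · exact ⟨α, Subgroup.subset_closure (by simp), hα⟩
      · exact ⟨β, Subgroup.subset_closure (by simp), hβ⟩
    have hx : σ x ∈ H.map σ := by rw [hmap]; exact Subgroup.mem_top _
    obtain ⟨y, hy, hyx⟩ := hx
    have hk : y⁻¹ * x ∈ σ.ker := by
      rw [MonoidHom.mem_ker, map_mul, map_inv, hyx, inv_mul_cancel]
    have hk' : y⁻¹ * x ∈ H := Subgroup.subset_closure (Or.inr hk)
    have : x = y * (y⁻¹ * x) := by group
    rw [this]
    exact H.mul_mem hy hk'
  set c := β * α * β⁻¹ * α⁻¹ with hc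
  have hcl : commutator Γ ≤ Subgroup.zpowers c := hyp.commutator_le P.npos hrn hgen
  have hσc : σ c = P.ga ^ ((P.r : ℤ) - 1) := by
    rw [hc, map_mul, map_inv, map_mul, map_mul, map_inv, hα, hβ, P.gb_conj, zpow_sub, zpow_one,
      zpow_natCast]
  -- w₂ = c ^ q
  have hw : c ^ P.q ∈ σ.ker := by
    rw [MonoidHom.mem_ker, map_pow, hσc, ← zpow_natCast, ← zpow_mul]
    have e1 : ((P.r : ℤ) - 1) * P.q = P.m * P.ρ := by
      have := P.r_sub_one
      simp only [m]; push_cast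
      linear_combination (P.q : ℤ) * this
    rw [e1, zpow_mul, zpow_natCast, zpow_natCast, P.ga_pow, one_pow]
  have hwe : (c ^ P.q) ^ P.e = 1 := by
    rw [← pow_mul]
    obtain ⟨k, hk⟩ := hbig
    rw [hk, pow_mul]
    have h1 : c ^ Nat.gcd P.t (Nat.gcd P.m (∑ i ∈ Finset.range P.n, P.r ^ i)) = 1 :=
      pow_gcd_eq_one.mpr ⟨hyp.c_pow_t, pow_gcd_eq_one.mpr ⟨hyp.c_pow_m, hyp.c_pow_S⟩⟩
    rw [h1, one_pow]
  apply Cfsg.Agent.Lib.H20.exists_surjective_zmod_hom P.e (⟨c ^ P.q, hw⟩ : σ.ker)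
  · apply Subtype.ext
    simp only [Subgroup.coe_pow, Subgroup.coe_one]
    exact hwe
  · rintro ⟨k, hk⟩
    have hkc : k ∈ Subgroup.zpowers c := hcl (hcomm hk)
    obtain ⟨j, rfl⟩ := Subgroup.mem_zpowers_iff.mp hkc
    have h1 : P.ga ^ (((P.r : ℤ) - 1) * j) = 1 := by
      rw [zpow_mul, ← hσc, ← map_zpow]
      exact hk
    have h2 := P.q_dvd_of (P.dvd_of_ga_zpow h1)
    obtain ⟨j', rfl⟩ := h2
    rw [Subgroup.mem_zpowers_iff]
    refine ⟨j', ?_⟩
    apply Subtype.ext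
    simp only [Subgroup.coe_zpow]
    rw [zpow_mul, zpow_natCast]

end upper

/-- The Schur multiplier of the metacyclic group. -/
theorem main (hrn : P.r ^ P.n ≡ 1 [MOD P.m])
    (hbig : Nat.gcd P.t (Nat.gcd P.m (∑ i ∈ Finset.range P.n, P.r ^ i)) ∣ P.q * P.e) :
    Cfsg.HasCyclicSchurMultiplier P.Gp P.e := by
  refine ⟨⟨P.Gm, inferInstance, inferInstance, P.sg, P.sg_stem, P.ker_equiv⟩, ?_⟩
  intro Γ _ _ σ hσ
  exact P.upper σ hσ hrn hbig

end Par

end Cfsg.Agent.Lib.H15.Beyl
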