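import Mathlib
import Cfsg.Agent.Lib.H15.BeylD

/-!
# Schur multiplier of metacyclic groups: the parameters (helper15)
-/

set_option autoImplicit false

namespace Cfsg.Agent.Lib.H15.Beyl

theorem geom_nat' {r : ℕ} (hr : 0 < r) (i : ℕ) :
    (r - 1) * (∑ j ∈ Finset.range i, r ^ j) + 1 = r ^ i := by
  obtain ⟨r', rfl⟩ : ∃ r', r = r' + 1 := ⟨r - 1, by omega⟩
  simp only [Nat.add_sub_cancel]
  induction i with
  | zero => simp
  | succ i ih =>
    rw [Finset.sum_range_succ, mul_add, pow_succ]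
    have : r' * ∑ j ∈ Finset.range i, (r' + 1) ^ j = (r' + 1) ^ i - 1 := by omega
    have hpos : 0 < (r' + 1) ^ i := pow_pos (by omega) _
    rw [this]
    have e : (r' + 1) ^ i * (r' + 1) = r' * (r' + 1) ^ i + (r' + 1) ^ i := by ring
    rw [e]
    omega

theorem exists_par (m n r l : ℕ) (hm : 0 < m) (hn : 0 < n) (hr : 0 < r)
    (hrn : r ^ n ≡ 1 [MOD m]) :
    ∃ P : Par, P.m = m ∧ P.n = n ∧ P.r = r ∧ P.t = m * l / Nat.gcd m (r - 1) ∧
      P.e = Nat.gcd l (Nat.gcd m (r - 1) * Nat.gcd m (∑ i ∈ Finset.range n, r ^ i) / m) ∧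
      Nat.gcd P.t (Nat.gcd P.m (∑ i ∈ Finset.range P.n, P.r ^ i)) ∣ P.q * P.e := by
  set d := Nat.gcd m (r - 1) with hd
  set S := ∑ i ∈ Finset.range n, r ^ i with hS
  set g := Nat.gcd m S with hg
  have hdpos : 0 < d := Nat.gcd_pos_of_pos_left _ hm
  have hdm : d ∣ m := Nat.gcd_dvd_left _ _
  have hdr : d ∣ r - 1 := Nat.gcd_dvd_right _ _
  set q := m / d with hq
  set ρ := (r - 1) / d with hρ
  have hdq : d * q = m := Nat.mul_div_cancel' hdm
  have hdρ : d * ρ = r - 1 := Nat.mul_div_cancel' hdr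
  have hqpos : 0 < q := Nat.div_pos (Nat.le_of_dvd hm hdm) hdpos
  have hcop : Nat.Coprime q ρ := Nat.coprime_div_gcd_div_gcd hdpos
  -- m ∣ (r - 1) * S
  have hmS : m ∣ (r - 1) * S := by
    have h1 : 1 ≤ r ^ n := Nat.one_le_pow _ _ hr
    have h2 : m ∣ r ^ n - 1 := (Nat.modEq_iff_dvd' h1).mp hrn.symm
    have h3 : (r - 1) * S + 1 = r ^ n := geom_nat' hr n
    have h4 : r ^ n - 1 = (r - 1) * S := by omega
    rwa [h4] at h2
  have hqS : q ∣ S := by
    rw [← hdq, ← hdρ, mul_assoc] at hmS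
    have h1 : q ∣ ρ * S := Nat.dvd_of_mul_dvd_mul_left hdpos hmS
    exact hcop.dvd_of_dvd_mul_left h1
  have hqm : q ∣ m := Dvd.intro_left d hdq
  have hqg : q ∣ g := Nat.dvd_gcd hqm hqS
  obtain ⟨h, hh⟩ := hqg
  have hgpos : 0 < g := Nat.gcd_pos_of_pos_left _ hm
  have hhpos : 0 < h := by
    rcases Nat.eq_zero_or_pos h with h0 | h0
    · rw [h0, mul_zero] at hh; omega
    · exact h0
  have hdg : d * g / m = h := by
    rw [hh, ← hdq, ← mul_assoc]
    exact Nat.mul_div_cancel_left h (Nat.mul_pos hdpos hqpos)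
  have hhd : h ∣ d := by
    have h1 : g ∣ m := Nat.gcd_dvd_left _ _
    rw [hh, ← hdq, mul_comm d q] at h1
    exact Nat.dvd_of_mul_dvd_mul_left hqpos h1
  set e := Nat.gcd l h with he
  have hepos : 0 < e := Nat.gcd_pos_of_pos_right _ hhpos
  have hel : e ∣ l := Nat.gcd_dvd_left _ _
  have heh : e ∣ h := Nat.gcd_dvd_right _ _
  have hed : e ∣ d := dvd_trans heh hhd
  have hqeS : q * e ∣ S := by
    have h1 : q * e ∣ q * h := Nat.mul_dvd_mul_left q heh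
    rw [← hh] at h1
    exact dvd_trans h1 (Nat.gcd_dvd_right _ _)
  have hbez : (1 : ℤ) - Int.gcdA ρ q * (ρ : ℤ) = (q : ℤ) * Int.gcdB ρ q := by
    have h1 := Int.gcd_eq_gcd_ab (ρ : ℤ) (q : ℤ)
    have h2 : Int.gcd (ρ : ℤ) (q : ℤ) = 1 := by
      rw [Int.gcd_natCast_natCast]
      exact hcop.symm
    rw [h2] at h1
    push_cast at h1
    linarith
  have hr' : r = d * ρ + 1 := by omega
  refine ⟨⟨d, q, ρ, e, l, n, r, Int.gcdA ρ q, Int.gcdB ρ q, hdpos, hqpos, hepos, hn, hr', hed, hel,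
    hbez, hqeS⟩, hdq, rfl, rfl, ?_, ?_, ?_⟩
  · change q * l = m * l / d
    rw [hq]
    exact Nat.div_mul_right_comm hdm l
  · change e = Nat.gcd l (d * g / m)
    rw [hdg]
  · change Nat.gcd (q * l) (Nat.gcd (d * q) S) ∣ q * e
    rw [hdq, ← hg, hh, Nat.gcd_mul_left]

end Cfsg.Agent.Lib.H15.Beyl
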