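import Cfsg.Agent.Lib.H15.SCSections
import Cfsg.Agent.Lib.H10.FrattiniSub
import Cfsg.Agent.Lib.H10.WellPlaced

/-!
# Local-to-global control of strong fusion with a centric restriction (helper15)

`ctl_of_centric_local`: let `S` be a Sylow `p`-subgroup of `G` and `Z` a conjugation-equivariant
"functor" on subgroups with `Z(Q) ≤ Z Q ≤ Q` (e.g. `Z(J(Q))`).  If for every `T ≤ S` which is
`G`-conjugate to a subgroup of `S` containing `Z(S)` and has `N_S(T)` Sylow in `N_G(T)`,
`N_{N_G(T)}(Z(N_S(T)))` controls strong `N_G(T)`-fusion in `N_S(T)`, then `N_G(Z S)` controls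
strong `G`-fusion in `S`.  (Alperin–Goldschmidt with the restriction `C_S(T) ≤ T`, plus
Glauberman's tower argument.)
-/

set_option autoImplicit false

universe u

namespace Cfsg.Agent.Lib.H15.SCF

open Cfsg.Agent.Lib Cfsg.Agent.Lib.H4.ZJ Cfsg.Agent.Lib.H15.ZJS Cfsg.Agent.Lib.H15.NPCS
open Cfsg.Agent.Lib.H15

section centric

variable {G : Type u} [Group G]

/-- `T` is conjugate to a subgroup of `S` containing `Z(S)` -/
def Tame (S T : Subgroup G) : Prop :=
  ∃ c : G, S ⊓ Subgroup.centralizer (S : Set G) ≤ cj c T ∧ cj c T ≤ S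

theorem tame_cj {S T : Subgroup G} (h : Tame S T) (k : G) : Tame S (cj k T) := by
  obtain ⟨c, h1, h2⟩ := h
  refine ⟨c * k⁻¹, ?_, ?_⟩
  · rw [cj_cj, mul_assoc, inv_mul_cancel, mul_one]; exact h1
  · rw [cj_cj, mul_assoc, inv_mul_cancel, mul_one]; exact h2

theorem tame_of_le {S T : Subgroup G} (h1 : S ⊓ Subgroup.centralizer (S : Set G) ≤ T)
    (h2 : T ≤ S) : Tame S T :=
  ⟨1, by rw [cj_one]; exact h1, by rw [cj_one]; exact h2⟩

/-- `Good` only depends on the action on `A` -/
theorem Good.congr {V : Subgroup G} {A : Set G} {g h : G} (hg : Good V A g)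
    (hgh : ∀ a ∈ A, g⁻¹ * a * g = h⁻¹ * a * h) : Good V A h := by
  obtain ⟨y, hy, hya⟩ := hg
  exact ⟨y, hy, fun a ha => (hya a ha).trans (hgh a ha)⟩

theorem rconj_congr {A : Set G} {g h : G} (hgh : ∀ a ∈ A, g⁻¹ * a * g = h⁻¹ * a * h) :
    H10.rconj g A = H10.rconj h A := by
  unfold H10.rconj
  exact Set.image_congr hgh

theorem rconj_coe' (g : G) (T : Subgroup G) :
    H10.rconj g⁻¹ (T : Set G) = ((cj g T : Subgroup G) : Set G) := by
  rw [H10.rconj_coe, inv_inv]

variable [Finite G] {p : ℕ} [hp : Fact p.Prime]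

theorem normalizer_le_normalizer_Z {Z : Subgroup G → Subgroup G} (hZ : ZFun p Z) (Q : Subgroup G) :
    Subgroup.normalizer (Q : Set G) ≤ Subgroup.normalizer (Z Q : Set G) := by
  intro g hg
  rw [mem_normalizer_iff_cj_eq] at hg ⊢
  rw [← hZ.cj g Q, hg]


/-- The tower argument: for tame `T` with `N_S(T)` Sylow in `N_G(T)`, every `x ∈ N_G(T)` acts on
subsets of `N_S(T)` (carried into `N_S(T)`) as an element of `N_G(Z S)`, given this for all larger
subgroups. -/
theorem tower_claim {Z : Subgroup G → Subgroup G} (hZ : ZFun p Z)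
    (hcen : ∀ Q : Subgroup G, Q ⊓ Subgroup.centralizer (Q : Set G) ≤ Z Q)
    (S : Sylow p G)
    (hloc : ∀ T : Subgroup G, T ≤ (S : Subgroup G) → Tame (S : Subgroup G) T →
      ¬ p ∣ ((S : Subgroup G) ⊓ Subgroup.normalizer (T : Set G)).relIndex
        (Subgroup.normalizer (T : Set G)) →
      CtlIn (Subgroup.normalizer (T : Set G)) ((S : Subgroup G) ⊓ Subgroup.normalizer (T : Set G))
        (Z ((S : Subgroup G) ⊓ Subgroup.normalizer (T : Set G)))) :
    ∀ (n : ℕ) (T : Subgroup G), T ≤ (S : Subgroup G) → Tame (S : Subgroup G) T →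
      ¬ p ∣ ((S : Subgroup G) ⊓ Subgroup.normalizer (T : Set G)).relIndex
        (Subgroup.normalizer (T : Set G)) →
      Nat.card (S : Subgroup G) -
        Nat.card ((S : Subgroup G) ⊓ Subgroup.normalizer (T : Set G) : Subgroup G) = n →
      (∀ Q' : Subgroup G, Q' ≤ (S : Subgroup G) →
        Nat.card ((S : Subgroup G) ⊓ Subgroup.normalizer (T : Set G) : Subgroup G) < Nat.card Q' →
        ∀ g' : G, cj g'⁻¹ Q' ≤ (S : Subgroup G) → Good (Z (S : Subgroup G)) (Q' : Set G) g') →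
      ∀ x ∈ Subgroup.normalizer (T : Set G), ∀ A : Set G,
        A ⊆ (((S : Subgroup G) ⊓ Subgroup.normalizer (T : Set G) : Subgroup G) : Set G) →
        H10.rconj x A ⊆ (((S : Subgroup G) ⊓ Subgroup.normalizer (T : Set G) : Subgroup G) : Set G) →
        Good (Z (S : Subgroup G)) A x := by
  intro n
  induction n using Nat.strong_induction_on with
  | _ n ih =>
  intro T hTS hTame hTi hn hbig x hx A hA hAx
  set ST : Subgroup G := (S : Subgroup G) ⊓ Subgroup.normalizer (T : Set G) with hST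
  have hl := hloc T hTS hTame hTi
  -- local control
  have hximg : (fun a => x⁻¹ * a * x⁻¹⁻¹) '' A ⊆ (ST : Set G) := by
    rintro _ ⟨a, ha, rfl⟩
    apply hAx
    exact ⟨a, ha, by rw [inv_inv]⟩
  obtain ⟨m₀, hm₀, hm₀a⟩ := hl A x⁻¹ (Subgroup.inv_mem _ hx) hA hximg
  have hmact : ∀ a ∈ A, (m₀⁻¹)⁻¹ * a * m₀⁻¹ = x⁻¹ * a * x := by
    intro a ha
    have := hm₀a a ha
    rw [inv_inv] at this ⊢
    exact this
  apply Good.congr (g := m₀⁻¹) _ hmact
  have hmN : m₀⁻¹ ∈ Subgroup.normalizer (Z ST : Set G) := Subgroup.inv_mem _ hm₀.2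
  by_cases hSTS : ST = (S : Subgroup G)
  · rw [hSTS] at hmN
    exact good_of_mem A hmN
  -- the tower step
  have hSTlt : ST < (S : Subgroup G) := lt_of_le_of_ne inf_le_left hSTS
  set T₁ : Subgroup G := Z ST with hT₁
  have hT₁ST : T₁ ≤ ST := hZ.le ST
  have hT₁S : T₁ ≤ (S : Subgroup G) := hT₁ST.trans inf_le_left
  set Q : Subgroup G := (S : Subgroup G) ⊓ Subgroup.normalizer (T₁ : Set G) with hQ
  have hSTQ : ST < Q := by
    have h1 : ST < (S : Subgroup G) ⊓ Subgroup.normalizer (ST : Set G) :=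
      H10.lt_inf_normalizer_of_lt S.2 hSTlt
    exact lt_of_lt_of_le h1 (inf_le_inf_left _ (normalizer_le_normalizer_Z hZ ST))
  have hcardQ : Nat.card ST < Nat.card Q := H10.card_lt_card_of_lt hSTQ
  obtain ⟨k, hk1, hk2, hk3⟩ := H10.exists_conj_normalizer_sylow S hT₁S
  change cj k T₁ ≤ (S : Subgroup G) at hk1
  change cj k Q ≤ (S : Subgroup G) ⊓ Subgroup.normalizer ((cj k T₁ : Subgroup G) : Set G) at hk2
  change ¬ p ∣ ((S : Subgroup G) ⊓ Subgroup.normalizer ((cj k T₁ : Subgroup G) : Set G)).relIndex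
    (Subgroup.normalizer ((cj k T₁ : Subgroup G) : Set G)) at hk3
  -- `Z(S) ≤ T₁`
  have hZS : (S : Subgroup G) ⊓ Subgroup.centralizer ((S : Subgroup G) : Set G) ≤ T₁ := by
    refine le_trans ?_ (hcen ST)
    refine le_inf (le_inf inf_le_left ?_) ?_
    · intro z hz
      have hzC : z ∈ Subgroup.centralizer (T : Set G) :=
        Subgroup.centralizer_le (SetLike.coe_subset_coe.mpr hTS) hz.2
      exact Subgroup.centralizer_le_normalizer _ hzC
    · intro z hz
      exact Subgroup.centralizer_le (SetLike.coe_subset_coe.mpr (inf_le_left : ST ≤ _)) hz.2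
  have hTame₁ : Tame (S : Subgroup G) (cj k T₁) := tame_cj (tame_of_le hZS hT₁S) k
  have hcard' : Nat.card Q ≤ Nat.card ((S : Subgroup G) ⊓
      Subgroup.normalizer ((cj k T₁ : Subgroup G) : Set G) : Subgroup G) := by
    rw [← card_cj k Q]
    exact Subgroup.card_le_of_le hk2
  have hcardS : Nat.card ((S : Subgroup G) ⊓
      Subgroup.normalizer ((cj k T₁ : Subgroup G) : Set G) : Subgroup G) ≤ Nat.card (S : Subgroup G) :=
    Subgroup.card_le_of_le inf_le_left
  -- `Good` for `Q` and `k⁻¹`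
  have hGQ : Good (Z (S : Subgroup G)) (Q : Set G) k⁻¹ :=
    hbig Q inf_le_left hcardQ k⁻¹ (by rw [inv_inv]; exact hk2.trans inf_le_left)
  -- the conjugated element
  have hm'N : k * m₀⁻¹ * k⁻¹ ∈ Subgroup.normalizer ((cj k T₁ : Subgroup G) : Set G) := by
    rw [mem_normalizer_iff_cj_eq, cj_cj, mul_assoc, inv_mul_cancel, mul_one, ← cj_cj,
      mem_normalizer_iff_cj_eq.mp hmN]
  have hAQ : A ⊆ (Q : Set G) := hA.trans (SetLike.coe_subset_coe.mpr hSTQ.le)
  have hrQ : H10.rconj k⁻¹ (Q : Set G) ⊆ (((S : Subgroup G) ⊓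
      Subgroup.normalizer ((cj k T₁ : Subgroup G) : Set G) : Subgroup G) : Set G) := by
    rw [rconj_coe']
    exact SetLike.coe_subset_coe.mpr hk2
  have hA' : H10.rconj k⁻¹ A ⊆ (((S : Subgroup G) ⊓
      Subgroup.normalizer ((cj k T₁ : Subgroup G) : Set G) : Subgroup G) : Set G) :=
    (H10.rconj_mono _ hAQ).trans hrQ
  have hmA : H10.rconj m₀⁻¹ A ⊆ (Q : Set G) := by
    rw [rconj_congr hmact]
    exact hAx.trans (SetLike.coe_subset_coe.mpr hSTQ.le)
  have hA'm : H10.rconj (k * m₀⁻¹ * k⁻¹) (H10.rconj k⁻¹ A) ⊆ (((S : Subgroup G) ⊓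
      Subgroup.normalizer ((cj k T₁ : Subgroup G) : Set G) : Subgroup G) : Set G) := by
    rw [← H10.rconj_mul]
    have e : k⁻¹ * (k * m₀⁻¹ * k⁻¹) = m₀⁻¹ * k⁻¹ := by group
    rw [e, H10.rconj_mul]
    exact (H10.rconj_mono _ hmA).trans hrQ
  have hgood' : Good (Z (S : Subgroup G)) (H10.rconj k⁻¹ A) (k * m₀⁻¹ * k⁻¹) := by
    refine ih (Nat.card (S : Subgroup G) - Nat.card ((S : Subgroup G) ⊓
      Subgroup.normalizer ((cj k T₁ : Subgroup G) : Set G) : Subgroup G)) ?_ (cj k T₁) hk1 hTame₁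
      hk3 rfl ?_ _ hm'N _ hA' hA'm
    · have := Subgroup.card_le_of_le (inf_le_left : Q ≤ (S : Subgroup G))
      omega
    · intro Q' hQ'S hQ'c g' hg'
      exact hbig Q' hQ'S (by omega) g' hg'
  -- assemble
  have h1 : Good (Z (S : Subgroup G)) A k⁻¹ := hGQ.restrict hAQ
  have h2 : Good (Z (S : Subgroup G)) A (k⁻¹ * (k * m₀⁻¹ * k⁻¹)) := h1.trans hgood'
  have h3 : Good (Z (S : Subgroup G)) (H10.rconj (k⁻¹ * (k * m₀⁻¹ * k⁻¹)) A) k := by
    have h4 := hGQ.symm
    rw [inv_inv] at h4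
    refine h4.restrict ?_
    have e : k⁻¹ * (k * m₀⁻¹ * k⁻¹) = m₀⁻¹ * k⁻¹ := by group
    rw [e, H10.rconj_mul]
    exact H10.rconj_mono _ hmA
  have h5 := h2.trans h3
  have e2 : k⁻¹ * (k * m₀⁻¹ * k⁻¹) * k = m₀⁻¹ := by group
  rwa [e2] at h5


/-- **Local-to-global control with the centric restriction.** -/
theorem ctl_of_centric_local {Z : Subgroup G → Subgroup G} (hZ : ZFun p Z)
    (hcen : ∀ Q : Subgroup G, Q ⊓ Subgroup.centralizer (Q : Set G) ≤ Z Q)
    (S : Sylow p G)
    (hloc : ∀ T : Subgroup G, T ≤ (S : Subgroup G) → Tame (S : Subgroup G) T →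
      ¬ p ∣ ((S : Subgroup G) ⊓ Subgroup.normalizer (T : Set G)).relIndex
        (Subgroup.normalizer (T : Set G)) →
      CtlIn (Subgroup.normalizer (T : Set G)) ((S : Subgroup G) ⊓ Subgroup.normalizer (T : Set G))
        (Z ((S : Subgroup G) ⊓ Subgroup.normalizer (T : Set G)))) :
    Ctl (S : Subgroup G) (Z (S : Subgroup G)) := by
  apply ctl_of_good
  apply good_all S (Z (S : Subgroup G))
  intro U hU hbig x hx
  obtain ⟨hUS, hUi⟩ := hU
  have hUN : U ≤ (S : Subgroup G) ⊓ Subgroup.normalizer (U : Set G) :=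
    le_inf hUS Subgroup.le_normalizer
  by_cases hc : (S : Subgroup G) ⊓ Subgroup.centralizer (U : Set G) ≤ U
  · -- centric case: the tower argument
    have hTame : Tame (S : Subgroup G) U := by
      apply tame_of_le _ hUS
      refine le_trans (inf_le_inf_left _ ?_) hc
      exact Subgroup.centralizer_le (SetLike.coe_subset_coe.mpr hUS)
    refine tower_claim hZ hcen S hloc _ U hUS hTame hUi rfl ?_ x hx (U : Set G)
      (SetLike.coe_subset_coe.mpr hUN) ?_
    · intro Q' hQ'S hQ'c g' hg'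
      exact hbig Q' hQ'S (lt_of_le_of_lt (Subgroup.card_le_of_le hUN) hQ'c) g' hg'
    · rw [H10.rconj_coe_of_mem_normalizer hx]
      exact SetLike.coe_subset_coe.mpr hUN
  · -- non-centric case: Frattini argument
    set N : Subgroup G := Subgroup.normalizer (U : Set G) with hN
    set C : Subgroup G := Subgroup.centralizer (U : Set G) with hC
    have hCN : C ≤ N := Subgroup.centralizer_le_normalizer _
    have hNC : N ≤ Subgroup.normalizer (C : Set G) := by
      intro g hg
      rw [mem_normalizer_iff_cj_eq] at hg ⊢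
      rw [hC, ← centralizer_cj, hg]
    obtain ⟨m, hmC, hmn⟩ := H10.exists_mul_mem_normalizer_inf (inf_le_right : (S : Subgroup G) ⊓ N ≤ N)
      (S.2.to_le inf_le_left) hUi hCN hNC x hx
    set D : Subgroup G := ((S : Subgroup G) ⊓ N) ⊓ C with hD
    have hDS : D ≤ (S : Subgroup G) := inf_le_left.trans inf_le_left
    have hDU : ¬ D ≤ U := by
      intro h
      apply hc
      refine le_trans ?_ h
      exact le_inf (le_inf inf_le_left (inf_le_right.trans hCN)) inf_le_right
    have hnN : m * x ∈ N := Subgroup.mul_mem _ (hCN hmC) hx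
    have hnU : m * x ∈ Subgroup.normalizer ((U ⊔ D : Subgroup G) : Set G) := by
      rw [mem_normalizer_iff_cj_eq]
      show (U ⊔ D).map (MulAut.conj (m * x)).toMonoidHom = U ⊔ D
      rw [Subgroup.map_sup]
      have h1 : U.map (MulAut.conj (m * x)).toMonoidHom = U := mem_normalizer_iff_cj_eq.mp hnN
      have h2 : D.map (MulAut.conj (m * x)).toMonoidHom = D := mem_normalizer_iff_cj_eq.mp hmn
      rw [h1, h2]
    have hlt : U < U ⊔ D := by
      refine lt_of_le_of_ne le_sup_left ?_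
      intro h
      apply hDU
      rw [h]
      exact le_sup_right
    have hUDS : U ⊔ D ≤ (S : Subgroup G) := sup_le hUS hDS
    have hG1 : Good (Z (S : Subgroup G)) ((U ⊔ D : Subgroup G) : Set G) (m * x) := by
      apply hbig (U ⊔ D) hUDS (H10.card_lt_card_of_lt hlt) (m * x)
      have : (m * x)⁻¹ ∈ Subgroup.normalizer ((U ⊔ D : Subgroup G) : Set G) :=
        Subgroup.inv_mem _ hnU
      have h2 : (U ⊔ D).map (MulAut.conj (m * x)⁻¹).toMonoidHom = U ⊔ D :=
        mem_normalizer_iff_cj_eq.mp this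
      rw [h2]
      exact hUDS
    have hG2 : Good (Z (S : Subgroup G)) (U : Set G) (m * x) :=
      hG1.restrict (SetLike.coe_subset_coe.mpr le_sup_left)
    have hG3 : Good (Z (S : Subgroup G)) (U : Set G) m⁻¹ := by
      apply good_of_centralizes
      intro a ha
      rw [inv_inv]
      have := (Subgroup.mem_centralizer_iff.mp hmC) a ha
      rw [← this]
      group
    have hminv : m⁻¹ ∈ N := Subgroup.inv_mem _ (hCN hmC)
    have hG4 : Good (Z (S : Subgroup G)) (U : Set G) (m⁻¹ * (m * x)) := by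
      apply hG3.trans
      rw [H10.rconj_coe_of_mem_normalizer hminv]
      exact hG2
    rwa [inv_mul_cancel_left] at hG4

end centric

end Cfsg.Agent.Lib.H15.SCF
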