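import Mathlib

/-!
Automorphisms of order prime to `p` of cyclic `p`-groups (helper15's shared library).
-/

set_option autoImplicit false

namespace Cfsg.Agent.Lib.H15

/-- In a cyclic `p`-group every element of order dividing `p` lies in every nontrivial subgroup. -/
theorem mem_of_pow_prime_eq_one_of_isCyclic {C : Type*} [Group C] [Finite C] [IsCyclic C] {p : ℕ}
    [Fact p.Prime] (hC : IsPGroup p C) (Q : Subgroup C) (hQ : Q ≠ ⊥) (z : C) (hz : z ^ p = 1) :
    z ∈ Q := by
  classical
  haveI := Fintype.ofFinite C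
  have hp : p.Prime := Fact.out
  have hQp : IsPGroup p Q := hC.to_subgroup Q
  have hdvd : p ∣ Nat.card Q := by
    rcases hQp.card_eq_or_dvd with h | h
    · exfalso; exact hQ (Subgroup.card_eq_one.mp h)
    · exact h
  obtain ⟨u, hu⟩ := exists_prime_orderOf_dvd_card' p hdvd
  have hu' : orderOf (u : C) = p := by rw [Subgroup.orderOf_coe]; exact hu
  set S : Finset C := Finset.univ.filter (fun a : C => a ^ p = 1) with hS
  set T : Finset C := Finset.image (fun i : Fin p => (u : C) ^ (i : ℕ)) Finset.univ with hT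
  have hcardT : T.card = p := by
    rw [hT, Finset.card_image_of_injective]
    · simp
    · intro i j hij
      have := pow_injOn_Iio_orderOf (x := (u : C)) (by rw [hu']; exact i.2) (by rw [hu']; exact j.2) hij
      exact Fin.ext this
  have hTS : T ⊆ S := by
    intro a ha
    rw [hT, Finset.mem_image] at ha
    obtain ⟨i, _, rfl⟩ := ha
    rw [hS, Finset.mem_filter]
    refine ⟨Finset.mem_univ _, ?_⟩
    have hup : (u : C) ^ p = 1 := hu' ▸ pow_orderOf_eq_one (u : C)
    rw [← pow_mul, mul_comm, pow_mul, hup, one_pow]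
  have hcardS : S.card ≤ p := IsCyclic.card_pow_eq_one_le hp.pos
  have hST : T = S := Finset.eq_of_subset_of_card_le hTS (hcardT ▸ hcardS)
  have hzS : z ∈ S := by rw [hS, Finset.mem_filter]; exact ⟨Finset.mem_univ _, hz⟩
  rw [← hST, hT, Finset.mem_image] at hzS
  obtain ⟨i, _, rfl⟩ := hzS
  exact Q.pow_mem u.2 _

variable {G : Type*} [Group G]

theorem conj_pow_eq_mul_pow {g y z : G} (h1 : g * y * g⁻¹ = y * z) (h2 : g * z * g⁻¹ = z) (k : ℕ) :
    g ^ k * y * (g ^ k)⁻¹ = y * z ^ k := by
  induction k with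
  | zero => simp
  | succ k ih =>
    have h3 : g * z ^ k * g⁻¹ = z ^ k := by
      have : g * z ^ k * g⁻¹ = (g * z * g⁻¹) ^ k := by
        rw [conj_pow]
      rw [this, h2]
    calc g ^ (k + 1) * y * (g ^ (k + 1))⁻¹ = g * (g ^ k * y * (g ^ k)⁻¹) * g⁻¹ := by
          rw [pow_succ']; group
      _ = g * (y * z ^ k) * g⁻¹ := by rw [ih]
      _ = (g * y * g⁻¹) * (g * z ^ k * g⁻¹) := by group
      _ = y * z * z ^ k := by rw [h1, h3]
      _ = y * z ^ (k + 1) := by rw [pow_succ', mul_assoc]

/-- An element `g` of order prime to `p` normalizing a cyclic `p`-subgroup `P` and centralizing a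
nontrivial element of `P` centralizes `P`. -/
theorem commute_of_cyclic_of_coprime [Finite G] {p : ℕ} [Fact p.Prime] {P : Subgroup G}
    (hP : IsPGroup p ↥P) (hcyc : IsCyclic ↥P) {g : G} (hg : g ∈ Subgroup.normalizer (P : Set G))
    (hcop : (orderOf g).Coprime p) {x : G} (hxP : x ∈ P) (hx1 : x ≠ 1) (hgx : g * x * g⁻¹ = x) :
    ∀ y ∈ P, g * y * g⁻¹ = y := by
  have hp : p.Prime := Fact.out
  have hcomm : ∀ a ∈ P, ∀ b ∈ P, a * b = b * a := by
    intro a ha b hb
    haveI := IsCyclic.commutative (α := ↥P)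
    exact congrArg Subtype.val (mul_comm' (⟨a, ha⟩ : ↥P) ⟨b, hb⟩)
  -- the fixed subgroup
  let Q : Subgroup ↥P :=
    { carrier := {y | g * (y : G) * g⁻¹ = y}
      mul_mem' := by
        intro a b ha hb
        simp only [Set.mem_ofPred_eq] at ha hb ⊢
        calc g * ((a * b : ↥P) : G) * g⁻¹ = (g * a * g⁻¹) * (g * b * g⁻¹) := by
              push_cast; group
          _ = a * b := by rw [ha, hb]
      one_mem' := by simp
      inv_mem' := by
        intro a ha
        simp only [Set.mem_ofPred_eq] at ha ⊢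
        calc g * ((a⁻¹ : ↥P) : G) * g⁻¹ = (g * a * g⁻¹)⁻¹ := by push_cast; group
          _ = (a : G)⁻¹ := by rw [ha] }
  have hQne : Q ≠ ⊥ := by
    intro h
    have hxQ : (⟨x, hxP⟩ : ↥P) ∈ Q := hgx
    rw [h, Subgroup.mem_bot] at hxQ
    exact hx1 (congrArg Subtype.val hxQ)
  -- single step
  have step : ∀ y ∈ P, g * y ^ p * g⁻¹ = y ^ p → g * y * g⁻¹ = y := by
    intro y hy hyp
    have hgy : g * y * g⁻¹ ∈ P := (Subgroup.mem_normalizer_iff.mp hg y).mp hy
    set z := y⁻¹ * (g * y * g⁻¹) with hz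
    have hzP : z ∈ P := P.mul_mem (P.inv_mem hy) hgy
    have hzp : z ^ p = 1 := by
      have hc : Commute y⁻¹ (g * y * g⁻¹) := hcomm _ (P.inv_mem hy) _ hgy
      rw [hz, hc.mul_pow, inv_pow, conj_pow, hyp]
      group
    have hzQ : (⟨z, hzP⟩ : ↥P) ∈ Q := by
      apply mem_of_pow_prime_eq_one_of_isCyclic hP Q hQne
      apply Subtype.ext
      simpa using hzp
    have hgz : g * z * g⁻¹ = z := hzQ
    have h1 : g * y * g⁻¹ = y * z := by rw [hz]; group
    have h2 := conj_pow_eq_mul_pow h1 hgz (orderOf g)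
    rw [pow_orderOf_eq_one] at h2
    have h3 : z ^ orderOf g = 1 := by
      have : y = y * z ^ orderOf g := by simpa using h2
      exact (mul_eq_left.mp this.symm)
    have h4 : z = 1 := by
      have hd1 : orderOf z ∣ orderOf g := orderOf_dvd_of_pow_eq_one h3
      have hd2 : orderOf z ∣ p := orderOf_dvd_of_pow_eq_one hzp
      have : orderOf z ∣ Nat.gcd (orderOf g) p := Nat.dvd_gcd hd1 hd2
      rw [hcop] at this
      exact orderOf_eq_one_iff.mp (Nat.dvd_one.mp this)
    rw [h1, h4, mul_one]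
  -- induction on the exponent
  have main : ∀ k : ℕ, ∀ y ∈ P, g * y ^ (p ^ k) * g⁻¹ = y ^ (p ^ k) → g * y * g⁻¹ = y := by
    intro k
    induction k with
    | zero => intro y _ h; simpa using h
    | succ k ih =>
      intro y hy h
      apply step y hy
      apply ih (y ^ p) (P.pow_mem hy p)
      rw [← pow_mul, ← pow_succ']
      exact h
  intro y hy
  obtain ⟨k, hk⟩ := (IsPGroup.iff_orderOf.mp hP) ⟨y, hy⟩
  apply main k y hy
  have : y ^ p ^ k = 1 := by
    have h1 : orderOf y = p ^ k := by rw [← hk, Subgroup.orderOf_mk]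
    rw [← h1, pow_orderOf_eq_one]
  rw [this]; group

end Cfsg.Agent.Lib.H15
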