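import Mathlib
import Cfsg.Prelude.Def_Blocks
import Cfsg.Prelude.Def_Characters
import Cfsg.Agent.Lib.H15.DXDefs
import Cfsg.Agent.Lib.H23.DegreeDvd
import Cfsg.Agent.Lib.H18.DXF3
import Cfsg.Agent.Lib.H1.DXF4Aa
import Cfsg.Agent.Lib.H24.DXCYCZ
import Cfsg.Agent.Lib.H29.DXCENTa
import Cfsg.Agent.Lib.H29.DXFINALa
import Cfsg.Agent.Lib.H6.DXXARG

set_option autoImplicit false

/-!
# S4467 (Dixon / Winter): assembly of the minimal-counterexample argument.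
Blueprint: tools/blueprints/S4467.md.
-/

namespace Cfsg.Agent.Lib.H15.DX

open Cfsg
open scoped commutatorElement

universe u

section ctx

variable {p : ℕ} [Fact p.Prime] {G : Type u} [Group G] [Finite G] {χ : G → ℂ} {n : ℕ}

theorem ctx_false (c : Ctx p G χ n) : False := by
  have hF2 : ∀ (N : Subgroup G) [N.Normal], ∃ (θ : N → ℂ) (e : ℕ), IsIrrCharacter N θ ∧
      (fun x : N => χ x) = (e : ℂ) • θ := fun N _ => Cfsg.Agent.Lib.H18.DX.restrict_eq_smul c N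
  have hF3 : ∀ (N : Subgroup G) [N.Normal], (∀ a ∈ N, ∀ b ∈ N, a * b = b * a) →
      N ≤ Subgroup.center G := fun N _ hab =>
    Cfsg.Agent.Lib.H18.DX.le_center_of_abelian_normal c N hab
  have hcyc : IsCyclic (Subgroup.center G) :=
    Cfsg.Agent.Lib.H24.DX.isCyclic_center_of_faithful_irr χ c.irr c.faith
  refine Cfsg.Agent.Lib.H29.DX.ctx_false_of c hF3 ?_
  intro A _ hZA hmin P
  obtain ⟨r, m, hr, _hm, hrp, hdvd, hidx, hcl, hZ⟩ :=
    Cfsg.Agent.Lib.H1.DX.chief_structure_of c hF2 hF3 A hZA hmin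
  refine Cfsg.Agent.Lib.H29.DX.sylow_le_centralizer_of c A r m hr hrp hdvd hidx ?_ P
  intro x hxp a₀ ha₀ hne
  exact Cfsg.Agent.Lib.H6.DX.exists_pow_of_nontrivial_action p r m hr hrp hcyc A hZA.le hcl hZ hidx x hxp a₀ ha₀ hne

end ctx

theorem main (p : ℕ) [Fact p.Prime] : ∀ (N : ℕ) (G : Type u) [Group G] [Finite G],
    Nat.card G = N → Group.IsSolvable G → ∀ χ : G → ℂ, IsIrrCharacter G χ → Faithful χ →
    ∀ n : ℕ, χ 1 = (n : ℂ) → ¬ Good p n → ∀ P : Sylow p G, (P : Subgroup G).Normal := by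
  intro N
  induction N using Nat.strong_induction_on with
  | _ N ih =>
    intro G _ _ hN hs χ hχ hf n hn hbad P
    by_contra hP
    refine ctx_false (p := p) (G := G) (χ := χ) (n := n) ⟨hs, hχ, hf, hn, hbad, ?_, ⟨P, hP⟩⟩
    intro H _ _ hlt hsH ψ hψ hfψ m hm hbm Q
    exact ih (Nat.card H) (hN ▸ hlt) H rfl hsH ψ hψ hfψ m hm hbm Q

theorem final {G : Type*} [Group G] [Finite G] (χ : Cfsg.IrrCharacter G)
    (hfaith : ∀ g : G, (χ : G → ℂ) g = (χ : G → ℂ) 1 → g = 1) (n : ℕ)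
    (hn : Cfsg.charDegree (χ : G → ℂ) = n) (hsolv : Group.IsSolvable G) (p : ℕ) (hp : p.Prime)
    (P : Sylow p G) (hP : ¬ (P : Subgroup G).Normal) :
    ∃ q : ℕ, IsPrimePow q ∧ q ∣ n ∧
      ((q : ℤ) ≡ -1 [ZMOD p] ∨ (q : ℤ) ≡ 0 [ZMOD p] ∨ (q : ℤ) ≡ 1 [ZMOD p]) := by
  have : Fact p.Prime := ⟨hp⟩
  by_contra hbad
  have h1 : (χ : G → ℂ) 1 = (n : ℂ) := by
    rw [← hn]
    exact Cfsg.Agent.Lib.H23.apply_one_eq_charDegree _ χ.2
  exact hP (main p (Nat.card G) G rfl hsolv (χ : G → ℂ) χ.2 hfaith n h1 hbad P)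

end Cfsg.Agent.Lib.H15.DX
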