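import Cfsg.Agent.Lib.H15.RUCore
import Cfsg.Agent.Lib.H8.Clifford

/-!
# S4751 piece TRANS, hypothesis-parametric form (helper15)
-/

set_option autoImplicit false

namespace Cfsg.Agent.Lib.H15.RU

open Cfsg Cfsg.Agent.Lib.L0 Cfsg.Agent.Lib.H24 Cfsg.Agent.Lib.H23
open scoped ComplexConjugate

section trans

variable {G : Type*} [Group G] [Fintype G]

/-- a constituent of `χ_N` is conjugate to any other one -/
theorem exists_conj_of_constituents (N : Subgroup G) [hN : N.Normal] [Fintype N]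
    (χ : IrrCharacter G) (lam mu : N → ℂ) (hlam : IsIrrCharacter N lam) (hmu : IsIrrCharacter N mu)
    (h1 : classInner (fun n : N => (χ : G → ℂ) n) lam ≠ 0)
    (h2 : classInner (fun n : N => (χ : G → ℂ) n) mu ≠ 0) :
    ∃ g : G, mu = fun n : N => lam ⟨g * n * g⁻¹, hN.conj_mem n n.2 g⟩ := by
  classical
  by_contra hcon
  push Not at hcon
  apply h2
  have hcl := Cfsg.Agent.S0174.result N hN (χ : G → ℂ) χ.2 lam hlam h1
  have hfin : {ψ : N → ℂ | ∃ g : G, ψ = fun n : N =>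
      lam ⟨g * n * g⁻¹, hN.conj_mem n n.2 g⟩}.Finite := by
    have : {ψ : N → ℂ | ∃ g : G, ψ = fun n : N =>
        lam ⟨g * n * g⁻¹, hN.conj_mem n n.2 g⟩} =
        Set.range (fun g : G => fun n : N => lam ⟨g * n * g⁻¹, hN.conj_mem n n.2 g⟩) := by
      ext ψ
      simp only [Set.mem_setOf_eq, Set.mem_range]
      constructor
      · rintro ⟨g, hg⟩
        exact ⟨g, hg.symm⟩
      · rintro ⟨g, hg⟩
        exact ⟨g, hg.symm⟩
    rw [this]
    exact Set.finite_range _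
  rw [finsum_mem_eq_finite_toFinset_sum _ hfin] at hcl
  rw [hcl, classInner_smul_left, classInner_sum_left]
  rw [Finset.sum_eq_zero, mul_zero]
  intro ψ hψ
  rw [Set.Finite.mem_toFinset] at hψ
  obtain ⟨g, rfl⟩ := hψ
  apply irr_classInner_ne (Cfsg.Agent.Lib.H8.isIrrCharacter_conjNormal N lam hlam g) hmu
  intro h
  exact hcon g h.symm

/-- **TRANS**, parametric in LIN / DEG / commutativity for `N`. -/
theorem exists_conj_linear_of (N : Subgroup G) [hN : N.Normal] [Fintype N] (χ : IrrCharacter G)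
    (hnl : (χ : G → ℂ) 1 ≠ 1) (hab : ∀ a b : N, a * b = b * a)
    (hdeg : (χ : G → ℂ) 1 = (Nat.card N : ℂ) - 1)
    (hLIN : ∀ θ : IrrCharacter N, classInner (fun n : N => (χ : G → ℂ) n) (θ : N → ℂ) ≠ 0 →
      (θ : N → ℂ) 1 = 1 ∧ classInner (fun n : N => (χ : G → ℂ) n) (θ : N → ℂ) = 1) :
    ∀ lam mu : N → ℂ, IsCharacter N lam → lam 1 = 1 →
      lam ≠ (fun _ => (1 : ℂ)) → IsCharacter N mu → mu 1 = 1 →
      mu ≠ (fun _ => (1 : ℂ)) →
      ∃ g : G, ∀ (x : G) (hx : x ∈ N) (hgx : g * x * g⁻¹ ∈ N),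
        mu ⟨x, hx⟩ = lam ⟨g * x * g⁻¹, hgx⟩ := by
  classical
  intro lam mu hlam hlam1 hlamne hmu hmu1 hmune
  have hlamI : IsIrrCharacter N lam := isIrrCharacter_of_hom (linearCharHom hlam hlam1)
  have hmuI : IsIrrCharacter N mu := isIrrCharacter_of_hom (linearCharHom hmu hmu1)
  have h1 := mult_eq N χ hnl hab hdeg hLIN ⟨lam, hlamI⟩
  have h2 := mult_eq N χ hnl hab hdeg hLIN ⟨mu, hmuI⟩
  rw [if_neg (fun h => hlamne (congrArg Subtype.val h))] at h1
  rw [if_neg (fun h => hmune (congrArg Subtype.val h))] at h2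
  obtain ⟨g, hg⟩ := exists_conj_of_constituents N χ lam mu hlamI hmuI
    (by rw [h1]; exact one_ne_zero) (by rw [h2]; exact one_ne_zero)
  refine ⟨g, fun x hx hgx => ?_⟩
  rw [hg]

end trans

end Cfsg.Agent.Lib.H15.RU
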