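import Mathlib
import Cfsg.Prelude.Def_Blocks
import Cfsg.Prelude.Def_Characters
import Cfsg.Agent.Lib.H15.RUTRANSa
import Cfsg.Agent.Lib.H23.BlockEquiv
import Cfsg.Agent.Lib.H23.BlockCovering
import Cfsg.Agent.Lib.H23.CliffordCorr
import Cfsg.Agent.Lib.H24.FullyRamCyclic

/-!
S4563 + S4564 piece AMB (helper15), core: `exists_ramified_constituent` from the two abstract
statements FR2 (`fr_mult_sq`) and FR3 (`fr_constituent_iff`) in the group `↥W₁`, given as hypotheses.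
-/

set_option autoImplicit false

namespace Cfsg.Agent.Lib.H15.FRS

open Cfsg Cfsg.Agent.Lib.L0

section amb

variable {H : Type*} [Group H] [Finite H] (Z W₀ W₁ : Subgroup H)
  [Fintype ↥Z] [Fintype ↥W₀] [Fintype ↥W₁]

/-- the core of AMB: FR2 and FR3 for `N = W₀.subgroupOf W₁`, `Z' = Z.subgroupOf W₁` in `↥W₁` are hypotheses -/
theorem amb_core
    (hZW₀ : Z ≤ W₀) (hW : W₀ ≤ W₁) (hnorm : W₁ ≤ Subgroup.normalizer (W₀ : Set H))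
    (hnormZ : W₁ ≤ Subgroup.normalizer (Z : Set H))
    (θ : IrrCharacter ↥Z) (ζ₁ : IrrCharacter ↥W₁) (c : ℕ) (hc : c ^ 2 = Z.relIndex W₁)
    (hζ₁ : ∀ (z : H) (hz : z ∈ Z) (hz' : z ∈ W₁),
      (ζ₁ : ↥W₁ → ℂ) ⟨z, hz'⟩ = (c : ℂ) * (θ : ↥Z → ℂ) ⟨z, hz⟩)
    [hN : (W₀.subgroupOf W₁).Normal] [Fintype ↥(W₀.subgroupOf W₁)] [Fintype ↥(Z.subgroupOf W₁)]
    (hFR2 : ∀ ζ₀ : IrrCharacter ↥(W₀.subgroupOf W₁),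
      classInner (fun n : ↥(W₀.subgroupOf W₁) => (ζ₁ : ↥W₁ → ℂ) n) (ζ₀ : ↥(W₀.subgroupOf W₁) → ℂ) ≠ 0 →
      ∃ g : ℕ, classInner (fun n : ↥(W₀.subgroupOf W₁) => (ζ₁ : ↥W₁ → ℂ) n)
          (ζ₀ : ↥(W₀.subgroupOf W₁) → ℂ) = (g : ℂ) ∧
        g ^ 2 * Nat.card ↥(W₀.subgroupOf W₁) = Nat.card {x : ↥W₁ // ∀ n : ↥(W₀.subgroupOf W₁),
          (ζ₀ : ↥(W₀.subgroupOf W₁) → ℂ) ⟨x * n * x⁻¹, hN.conj_mem n n.2 x⟩ =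
            (ζ₀ : ↥(W₀.subgroupOf W₁) → ℂ) n})
    (hFR3 : ∀ ζ : IrrCharacter ↥(W₀.subgroupOf W₁),
      classInner (fun z : ↥(Z.subgroupOf W₁) => (ζ : ↥(W₀.subgroupOf W₁) → ℂ) ⟨z, hZW₀ z.2⟩)
          (fun z : ↥(Z.subgroupOf W₁) => (θ : ↥Z → ℂ) ⟨(z : H), z.2⟩) ≠ 0 ↔
        classInner (fun n : ↥(W₀.subgroupOf W₁) => (ζ₁ : ↥W₁ → ℂ) n)
          (ζ : ↥(W₀.subgroupOf W₁) → ℂ) ≠ 0) :
    ∃ (ζ₀ : IrrCharacter ↥W₀) (g : ℕ) (T' : Subgroup H),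
      classInner (fun z : ↥Z => (ζ₀ : ↥W₀ → ℂ) ⟨z, hZW₀ z.2⟩) (θ : ↥Z → ℂ) ≠ 0 ∧
      classInner (fun w : ↥W₀ => (ζ₁ : ↥W₁ → ℂ) ⟨w, hW w.2⟩) (ζ₀ : ↥W₀ → ℂ) = (g : ℂ) ∧
      W₀ ≤ T' ∧ T' ≤ W₁ ∧
      (∀ t : H, t ∈ T' ↔ t ∈ W₁ ∧ ∀ (w : H) (hw : w ∈ W₀) (hw' : t * w * t⁻¹ ∈ W₀),
        (ζ₀ : ↥W₀ → ℂ) ⟨t * w * t⁻¹, hw'⟩ = (ζ₀ : ↥W₀ → ℂ) ⟨w, hw⟩) ∧
      g ^ 2 * Nat.card ↥W₀ = Nat.card ↥T' ∧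
      (∀ ζ : IrrCharacter ↥W₀,
        classInner (fun z : ↥Z => (ζ : ↥W₀ → ℂ) ⟨z, hZW₀ z.2⟩) (θ : ↥Z → ℂ) ≠ 0 →
        ∃ x ∈ W₁, ∀ (w : H) (hw : w ∈ W₀) (hw' : x * w * x⁻¹ ∈ W₀),
          (ζ : ↥W₀ → ℂ) ⟨w, hw⟩ = (ζ₀ : ↥W₀ → ℂ) ⟨x * w * x⁻¹, hw'⟩) := by
  classical
  -- notation
  obtain ⟨N, hNdef⟩ : ∃ N : Subgroup ↥W₁, N = W₀.subgroupOf W₁ := ⟨_, rfl⟩
  let eN : ↥(W₀.subgroupOf W₁) ≃* ↥W₀ := Subgroup.subgroupOfEquivOfLe hW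
  let eZ : ↥(Z.subgroupOf W₁) ≃* ↥Z := Subgroup.subgroupOfEquivOfLe (hZW₀.trans hW)
  -- a constituent of the restriction
  obtain ⟨ζ₀', hcon⟩ := Cfsg.Agent.Lib.H23.exists_constituent_restrict (W₀.subgroupOf W₁) ζ₁
  obtain ⟨g, hg1, hg2⟩ := hFR2 ζ₀' hcon
  let ζ₀ : IrrCharacter ↥W₀ := (Cfsg.Agent.Lib.H23.irrEquiv eN).symm ζ₀'
  have hζ₀ : ∀ (w : H) (hw : w ∈ W₀),
      (ζ₀ : ↥W₀ → ℂ) ⟨w, hw⟩ = (ζ₀' : ↥(W₀.subgroupOf W₁) → ℂ) ⟨⟨w, hW hw⟩, hw⟩ := by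
    intro w hw
    rfl
  -- transport of "lies over θ"
  have hover : ∀ (ζ : IrrCharacter ↥W₀),
      classInner (fun z : ↥Z => (ζ : ↥W₀ → ℂ) ⟨z, hZW₀ z.2⟩) (θ : ↥Z → ℂ) =
      classInner (fun z : ↥(Z.subgroupOf W₁) =>
          (Cfsg.Agent.Lib.H23.irrEquiv eN ζ : ↥(W₀.subgroupOf W₁) → ℂ) ⟨z, hZW₀ z.2⟩)
        (fun z : ↥(Z.subgroupOf W₁) => (θ : ↥Z → ℂ) ⟨(z : H), z.2⟩) := by
    intro ζ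
    rw [← Cfsg.Agent.Lib.H23.classInner_comp_equiv eZ]
    rfl
  -- transport of the multiplicity
  have hmult : ∀ (ζ : IrrCharacter ↥W₀),
      classInner (fun w : ↥W₀ => (ζ₁ : ↥W₁ → ℂ) ⟨w, hW w.2⟩) (ζ : ↥W₀ → ℂ) =
      classInner (fun n : ↥(W₀.subgroupOf W₁) => (ζ₁ : ↥W₁ → ℂ) n)
        (Cfsg.Agent.Lib.H23.irrEquiv eN ζ : ↥(W₀.subgroupOf W₁) → ℂ) := by
    intro ζ
    rw [← Cfsg.Agent.Lib.H23.classInner_comp_equiv eN]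
    rfl
  have hζ₀' : Cfsg.Agent.Lib.H23.irrEquiv eN ζ₀ = ζ₀' := (Cfsg.Agent.Lib.H23.irrEquiv eN).apply_symm_apply ζ₀'
  -- the stabilizer
  let St : Subgroup ↥W₁ := Cfsg.Agent.Lib.H23.inertia (W₀.subgroupOf W₁) (ζ₀' : ↥(W₀.subgroupOf W₁) → ℂ)
  have hSt : ∀ x : ↥W₁, x ∈ St ↔ ∀ n : ↥(W₀.subgroupOf W₁),
      (ζ₀' : ↥(W₀.subgroupOf W₁) → ℂ) ⟨x * n * x⁻¹, hN.conj_mem n n.2 x⟩ =
        (ζ₀' : ↥(W₀.subgroupOf W₁) → ℂ) n := fun x => Iff.rfl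
  have hNSt : W₀.subgroupOf W₁ ≤ St :=
    Cfsg.Agent.Lib.H23.le_inertia (W₀.subgroupOf W₁)
      (isClassFunction_of_isCharacter (isCharacter_of_irr ζ₀'.2))
  refine ⟨ζ₀, g, St.map W₁.subtype, ?_, ?_, ?_, ?_, ?_, ?_, ?_⟩
  · -- over θ
    rw [hover ζ₀, hζ₀']
    exact (hFR3 ζ₀').mpr hcon
  · rw [hmult ζ₀, hζ₀']
    exact hg1
  · intro w hw
    exact ⟨⟨w, hW hw⟩, hNSt (show (⟨w, hW hw⟩ : ↥W₁) ∈ W₀.subgroupOf W₁ from hw), rfl⟩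
  · exact Subgroup.map_subtype_le St
  · intro t
    constructor
    · rintro ⟨x, hx, rfl⟩
      refine ⟨x.2, ?_⟩
      intro w hw hw'
      have h1 := (hSt x).mp hx ⟨⟨w, hW hw⟩, hw⟩
      rw [hζ₀ _ hw', hζ₀ w hw, ← h1]
      rfl
    · rintro ⟨ht, hcond⟩
      refine ⟨⟨t, ht⟩, (hSt _).mpr ?_, rfl⟩
      intro n
      have h1 := hcond (n : H) n.2 (by
        have := hN.conj_mem n n.2 ⟨t, ht⟩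
        exact this)
      exact h1
  · rw [Subgroup.card_map_of_injective W₁.subtype_injective, ← Nat.card_congr eN.toEquiv]
    exact hg2
  · intro ζ hζ
    have h2 : classInner (fun n : ↥(W₀.subgroupOf W₁) => (ζ₁ : ↥W₁ → ℂ) n)
        (Cfsg.Agent.Lib.H23.irrEquiv eN ζ : ↥(W₀.subgroupOf W₁) → ℂ) ≠ 0 := by
      rw [← hFR3]
      rw [← hover ζ]
      exact hζ
    obtain ⟨x, hx⟩ := Cfsg.Agent.Lib.H15.RU.exists_conj_of_constituents (W₀.subgroupOf W₁) ζ₁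
      (ζ₀' : ↥(W₀.subgroupOf W₁) → ℂ) (Cfsg.Agent.Lib.H23.irrEquiv eN ζ : ↥(W₀.subgroupOf W₁) → ℂ)
      ζ₀'.2 (Cfsg.Agent.Lib.H23.irrEquiv eN ζ).2 hcon h2
    refine ⟨(x : H), x.2, ?_⟩
    intro w hw hw'
    have h3 := congrFun hx ⟨⟨w, hW hw⟩, hw⟩
    rw [hζ₀ _ hw']
    exact h3

end amb

end Cfsg.Agent.Lib.H15.FRS
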