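import Mathlib
import Cfsg.Prelude.Def_Blocks
import Cfsg.Prelude.Def_Characters
import Cfsg.Agent.Lib.H15.FRSAMBa
import Cfsg.Agent.Lib.H11.FRSFR2
import Cfsg.Agent.Lib.H11.FRSFR3

/-!
S4563 + S4564 piece AMB (helper15): `exists_ramified_constituent` = FR2 + FR3 + Clifford conjugacy
in the group `↥W₁` with `N = W₀.subgroupOf W₁`, `Z' = Z.subgroupOf W₁`.
-/

set_option autoImplicit false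

namespace Cfsg.Agent.Lib.H15.FRS

open Cfsg Cfsg.Agent.Lib.L0

/-- AMB -/
theorem exists_ramified_constituent {H : Type*} [Group H] [Finite H] (Z W₀ W₁ : Subgroup H)
    [Fintype ↥Z] [Fintype ↥W₀] [Fintype ↥W₁]
    (hZW₀ : Z ≤ W₀) (hW : W₀ ≤ W₁) (hnorm : W₁ ≤ Subgroup.normalizer (W₀ : Set H))
    (hnormZ : W₁ ≤ Subgroup.normalizer (Z : Set H))
    (θ : IrrCharacter ↥Z) (ζ₁ : IrrCharacter ↥W₁) (c : ℕ) (hc : c ^ 2 = Z.relIndex W₁)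
    (hζ₁ : ∀ (z : H) (hz : z ∈ Z) (hz' : z ∈ W₁),
      (ζ₁ : ↥W₁ → ℂ) ⟨z, hz'⟩ = (c : ℂ) * (θ : ↥Z → ℂ) ⟨z, hz⟩) :
    ∃ (ζ₀ : IrrCharacter ↥W₀) (g : ℕ) (T' : Subgroup H),
      classInner (fun z : ↥Z => (ζ₀ : ↥W₀ → ℂ) ⟨z, hZW₀ z.2⟩) (θ : ↥Z → ℂ) ≠ 0 ∧
      classInner (fun w : ↥W₀ => (ζ₁ : ↥W₁ → ℂ) ⟨w, hW w.2⟩) (ζ₀ : ↥W₀ → ℂ) = (g : ℂ) ∧
      W₀ ≤ T' ∧ T' ≤ W₁ ∧
      (∀ t : H, t ∈ T' ↔ t ∈ W₁ ∧ ∀ (w : H) (hw : w ∈ W₀) (hw' : t * w * t⁻¹ ∈ W₀),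
        (ζ₀ : ↥W₀ → ℂ) ⟨t * w * t⁻¹, hw'⟩ = (ζ₀ : ↥W₀ → ℂ) ⟨w, hw⟩) ∧
      g ^ 2 * Nat.card ↥W₀ = Nat.card ↥T' ∧
      (∀ ζ : IrrCharacter ↥W₀,
        classInner (fun z : ↥Z => (ζ : ↥W₀ → ℂ) ⟨z, hZW₀ z.2⟩) (θ : ↥Z → ℂ) ≠ 0 →
        ∃ x ∈ W₁, ∀ (w : H) (hw : w ∈ W₀) (hw' : x * w * x⁻¹ ∈ W₀),
          (ζ : ↥W₀ → ℂ) ⟨w, hw⟩ = (ζ₀ : ↥W₀ → ℂ) ⟨x * w * x⁻¹, hw'⟩) := by
  classical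
  haveI hN : (W₀.subgroupOf W₁).Normal := (Subgroup.normal_subgroupOf_iff_le_normalizer hW).mpr hnorm
  haveI hZn : (Z.subgroupOf W₁).Normal :=
    (Subgroup.normal_subgroupOf_iff_le_normalizer (hZW₀.trans hW)).mpr hnormZ
  haveI : Fintype ↥(W₀.subgroupOf W₁) := Fintype.ofFinite _
  haveI : Fintype ↥(Z.subgroupOf W₁) := Fintype.ofFinite _
  let eZ : ↥(Z.subgroupOf W₁) ≃* ↥Z := Subgroup.subgroupOfEquivOfLe (hZW₀.trans hW)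
  let θ' : IrrCharacter ↥(Z.subgroupOf W₁) := Cfsg.Agent.Lib.H23.irrEquiv eZ θ
  have hZN : Z.subgroupOf W₁ ≤ W₀.subgroupOf W₁ := Subgroup.subgroupOf_mono W₁ hZW₀
  have hc' : c ^ 2 = (Z.subgroupOf W₁).index := hc
  have hζ₁' : ∀ z : ↥(Z.subgroupOf W₁), (ζ₁ : ↥W₁ → ℂ) z = (c : ℂ) * (θ' : ↥(Z.subgroupOf W₁) → ℂ) z := by
    intro z
    exact hζ₁ (z : H) z.2 (z : ↥W₁).2
  have hvan : ∀ x : ↥W₁, x ∉ W₀.subgroupOf W₁ → (ζ₁ : ↥W₁ → ℂ) x = 0 := by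
    intro x hx
    exact Cfsg.Agent.Lib.H24.fr_vanish hc' hζ₁' x (fun h => hx (hZN h))
  refine amb_core Z W₀ W₁ hZW₀ hW hnorm hnormZ θ ζ₁ c hc hζ₁ ?_ ?_
  · intro ζ₀ hcon
    exact Cfsg.Agent.Lib.H11.FRS.fr_mult_sq (W₀.subgroupOf W₁) ζ₁ hvan ζ₀ hcon
  · intro ζ
    exact Cfsg.Agent.Lib.H11.FRS.fr_constituent_iff (Z.subgroupOf W₁) (W₀.subgroupOf W₁) hZN θ' ζ₁ c hc' hζ₁' ζ

end Cfsg.Agent.Lib.H15.FRS
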