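import Cfsg.Agent.Lib.H15.TT5
import Cfsg.Agent.Lib.H18.TTFischer5
import Cfsg.Agent.Lib.H7.TTPrim3

set_option autoImplicit false

/-!
helper15: S1615 (Fischer: `O(⟨D_x⟩)` not central gives `S_5`), part 1:
pairs with the same commuting partners inside `D_x`, and injectivity of `d ↦ D_d`.
-/

namespace Cfsg.Agent.Lib.H15.FS

open Cfsg Cfsg.Agent.Lib.H26.ThreeTrans Cfsg.Agent.Lib.H15.TT

variable {G : Type*} [Group G] {D : Set G}

/-- `a, b` are distinct members of `D_x` with the same commuting partners inside `D_x`. -/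
def WP (D : Set G) (x a b : G) : Prop :=
  a ∈ Nb D x ∧ b ∈ Nb D x ∧ a ≠ b ∧ ∀ e ∈ Nb D x, e ∈ Nb D a ↔ e ∈ Nb D b

theorem WP.symm {x a b : G} (h : WP D x a b) : WP D x b a :=
  ⟨h.2.1, h.1, h.2.2.1.symm, fun e he => (h.2.2.2 e he).symm⟩

theorem WP.nc {x a b : G} (h : WP D x a b) : ¬ Commute a b := by
  intro hc
  have hb : b ∈ Nb D a := ⟨h.2.1.1, h.2.2.1.symm, hc⟩
  have := (h.2.2.2 b h.2.1).1 hb
  exact this.2.1 rfl

theorem WP.trans {x a b c : G} (h1 : WP D x a b) (h2 : WP D x b c) (hne : a ≠ c) : WP D x a c :=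
  ⟨h1.1, h2.2.1, hne, fun e he => (h1.2.2.2 e he).trans (h2.2.2.2 e he)⟩

theorem WP.cj (h : Ctx D) {x a b : G} (hw : WP D x a b) (g : G) :
    WP D (cj g x) (cj g a) (cj g b) := by
  refine ⟨h.cj_mem_Nb g hw.1, h.cj_mem_Nb g hw.2.1, fun e => hw.2.2.1 (cj_injective g e), ?_⟩
  intro e he
  rw [h.mem_Nb_cj_iff] at he
  rw [h.mem_Nb_cj_iff, h.mem_Nb_cj_iff]
  exact hw.2.2.2 _ he

/-- The standing hypotheses for the Fischer situation. -/
structure FCtx (D : Set G) : Prop where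
  hD : IsThreeTranspositionClass D
  hprim : IsPrimitiveUnderConj D
  hw : ∃ a ∈ D, ∃ b ∈ D, a ≠ b ∧ Commute a b

namespace FCtx

variable (F : FCtx D)
include F

theorem ctx : Ctx D := ⟨F.hD.1, class_conj F.hD⟩

theorem exists_cj {a b : G} (ha : a ∈ D) (hb : b ∈ D) : ∃ g : G, cj g a = b :=
  F.hprim.1 a ha b hb

/-- `d ↦ D_d` is injective. -/
theorem nb_injective {a b : G} (ha : a ∈ D) (hb : b ∈ D) (e : Nb D a = Nb D b) : a = b := by
  have hconj := class_conj F.hD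
  rcases (Cfsg.Agent.Lib.H7.TT.weqRel_invRel hconj).trivial_or_univ_of_primitive F.hprim with h | h
  · exact h a b ⟨ha, hb, e⟩
  · exfalso
    obtain ⟨p, hp, q, hq, hpq, hc⟩ := F.hw
    exact (h p hp q hq).2.not_commute (Ne.symm hpq) hc

variable [Finite G]

theorem ncard_Nb_eq {a b : G} (ha : a ∈ D) (hb : b ∈ D) : (Nb D a).ncard = (Nb D b).ncard := by
  obtain ⟨g, rfl⟩ := F.exists_cj ha hb
  have : Nb D (cj g a) = (cj g) '' (Nb D a) := by
    ext y
    rw [F.ctx.mem_Nb_cj_iff]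
    constructor
    · intro hy
      exact ⟨_, hy, cj_cj_inv g y⟩
    · rintro ⟨z, hz, rfl⟩
      rwa [cj_inv_cj]
  rw [this, Set.ncard_image_of_injective _ (cj_injective g)]

/-- For `a ≠ b` some commuting partner of `a` is not one of `b`. -/
theorem exists_nb_diff {a b : G} (ha : a ∈ D) (hb : b ∈ D) (hne : a ≠ b) :
    ∃ u ∈ Nb D a, u ∉ Nb D b := by
  by_contra hcon
  push Not at hcon
  have hsub : Nb D a ⊆ Nb D b := hcon
  have hfin : (Nb D b).Finite := Set.toFinite _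
  have := Set.eq_of_subset_of_ncard_le hsub (F.ncard_Nb_eq ha hb).symm.le hfin
  exact hne (F.nb_injective ha hb this)

end FCtx

end Cfsg.Agent.Lib.H15.FS
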