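import Cfsg.Agent.Lib.H15.FS1

set_option autoImplicit false

/-!
helper15: S1615, part 2: the `S_5` generated by a chain, transfer of `WP`, and the
triangle-freeness of the commuting graph.
-/

namespace Cfsg.Agent.Lib.H15.FS

open Cfsg Cfsg.Agent.Lib.H26.ThreeTrans Cfsg.Agent.Lib.H15.TT Equiv
open Cfsg.Agent.Lib.H7.TT (Dd)
open Cfsg.Agent.Lib.H18.TTF (Step dd_connected dd_single_class)

variable {G : Type*} [Group G] {D : Set G}

theorem cj_cj_eq (g k m : G) : cj (cj g k) m = cj g (cj k (cj g⁻¹ m)) := by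
  unfold cj; group

theorem commute_of_mem_closure_Dd {x g : G} (hg : g ∈ Subgroup.closure (Dd D x)) :
    Commute g x := by
  induction hg using Subgroup.closure_induction with
  | mem p hp => exact hp.2.2.symm
  | one => exact Commute.one_left x
  | mul p q _ _ hp hq => exact hp.mul_left hq
  | inv p _ hp => exact hp.inv_left

/-- A chain `x – u – b – a` of 3-transpositions generates an image of `S_5`. -/
theorem exists_hom (h : Ctx D) {x u b a : G} (hx : x ∈ D) (hu : u ∈ D) (hb : b ∈ D) (ha : a ∈ D)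
    (hxb : Commute x b) (hxa : Commute x a) (hua : Commute u a)
    (hxu : ¬ Commute x u) (hub : ¬ Commute u b) (hba : ¬ Commute b a) :
    ∃ φ : Perm (Fin 5) →* G, φ (swap 0 1) = x ∧ φ (swap 1 2) = u ∧ φ (swap 2 3) = b ∧
      φ (swap 3 4) = a ∧ Function.Injective φ := by
  have hlift : (CoxeterMatrix.A 4).IsLiftable ![x, u, b, a] := by
    apply liftable4
    · exact h.sq hx
    · exact h.sq hu
    · exact h.sq hb
    · exact h.sq ha
    · exact h.cube hx hu hxu
    · exact h.cube hu hx (fun hc' => hxu hc'.symm)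
    · exact h.cube hu hb hub
    · exact h.cube hb hu (fun hc' => hub hc'.symm)
    · exact h.cube hb ha hba
    · exact h.cube ha hb (fun hc' => hba hc'.symm)
    · exact sq_of_commute (h.sq hx) (h.sq hb) hxb
    · exact sq_of_commute (h.sq hb) (h.sq hx) hxb.symm
    · exact sq_of_commute (h.sq hx) (h.sq ha) hxa
    · exact sq_of_commute (h.sq ha) (h.sq hx) hxa.symm
    · exact sq_of_commute (h.sq hu) (h.sq ha) hua
    · exact sq_of_commute (h.sq ha) (h.sq hu) hua.symm
  obtain ⟨cs, hcs⟩ := Cfsg.Agent.S2530.result 4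
  set φ : Perm (Fin 5) →* G := cs.lift ⟨![x, u, b, a], hlift⟩ with hφ
  have hφs : ∀ i : Fin 4, φ (swap i.castSucc i.succ) = ![x, u, b, a] i := by
    intro i
    rw [← hcs i]
    exact cs.lift_apply_simple hlift i
  have hφ0 : φ (swap 0 1) = x := hφs 0
  have hφ1 : φ (swap 1 2) = u := hφs 1
  have hφ2 : φ (swap 2 3) = b := hφs 2
  have hφ3 : φ (swap 3 4) = a := hφs 3
  refine ⟨φ, hφ0, hφ1, hφ2, hφ3, ?_⟩
  rw [← MonoidHom.ker_eq_bot_iff]
  rcases Subgroup.bot_or_nontrivial φ.ker with hk | hk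
  · exact hk
  · exfalso
    have hA := Equiv.Perm.alternatingGroup_le_of_normal (α := Fin 5) (by simp) hk
    have hmem : swap (0 : Fin 5) 1 * swap 1 2 ∈ alternatingGroup (Fin 5) := by
      rw [Equiv.Perm.mem_alternatingGroup]; decide
    have := hA hmem
    rw [MonoidHom.mem_ker, map_mul, hφ0, hφ1] at this
    apply hxu
    have h1 : u = x⁻¹ := eq_inv_of_mul_eq_one_right this
    rw [h1, h.inv hx]

/-- Transfer of `WP` along a chain. -/
theorem WP.step (h : Ctx D) {x a b u : G} (hx : x ∈ D) (hw : WP D x a b) (hu : u ∈ Nb D a)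
    (hub : ¬ Commute u b) : ¬ Commute x u ∧ WP D a x u := by
  have ha := hw.1
  have hb := hw.2.1
  have hxu : ¬ Commute x u := by
    intro hc
    have hux : u ≠ x := by
      rintro rfl
      exact hub hb.2.2
    have hun : u ∈ Nb D x := ⟨hu.1, hux, hc⟩
    have := (hw.2.2.2 u hun).1 hu
    exact hub this.2.2.symm
  refine ⟨hxu, ?_⟩
  obtain ⟨φ, h0, h1, h2, h3, -⟩ := exists_hom h hx hu.1 hb.1 ha.1 hb.2.2 ha.2.2 hu.2.2.symm hxu hub
    (fun hc => hw.nc hc.symm)
  set σ : Perm (Fin 5) := swap 0 4 * swap 1 3 with hσ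
  have e1 : σ * swap 0 1 * σ⁻¹ = swap 3 4 := by decide
  have e2 : σ * swap 3 4 * σ⁻¹ = swap 0 1 := by decide
  have e3 : σ * swap 2 3 * σ⁻¹ = swap 1 2 := by decide
  have c1 : TT.cj (φ σ) x = a := by
    unfold TT.cj
    rw [← h0, ← map_inv, ← map_mul, ← map_mul, e1, h3]
  have c2 : TT.cj (φ σ) a = x := by
    unfold TT.cj
    rw [← h3, ← map_inv, ← map_mul, ← map_mul, e2, h0]
  have c3 : TT.cj (φ σ) b = u := by
    unfold TT.cj
    rw [← h2, ← map_inv, ← map_mul, ← map_mul, e3, h1]
  have := hw.cj h (φ σ)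
  rwa [c1, c2, c3] at this

namespace FCtx

variable (F : FCtx D)
include F

variable [Finite G]

/-- Every commuting partner of `a` commutes with `x` or is `W`-equivalent to `x` in `D_a`. -/
theorem cover {x a b : G} (hx : x ∈ D) (hw : WP D x a b) :
    ∀ y ∈ Nb D a, Commute y x ∨ WP D a x y := by
  have h := F.ctx
  intro y hy
  by_cases hc : Commute y x
  · exact Or.inl hc
  right
  have ha := hw.1
  have hb := hw.2.1
  by_cases hyb : Commute y b
  · have hxy : ¬ Commute x y := fun hc' => hc hc'.symm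
    set z := cj x y with hz
    have hza : cj z a = a := by
      rw [hz, cj_cj_eq, h.inv hx, cj_eq_of_commute ha.2.2, cj_eq_of_commute hy.2.2.symm,
        cj_eq_of_commute ha.2.2]
    have hzb : cj z b = b := by
      rw [hz, cj_cj_eq, h.inv hx, cj_eq_of_commute hb.2.2, cj_eq_of_commute hyb,
        cj_eq_of_commute hb.2.2]
    have hzx : cj z x = y := by
      rw [hz, cj_cj_eq, h.inv hx, cj_self]
      exact h.cj_braid hx hy.1 hxy
    have hw' : WP D y a b := by
      have := hw.cj h z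
      rwa [hzx, hza, hzb] at this
    obtain ⟨u, hu, hunb⟩ := F.exists_nb_diff ha.1 hb.1 hw.2.2.1
    have hub : ¬ Commute u b := by
      intro hcub
      apply hunb
      refine ⟨hu.1, ?_, hcub.symm⟩
      rintro rfl
      exact hw.nc hu.2.2
    obtain ⟨-, w1⟩ := hw.step h hx hu hub
    obtain ⟨-, w2⟩ := hw'.step h hy.1 hu hub
    exact w1.trans w2.symm (fun e => hc (e ▸ Commute.refl y))
  · exact (hw.step h hx hy hyb).2

/-- `D_x` consists of pairwise non-commuting elements, as soon as it contains a `WP`. -/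
theorem tf_at {x a b : G} (hx : x ∈ D) (hw : WP D x a b) :
    ∀ y ∈ Nb D x, ∀ z ∈ Nb D x, y ≠ z → ¬ Commute y z := by
  have h := F.ctx
  have ha := hw.1
  have hb := hw.2.1
  obtain ⟨u, hu, hunb⟩ := F.exists_nb_diff ha.1 hb.1 hw.2.2.1
  have hub : ¬ Commute u b := by
    intro hcub
    apply hunb
    refine ⟨hu.1, ?_, hcub.symm⟩
    rintro rfl
    exact hw.nc hu.2.2
  obtain ⟨-, hw'⟩ := hw.step h hx hu hub
  have hcov := F.cover ha.1 hw'
  -- the W-class of `a`
  have hall : ∀ y ∈ Nb D x, y = a ∨ WP D x a y := by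
    intro y hy
    have hpath := dd_connected F.hD F.hprim hx (y := a) (z := y) ha hy
    induction hpath with
    | refl => exact Or.inl rfl
    | @tail p q _ hstep ih =>
      obtain ⟨hp, hq, hpq⟩ := hstep
      rcases hcov q hq with hqa | hqa
      · by_cases e : q = a
        · exact Or.inl e
        · exfalso
          have hqn : q ∈ Nb D a := ⟨hq.1, e, hqa.symm⟩
          rcases ih hp with rfl | hwp
          · exact hpq hqa.symm
          · have := (hwp.2.2.2 q hq).1 hqn
            exact hpq this.2.2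
      · exact Or.inr hqa
  have hclaim : ∀ e ∈ Nb D x, e ≠ a → ¬ Commute a e := by
    intro e he hea
    rcases hall e he with rfl | hwp
    · exact absurd rfl hea
    · exact hwp.nc
  intro y hy z hz hyz
  obtain ⟨g, hg, hgy⟩ := dd_single_class F.hD F.hprim hx (y := a) (z := y) ha hy
  have hgx : Commute g x := commute_of_mem_closure_Dd hg
  have hgx' : cj g⁻¹ x = x := cj_eq_of_commute hgx.inv_left
  have hz' : cj g⁻¹ z ∈ Nb D x := by
    have := h.cj_mem_Nb g⁻¹ hz
    rwa [hgx'] at this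
  have hne : cj g⁻¹ z ≠ a := by
    intro e
    apply hyz
    have : z = cj g a := by rw [← e, cj_cj_inv]
    rw [this]
    exact hgy.symm
  have hnc := hclaim _ hz' hne
  intro hc
  apply hnc
  have : Commute (cj g⁻¹ y) (cj g⁻¹ z) := commute_cj_cj.2 hc
  have e : cj g⁻¹ y = a := by
    rw [← hgy]
    exact cj_inv_cj g a
  rwa [e] at this

/-- The commuting graph is triangle-free, as soon as some `D_x` contains a `WP`. -/
theorem tf {x a b : G} (hx : x ∈ D) (hw : WP D x a b) :
    ∀ d ∈ D, ∀ y ∈ Nb D d, ∀ z ∈ Nb D d, y ≠ z → ¬ Commute y z := by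
  intro d hd
  obtain ⟨g, rfl⟩ := F.exists_cj hx hd
  exact F.tf_at (F.ctx.cj_mem g hx) (hw.cj F.ctx g)

end FCtx

end Cfsg.Agent.Lib.H15.FS
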