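import Cfsg.Agent.Lib.H15.FS2
import Cfsg.Agent.Lib.H22.PPrimeCore
import Cfsg.Prelude.Def_CaseTheorems

set_option autoImplicit false

/-!
helper15: S1615, part 3: a non-central odd core of `⟨D_x⟩` produces a `WP`.
-/

namespace Cfsg.Agent.Lib.H15.FS

open Cfsg Cfsg.Agent.Lib.H26.ThreeTrans Cfsg.Agent.Lib.H15.TT

variable {G : Type*} [Group G] {D : Set G}

theorem nb_of_mul_mem (h : Ctx D) {x p q c : G} {N : Subgroup G}
    (hodd : ∀ t ∈ N, t * t = 1 → t = 1) (hnorm : ∀ c ∈ Nb D x, ∀ t ∈ N, c * t * c⁻¹ ∈ N)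
    (hp : p ∈ D) (hq : q ∈ D) (hpq : ¬ Commute p q) (hN : p * q ∈ N)
    (hc : c ∈ Nb D x) (hcp : c ∈ Nb D p) : c ∈ Nb D q := by
  have hcq : c ≠ q := by
    rintro rfl
    exact hpq hcp.2.2
  refine ⟨hc.1, hcq, ?_⟩
  by_contra hqc
  have hci : c⁻¹ = c := h.inv hc.1
  have hqi : q⁻¹ = q := h.inv hq
  have hpi : p⁻¹ = p := h.inv hp
  have t2 : c * (p * q) * c⁻¹ ∈ N := hnorm c hc _ hN
  have e2 : c * (p * q) * c⁻¹ = p * (c * q * c) := by
    rw [hci]
    calc c * (p * q) * c = (c * p) * q * c := by group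
      _ = (p * c) * q * c := by rw [hcp.2.2.eq]
      _ = p * (c * q * c) := by group
  rw [e2] at t2
  have t3 : (p * q)⁻¹ * (p * (c * q * c)) ∈ N := N.mul_mem (N.inv_mem hN) t2
  have e3 : (p * q)⁻¹ * (p * (c * q * c)) = (q * c) * (q * c) := by
    rw [mul_inv_rev, hqi, hpi]
    calc q * p * (p * (c * q * c)) = q * (p * p) * c * q * c := by group
      _ = (q * c) * (q * c) := by rw [h.sq hp]; group
  rw [e3] at t3
  have hcube : (q * c) ^ 3 = 1 := h.cube hq hc.1 hqc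
  have e4 : (q * c) * (q * c) = (q * c)⁻¹ := by
    apply eq_inv_of_mul_eq_one_left
    rw [pow_three'] at hcube
    exact hcube
  rw [e4] at t3
  have t4 : q * c ∈ N := by
    have := N.inv_mem t3
    rwa [inv_inv] at this
  have t5 : p * q * (q * c) ∈ N := N.mul_mem hN t4
  have e5 : p * q * (q * c) = p * c := by
    calc p * q * (q * c) = p * (q * q) * c := by group
      _ = p * c := by rw [h.sq hq, mul_one]
  rw [e5] at t5
  have hsq : (p * c) * (p * c) = 1 := by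
    have := sq_of_commute (h.sq hp) (h.sq hc.1) hcp.2.2
    rwa [pow_two] at this
  have := hodd _ t5 hsq
  apply hcp.2.1
  have h1 : c = p⁻¹ := eq_inv_of_mul_eq_one_right this
  rw [h1, hpi]

theorem WP_of_normal_odd (h : Ctx D) {x e b : G} {N : Subgroup G}
    (hodd : ∀ t ∈ N, t * t = 1 → t = 1) (hnorm : ∀ c ∈ Nb D x, ∀ t ∈ N, c * t * c⁻¹ ∈ N)
    (he : e ∈ Nb D x) (hb : b ∈ Nb D x) (hne : e ≠ b) (heb : e * b ∈ N) : WP D x e b := by
  have hnc : ¬ Commute e b := by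
    intro hc
    have hsq : (e * b) * (e * b) = 1 := by
      have := sq_of_commute (h.sq he.1) (h.sq hb.1) hc
      rwa [pow_two] at this
    have := hodd _ heb hsq
    apply hne
    have h1 : b = e⁻¹ := eq_inv_of_mul_eq_one_right this
    rw [h1, h.inv he.1]
  have hbe : b * e ∈ N := by
    have := N.inv_mem heb
    rwa [mul_inv_rev, h.inv he.1, h.inv hb.1] at this
  refine ⟨he, hb, hne, fun c hc => ⟨?_, ?_⟩⟩
  · exact nb_of_mul_mem h hodd hnorm he.1 hb.1 hnc heb hc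
  · exact nb_of_mul_mem h hodd hnorm hb.1 he.1 (fun hc' => hnc hc'.symm) hbe hc

theorem exists_WP [Finite G] (h : Ctx D) {x : G}
    (hnc : ¬ Cfsg.oddCore ↥(Subgroup.closure (Nb D x)) ≤
      Subgroup.center ↥(Subgroup.closure (Nb D x))) :
    ∃ a b, WP D x a b := by
  set H : Subgroup G := Subgroup.closure (Nb D x) with hH
  set O : Subgroup ↥H := Cfsg.oddCore ↥H with hO
  have hOn : O.Normal := Cfsg.Agent.Lib.H22.pPrimeCore_normal 2
  have hOc : (Nat.card O).Coprime 2 := Cfsg.Agent.Lib.H22.card_pPrimeCore_coprime 2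
  obtain ⟨n, hnO, hncen⟩ := SetLike.not_le_iff_exists.1 hnc
  -- a generator not commuting with `n`
  obtain ⟨e, he, hen⟩ : ∃ e ∈ Nb D x, ¬ Commute (n : G) e := by
    by_contra hcon
    push Not at hcon
    apply hncen
    rw [Subgroup.mem_center_iff]
    intro k
    have hk : ∀ g ∈ H, Commute (n : G) g := by
      intro g hg
      induction hg using Subgroup.closure_induction with
      | mem p hp => exact hcon p hp
      | one => exact Commute.one_right _
      | mul p q _ _ hp hq => exact hp.mul_right hq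
      | inv p _ hp => exact hp.inv_right
    apply Subtype.ext
    exact (hk k k.2).eq.symm
  set N : Subgroup G := O.map H.subtype with hN
  have hodd : ∀ t ∈ N, t * t = 1 → t = 1 := by
    rintro _ ⟨s, hs, rfl⟩ hss
    have hss' : s * s = 1 := Subtype.ext hss
    have h1 : orderOf s ∣ 2 := orderOf_dvd_of_pow_eq_one (by rw [pow_two]; exact hss')
    have h2 : orderOf s ∣ Nat.card O := Subgroup.orderOf_dvd_natCard O hs
    have h3 : orderOf s ∣ Nat.gcd (Nat.card O) 2 := Nat.dvd_gcd h2 h1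
    rw [hOc] at h3
    have h4 : orderOf s = 1 := Nat.dvd_one.1 h3
    rw [orderOf_eq_one_iff] at h4
    rw [h4]; rfl
  have hnorm : ∀ c ∈ Nb D x, ∀ t ∈ N, c * t * c⁻¹ ∈ N := by
    rintro c hc _ ⟨s, hs, rfl⟩
    have hcH : c ∈ H := Subgroup.subset_closure hc
    exact ⟨⟨c, hcH⟩ * s * ⟨c, hcH⟩⁻¹, hOn.conj_mem s hs _, rfl⟩
  have hnx : Commute (n : G) x := Cfsg.Agent.Lib.H15.FS.commute_of_mem_closure_Dd n.2
  have hb : cj (n : G) e ∈ Nb D x := by
    have := h.cj_mem_Nb (n : G) he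
    rwa [cj_eq_of_commute hnx] at this
  have hne : e ≠ cj (n : G) e := by
    intro e1
    exact hen (cj_eq_self_iff.1 e1.symm)
  have heH : e ∈ H := Subgroup.subset_closure he
  have heb : e * cj (n : G) e ∈ N := by
    have h1 : (⟨e, heH⟩ : ↥H) * n * (⟨e, heH⟩ : ↥H)⁻¹ ∈ O := hOn.conj_mem n hnO _
    have h2 : (⟨e, heH⟩ : ↥H) * n * (⟨e, heH⟩ : ↥H)⁻¹ * n⁻¹ ∈ O := O.mul_mem h1 (O.inv_mem hnO)
    refine ⟨_, h2, ?_⟩
    simp only [Subgroup.coe_subtype, Subgroup.coe_mul, Subgroup.coe_inv]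
    unfold cj
    rw [h.inv he.1]
    group
  exact ⟨e, cj (n : G) e, WP_of_normal_odd h hodd hnorm he hb hne heb⟩

end Cfsg.Agent.Lib.H15.FS
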