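import Cfsg.Agent.Lib.H15.FS3
import Cfsg.Agent.S5561
import Cfsg.Agent.Lib.H1.PCore

set_option autoImplicit false

/-!
helper15: S1615, part 4: a set of pairwise non-commuting 3-transpositions closed under mutual
conjugation has `3`-power size.
-/

namespace Cfsg.Agent.Lib.H15.FS

open Cfsg Cfsg.Agent.Lib.H26.ThreeTrans Cfsg.Agent.Lib.H15.TT

variable {G : Type*} [Group G] {D : Set G}

theorem ncard_pow_three [Finite G] (h : Ctx D) {S : Set G} (hSD : S ⊆ D) (hne : S.Nonempty)
    (hcl : ∀ y ∈ S, ∀ z ∈ S, cj y z ∈ S) (hnc : ∀ y ∈ S, ∀ z ∈ S, y ≠ z → ¬ Commute y z) :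
    ∃ m : ℕ, S.ncard = 3 ^ m := by
  classical
  haveI : Fact (Nat.Prime 3) := ⟨Nat.prime_three⟩
  obtain ⟨e, he⟩ := hne
  set K : Subgroup G := Subgroup.closure S with hK
  have heK : e ∈ K := Subgroup.subset_closure he
  set e' : ↥K := ⟨e, heK⟩ with he'
  have hord : orderOf e' = 2 := by
    rw [← Subgroup.orderOf_coe]
    exact h.hS.1 e (hSD he)
  -- `K` permutes `S`
  have hKS : ∀ k ∈ K, (∀ s ∈ S, cj k s ∈ S) ∧ (∀ s ∈ S, cj k⁻¹ s ∈ S) := by
    intro k hk
    induction hk using Subgroup.closure_induction with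
    | mem y hy =>
      refine ⟨fun s hs => hcl y hy s hs, fun s hs => ?_⟩
      rw [h.inv (hSD hy)]
      exact hcl y hy s hs
    | one =>
      refine ⟨fun s hs => ?_, fun s hs => ?_⟩
      · rwa [cj_one]
      · rwa [inv_one, cj_one]
    | mul p q _ _ hp hq =>
      refine ⟨fun s hs => ?_, fun s hs => ?_⟩
      · rw [cj_mul]
        exact hp.1 _ (hq.1 s hs)
      · rw [mul_inv_rev, cj_mul]
        exact hq.2 _ (hp.2 s hs)
    | inv p _ hp =>
      refine ⟨fun s hs => hp.2 s hs, fun s hs => ?_⟩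
      rw [inv_inv]
      exact hp.1 s hs
  have hconjS : ∀ x ∈ conjugatesOf e', (x : G) ∈ S := by
    intro x hx
    rw [mem_conjugatesOf_iff', isConj_iff] at hx
    obtain ⟨c, rfl⟩ := hx
    have := (hKS c c.2).1 e he
    simpa [cj] using this
  have hprod : ∀ a ∈ conjugatesOf e', ∀ b ∈ conjugatesOf e', ∃ k : ℕ, orderOf (a * b) = 3 ^ k := by
    intro a ha b hb
    have haS := hconjS a ha
    have hbS := hconjS b hb
    by_cases hab : (a : G) = b
    · refine ⟨0, ?_⟩
      have : a * b = 1 := by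
        apply Subtype.ext
        rw [Subgroup.coe_mul, ← hab, h.sq (hSD haS)]; rfl
      rw [this, orderOf_one, pow_zero]
    · have h3 : ((a : G) * (b : G)) ^ 3 = 1 := h.cube (hSD haS) (hSD hbS) (hnc _ haS _ hbS hab)
      have hdvd : orderOf (a * b) ∣ 3 := by
        rw [← Subgroup.orderOf_coe]
        exact orderOf_dvd_of_pow_eq_one h3
      rcases (Nat.dvd_prime Nat.prime_three).1 hdvd with h1 | h1
      · exact ⟨0, by rw [h1, pow_zero]⟩
      · exact ⟨1, by rw [h1, pow_one]⟩
  have hmain := Cfsg.Agent.S5561.result e' hord hprod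
  set P : Subgroup ↥K := pCore 3 ↥K with hP
  have hPp : IsPGroup 3 ↥P := Cfsg.Agent.Lib.H1.pCore_isPGroup 3 ↥K
  -- the conjugation action of `P` on `G`
  letI : MulAction ↥P G :=
    MulAction.compHom G ((MulAut.conj).comp ((K.subtype).comp P.subtype))
  have hsmul : ∀ (p : ↥P) (g : G), p • g = cj ((p : ↥K) : G) g := fun p g => rfl
  have horb : MulAction.orbit ↥P e = S := by
    ext s
    constructor
    · rintro ⟨p, rfl⟩
      show p • e ∈ S
      rw [hsmul]
      exact (hKS _ (p : ↥K).2).1 e he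
    · intro hs
      by_cases hse : s = e
      · rw [hse]
        exact MulAction.mem_orbit_self e
      · have hsK : s ∈ K := Subgroup.subset_closure hs
        have hes : ¬ Commute e s := hnc e he s hs (Ne.symm hse)
        have hs' : (⟨s, hsK⟩ : ↥K) ∈ conjugatesOf e' := by
          rw [mem_conjugatesOf_iff', isConj_iff]
          refine ⟨e' * ⟨s, hsK⟩, ?_⟩
          apply Subtype.ext
          have := h.cj_mul_self (hSD he) (hSD hs) hes
          simpa [cj] using this
        have hp : e' * ⟨s, hsK⟩ ∈ P := hmain e' mem_conjugatesOf_self _ hs'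
        refine ⟨⟨e' * ⟨s, hsK⟩, hp⟩, ?_⟩
        show (⟨e' * ⟨s, hsK⟩, hp⟩ : ↥P) • e = s
        rw [hsmul]
        exact h.cj_mul_self (hSD he) (hSD hs) hes
  obtain ⟨m, hm⟩ := hPp.card_orbit e
  refine ⟨m, ?_⟩
  rw [← horb, ← hm, Nat.card_coe_set_eq]

end Cfsg.Agent.Lib.H15.FS
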