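import Mathlib

set_option autoImplicit false

/-!
helper15: S1615, part 5: a triangle-free strongly regular graph with an even number of vertices
has `μ² + 4(k - μ)` a perfect square (determinant argument), and the vertex count.
-/

namespace Cfsg.Agent.Lib.H15.FS

open Matrix Finset

section srg

variable {V : Type*} [Fintype V] [DecidableEq V] (R : V → V → Prop) [DecidableRel R]

/-- The adjacency matrix over `ℚ`. -/
def adjQ : Matrix V V ℚ := Matrix.of fun y z => if R y z then 1 else 0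

/-- The all-ones matrix. -/
def onesQ (V : Type*) : Matrix V V ℚ := Matrix.of fun _ _ => 1

/-- Triangle-free strongly regular. -/
structure SRG0 (k μ : ℕ) : Prop where
  symm : ∀ y z, R y z → R z y
  irr : ∀ y, ¬ R y y
  deg : ∀ y, (univ.filter (fun e => R y e)).card = k
  adj : ∀ y z, R y z → (univ.filter (fun e => R y e ∧ R e z)).card = 0
  nadj : ∀ y z, y ≠ z → ¬ R y z → (univ.filter (fun e => R y e ∧ R e z)).card = μ

theorem adjQ_sq_apply (y z : V) :
    (adjQ R * adjQ R) y z = ((univ.filter (fun e => R y e ∧ R e z)).card : ℚ) := by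
  rw [Matrix.mul_apply]
  have : ∀ e, adjQ R y e * adjQ R e z = if (R y e ∧ R e z) then (1 : ℚ) else 0 := by
    intro e
    simp only [adjQ, Matrix.of_apply]
    by_cases h1 : R y e <;> by_cases h2 : R e z <;> simp [h1, h2]
  simp_rw [this]
  rw [Finset.sum_boole]

variable {R} {k μ : ℕ}

theorem SRG0.sq_eq (h : SRG0 R k μ) :
    adjQ R * adjQ R = (k : ℚ) • (1 : Matrix V V ℚ) + (μ : ℚ) • (onesQ V - 1 - adjQ R) := by
  ext y z
  rw [adjQ_sq_apply]
  simp only [Matrix.add_apply, Matrix.smul_apply, Matrix.sub_apply, onesQ, adjQ, Matrix.of_apply,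
    smul_eq_mul]
  by_cases hyz : y = z
  · subst hyz
    have : (univ.filter (fun e => R y e ∧ R e y)) = univ.filter (fun e => R y e) := by
      ext e
      simp only [mem_filter, mem_univ, true_and]
      exact ⟨fun h' => h'.1, fun h' => ⟨h', h.symm _ _ h'⟩⟩
    rw [this, h.deg y, Matrix.one_apply_eq, if_neg (h.irr y)]
    ring
  · rw [Matrix.one_apply_ne hyz]
    by_cases hR : R y z
    · rw [h.adj y z hR, if_pos hR]
      simp
    · rw [h.nadj y z hyz hR, if_neg hR]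
      ring

theorem SRG0.rowsum (h : SRG0 R k μ) (y : V) : ∑ z, adjQ R y z = (k : ℚ) := by
  simp only [adjQ, Matrix.of_apply]
  rw [Finset.sum_boole, h.deg y]

/-- The vertex count: `k² = k + μ (v - 1 - k)`. -/
theorem SRG0.count [Nonempty V] (h : SRG0 R k μ) :
    (k : ℚ) * k = k + μ * ((Fintype.card V : ℚ) - 1 - k) := by
  obtain ⟨y⟩ := ‹Nonempty V›
  have h1 : ∑ z, (adjQ R * adjQ R) y z = (k : ℚ) * k := by
    simp_rw [Matrix.mul_apply]
    rw [Finset.sum_comm]
    simp_rw [← Finset.mul_sum, h.rowsum, ← Finset.sum_mul, h.rowsum]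
  have h2 : ∑ z, (adjQ R * adjQ R) y z = (k : ℚ) + μ * ((Fintype.card V : ℚ) - 1 - k) := by
    rw [h.sq_eq]
    simp only [Matrix.add_apply, Matrix.smul_apply, Matrix.sub_apply, smul_eq_mul]
    rw [Finset.sum_add_distrib, ← Finset.mul_sum, ← Finset.mul_sum, Finset.sum_sub_distrib,
      Finset.sum_sub_distrib, h.rowsum]
    simp [onesQ, Matrix.one_apply]
  rw [← h1, h2]

/-- `N = 2A + μ`. -/
theorem SRG0.N_sq (h : SRG0 R k μ) :
    ((2 : ℚ) • adjQ R + (μ : ℚ) • (1 : Matrix V V ℚ)) * ((2 : ℚ) • adjQ R + (μ : ℚ) • 1) =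
      ((μ : ℚ) * μ + 4 * k - 4 * μ) • (1 : Matrix V V ℚ) + (4 * (μ : ℚ)) • onesQ V := by
  have e : ((2 : ℚ) • adjQ R + (μ : ℚ) • (1 : Matrix V V ℚ)) * ((2 : ℚ) • adjQ R + (μ : ℚ) • 1) =
      (4 : ℚ) • (adjQ R * adjQ R) + (4 * (μ : ℚ)) • adjQ R + ((μ : ℚ) * μ) • 1 := by
    simp only [add_mul, mul_add, Matrix.smul_mul, Matrix.mul_smul, Matrix.mul_one, Matrix.one_mul,
      smul_smul]
    ext i j
    simp only [Matrix.add_apply, Matrix.smul_apply, smul_eq_mul]
    ring
  rw [e, h.sq_eq]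
  ext i j
  simp only [Matrix.add_apply, Matrix.smul_apply, Matrix.sub_apply, smul_eq_mul]
  ring

theorem det_smul_one_add_ones (c d : ℚ) (hc : c ≠ 0) :
    (c • (1 : Matrix V V ℚ) + d • onesQ V).det =
      c ^ (Fintype.card V) * (1 + (Fintype.card V : ℚ) * (d / c)) := by
  have e : c • (1 : Matrix V V ℚ) + d • onesQ V =
      c • (1 + replicateCol Unit (fun _ : V => d / c) * replicateRow Unit (fun _ : V => (1 : ℚ))) := by
    ext i j
    simp only [Matrix.add_apply, Matrix.smul_apply, onesQ, Matrix.of_apply, smul_eq_mul,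
      Matrix.mul_apply, Matrix.replicateCol_apply, Matrix.replicateRow_apply]
    simp
    field_simp
  rw [e, Matrix.det_smul, Matrix.det_one_add_replicateCol_mul_replicateRow]
  simp [dotProduct]

/-- The perfect-square condition. -/
theorem SRG0.isSquare [Nonempty V] (h : SRG0 R k μ) (hev : Even (Fintype.card V)) (hμk : μ < k) :
    IsSquare (μ * μ + 4 * k - 4 * μ) := by
  set v := Fintype.card V with hv
  have hvpos : 0 < v := Fintype.card_pos
  set Δ : ℚ := (μ : ℚ) * μ + 4 * k - 4 * μ with hΔ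
  have hμk' : (μ : ℚ) < k := by exact_mod_cast hμk
  have hΔpos : 0 < Δ := by
    have : 0 ≤ (μ : ℚ) * μ := mul_nonneg (Nat.cast_nonneg _) (Nat.cast_nonneg _)
    rw [hΔ]; linarith
  have hΔne : Δ ≠ 0 := hΔpos.ne'
  set N : Matrix V V ℚ := (2 : ℚ) • adjQ R + (μ : ℚ) • (1 : Matrix V V ℚ) with hN
  have h1 : N.det * N.det = Δ ^ v * (1 + (v : ℚ) * (4 * μ / Δ)) := by
    rw [← Matrix.det_mul, hN, h.N_sq, det_smul_one_add_ones _ _ hΔne]
  have hcount := h.count
  have h2 : Δ + 4 * μ * (v : ℚ) = (2 * k + μ) ^ 2 := by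
    rw [hΔ]
    have : (μ : ℚ) * (v : ℚ) = (k : ℚ) * k - k + μ * (1 + k) := by
      rw [hv]; linarith
    linear_combination 4 * this
  obtain ⟨r, hr⟩ : ∃ r, v = 2 * r + 2 := by
    obtain ⟨r, hr⟩ := hev
    refine ⟨r - 1, ?_⟩
    omega
  have h3 : N.det * N.det = Δ ^ (2 * r + 1) * (2 * k + μ) ^ 2 := by
    rw [h1, ← h2, hr]
    have : Δ ^ (2 * r + 2) = Δ ^ (2 * r + 1) * Δ := by rw [pow_succ]
    rw [this]
    field_simp
  have hkμ : (2 * (k : ℚ) + μ) ≠ 0 := by
    have : (0 : ℚ) ≤ μ := Nat.cast_nonneg _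
    have : (0 : ℚ) < k := lt_of_le_of_lt this hμk'
    linarith
  have h4 : Δ = (N.det / (Δ ^ r * (2 * k + μ))) * (N.det / (Δ ^ r * (2 * k + μ))) := by
    have hne : Δ ^ r * (2 * (k : ℚ) + μ) ≠ 0 := mul_ne_zero (pow_ne_zero _ hΔne) hkμ
    rw [div_mul_div_comm, h3, eq_div_iff (mul_ne_zero hne hne)]
    ring
  have h5 : IsSquare Δ := ⟨_, h4⟩
  have h6 : Δ = ((μ * μ + 4 * k - 4 * μ : ℕ) : ℚ) := by
    rw [hΔ]
    have : 4 * μ ≤ μ * μ + 4 * k := by nlinarith
    push_cast [Nat.cast_sub this]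
    ring
  rw [h6] at h5
  exact Rat.isSquare_natCast_iff.1 h5

end srg

end Cfsg.Agent.Lib.H15.FS
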