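import Mathlib

set_option autoImplicit false

/-!
helper15: S1615, part 6: the arithmetic: `k = 3^a`, `μ = 3^j`, `j < a` and `μ² + 4(k - μ)` a square
force `a = 1`.
-/

namespace Cfsg.Agent.Lib.H15.FS

theorem three_dvd_of_dvd_sq {s : ℕ} (h : 3 ∣ s * s) : 3 ∣ s := by
  rcases (Nat.Prime.dvd_mul Nat.prime_three).1 h with h | h <;> exact h

theorem no_sq_three_pow_mul : ∀ (j s m : ℕ), s * s = 3 ^ j * m → m % 3 = 2 → False := by
  intro j
  induction j using Nat.strong_induction_on with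
  | _ j ih =>
    intro s m hs hm
    match j, ih with
    | 0, _ =>
      rw [pow_zero, one_mul] at hs
      have h1 : (s * s) % 3 = 2 := by rw [hs]; exact hm
      rw [Nat.mul_mod] at h1
      have h2 : s % 3 < 3 := Nat.mod_lt _ (by norm_num)
      interval_cases (s % 3) <;> simp at h1
    | 1, _ =>
      rw [pow_one] at hs
      have h3 : 3 ∣ s := three_dvd_of_dvd_sq ⟨m, hs⟩
      obtain ⟨t, rfl⟩ := h3
      have : m = 3 * (t * t) := by nlinarith
      rw [this] at hm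
      omega
    | (j + 2), ih =>
      have h9 : s * s = 3 * (3 * (3 ^ j * m)) := by rw [hs]; ring
      have h3 : 3 ∣ s := three_dvd_of_dvd_sq ⟨_, h9⟩
      obtain ⟨t, rfl⟩ := h3
      have : t * t = 3 ^ j * m := by nlinarith
      exact ih j (by omega) t m this hm

theorem pow3_arith {a j : ℕ} (hja : j < a)
    (hsq : IsSquare (3 ^ j * 3 ^ j + 4 * 3 ^ a - 4 * 3 ^ j)) : a = 1 := by
  obtain ⟨s, hs⟩ := hsq
  have hle : 3 ^ j ≤ 3 ^ a := Nat.pow_le_pow_right (by norm_num) hja.le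
  have hs' : s * s + 4 * 3 ^ j = 3 ^ j * 3 ^ j + 4 * 3 ^ a := by
    rw [← hs]
    have : 4 * 3 ^ j ≤ 3 ^ j * 3 ^ j + 4 * 3 ^ a := by nlinarith
    omega
  by_contra ha1
  rcases Nat.eq_zero_or_pos j with hj | hj
  · subst hj
    rw [pow_zero] at hs'
    obtain ⟨c, rfl⟩ : ∃ c, a = c + 2 := ⟨a - 2, by omega⟩
    have e : 3 ^ (c + 2) = 9 * 3 ^ c := by rw [pow_add]; ring
    rw [e] at hs'
    have h3 : 3 ∣ s * s := by omega
    obtain ⟨t, rfl⟩ := three_dvd_of_dvd_sq h3
    have : 9 * (t * t) + 3 = 36 * 3 ^ c := by nlinarith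
    omega
  · obtain ⟨i, rfl⟩ : ∃ i, j = i + 1 := ⟨j - 1, by omega⟩
    obtain ⟨d, rfl⟩ : ∃ d, a = i + 1 + (d + 1) := ⟨a - (i + 1) - 1, by omega⟩
    set P := 3 ^ (i + 1) with hP
    have ePi : P = 3 * 3 ^ i := by rw [hP, pow_succ]; ring
    have ePQ : 3 ^ (i + 1 + (d + 1)) = P * (3 * 3 ^ d) := by
      rw [pow_add, hP, pow_succ 3 d]; ring
    rw [ePQ] at hs'
    -- s*s = P * M with M = P + 12 * 3^d - 4
    have hM : ∃ M, M + 4 = P + 12 * 3 ^ d := by
      refine ⟨P + 12 * 3 ^ d - 4, ?_⟩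
      have : 1 ≤ 3 ^ d := Nat.one_le_pow _ _ (by norm_num)
      omega
    obtain ⟨M, hM⟩ := hM
    have hsM : s * s = 3 ^ (i + 1) * M := by
      have : P * M + 4 * P = s * s + 4 * P := by
        have : P * M + 4 * P = P * (M + 4) := by ring
        rw [this, hM, hs']
        ring
      have := Nat.add_right_cancel this
      rw [← hP]; exact this.symm
    have hmod : M % 3 = 2 := by
      have : 1 ≤ 3 ^ i := Nat.one_le_pow _ _ (by norm_num)
      omega
    exact no_sq_three_pow_mul (i + 1) s M hsM hmod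

end Cfsg.Agent.Lib.H15.FS
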