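import Cfsg.Agent.Lib.H15.FS4
import Cfsg.Agent.Lib.H15.FS5
import Cfsg.Agent.Lib.H15.FS6

set_option autoImplicit false

/-!
helper15: S1615, part 7: the commuting graph is strongly regular; counting; `|D| = 10`.
-/

namespace Cfsg.Agent.Lib.H15.FS

open Cfsg Cfsg.Agent.Lib.H26.ThreeTrans Cfsg.Agent.Lib.H15.TT Equiv Finset
open Cfsg.Agent.Lib.H18.TTF (COrb corb_of_not_commute exists_common_neighbour)

variable {G : Type*} [Group G] {D : Set G}

/-- Adjacency in the commuting graph, on the subtype. -/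
def Radj (D : Set G) (y z : ↥D) : Prop := (y : G) ≠ z ∧ Commute (y : G) z

theorem card_filter_eq_ncard [Fintype ↥D] (P : G → Prop) [DecidablePred fun e : ↥D => P e] :
    (univ.filter (fun e : ↥D => P e)).card = {g | g ∈ D ∧ P g}.ncard := by
  have h1 : {g | g ∈ D ∧ P g} = Subtype.val '' {e : ↥D | P e} := by
    ext g
    constructor
    · rintro ⟨hg, hp⟩
      exact ⟨⟨g, hg⟩, hp, rfl⟩
    · rintro ⟨e, he, rfl⟩
      exact ⟨e.2, he⟩
  rw [h1, Set.ncard_image_of_injective _ Subtype.val_injective, ← Set.ncard_coe_finset]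
  congr 1
  ext e
  simp

namespace FCtx

variable (F : FCtx D)
include F

theorem ncard_inter_cj (g p q : G) :
    (Nb D (cj g p) ∩ Nb D (cj g q)).ncard = (Nb D p ∩ Nb D q).ncard := by
  have : Nb D (cj g p) ∩ Nb D (cj g q) = (cj g) '' (Nb D p ∩ Nb D q) := by
    ext y
    rw [Set.mem_inter_iff, F.ctx.mem_Nb_cj_iff, F.ctx.mem_Nb_cj_iff]
    constructor
    · rintro ⟨h1, h2⟩
      exact ⟨_, ⟨h1, h2⟩, cj_cj_inv g y⟩
    · rintro ⟨z, ⟨h1, h2⟩, rfl⟩
      rw [cj_inv_cj]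
      exact ⟨h1, h2⟩
  rw [this, Set.ncard_image_of_injective _ (cj_injective g)]

variable [Finite G]

theorem mu_const {x u y z : G} (hx : x ∈ D) (hu : u ∈ D) (hxu : ¬ Commute x u)
    (hy : y ∈ D) (hz : z ∈ D) (hyz : ¬ Commute y z) :
    (Nb D y ∩ Nb D z).ncard = (Nb D x ∩ Nb D u).ncard := by
  obtain ⟨g, rfl⟩ := F.exists_cj hx hy
  have hz' : cj g⁻¹ z ∈ D := F.ctx.cj_mem g⁻¹ hz
  have hxz' : ¬ Commute x (cj g⁻¹ z) := by
    intro hc
    apply hyz
    have : Commute (cj g x) (cj g (cj g⁻¹ z)) := commute_cj_cj.2 hc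
    rwa [cj_cj_inv] at this
  obtain ⟨k, hk, hkz⟩ := corb_of_not_commute F.hD F.hprim F.hw hx hu hz' hxu hxz'
  have e1 : cj (g * k) x = cj g x := by rw [cj_mul, cj_eq_of_commute hk]
  have e2 : cj (g * k) u = z := by
    rw [cj_mul]
    have : cj k u = cj g⁻¹ z := hkz
    rw [this, cj_cj_inv]
  rw [← e1, ← e2, F.ncard_inter_cj]

theorem srg [Fintype ↥D] [DecidableEq ↥D] [DecidableRel (Radj D)] {x u : G} (hx : x ∈ D)
    (hu : u ∈ D) (hxu : ¬ Commute x u)
    (TF : ∀ d ∈ D, ∀ y ∈ Nb D d, ∀ z ∈ Nb D d, y ≠ z → ¬ Commute y z) :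
    SRG0 (Radj D) (Nb D x).ncard (Nb D x ∩ Nb D u).ncard := by
  refine ⟨fun y z h => ⟨h.1.symm, h.2.symm⟩, fun y h => h.1 rfl, ?_, ?_, ?_⟩
  · intro y
    have := @card_filter_eq_ncard _ _ D _ (fun g => (y : G) ≠ g ∧ Commute (y : G) g)
      (fun e => (inferInstance : Decidable (Radj D y e)))
    have e : {g | g ∈ D ∧ ((y : G) ≠ g ∧ Commute (y : G) g)} = Nb D y := by
      ext g
      constructor
      · rintro ⟨h1, h2, h3⟩
        exact ⟨h1, h2.symm, h3⟩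
      · rintro ⟨h1, h2, h3⟩
        exact ⟨h1, h2.symm, h3⟩
    rw [e] at this
    rw [← F.ncard_Nb_eq y.2 hx, ← this]
    rfl
  · intro y z hyz
    rw [Finset.card_eq_zero, Finset.filter_eq_empty_iff]
    rintro e - ⟨h1, h2⟩
    have hyN : (y : G) ∈ Nb D z := ⟨y.2, hyz.1, hyz.2.symm⟩
    have heN : (e : G) ∈ Nb D z := ⟨e.2, h2.1, h2.2.symm⟩
    exact TF z z.2 y hyN e heN h1.1 h1.2
  · intro y z hyz hR
    have hne : (y : G) ≠ z := fun e => hyz (Subtype.ext e)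
    have hnc : ¬ Commute (y : G) z := fun hc => hR ⟨hne, hc⟩
    have := @card_filter_eq_ncard _ _ D _
      (fun g => ((y : G) ≠ g ∧ Commute (y : G) g) ∧ (g ≠ z ∧ Commute g (z : G)))
      (fun e => (inferInstance : Decidable (Radj D y e ∧ Radj D e z)))
    have e : {g | g ∈ D ∧ (((y : G) ≠ g ∧ Commute (y : G) g) ∧ (g ≠ z ∧ Commute g (z : G)))} =
        Nb D y ∩ Nb D z := by
      ext g
      constructor
      · rintro ⟨h1, ⟨h2, h3⟩, h4, h5⟩
        exact ⟨⟨h1, h2.symm, h3⟩, ⟨h1, h4, h5.symm⟩⟩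
      · rintro ⟨⟨h1, h2, h3⟩, ⟨-, h4, h5⟩⟩
        exact ⟨h1, ⟨h2.symm, h3⟩, h4, h5.symm⟩
    rw [e] at this
    rw [← F.mu_const hx hu hxu y.2 z.2 hnc, ← this]
    rfl

theorem nb_cj_closed {x y z : G} (hy : y ∈ Nb D x) (hz : z ∈ Nb D x) : cj y z ∈ Nb D x := by
  have := F.ctx.cj_mem_Nb y hz
  rwa [cj_eq_of_commute hy.2.2.symm] at this

/-- The numerical conclusion. -/
theorem card_eq_ten {x a b : G} (hx : x ∈ D) (hw : WP D x a b) :
    D.ncard = 10 ∧ ∃ u ∈ Nb D a, ¬ Commute u b ∧ ¬ Commute x u := by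
  classical
  haveI : Fintype ↥D := Fintype.ofFinite ↥D
  have h := F.ctx
  have TF := F.tf hx hw
  have ha := hw.1
  have hb := hw.2.1
  obtain ⟨u, hu, hunb⟩ := F.exists_nb_diff ha.1 hb.1 hw.2.2.1
  have hub : ¬ Commute u b := by
    intro hcub
    apply hunb
    refine ⟨hu.1, ?_, hcub.symm⟩
    rintro rfl
    exact hw.nc hu.2.2
  obtain ⟨hxu, -⟩ := hw.step h hx hu hub
  refine ⟨?_, u, hu, hub, hxu⟩
  have hsrg := F.srg hx hu.1 hxu TF
  set k := (Nb D x).ncard with hk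
  set μ := (Nb D x ∩ Nb D u).ncard with hμ
  -- powers of three
  obtain ⟨a', ha'⟩ : ∃ m : ℕ, k = 3 ^ m :=
    ncard_pow_three h (S := Nb D x) (fun y hy => hy.1) ⟨a, ha⟩
      (fun y hy z hz => F.nb_cj_closed hy hz) (TF x hx)
  obtain ⟨v0, hv0D, hv0x, hv0u⟩ := exists_common_neighbour F.hD F.hprim F.hw hx hu.1 hxu
  have hv0 : v0 ∈ Nb D x ∩ Nb D u := by
    refine ⟨⟨hv0D, ?_, hv0x.symm⟩, ⟨hv0D, ?_, hv0u.symm⟩⟩
    · rintro rfl
      exact hxu hv0u
    · rintro rfl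
      exact hxu hv0x.symm
  obtain ⟨j, hj⟩ : ∃ m : ℕ, μ = 3 ^ m := by
    apply ncard_pow_three h (S := Nb D x ∩ Nb D u) (fun y hy => hy.1.1) ⟨v0, hv0⟩
    · intro y hy z hz
      exact ⟨F.nb_cj_closed hy.1 hz.1, F.nb_cj_closed hy.2 hz.2⟩
    · intro y hy z hz hyz
      exact TF x hx y hy.1 z hz.1 hyz
  have hμk : μ < k := by
    apply Set.ncard_lt_ncard _ (Set.toFinite _)
    refine ⟨Set.inter_subset_left, fun hsub => ?_⟩
    have hsub' : Nb D x ⊆ Nb D u := fun y hy => (hsub hy).2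
    have := Set.eq_of_subset_of_ncard_le hsub' (F.ncard_Nb_eq hx hu.1).symm.le (Set.toFinite _)
    have := F.nb_injective hx hu.1 this
    exact hxu (this ▸ Commute.refl x)
  have hja : j < a' := by
    rw [ha', hj] at hμk
    exact (Nat.pow_lt_pow_iff_right (by norm_num)).1 hμk
  haveI : Nonempty ↥D := ⟨⟨x, hx⟩⟩
  have hcard : Fintype.card ↥D = D.ncard := by
    rw [Fintype.card_eq_nat_card, Nat.card_coe_set_eq]
  set v := D.ncard with hv
  have hcount := hsrg.count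
  rw [hcard] at hcount
  have hcountN : k * k + μ * k + μ = k + μ * v := by
    have : (k : ℚ) * k + μ * k + μ = k + μ * v := by linarith
    exact_mod_cast this
  have hkodd : Odd k := by rw [ha']; exact Odd.pow (by decide)
  have hμodd : Odd μ := by rw [hj]; exact Odd.pow (by decide)
  have hev : Even v := by
    have h1 : Odd (k * k + μ * k + μ) := ((hkodd.mul hkodd).add_odd (hμodd.mul hkodd)).add_odd hμodd
    rw [hcountN] at h1
    have h2 : Even (μ * v) := (Nat.odd_add.1 h1).1 hkodd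
    rcases Nat.even_mul.1 h2 with h3 | h3
    · exact absurd h3 (Nat.not_even_iff_odd.2 hμodd)
    · exact h3
  have hsq := hsrg.isSquare (by rw [hcard]; exact hev) hμk
  rw [ha', hj] at hsq
  have ha1 : a' = 1 := pow3_arith hja hsq
  have hj0 : j = 0 := by omega
  rw [ha1, pow_one] at ha'
  rw [hj0, pow_zero] at hj
  rw [ha', hj] at hcountN
  omega

end FCtx

end Cfsg.Agent.Lib.H15.FS
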