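import Cfsg.Agent.Lib.H15.FS7

set_option autoImplicit false

/-!
helper15: S1615, part 8: the final isomorphism with `S_5`.
-/

namespace Cfsg.Agent.Lib.H15.FS

open Cfsg Cfsg.Agent.Lib.H26.ThreeTrans Cfsg.Agent.Lib.H15.TT Equiv Finset

variable {G : Type*} [Group G] {D : Set G}

/-- The ten transpositions of `S_5`. -/
def swaps5 : Finset (Perm (Fin 5)) :=
  ((univ : Finset (Fin 5 × Fin 5)).filter (fun p => p.1 < p.2)).image (fun p => swap p.1 p.2)

theorem card_swaps5 : swaps5.card = 10 := by decide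

theorem isSwap_of_mem_swaps5 {σ : Perm (Fin 5)} (h : σ ∈ swaps5) : σ.IsSwap := by
  unfold swaps5 at h
  rw [Finset.mem_image] at h
  obtain ⟨p, hp, rfl⟩ := h
  rw [Finset.mem_filter] at hp
  exact ⟨p.1, p.2, hp.2.ne, rfl⟩

theorem FCtx.iso_S5 [Finite G] (F : FCtx D) {x a b : G} (hx : x ∈ D) (hw : WP D x a b) :
    Nonempty (G ≃* Perm (Fin 5)) := by
  classical
  have h := F.ctx
  have ha := hw.1
  have hb := hw.2.1
  obtain ⟨hten, u, hu, hub, hxu⟩ := F.card_eq_ten hx hw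
  obtain ⟨φ, h0, h1, h2, h3, hinj⟩ := exists_hom h hx hu.1 hb.1 ha.1 hb.2.2 ha.2.2 hu.2.2.symm hxu
    hub (fun hc => hw.nc hc.symm)
  have hT_D : ∀ σ : Perm (Fin 5), σ.IsSwap → φ σ ∈ D := by
    intro σ hσ
    obtain ⟨i, j, hij, rfl⟩ := hσ
    have hconj : IsConj (swap (0 : Fin 5) 1) (swap i j) :=
      Equiv.Perm.isConj_swap (by decide) hij
    obtain ⟨g, hg⟩ := isConj_iff.1 hconj
    rw [← hg, map_mul, map_mul, map_inv, h0]
    exact h.hconj _ x hx
  set T : Set G := φ '' (swaps5 : Set (Perm (Fin 5))) with hT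
  have hTD : T ⊆ D := by
    rintro _ ⟨σ, hσ, rfl⟩
    exact hT_D σ (isSwap_of_mem_swaps5 hσ)
  have hTcard : T.ncard = 10 := by
    rw [hT, Set.ncard_image_of_injective _ hinj, Set.ncard_coe_finset, card_swaps5]
  have hDT : T = D :=
    Set.eq_of_subset_of_ncard_le hTD (by rw [hten, hTcard]) (Set.toFinite _)
  have hsurj : Function.Surjective φ := by
    rw [← MonoidHom.range_eq_top, eq_top_iff, ← F.hD.2.2, Subgroup.closure_le]
    intro y hy
    rw [← hDT] at hy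
    obtain ⟨σ, -, rfl⟩ := hy
    exact ⟨σ, rfl⟩
  exact ⟨(MulEquiv.ofBijective φ ⟨hinj, hsurj⟩).symm⟩

end Cfsg.Agent.Lib.H15.FS
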