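/-
S5401-CEN (helper15, for helper17's S5401 project): a group acting faithfully and preprimitively with a non-trivial
point stabiliser has trivial centre.
-/
import Mathlib
import Cfsg.Prelude.Def_FischerSpaces

set_option autoImplicit false

namespace Cfsg.Agent.Lib.H15.FT

universe u v

/-- **S5401-CEN**.  A group acting faithfully and preprimitively, whose point stabiliser is non-trivial, has trivial
centre. -/
theorem center_eq_bot_of_isPreprimitive {G : Type u} {X : Type v} [Group G] [MulAction G X]
    [FaithfulSMul G X] [MulAction.IsPreprimitive G X] (z : X)
    (hstab : MulAction.stabilizer G z ≠ ⊥) : Subgroup.center G = ⊥ := by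
  by_cases hfix : MulAction.fixedPoints (Subgroup.center G) X = Set.univ
  · -- the centre acts trivially, hence is trivial by faithfulness
    rw [Subgroup.eq_bot_iff_forall]
    intro c hc
    apply FaithfulSMul.eq_of_smul_eq_smul (α := X)
    intro x
    have hx : x ∈ MulAction.fixedPoints (Subgroup.center G) X := by rw [hfix]; exact Set.mem_univ x
    have := hx ⟨c, hc⟩
    rw [one_smul]
    exact this
  · -- the centre is transitive: every element of the stabiliser of `z` fixes every point
    exfalso
    haveI : MulAction.IsPretransitive (Subgroup.center G) X :=
      MulAction.IsQuasiPreprimitive.isPretransitive_of_normal hfix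
    apply hstab
    rw [Subgroup.eq_bot_iff_forall]
    intro s hs
    apply FaithfulSMul.eq_of_smul_eq_smul (α := X)
    intro x
    obtain ⟨c, hc⟩ := MulAction.exists_smul_eq (Subgroup.center G) z x
    have hcx : (c : G) • z = x := hc
    have hcomm : s * (c : G) = (c : G) * s := Subgroup.mem_center_iff.1 c.2 s
    rw [one_smul, ← hcx, ← mul_smul, hcomm, mul_smul, MulAction.mem_stabilizer_iff.1 hs]
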