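/-
S5401-PRIM (helper15, for helper17's S5401 project): a group acting preprimitively on `X` in which the stabiliser of a
point `z` is the centraliser of an element `t` acts primitively by conjugation on the conjugacy class of `t`.
-/
import Mathlib
import Cfsg.Prelude.Def_FischerSpaces

set_option autoImplicit false

namespace Cfsg.Agent.Lib.H15.FT

universe u v

open scoped Pointwise

theorem mem_conjOf_iff {G : Type u} [Group G] (t a : G) : a ∈ conjugatesOf t ↔ ∃ g : G, g * t * g⁻¹ = a := by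
  show IsConj t a ↔ _
  exact isConj_iff

section prim

variable {G : Type u} {X : Type v} [Group G] [MulAction G X]

/-- the points `g • z` with `g t g⁻¹ ∈ B` -/
def ptsOf (z : X) (t : G) (B : Set G) : Set X := {x | ∃ g : G, g • z = x ∧ g * t * g⁻¹ ∈ B}

theorem smul_eq_iff_conj_eq (z : X) (t : G)
    (hstab : MulAction.stabilizer G z = Subgroup.centralizer {t}) (g h : G) :
    g • z = h • z ↔ g * t * g⁻¹ = h * t * h⁻¹ := by
  have h1 : g • z = h • z ↔ h⁻¹ * g ∈ MulAction.stabilizer G z := by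
    rw [MulAction.mem_stabilizer_iff, mul_smul, inv_smul_eq_iff]
  rw [h1, hstab, Subgroup.mem_centralizer_iff]
  constructor
  · intro hc
    have := hc t (Set.mem_singleton t)
    -- t * (h⁻¹ g) = (h⁻¹ g) * t
    have e : h⁻¹ * g * t = t * (h⁻¹ * g) := this.symm
    calc g * t * g⁻¹ = h * (h⁻¹ * g * t) * g⁻¹ := by group
      _ = h * (t * (h⁻¹ * g)) * g⁻¹ := by rw [e]
      _ = h * t * h⁻¹ := by group
  · intro hc x hx
    rw [Set.mem_singleton_iff.1 hx]
    calc t * (h⁻¹ * g) = h⁻¹ * (h * t * h⁻¹) * g := by group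
      _ = h⁻¹ * (g * t * g⁻¹) * g := by rw [hc]
      _ = h⁻¹ * g * t := by group

theorem smul_mem_ptsOf_iff (z : X) (t : G)
    (hstab : MulAction.stabilizer G z = Subgroup.centralizer {t}) (B : Set G) (g : G) :
    g • z ∈ ptsOf z t B ↔ g * t * g⁻¹ ∈ B := by
  constructor
  · rintro ⟨h, hh, hB⟩
    rw [← (smul_eq_iff_conj_eq z t hstab h g).1 hh]
    exact hB
  · intro hB
    exact ⟨g, rfl, hB⟩

theorem smul_ptsOf (z : X) (t : G) (B : Set G) (g₀ : G) :
    g₀ • ptsOf z t B = ptsOf z t ((fun x => g₀ * x * g₀⁻¹) '' B) := by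
  ext x
  rw [Set.mem_smul_set]
  constructor
  · rintro ⟨y, ⟨g, hg, hB⟩, rfl⟩
    refine ⟨g₀ * g, ?_, ?_⟩
    · rw [mul_smul, hg]
    · refine ⟨g * t * g⁻¹, hB, ?_⟩
      show g₀ * (g * t * g⁻¹) * g₀⁻¹ = g₀ * g * t * (g₀ * g)⁻¹
      group
  · rintro ⟨g, hg, b, hb, hbe⟩
    refine ⟨g₀⁻¹ • x, ⟨g₀⁻¹ * g, ?_, ?_⟩, smul_inv_smul g₀ x⟩
    · rw [mul_smul, hg]
    · have hbe' : g₀ * b * g₀⁻¹ = g * t * g⁻¹ := hbe
      have : g₀⁻¹ * g * t * (g₀⁻¹ * g)⁻¹ = b := by
        calc g₀⁻¹ * g * t * (g₀⁻¹ * g)⁻¹ = g₀⁻¹ * (g * t * g⁻¹) * g₀ := by group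
          _ = g₀⁻¹ * (g₀ * b * g₀⁻¹) * g₀ := by rw [hbe']
          _ = b := by group
      rw [this]
      exact hb

end prim

/-- **S5401-PRIM**. -/
theorem isPrimitiveUnderConj_of_isPreprimitive {G : Type u} {X : Type v} [Group G] [MulAction G X]
    [MulAction.IsPreprimitive G X] (z : X) (t : G)
    (hstab : MulAction.stabilizer G z = Subgroup.centralizer {t}) (hnt : ∃ x : X, x ≠ z) :
    Cfsg.IsPrimitiveUnderConj (conjugatesOf t) := by
  refine ⟨?_, ?_, ?_⟩
  · intro a ha b hb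
    rw [mem_conjOf_iff] at ha hb
    obtain ⟨g₁, rfl⟩ := ha
    obtain ⟨g₂, rfl⟩ := hb
    refine ⟨g₂ * g₁⁻¹, ?_⟩
    group
  · obtain ⟨x, hx⟩ := hnt
    obtain ⟨g, hg⟩ := MulAction.exists_smul_eq G z x
    refine ⟨t, mem_conjugatesOf_self, g * t * g⁻¹, ?_, ?_⟩
    · rw [mem_conjOf_iff]
      exact ⟨g, rfl⟩
    · intro h
      apply hx
      rw [← hg]
      have := (smul_eq_iff_conj_eq z t hstab g 1).2 (by rw [← h]; group)
      rw [this, one_smul]
  · intro B hBD hB
    have hblock : MulAction.IsBlock G (ptsOf z t B) := by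
      rw [MulAction.isBlock_iff_smul_eq_or_disjoint]
      intro g
      rw [smul_ptsOf]
      rcases hB g with h | h
      · left
        rw [h]
      · right
        rw [Set.disjoint_left]
        rintro x ⟨g₁, hg₁, hb₁⟩ hx2
        rw [← hg₁, smul_mem_ptsOf_iff z t hstab] at hx2
        exact Set.disjoint_left.1 h hb₁ hx2
    rcases MulAction.IsPreprimitive.isTrivialBlock_of_isBlock hblock with h | h
    · left
      intro a ha b hb
      obtain ⟨g₁, rfl⟩ := (mem_conjOf_iff t _).1 (hBD ha)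
      obtain ⟨g₂, rfl⟩ := (mem_conjOf_iff t _).1 (hBD hb)
      have h1 : g₁ • z ∈ ptsOf z t B := (smul_mem_ptsOf_iff z t hstab B g₁).2 ha
      have h2 : g₂ • z ∈ ptsOf z t B := (smul_mem_ptsOf_iff z t hstab B g₂).2 hb
      exact (smul_eq_iff_conj_eq z t hstab g₁ g₂).1 (h h1 h2)
    · right
      apply Set.Subset.antisymm hBD
      intro a ha
      obtain ⟨g₁, rfl⟩ := (mem_conjOf_iff t _).1 ha
      have h1 : g₁ • z ∈ ptsOf z t B := by rw [h]; exact Set.mem_univ _
      exact (smul_mem_ptsOf_iff z t hstab B g₁).1 h1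

end Cfsg.Agent.Lib.H15.FT
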