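import Cfsg.Agent.Lib.H28.Fi22M.Base
import Cfsg.Agent.Lib.H6.CoxUB

/-!
# S2053 piece E7 (`commutator_HK7_inf_ker`) (helper15)

A group with the Coxeter relations of `E₇` on the letters `b, …, h` over `⟨b, …, h⟩ ≤ Fi₂₂` of order
`1451520`: its derived subgroup meets the kernel trivially.
-/

set_option autoImplicit false

namespace Cfsg.Agent.Lib.H15.Fi22M

open Cfsg.Agent.Lib.H28.Fi22M
open Cfsg.Agent.Lib.H14.SuzM (wv)
open scoped commutatorElement

/-- letters of the Bourbaki nodes `1, …, 7` of `E₇`: `b, h, c, d, e, f, g` -/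
def lt7 : Fin 7 → ℕ := ![1, 7, 2, 3, 4, 5, 6]

/-- the nodes of the letters `b, …, h` in the order of the word `ω` -/
def nd7 : List (Fin 7) := [0, 2, 3, 4, 5, 6, 1]

/-- the word `(b c d e f g h)⁹` -/
def omL : List ℕ := [1, 2, 3, 4, 5, 6, 7, 1, 2, 3, 4, 5, 6, 7, 1, 2, 3, 4, 5, 6, 7, 1, 2, 3, 4, 5, 6, 7,
  1, 2, 3, 4, 5, 6, 7, 1, 2, 3, 4, 5, 6, 7, 1, 2, 3, 4, 5, 6, 7, 1, 2, 3, 4, 5, 6, 7, 1, 2, 3, 4, 5, 6, 7]

/-- the same word in nodes -/
def omN : List (Fin 7) := [0, 2, 3, 4, 5, 6, 1, 0, 2, 3, 4, 5, 6, 1, 0, 2, 3, 4, 5, 6, 1, 0, 2, 3, 4, 5, 6, 1,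
  0, 2, 3, 4, 5, 6, 1, 0, 2, 3, 4, 5, 6, 1, 0, 2, 3, 4, 5, 6, 1, 0, 2, 3, 4, 5, 6, 1, 0, 2, 3, 4, 5, 6, 1]

theorem omN_map : omN.map lt7 = omL := by decide

theorem omL_mem : omL ∈ Cfsg.Agent.Lib.H17.Fi22Glue.relW := by decide

theorem lt7_range (i : Fin 7) : 1 ≤ lt7 i ∧ lt7 i ≤ 7 := by
  fin_cases i <;> decide

/-- the Coxeter relators of the pairs of nodes are (up to the order of the two letters) in `coxL` -/
theorem cox_cases (i j : Fin 7) (hij : i ≠ j) :
    (CoxeterMatrix.E₇ i j = 2 ∧ ([lt7 i, lt7 j, lt7 i, lt7 j] ∈ coxL ∨ [lt7 j, lt7 i, lt7 j, lt7 i] ∈ coxL)) ∨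
    (CoxeterMatrix.E₇ i j = 3 ∧ ([lt7 i, lt7 j, lt7 i, lt7 j, lt7 i, lt7 j] ∈ coxL ∨
      [lt7 j, lt7 i, lt7 j, lt7 i, lt7 j, lt7 i] ∈ coxL)) := by
  fin_cases i <;> fin_cases j <;> first | exact absurd rfl hij | decide

theorem swap2 {Γ : Type*} [Group Γ] (a b : Γ) (h : b * a * b * a = 1) : a * b * a * b = 1 := by
  have : a * b * a * b = b⁻¹ * (b * a * b * a) * b := by group
  rw [this, h]; group

theorem swap3 {Γ : Type*} [Group Γ] (a b : Γ) (h : b * a * b * a * b * a = 1) :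
    a * b * a * b * a * b = 1 := by
  have : a * b * a * b * a * b = b⁻¹ * (b * a * b * a * b * a) * b := by group
  rw [this, h]; group

section

variable {Γ : Type} [Group Γ] (y : ℕ → Γ)

theorem liftable (hinv : ∀ i, 1 ≤ i → i ≤ 7 → y i * y i = 1)
    (hcox : ∀ w ∈ coxL, (∀ x ∈ w, 1 ≤ x ∧ x ≤ 7) → wv y w = 1) :
    CoxeterMatrix.E₇.IsLiftable (fun i => y (lt7 i)) := by
  intro i j
  by_cases hij : i = j
  · subst hij
    rw [CoxeterMatrix.diagonal, pow_one]
    exact hinv _ (lt7_range i).1 (lt7_range i).2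
  · have hr : ∀ x ∈ [lt7 i, lt7 j, lt7 i, lt7 j, lt7 i, lt7 j], 1 ≤ x ∧ x ≤ 7 := by
      intro x hx
      simp only [List.mem_cons, List.not_mem_nil, or_false] at hx
      rcases hx with rfl | rfl | rfl | rfl | rfl | rfl <;> first | exact lt7_range i | exact lt7_range j
    have hr' : ∀ x ∈ [lt7 j, lt7 i, lt7 j, lt7 i, lt7 j, lt7 i], 1 ≤ x ∧ x ≤ 7 := by
      intro x hx
      simp only [List.mem_cons, List.not_mem_nil, or_false] at hx
      rcases hx with rfl | rfl | rfl | rfl | rfl | rfl <;> first | exact lt7_range i | exact lt7_range j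
    rcases cox_cases i j hij with ⟨hm, h | h⟩ | ⟨hm, h | h⟩
    · rw [hm]
      have := hcox _ h (fun x hx => hr x (by
        simp only [List.mem_cons, List.not_mem_nil, or_false] at hx ⊢; tauto))
      simp only [wv, List.map_cons, List.map_nil, List.prod_cons, List.prod_nil, mul_one] at this
      rw [pow_two, ← this]; group
    · rw [hm]
      have := hcox _ h (fun x hx => hr' x (by
        simp only [List.mem_cons, List.not_mem_nil, or_false] at hx ⊢; tauto))
      simp only [wv, List.map_cons, List.map_nil, List.prod_cons, List.prod_nil, mul_one] at this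
      have h2 := swap2 (y (lt7 i)) (y (lt7 j)) (by rw [← this]; group)
      rw [pow_two, ← h2]; group
    · rw [hm]
      have := hcox _ h hr
      simp only [wv, List.map_cons, List.map_nil, List.prod_cons, List.prod_nil, mul_one] at this
      rw [pow_succ, pow_two, ← this]; group
    · rw [hm]
      have := hcox _ h hr'
      simp only [wv, List.map_cons, List.map_nil, List.prod_cons, List.prod_nil, mul_one] at this
      have h2 := swap3 (y (lt7 i)) (y (lt7 j)) (by rw [← this]; group)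
      rw [pow_succ, pow_two, ← h2]; group

end

/-- the sign character of `W(E₇)` -/
noncomputable def sgn7 : CoxeterMatrix.E₇.Group →* Multiplicative (ZMod 2) :=
  CoxeterMatrix.E₇.toCoxeterSystem.lift ⟨fun _ => Multiplicative.ofAdd (1 : ZMod 2), by
    intro i j
    dsimp only
    by_cases hij : i = j
    · subst hij
      rw [CoxeterMatrix.diagonal, pow_one]; rfl
    · rcases cox_cases i j hij with ⟨hm, _⟩ | ⟨hm, _⟩ <;> rw [hm] <;> rfl⟩

theorem sgn7_simple (i : Fin 7) :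
    sgn7 (CoxeterMatrix.E₇.toCoxeterSystem.simple i) = Multiplicative.ofAdd (1 : ZMod 2) :=
  CoxeterMatrix.E₇.toCoxeterSystem.lift_apply_simple _ i

/-- `ω` in `W(E₇)` -/
noncomputable def om7 : CoxeterMatrix.E₇.Group :=
  (omN.map CoxeterMatrix.E₇.toCoxeterSystem.simple).prod

theorem sgn7_om7 : sgn7 om7 ≠ 1 := by
  unfold om7
  rw [map_list_prod, List.map_map]
  have : (sgn7 ∘ CoxeterMatrix.E₇.toCoxeterSystem.simple) =
      fun _ => Multiplicative.ofAdd (1 : ZMod 2) := by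
    funext i; exact sgn7_simple i
  rw [this, List.map_const', List.prod_replicate]
  have hl : omN.length = 63 := by decide
  rw [hl]
  decide

theorem commutator_HK7_inf_ker {Γ : Type} [Group Γ] (σ : Γ →* FG) (y : ℕ → Γ)
    (hy : ∀ i, 1 ≤ i → i ≤ 7 → σ (y i) = fg i) (hinv : ∀ i, 1 ≤ i → i ≤ 7 → y i * y i = 1)
    (hcox : ∀ w ∈ coxL, (∀ x ∈ w, 1 ≤ x ∧ x ≤ 7) → wv y w = 1)
    (hcard : Nat.card ↥KS7 = 1451520) : ⁅HK7 y, HK7 y⁆ ⊓ σ.ker = ⊥ := by
  classical
  set cs := CoxeterMatrix.E₇.toCoxeterSystem with hcs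
  let π : CoxeterMatrix.E₇.Group →* Γ := cs.lift ⟨fun i => y (lt7 i), liftable y hinv hcox⟩
  have hπ : ∀ i, π (cs.simple i) = y (lt7 i) := fun i => cs.lift_apply_simple _ i
  -- the range of `π`
  have hrange : π.range = HK7 y := by
    rw [MonoidHom.range_eq_map, ← cs.subgroup_closure_range_simple, MonoidHom.map_closure]
    unfold HK7
    congr 1
    ext x
    simp only [Set.mem_image, Set.mem_range, exists_exists_eq_and, Set.mem_insert_iff,
      Set.mem_singleton_iff]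
    constructor
    · rintro ⟨i, rfl⟩
      rw [hπ]
      fin_cases i <;> simp [lt7]
    · rintro (rfl | rfl | rfl | rfl | rfl | rfl | rfl)
      · exact ⟨0, hπ 0⟩
      · exact ⟨2, hπ 2⟩
      · exact ⟨3, hπ 3⟩
      · exact ⟨4, hπ 4⟩
      · exact ⟨5, hπ 5⟩
      · exact ⟨6, hπ 6⟩
      · exact ⟨1, hπ 1⟩
  let φ : CoxeterMatrix.E₇.Group →* FG := σ.comp π
  have hφ : ∀ i, φ (cs.simple i) = fg (lt7 i) := fun i => by
    show σ (π (cs.simple i)) = _
    rw [hπ]; exact hy _ (lt7_range i).1 (lt7_range i).2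
  have hφrange : φ.range = KS7 := by
    rw [MonoidHom.range_eq_map, ← cs.subgroup_closure_range_simple, MonoidHom.map_closure]
    unfold KS7 HK7
    congr 1
    ext x
    simp only [Set.mem_image, Set.mem_range, exists_exists_eq_and, Set.mem_insert_iff,
      Set.mem_singleton_iff]
    constructor
    · rintro ⟨i, rfl⟩
      rw [hφ]
      fin_cases i <;> simp [lt7]
    · rintro (rfl | rfl | rfl | rfl | rfl | rfl | rfl)
      · exact ⟨0, hφ 0⟩
      · exact ⟨2, hφ 2⟩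
      · exact ⟨3, hφ 3⟩
      · exact ⟨4, hφ 4⟩
      · exact ⟨5, hφ 5⟩
      · exact ⟨6, hφ 6⟩
      · exact ⟨1, hφ 1⟩
  -- cardinalities
  obtain ⟨hfin, hub⟩ := Cfsg.Agent.Lib.H6.CoxTC.ub_E7
  have hker2 : Nat.card φ.ker ≤ 2 := by
    have h1 := Subgroup.card_mul_index φ.ker
    rw [Subgroup.index_ker, hφrange, hcard] at h1
    have hpos : 0 < Nat.card φ.ker := Nat.card_pos
    by_contra hlt0
    have hlt : 3 ≤ Nat.card φ.ker := by omega
    have : 3 * 1451520 ≤ Nat.card φ.ker * 1451520 := Nat.mul_le_mul_right _ hlt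
    omega
  -- `ω` lies in the kernel
  have hom : om7 ∈ φ.ker := by
    rw [MonoidHom.mem_ker]
    unfold om7
    rw [map_list_prod, List.map_map]
    have h1 : (⇑φ ∘ cs.simple) = fun i => fg (lt7 i) := by
      funext i; exact hφ i
    rw [h1]
    have h2 := wv_fg_relW omL omL_mem
    rw [← omN_map] at h2
    unfold wv at h2
    rw [List.map_map] at h2
    exact h2
  -- the even part of the kernel is trivial
  have hK0 : φ.ker ⊓ sgn7.ker = ⊥ := by
    have hle : φ.ker ⊓ sgn7.ker ≤ φ.ker := inf_le_left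
    have hne : φ.ker ⊓ sgn7.ker ≠ φ.ker := by
      intro h
      have : om7 ∈ φ.ker ⊓ sgn7.ker := by rw [h]; exact hom
      exact sgn7_om7 (MonoidHom.mem_ker.1 this.2)
    have hdvd : Nat.card ↥(φ.ker ⊓ sgn7.ker) ∣ Nat.card φ.ker := Subgroup.card_dvd_of_le hle
    have hlt : Nat.card ↥(φ.ker ⊓ sgn7.ker) < Nat.card φ.ker := by
      rcases Nat.lt_or_ge (Nat.card ↥(φ.ker ⊓ sgn7.ker)) (Nat.card φ.ker) with h | h
      · exact h
      · exact absurd (Subgroup.eq_of_le_of_card_ge hle h) hne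
    have hpos : 0 < Nat.card ↥(φ.ker ⊓ sgn7.ker) := Nat.card_pos
    have h1 : Nat.card ↥(φ.ker ⊓ sgn7.ker) = 1 := by
      have h2 : Nat.card φ.ker = 2 := by omega
      rw [h2] at hdvd hlt
      omega
    exact Subgroup.eq_bot_of_card_eq _ h1
  -- conclusion
  rw [eq_bot_iff]
  rintro x ⟨hx1, hx2⟩
  rw [← hrange, MonoidHom.range_eq_map, ← Subgroup.map_commutator] at hx1
  obtain ⟨w, hw, rfl⟩ := hx1
  have hw1 : w ∈ sgn7.ker := by
    have : ⁅(⊤ : Subgroup CoxeterMatrix.E₇.Group), ⊤⁆ ≤ sgn7.ker := by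
      rw [← commutator_def]
      exact Abelianization.commutator_subset_ker _
    exact this hw
  have hw2 : w ∈ φ.ker := by
    rw [MonoidHom.mem_ker]
    exact MonoidHom.mem_ker.1 hx2
  have : w ∈ φ.ker ⊓ sgn7.ker := ⟨hw2, hw1⟩
  rw [hK0, Subgroup.mem_bot] at this
  rw [this, map_one]
  exact Subgroup.mem_bot.2 rfl

end Cfsg.Agent.Lib.H15.Fi22M
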