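import Mathlib
import Cfsg.Prelude
import Cfsg.Agent.Lib.H15.Conj
import Cfsg.Agent.Lib.H15.PGroup
import Cfsg.Agent.Lib.H5.SylowIn

/-!
The graph on the Sylow `p`-subgroups (distinct, meeting nontrivially) and its connected components
(helper15's shared library): `IsSylowChainConnected` in terms of `Relation.ReflTransGen`, the
stabilizer of a component, and classical strongly `p`-embedded subgroups.
-/

set_option autoImplicit false

namespace Cfsg.Agent.Lib.H15

open Cfsg.Agent.Lib.H5

variable {G : Type*} [Group G] {p : ℕ}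

/-- adjacency of Sylow subgroups: distinct with nontrivial intersection -/
def sylAdj (S T : Sylow p G) : Prop := S ≠ T ∧ (S : Subgroup G) ⊓ (T : Subgroup G) ≠ ⊥

/-- connectedness in the Sylow graph -/
def sylConn (S T : Sylow p G) : Prop := Relation.ReflTransGen sylAdj S T

theorem inf_ne_bot_iff {A B : Subgroup G} : A ⊓ B ≠ ⊥ ↔ ∃ x, x ≠ 1 ∧ x ∈ A ∧ x ∈ B := by
  rw [Ne, Subgroup.eq_bot_iff_forall]
  push Not
  constructor
  · rintro ⟨x, hx, hx1⟩
    exact ⟨x, hx1, (Subgroup.mem_inf.mp hx).1, (Subgroup.mem_inf.mp hx).2⟩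
  · rintro ⟨x, hx1, hA, hB⟩
    exact ⟨x, Subgroup.mem_inf.mpr ⟨hA, hB⟩, hx1⟩

theorem sylAdj_symm {S T : Sylow p G} (h : sylAdj S T) : sylAdj T S :=
  ⟨h.1.symm, by rw [inf_comm]; exact h.2⟩

theorem sylAdj_smul (g : G) {S T : Sylow p G} (h : sylAdj S T) : sylAdj (g • S) (g • T) := by
  refine ⟨fun e => h.1 ?_, ?_⟩
  · have := congrArg (fun R => g⁻¹ • R) e
    simpa using this
  · obtain ⟨x, hx1, hxS, hxT⟩ := inf_ne_bot_iff.mp h.2
    refine inf_ne_bot_iff.mpr ⟨g * x * g⁻¹, ?_, ?_, ?_⟩
    · intro e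
      apply hx1
      have := congrArg (fun t => g⁻¹ * t * g) e
      simpa [mul_assoc] using this
    · show g * x * g⁻¹ ∈ (g • S : Sylow p G)
      rw [sylow_mem_smul_iff]
      have : g⁻¹ * (g * x * g⁻¹) * g = x := by group
      rw [this]; exact hxS
    · show g * x * g⁻¹ ∈ (g • T : Sylow p G)
      rw [sylow_mem_smul_iff]
      have : g⁻¹ * (g * x * g⁻¹) * g = x := by group
      rw [this]; exact hxT

theorem sylConn_refl (S : Sylow p G) : sylConn S S := Relation.ReflTransGen.refl

theorem sylConn_symm {S T : Sylow p G} (h : sylConn S T) : sylConn T S := by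
  induction h with
  | refl => exact sylConn_refl _
  | tail _ hab ih => exact Relation.ReflTransGen.head (sylAdj_symm hab) ih

theorem sylConn_trans {S T U : Sylow p G} (h1 : sylConn S T) (h2 : sylConn T U) : sylConn S U :=
  Relation.ReflTransGen.trans h1 h2

theorem sylConn_smul (g : G) {S T : Sylow p G} (h : sylConn S T) : sylConn (g • S) (g • T) := by
  induction h with
  | refl => exact sylConn_refl _
  | tail _ hab ih => exact Relation.ReflTransGen.tail ih (sylAdj_smul g hab)

/-- two Sylow subgroups sharing a nontrivial element are connected -/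
theorem sylConn_of_mem {S T : Sylow p G} {x : G} (hx1 : x ≠ 1) (hS : x ∈ S) (hT : x ∈ T) :
    sylConn S T := by
  by_cases h : S = T
  · rw [h]; exact sylConn_refl _
  · exact Relation.ReflTransGen.single ⟨h, inf_ne_bot_iff.mpr ⟨x, hx1, hS, hT⟩⟩

theorem sylConn_of_chain : ∀ (n : ℕ) (c : Fin (n + 1) → Sylow p G),
    (∀ i : Fin n, c i.castSucc ≠ c i.succ ∧ (c i.castSucc : Subgroup G) ⊓ (c i.succ : Subgroup G) ≠ ⊥) →
    sylConn (c 0) (c (Fin.last n)) := by
  intro n
  induction n with
  | zero =>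
    intro c _
    exact sylConn_refl _
  | succ n ih =>
    intro c hc
    have h1 := ih (fun i => c i.castSucc) (fun i => by
      have := hc i.castSucc
      simpa using this)
    have h2 := hc (Fin.last n)
    have h1' : sylConn (c 0) (c (Fin.last n).castSucc) := h1
    refine Relation.ReflTransGen.tail h1' (show sylAdj (c (Fin.last n).castSucc) (c (Fin.last (n + 1))) from ?_)
    rw [← Fin.succ_last]; exact h2

theorem exists_chain_of_sylConn {S T : Sylow p G} (h : sylConn S T) :
    ∃ (n : ℕ) (c : Fin (n + 1) → Sylow p G), c 0 = S ∧ c (Fin.last n) = T ∧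
      ∀ i : Fin n, c i.castSucc ≠ c i.succ ∧ (c i.castSucc : Subgroup G) ⊓ (c i.succ : Subgroup G) ≠ ⊥ := by
  induction h using Relation.ReflTransGen.head_induction_on with
  | refl => exact ⟨0, fun _ => T, rfl, rfl, fun i => i.elim0⟩
  | @head a b hab _ ih =>
    obtain ⟨n, c, hc0, hcn, hc⟩ := ih
    refine ⟨n + 1, Fin.cons a c, by simp, ?_, ?_⟩
    · rw [← Fin.succ_last, Fin.cons_succ]; exact hcn
    · intro i
      refine Fin.cases ?_ (fun j => ?_) i
      · rw [Fin.castSucc_zero, Fin.cons_zero, Fin.cons_succ, hc0]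
        exact hab
      · rw [← Fin.succ_castSucc, Fin.cons_succ, Fin.cons_succ]
        exact hc j

theorem isSylowChainConnected_iff :
    Cfsg.IsSylowChainConnected p G ↔ ∀ S T : Sylow p G, sylConn S T := by
  constructor
  · intro h S T
    obtain ⟨n, c, hc0, hcn, -, hc⟩ := h S T
    rw [← hc0, ← hcn]
    exact sylConn_of_chain n c hc
  · intro h S T
    by_cases hST : S = T
    · subst hST
      exact ⟨0, fun _ => S, rfl, rfl, fun _ => inf_le_left, fun i => i.elim0⟩
    by_cases hb : (S : Subgroup G) ⊓ (T : Subgroup G) = ⊥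
    · obtain ⟨n, c, hc0, hcn, hc⟩ := exists_chain_of_sylConn (h S T)
      refine ⟨n, c, hc0, hcn, fun i => ?_, hc⟩
      rw [hb]; exact bot_le
    · refine ⟨1, ![S, T], rfl, rfl, ?_, ?_⟩
      · intro i
        fin_cases i
        · exact inf_le_left
        · exact inf_le_right
      · intro i
        fin_cases i
        exact ⟨hST, hb⟩

/-- the stabilizer of the connected component of `S` in the Sylow graph -/
def compStab (S : Sylow p G) : Subgroup G where
  carrier := {g | sylConn S (g • S)}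
  one_mem' := by
    show sylConn S ((1 : G) • S)
    rw [one_smul]; exact sylConn_refl S
  mul_mem' := by
    intro a b ha hb
    show sylConn S ((a * b) • S)
    rw [mul_smul]
    exact sylConn_trans ha (sylConn_smul a hb)
  inv_mem' := by
    intro a ha
    show sylConn S (a⁻¹ • S)
    have := sylConn_smul a⁻¹ ha
    rw [inv_smul_smul] at this
    exact sylConn_symm this

theorem mem_compStab_iff {S : Sylow p G} {g : G} : g ∈ compStab S ↔ sylConn S (g • S) := Iff.rfl

theorem le_compStab (S : Sylow p G) : (S : Subgroup G) ≤ compStab S := by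
  intro s hs
  rw [mem_compStab_iff]
  have : s • S = S := Sylow.smul_eq_iff_mem_normalizer.mpr (Subgroup.le_normalizer hs)
  rw [this]; exact sylConn_refl S


/-- the classical notion of a strongly `p`-embedded subgroup -/
def IsClassicalSE (p : ℕ) (H : Subgroup G) : Prop :=
  H ≠ ⊤ ∧ p ∣ Nat.card H ∧
    ∀ g : G, g ∉ H → ¬ p ∣ Nat.card ↥(H ⊓ H.map (MulAut.conj g).toMonoidHom)

theorem dvd_card_of_isPGroup_ne_bot [Finite G] [hp : Fact p.Prime] {Q : Subgroup G} (hQ : IsPGroup p ↥Q)
    (hne : Q ≠ ⊥) : p ∣ Nat.card Q := by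
  obtain ⟨n, hn⟩ := IsPGroup.iff_card.mp hQ
  have hn0 : n ≠ 0 := by
    rintro rfl
    rw [pow_zero] at hn
    exact hne (Subgroup.card_eq_one.mp hn)
  rw [hn]
  exact dvd_pow_self p hn0

theorem IsClassicalSE.normalizer_le [Finite G] [hp : Fact p.Prime] {H : Subgroup G}
    (hse : IsClassicalSE p H) {Q : Subgroup G} (hQH : Q ≤ H) (hQ : IsPGroup p ↥Q) (hne : Q ≠ ⊥) :
    Subgroup.normalizer (Q : Set G) ≤ H := by
  intro g hg
  by_contra hgH
  apply hse.2.2 g hgH
  have h1 : Q ≤ H ⊓ cj g H := by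
    refine le_inf hQH ?_
    intro q hq
    rw [mem_cj_iff]
    have hg' : g⁻¹ ∈ Subgroup.normalizer (Q : Set G) := Subgroup.inv_mem _ hg
    have := (Subgroup.mem_normalizer_iff.mp hg' q).mp hq
    rw [inv_inv] at this
    exact hQH this
  exact (dvd_card_of_isPGroup_ne_bot hQ hne).trans (Subgroup.card_dvd_of_le h1)

theorem IsClassicalSE.sylow_le [Finite G] [hp : Fact p.Prime] {H : Subgroup G}
    (hse : IsClassicalSE p H) {Q : Subgroup G} (hQH : Q ≤ H) (hne : Q ≠ ⊥) (S : Sylow p G)
    (hQS : Q ≤ (S : Subgroup G)) : (S : Subgroup G) ≤ H := by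
  by_contra hSH
  have hD : (S : Subgroup G) ⊓ H ≠ (S : Subgroup G) := by
    intro h
    apply hSH
    rw [← h]; exact inf_le_right
  obtain ⟨x, hxS, hxN, hxD⟩ := exists_mem_normalizer_not_mem (isNilpotent_of_isPGroup S.2) inf_le_left hD
  have hDp : IsPGroup p ↥((S : Subgroup G) ⊓ H : Subgroup G) := S.2.to_le inf_le_left
  have hDne : (S : Subgroup G) ⊓ H ≠ ⊥ := by
    intro h
    apply hne
    rw [eq_bot_iff, ← h]
    exact le_inf hQS hQH
  have := hse.normalizer_le inf_le_right hDp hDne hxN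
  exact hxD (Subgroup.mem_inf.mpr ⟨hxS, this⟩)

theorem IsClassicalSE.exists_sylow_le [Finite G] [hp : Fact p.Prime] {H : Subgroup G}
    (hse : IsClassicalSE p H) : ∃ S : Sylow p G, (S : Subgroup G) ≤ H := by
  obtain ⟨x, hx⟩ := exists_prime_orderOf_dvd_card' p hse.2.1
  have hx' : orderOf (x : G) = p := by rw [Subgroup.orderOf_coe]; exact hx
  have hQ : IsPGroup p ↥(Subgroup.zpowers (x : G)) := by
    apply IsPGroup.of_card (n := 1)
    rw [Nat.card_zpowers, hx', pow_one]
  obtain ⟨S, hS⟩ := hQ.exists_le_sylow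
  refine ⟨S, hse.sylow_le (Q := Subgroup.zpowers (x : G)) ?_ ?_ S hS⟩
  · rw [Subgroup.zpowers_le]; exact x.2
  · rw [Ne, Subgroup.zpowers_eq_bot]
    intro h
    rw [h, orderOf_one] at hx'
    exact hp.out.one_lt.ne hx'

theorem IsClassicalSE.le_of_sylConn [Finite G] [hp : Fact p.Prime] {H : Subgroup G}
    (hse : IsClassicalSE p H) {S T : Sylow p G} (h : sylConn S T) (hS : (S : Subgroup G) ≤ H) :
    (T : Subgroup G) ≤ H := by
  induction h with
  | refl => exact hS
  | @tail A B _ hab ih =>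
    exact hse.sylow_le (Q := (A : Subgroup G) ⊓ (B : Subgroup G)) (inf_le_left.trans ih) hab.2 B inf_le_right

theorem sylow_ne_bot_of_dvd [Finite G] [hp : Fact p.Prime] (hdiv : p ∣ Nat.card G) (S : Sylow p G) :
    (S : Subgroup G) ≠ ⊥ := by
  intro h
  have h1 := S.card_eq_multiplicity
  rw [h, Subgroup.card_bot] at h1
  have hpos : 0 < (Nat.card G).factorization p :=
    Nat.Prime.factorization_pos_of_dvd hp.out Nat.card_pos.ne' hdiv
  have : 1 < p ^ (Nat.card G).factorization p := Nat.one_lt_pow hpos.ne' hp.out.one_lt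
  omega

theorem IsClassicalSE.not_connected [Finite G] [hp : Fact p.Prime] {H : Subgroup G}
    (hse : IsClassicalSE p H) : ¬ Cfsg.IsSylowChainConnected p G := by
  rw [isSylowChainConnected_iff]
  intro hconn
  obtain ⟨S, hS⟩ := hse.exists_sylow_le
  obtain ⟨g, hg⟩ : ∃ g : G, g ∉ H := by
    by_contra h
    push Not at h
    exact hse.1 (eq_top_iff.mpr fun x _ => h x)
  have hT : ((g • S : Sylow p G) : Subgroup G) ≤ H := hse.le_of_sylConn (hconn S (g • S)) hS
  apply hse.2.2 g hg
  have hdiv : p ∣ Nat.card G := hse.2.1.trans (Subgroup.card_subgroup_dvd_card H)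
  have h1 : ((g • S : Sylow p G) : Subgroup G) ≤ H ⊓ cj g H := by
    refine le_inf hT ?_
    intro y hy
    rw [mem_cj_iff]
    exact hS ((sylow_mem_smul_iff g S y).mp hy)
  exact (dvd_card_of_isPGroup_ne_bot (g • S).2 (sylow_ne_bot_of_dvd hdiv _)).trans
    (Subgroup.card_dvd_of_le h1)

/-- every `p`-element of the component stabilizer lies in a Sylow subgroup in the component -/
theorem exists_mem_smul_of_mem_compStab [Finite G] [hp : Fact p.Prime] (S : Sylow p G) {x : G}
    (hx : x ∈ compStab S) (hxp : IsPGroup p ↥(Subgroup.zpowers x)) :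
    ∃ h ∈ compStab S, x ∈ (h • S : Sylow p G) := by
  have hSin : IsSylowIn p (S : Subgroup G) (compStab S) :=
    (isSylowIn_top_of_sylow S).mono (le_compStab S) le_top
  obtain ⟨R, hR, hxR⟩ := exists_isSylowIn_ge hxp (by rw [Subgroup.zpowers_le]; exact hx)
  obtain ⟨z, hz, hRz⟩ := hSin.exists_conj hR
  refine ⟨z, hz, ?_⟩
  rw [sylow_mem_smul_iff]
  have : x ∈ R := hxR (Subgroup.mem_zpowers x)
  rw [hRz] at this
  exact mem_cj_iff.mp this

theorem compStab_isClassicalSE [Finite G] [hp : Fact p.Prime] {S T : Sylow p G}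
    (hST : ¬ sylConn S T) : IsClassicalSE p (compStab S) := by
  have hdiv : p ∣ Nat.card G := by
    by_contra hnd
    apply hST
    have : S = T := by
      have h1 : ∀ R : Sylow p G, (R : Subgroup G) = ⊥ := by
        intro R
        have h1 := R.card_eq_multiplicity
        rw [Nat.factorization_eq_zero_of_not_dvd hnd, pow_zero] at h1
        exact Subgroup.card_eq_one.mp h1
      apply Sylow.ext
      rw [h1 S, h1 T]
    rw [this]; exact sylConn_refl T
  refine ⟨?_, ?_, ?_⟩
  · intro htop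
    obtain ⟨g, hg⟩ := MulAction.exists_smul_eq G S T
    have : g ∈ compStab S := by rw [htop]; exact Subgroup.mem_top g
    rw [mem_compStab_iff, hg] at this
    exact hST this
  · exact (dvd_card_of_isPGroup_ne_bot S.2 (sylow_ne_bot_of_dvd hdiv S)).trans
      (Subgroup.card_dvd_of_le (le_compStab S))
  · intro g hg hdvd
    apply hg
    obtain ⟨x, hx⟩ := exists_prime_orderOf_dvd_card' p hdvd
    have hx' : orderOf (x : G) = p := by rw [Subgroup.orderOf_coe]; exact hx
    have hx1 : (x : G) ≠ 1 := by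
      intro h
      rw [h, orderOf_one] at hx'
      exact hp.out.one_lt.ne hx'
    have hxH : (x : G) ∈ compStab S := (Subgroup.mem_inf.mp x.2).1
    have hxg : g⁻¹ * (x : G) * g ∈ compStab S := mem_cj_iff.mp (Subgroup.mem_inf.mp x.2).2
    have hQ : IsPGroup p ↥(Subgroup.zpowers (x : G)) := by
      apply IsPGroup.of_card (n := 1)
      rw [Nat.card_zpowers, hx', pow_one]
    have hQ' : IsPGroup p ↥(Subgroup.zpowers (g⁻¹ * (x : G) * g)) := by
      apply IsPGroup.of_card (n := 1)
      have : orderOf (g⁻¹ * (x : G) * g) = p := by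
        have := (MulAut.conj g⁻¹).orderOf_eq (x : G)
        rw [MulAut.conj_apply, inv_inv] at this
        rw [this, hx']
      rw [Nat.card_zpowers, this, pow_one]
    obtain ⟨h₁, hh₁, hx₁⟩ := exists_mem_smul_of_mem_compStab S hxH hQ
    obtain ⟨h₂, hh₂, hx₂⟩ := exists_mem_smul_of_mem_compStab S hxg hQ'
    have hx₂' : (x : G) ∈ ((g * h₂) • S : Sylow p G) := by
      rw [mul_smul, sylow_mem_smul_iff]
      exact hx₂
    have hc : sylConn (h₁ • S) ((g * h₂) • S) := sylConn_of_mem hx1 hx₁ hx₂'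
    have hgh : g * h₂ ∈ compStab S := sylConn_trans (mem_compStab_iff.mp hh₁) hc
    have : g = (g * h₂) * h₂⁻¹ := by group
    rw [this]
    exact Subgroup.mul_mem _ hgh (Subgroup.inv_mem _ hh₂)

theorem not_connected_iff_exists_classicalSE [Finite G] [hp : Fact p.Prime] :
    ¬ Cfsg.IsSylowChainConnected p G ↔ ∃ H : Subgroup G, IsClassicalSE p H := by
  constructor
  · intro h
    rw [isSylowChainConnected_iff] at h
    push Not at h
    obtain ⟨S, T, hST⟩ := h
    exact ⟨compStab S, compStab_isClassicalSE hST⟩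
  · rintro ⟨H, hH⟩
    exact hH.not_connected

end Cfsg.Agent.Lib.H15
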