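import Mathlib
import Cfsg.Prelude
import Cfsg.Agent.Lib.H15.Conj
import Cfsg.Agent.Lib.H15.SylowGraph
import Cfsg.Agent.Lib.H5.SylowIn
import Cfsg.Agent.Lib.H10.Conj

/-!
Helpers for `Cfsg.ControlsSylowIntersections` / `Cfsg.sylowMembers` (helper15's shared library).
-/

set_option autoImplicit false

namespace Cfsg.Agent.Lib.H15

open Cfsg.Agent.Lib.H5

variable {G : Type*} [Group G] {p : ℕ}

theorem subgroupConjRight_eq_cj (g : G) (X : Subgroup G) : Cfsg.subgroupConjRight g X = cj g⁻¹ X := rfl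

theorem mem_sylowMembers_iff {𝓕 : Set (Subgroup G)} {S X : Subgroup G} :
    X ∈ Cfsg.sylowMembers p 𝓕 S ↔ X ∈ 𝓕 ∧ IsSylowIn p (S ⊓ X) X := by
  unfold Cfsg.sylowMembers
  rw [Set.mem_setOf_eq, isSylowIn_iff]

theorem cj_inf (g : G) (H K : Subgroup G) : cj g (H ⊓ K) = cj g H ⊓ cj g K :=
  Subgroup.map_inf H K _ (MulAut.conj g).injective

theorem coe_smul_sylow_eq_cj (S : Sylow p G) (h : G) : ((h • S : Sylow p G) : Subgroup G) = cj h (S : Subgroup G) :=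
  Cfsg.Agent.Lib.H10.coe_smul_sylow_eq_map S h

/-- members of a normal family meeting `k S' k⁻¹` in a Sylow subgroup: conjugate back. -/
theorem sylowMembers_conj {𝓕 : Set (Subgroup G)} (h𝓕 : Cfsg.IsNormalSet 𝓕) {S' X : Subgroup G} (k : G)
    (hX : X ∈ Cfsg.sylowMembers p 𝓕 (cj k S')) : cj k⁻¹ X ∈ Cfsg.sylowMembers p 𝓕 S' := by
  rw [mem_sylowMembers_iff] at hX ⊢
  refine ⟨h𝓕 X hX.1 k, ?_⟩
  have := hX.2.conj k⁻¹
  have e : (cj k S' ⊓ X).map (MulAut.conj k⁻¹).toMonoidHom = S' ⊓ cj k⁻¹ X := by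
    show cj k⁻¹ (cj k S' ⊓ X) = _
    rw [cj_inf, cj_inv_cj]
  rw [e] at this
  exact this

end Cfsg.Agent.Lib.H15
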