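import Mathlib
import Cfsg.Agent.Lib.H22.FunctorRegular
import Cfsg.Agent.Lib.H15.SylowNormal

/-!
helper15: ambient chains of Sylow subgroups of a subgroup `M` extracted from regularity of `M`
for a normalizer functor `f` (no assumption that `M` contains a Sylow subgroup of `G`).
-/

set_option autoImplicit false
set_option linter.unusedSectionVars false

namespace Cfsg.Agent.Lib.H15.FnCtl

open Cfsg.Agent.Lib.H15
open Cfsg.Agent.Lib.H5 (IsSylowIn isSylowIn_iff isSylowIn_of_sylow)
open Cfsg.Agent.Lib.H22.FunctorRegular (le_of_mem_sylowMembers map_subgroupConjRight)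

variable {G : Type*} [Group G] [Finite G] (p : ℕ) [Fact p.Prime]
variable (f : Subgroup G → Set (Subgroup G))

/-- one link of a chain of Sylow subgroups of `M` (ambient form). -/
def MLink (M D R R' : Subgroup G) : Prop :=
  IsSylowIn p R M ∧ IsSylowIn p R' M ∧ ∃ (F P : Subgroup G) (x : G),
    IsSylowIn p P M ∧ F ∈ f P ∧ R ≤ Subgroup.normalizer (F : Set G) ∧
    R' ≤ Subgroup.normalizer (F : Set G) ∧ x ∈ M ∧ x ∈ Subgroup.normalizer (F : Set G) ∧
    cj x⁻¹ R' = R ∧ D ≤ R'

/-- chains of links. -/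
inductive MC (M D : Subgroup G) : Subgroup G → Subgroup G → Prop
  | refl (R : Subgroup G) : MC M D R R
  | step {R R' T : Subgroup G} : MLink p f M D R R' → MC M D R' T → MC M D R T

variable {p f}

/-- extraction of an ambient chain from chain data in `↥M`. -/
theorem mc_of_data (hf : Cfsg.IsNormalizerFunctor p f) {M : Subgroup G} (D : Subgroup ↥M) :
    ∀ (n : ℕ) (c : Fin (n + 1) → Sylow p ↥M) (X : Fin n → Subgroup ↥M) (x : Fin n → ↥M),
      (∀ i : Fin n,
        X i ∈ Cfsg.sylowMembers p
          ((fun X : Subgroup G => X.subgroupOf M) '' Cfsg.functorFamily p f M)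
          (c i.castSucc : Subgroup ↥M) ∧
        X i ∈ Cfsg.sylowMembers p
          ((fun X : Subgroup G => X.subgroupOf M) '' Cfsg.functorFamily p f M)
          (c i.succ : Subgroup ↥M) ∧
        x i ∈ X i ∧
        Cfsg.subgroupConjRight (x i) (c i.succ : Subgroup ↥M) = (c i.castSucc : Subgroup ↥M) ∧
        D ≤ (c i.succ : Subgroup ↥M) ⊓ X i) →
      MC p f M (D.map M.subtype) ((c 0 : Subgroup ↥M).map M.subtype)
        ((c (Fin.last n) : Subgroup ↥M).map M.subtype) := by
  intro n
  induction n with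
  | zero =>
    intro c X x _
    exact MC.refl _
  | succ n ih =>
    intro c X x h
    obtain ⟨hm1, hm2, hx, hconj, hD⟩ := h 0
    obtain ⟨F, P₀, hF, hXeq, hle1⟩ := le_of_mem_sylowMembers hf _ (X 0) hm1
    obtain ⟨_, _, _, _, hle2⟩ := le_of_mem_sylowMembers hf _ (X 0) hm2
    have hnorm : ∀ (Q : Subgroup ↥M), Q ≤ X 0 →
        Q.map M.subtype ≤ Subgroup.normalizer (F : Set G) := by
      rintro Q hQ _ ⟨y, hy, rfl⟩
      have := hQ hy
      rw [hXeq, Subgroup.mem_subgroupOf] at this
      exact this.2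
    have hx' : ((x 0 : ↥M) : G) ∈ Subgroup.normalizer (F : Set G) := by
      have := hx
      rw [hXeq, Subgroup.mem_subgroupOf] at this
      exact this.2
    have hlink : MLink p f M (D.map M.subtype)
        ((c (0 : Fin (n + 1)).castSucc : Subgroup ↥M).map M.subtype)
        ((c (0 : Fin (n + 1)).succ : Subgroup ↥M).map M.subtype) := by
      refine ⟨isSylowIn_of_sylow _, isSylowIn_of_sylow _, F, (P₀ : Subgroup ↥M).map M.subtype,
        ((x 0 : ↥M) : G), isSylowIn_of_sylow _, hF, hnorm _ hle1, hnorm _ hle2,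
        (x 0).2, hx', ?_, Subgroup.map_mono (hD.trans inf_le_left)⟩
      rw [← map_subgroupConjRight, hconj]
    have htail := ih (fun j => c j.succ) (fun i => X i.succ) (fun i => x i.succ)
      (fun i => by
        have := h i.succ
        rw [← Fin.succ_castSucc] at this
        exact this)
    rw [Fin.succ_last] at htail
    exact MC.step hlink htail

/-- regularity of `M` gives ambient chains between Sylow subgroups of `M`. -/
theorem mc_of_regular (hf : Cfsg.IsNormalizerFunctor p f) {M : Subgroup G}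
    (hr : Cfsg.IsFunctorRegular p f M) {R R' : Subgroup G} (hR : IsSylowIn p R M)
    (hR' : IsSylowIn p R' M) (hne : R ≠ R') (hD : R ⊓ R' ≠ ⊥) :
    MC p f M (R ⊓ R') R R' := by
  obtain ⟨PS, hPS⟩ := hR.exists_sylow
  obtain ⟨PT, hPT⟩ := hR'.exists_sylow
  have hne' : PS ≠ PT := by
    intro h
    apply hne
    rw [← hPS, ← hPT, h]
  have hmap : ((PS : Subgroup ↥M) ⊓ (PT : Subgroup ↥M)).map M.subtype = R ⊓ R' := by
    rw [Subgroup.map_inf _ _ _ M.subtype_injective, hPS, hPT]
  have hD' : (PS : Subgroup ↥M) ⊓ (PT : Subgroup ↥M) ≠ ⊥ := by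
    intro h
    apply hD
    rw [← hmap, h, Subgroup.map_bot]
  obtain ⟨n, c, X, x, hc0, hcl, hall⟩ := hr PS PT hne' hD'
  have := mc_of_data hf ((PS : Subgroup ↥M) ⊓ (PT : Subgroup ↥M)) n c X x hall
  rw [hc0, hcl, hmap, hPS, hPT] at this
  exact this

end Cfsg.Agent.Lib.H15.FnCtl
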