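import Mathlib
import Cfsg.Agent.Lib.H15.FnCtl1

/-!
helper15: the connection relation `Conn 𝓕 D S T` on Sylow subgroups of `G` (chains over `D` with links
in the family `𝓕`), and its translation to `Cfsg.ControlsSylowIntersections`.
-/

set_option autoImplicit false
set_option linter.unusedSectionVars false

namespace Cfsg.Agent.Lib.H15.FnCtl

open Cfsg.Agent.Lib.H15
open Cfsg.Agent.Lib.H5 (IsSylowIn isSylowIn_iff isSylowIn_of_sylow)

variable {G : Type*} [Group G] [Finite G] (p : ℕ) [Fact p.Prime]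

/-- one link over `D`. -/
def GLink (𝓕 : Set (Subgroup G)) (D : Subgroup G) (S S' : Sylow p G) : Prop :=
  D ≤ (S : Subgroup G) ∧ D ≤ (S' : Subgroup G) ∧ ∃ (X : Subgroup G) (x : G),
    X ∈ Cfsg.sylowMembers p 𝓕 (S : Subgroup G) ∧ X ∈ Cfsg.sylowMembers p 𝓕 (S' : Subgroup G) ∧
    x ∈ X ∧ cj x⁻¹ (S' : Subgroup G) = (S : Subgroup G) ∧ D ≤ X

inductive Conn (𝓕 : Set (Subgroup G)) (D : Subgroup G) : Sylow p G → Sylow p G → Prop
  | refl (S : Sylow p G) : Conn 𝓕 D S S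
  | step {S S' T : Sylow p G} : GLink p 𝓕 D S S' → Conn 𝓕 D S' T → Conn 𝓕 D S T

variable {p}
variable {𝓕 : Set (Subgroup G)} {D D' : Subgroup G}

theorem GLink.symm {S S' : Sylow p G} (h : GLink p 𝓕 D S S') : GLink p 𝓕 D S' S := by
  obtain ⟨h1, h2, X, x, h3, h4, h5, h6, h7⟩ := h
  refine ⟨h2, h1, X, x⁻¹, h4, h3, Subgroup.inv_mem _ h5, ?_, h7⟩
  rw [inv_inv, ← h6, cj_cj_inv]

theorem GLink.mono {S S' : Sylow p G} (h : GLink p 𝓕 D S S') (hD : D' ≤ D) :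
    GLink p 𝓕 D' S S' := by
  obtain ⟨h1, h2, X, x, h3, h4, h5, h6, h7⟩ := h
  exact ⟨hD.trans h1, hD.trans h2, X, x, h3, h4, h5, h6, hD.trans h7⟩

theorem GLink.mono_family {𝓕' : Set (Subgroup G)} {S S' : Sylow p G} (h : GLink p 𝓕 D S S')
    (h𝓕 : 𝓕 ⊆ 𝓕') : GLink p 𝓕' D S S' := by
  obtain ⟨h1, h2, X, x, h3, h4, h5, h6, h7⟩ := h
  exact ⟨h1, h2, X, x, ⟨h𝓕 h3.1, h3.2⟩, ⟨h𝓕 h4.1, h4.2⟩, h5, h6, h7⟩

theorem Conn.trans {S T U : Sylow p G} (h : Conn p 𝓕 D S T) (h' : Conn p 𝓕 D T U) : Conn p 𝓕 D S U := by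
  induction h with
  | refl S => exact h'
  | step hl _ ih => exact Conn.step hl (ih h')

theorem Conn.single {S S' : Sylow p G} (h : GLink p 𝓕 D S S') : Conn p 𝓕 D S S' :=
  Conn.step h (Conn.refl _)

theorem Conn.symm {S T : Sylow p G} (h : Conn p 𝓕 D S T) : Conn p 𝓕 D T S := by
  induction h with
  | refl S => exact Conn.refl _
  | step hl _ ih => exact ih.trans (Conn.single hl.symm)

theorem Conn.mono {S T : Sylow p G} (h : Conn p 𝓕 D S T) (hD : D' ≤ D) : Conn p 𝓕 D' S T := by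
  induction h with
  | refl S => exact Conn.refl _
  | step hl _ ih => exact Conn.step (hl.mono hD) ih

/-- translation to chain data. -/
theorem Conn.data {S T : Sylow p G} (h : Conn p 𝓕 D S T) :
    ∃ (n : ℕ) (c : Fin (n + 1) → Sylow p G) (X : Fin n → Subgroup G) (x : Fin n → G),
      c 0 = S ∧ c (Fin.last n) = T ∧
      ∀ i : Fin n,
        X i ∈ Cfsg.sylowMembers p 𝓕 (c i.castSucc : Subgroup G) ∧
        X i ∈ Cfsg.sylowMembers p 𝓕 (c i.succ : Subgroup G) ∧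
        x i ∈ X i ∧ Cfsg.subgroupConjRight (x i) (c i.succ : Subgroup G) = (c i.castSucc : Subgroup G) ∧
        D ≤ (c i.succ : Subgroup G) ⊓ X i := by
  induction h with
  | refl S => exact ⟨0, fun _ => S, Fin.elim0, Fin.elim0, rfl, rfl, fun i => Fin.elim0 i⟩
  | @step S S' T hl _ ih =>
    obtain ⟨n, c, X, xs, hc0, hcl, hall⟩ := ih
    obtain ⟨h1, h2, X₀, x₀, h3, h4, h5, h6, h7⟩ := hl
    refine ⟨n + 1, Fin.cons S c, Fin.cons X₀ X, Fin.cons x₀ xs, rfl, ?_, ?_⟩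
    · rw [← Fin.succ_last, Fin.cons_succ]; exact hcl
    · intro i
      refine Fin.cases ?_ ?_ i
      · rw [Fin.castSucc_zero, Fin.cons_zero, Fin.cons_zero, Fin.cons_zero, Fin.cons_succ, hc0]
        exact ⟨h3, h4, h5, h6, le_inf h2 h7⟩
      · intro j
        rw [← Fin.succ_castSucc, Fin.cons_succ, Fin.cons_succ, Fin.cons_succ, Fin.cons_succ]
        exact hall j

theorem controls_of_conn
    (h : ∀ S T : Sylow p G, S ≠ T → (S : Subgroup G) ⊓ (T : Subgroup G) ≠ ⊥ →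
      Conn p 𝓕 ((S : Subgroup G) ⊓ (T : Subgroup G)) S T) :
    Cfsg.ControlsSylowIntersections p 𝓕 := by
  intro S T hne hD
  exact (h S T hne hD).data

end Cfsg.Agent.Lib.H15.FnCtl
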