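import Mathlib
import Cfsg.Agent.Lib.H15.FnCtl2
import Cfsg.Agent.Lib.H15.PGroup

/-!
helper15: the family of normalizers `N_G(F)`, `F ∈ f(S)`, together with the singular maximal
`p`-locals, controls Sylow `p`-intersections (double induction).
-/

set_option autoImplicit false
set_option linter.unusedSectionVars false

namespace Cfsg.Agent.Lib.H15.FnCtl

open Cfsg.Agent.Lib.H15
open Cfsg.Agent.Lib.H5 (IsSylowIn isSylowIn_iff isSylowIn_of_sylow isSylowIn_top_of_sylow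
  exists_isSylowIn_ge)

variable {G : Type*} [Group G] [Finite G] {p : ℕ} [Fact p.Prime]
variable {f : Subgroup G → Set (Subgroup G)}

theorem normalizer_mem_functorFamily_top (S : Sylow p G) {F : Subgroup G}
    (hF : F ∈ f (S : Subgroup G)) :
    Subgroup.normalizer (F : Set G) ∈ Cfsg.functorFamily p f ⊤ := by
  have hS := Cfsg.Agent.Lib.H22.FunctorRegular.isSyl_coe p S
  obtain ⟨P, hP⟩ := Cfsg.Agent.Lib.H22.FunctorRegular.exists_sylow hS le_top hS le_top
  refine ⟨P, F, ?_, ?_⟩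
  · rw [hP]; exact hF
  · rw [top_inf_eq]

theorem exists_maximal_pLocal_ge {H : Subgroup G} (hH : Cfsg.IsPLocal p H) :
    ∃ M : Subgroup G, Cfsg.IsMaximalPLocal p M ∧ H ≤ M := by
  classical
  have hfin : Set.Finite {N : Subgroup G | Cfsg.IsPLocal p N ∧ H ≤ N} := Set.toFinite _
  obtain ⟨M, hM, hmax⟩ := Set.exists_max_image {N : Subgroup G | Cfsg.IsPLocal p N ∧ H ≤ N}
    (fun N => Nat.card N) hfin ⟨H, hH, le_rfl⟩
  refine ⟨M, ⟨hM.1, ?_⟩, hM.2⟩
  intro N hN hMN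
  have h1 := hmax N ⟨hN, hM.2.trans hMN⟩
  exact (eq_of_le_of_card_le' hMN h1).symm

theorem card_lt_of_lt {A B : Subgroup G} (h : A < B) : Nat.card A < Nat.card B := by
  by_contra hcon
  push Not at hcon
  exact h.ne (eq_of_le_of_card_le' h.le hcon)

theorem exists_sylow_ge {Q : Subgroup G} (hQ : IsPGroup p Q) : ∃ S : Sylow p G, Q ≤ (S : Subgroup G) :=
  hQ.exists_le_sylow

/-- `F ∈ f P` passes to the other Sylow subgroups `P₁` of `M` normalizing `F`. -/
theorem mem_f_of_sylowIn (hf : Cfsg.IsNormalizerFunctor p f) {M P P₁ F : Subgroup G}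
    (hP : IsSylowIn p P M) (hP₁ : IsSylowIn p P₁ M) (hF : F ∈ f P)
    (hP₁F : P₁ ≤ Subgroup.normalizer (F : Set G)) : F ∈ f P₁ := by
  have hPF : P ≤ Subgroup.normalizer (F : Set G) :=
    Subgroup.le_normalizer.trans ((hf P hP.2.1).1 F hF).2
  have h1 : IsSylowIn p P (M ⊓ Subgroup.normalizer (F : Set G)) :=
    hP.mono (le_inf hP.1 hPF) inf_le_left
  have h2 : IsSylowIn p P₁ (M ⊓ Subgroup.normalizer (F : Set G)) :=
    hP₁.mono (le_inf hP₁.1 hP₁F) inf_le_left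
  obtain ⟨u, hu, rfl⟩ := h1.exists_conj h2
  rw [(hf P hP.2.1).2 u]
  refine ⟨F, hF, ?_⟩
  exact mem_normalizer_iff_cj_eq.mp hu.2

/-- a proper subgroup of a `p`-group is properly contained in its normalizer there. -/
theorem lt_inf_normalizer {P : Subgroup G} (S : Sylow p G) (hPS : P ≤ (S : Subgroup G))
    (hne : P ≠ (S : Subgroup G)) : P < (S : Subgroup G) ⊓ Subgroup.normalizer (P : Set G) := by
  have hnil : Group.IsNilpotent ↥(S : Subgroup G) := S.isPGroup'.isNilpotent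
  obtain ⟨y, hyS, hyN, hyP⟩ := exists_mem_normalizer_not_mem hnil hPS hne
  refine lt_of_le_of_ne (le_inf hPS Subgroup.le_normalizer) ?_
  intro h
  apply hyP
  rw [h]
  exact ⟨hyS, hyN⟩

variable (p f)

/-- the family `𝓕 ∪ 𝓕'`. -/
def Fam : Set (Subgroup G) :=
  Cfsg.functorFamily p f ⊤ ∪ {M | Cfsg.IsMaximalPLocal p M ∧ ¬ Cfsg.IsFunctorRegular p f M}

variable {p f}

theorem inf_eq_of_isSylowIn {R M : Subgroup G} (hR : IsSylowIn p R M) (S : Sylow p G)
    (hRS : R ≤ (S : Subgroup G)) : (S : Subgroup G) ⊓ M = R :=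
  hR.2.2 _ (S.isPGroup'.to_le inf_le_left) (le_inf hRS hR.1) inf_le_right

/-- Step along an `M`-chain. -/
theorem conn_of_mc (hf : Cfsg.IsNormalizerFunctor p f)
    (hf1 : ∀ P : Subgroup G, IsPGroup p ↥P → P ≠ ⊥ → ∀ F ∈ f P, F ≠ ⊥)
    {D : Subgroup G} (hD1 : D ≠ ⊥) (c : ℕ) (hDc : Nat.card D < c)
    (star : ∀ (S T : Sylow p G) (Q : Subgroup G), D < Q → Q ≤ (S : Subgroup G) →
      Q ≤ (T : Subgroup G) → Conn p (Fam p f) D S T)
    (ihB : ∀ (H R₁ R₁' : Subgroup G), Cfsg.IsPLocal p H → IsSylowIn p R₁ H → IsSylowIn p R₁' H →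
      D < R₁ → D ≤ R₁' → c < Nat.card R₁ → ∀ S S' : Sylow p G, R₁ ≤ (S : Subgroup G) →
      R₁' ≤ (S' : Subgroup G) → Conn p (Fam p f) D S S')
    {M D₀ P₁ P₂ : Subgroup G} (h : MC p f M D₀ P₁ P₂) (hDD₀ : D ≤ D₀) :
    D ≤ P₁ → IsSylowIn p P₁ M → Nat.card P₁ = c →
    ∀ S₁ S₂ : Sylow p G, P₁ ≤ (S₁ : Subgroup G) → P₂ ≤ (S₂ : Subgroup G) →
      Conn p (Fam p f) D S₁ S₂ := by
  induction h with
  | refl P =>
    intro hDP _ hc S₁ S₂ h1 h2
    have hlt : D < P := by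
      refine lt_of_le_of_ne hDP ?_
      intro h
      rw [h] at hDc
      omega
    exact star S₁ S₂ P hlt h1 h2
  | @step P₁ P₁' P₂ hl hrest ih_chain =>
    intro hDP hsyl hc S₁ S₂ h1 h2
    obtain ⟨hs1, hs1', F, P, x, hPs, hF, hn1, hn1', hxM, hxN, hcj, hD₀⟩ := hl
    have hDP' : D ≤ P₁' := hDD₀.trans hD₀
    have hc' : Nat.card P₁' = c := by
      rw [← hc, hs1'.card_eq, hs1.card_eq]
    have hP₁'eq : P₁' = cj x P₁ := by
      rw [← hcj, cj_cj, mul_inv_cancel, cj_one]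
    obtain ⟨S₁', hS₁'⟩ := exists_sylow_ge (p := p) hs1'.2.1
    refine Conn.trans ?_ (ih_chain hDP' hs1' hc' S₁' S₂ hS₁' h2)
    -- the link from `S₁` to `S₁'`
    have hP₁p : IsPGroup p ↥P₁ := hs1.2.1
    have hP₁ne : P₁ ≠ ⊥ := by
      intro h0
      apply hD1
      rw [eq_bot_iff, ← h0]; exact hDP
    have hF1 : F ∈ f P₁ := mem_f_of_sylowIn hf hPs hs1 hF hn1
    have hF1' : F ∈ f P₁' := mem_f_of_sylowIn hf hPs hs1' hF hn1'
    have hFne : F ≠ ⊥ := hf1 P₁ hP₁p hP₁ne F hF1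
    have hFp : IsPGroup p ↥F := hP₁p.to_le ((hf P₁ hP₁p).1 F hF1).1
    have hH₁ : Cfsg.IsPLocal p (Subgroup.normalizer (F : Set G)) := ⟨F, hFp, hFne, rfl⟩
    have hNN : Subgroup.normalizer (P₁ : Set G) ≤ Subgroup.normalizer (F : Set G) :=
      ((hf P₁ hP₁p).1 F hF1).2
    have hDlt' : D < P₁' := by
      refine lt_of_le_of_ne hDP' ?_
      intro h
      rw [h] at hDc
      omega
    by_cases hfull : P₁ = (S₁ : Subgroup G)
    · -- `P₁` is a Sylow subgroup of `G`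
      have hP₁'S : P₁' = (S₁' : Subgroup G) := by
        apply eq_of_le_of_card_le' hS₁'
        rw [hc', ← hc, hfull, S₁.card_eq_multiplicity, S₁'.card_eq_multiplicity]
      apply Conn.single
      refine ⟨hDP.trans h1, hDP'.trans hS₁', Subgroup.normalizer (F : Set G), x, ?_, ?_, hxN, ?_,
        hDP.trans hn1⟩
      · rw [mem_sylowMembers_iff]
        refine ⟨Or.inl (normalizer_mem_functorFamily_top S₁ (by rw [← hfull]; exact hF1)), ?_⟩
        have hle : (S₁ : Subgroup G) ≤ Subgroup.normalizer (F : Set G) := by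
          rw [← hfull]; exact hn1
        rw [inf_eq_left.mpr hle]
        exact (isSylowIn_top_of_sylow S₁).mono hle le_top
      · rw [mem_sylowMembers_iff]
        refine ⟨Or.inl (normalizer_mem_functorFamily_top S₁' (by rw [← hP₁'S]; exact hF1')), ?_⟩
        have hle : (S₁' : Subgroup G) ≤ Subgroup.normalizer (F : Set G) := by
          rw [← hP₁'S]; exact hn1'
        rw [inf_eq_left.mpr hle]
        exact (isSylowIn_top_of_sylow S₁').mono hle le_top
      · rw [← hP₁'S, ← hfull]; exact hcj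
    · -- `P₁ < S₁`: climb into `N_G(F)`
      have hlt := lt_inf_normalizer S₁ h1 hfull
      set N₁ := (S₁ : Subgroup G) ⊓ Subgroup.normalizer (P₁ : Set G) with hN₁
      have hN₁p : IsPGroup p ↥N₁ := S₁.isPGroup'.to_le inf_le_left
      have hN₁H : N₁ ≤ Subgroup.normalizer (F : Set G) := inf_le_right.trans hNN
      obtain ⟨R₁, hR₁, hNR₁⟩ := exists_isSylowIn_ge hN₁p hN₁H
      have hR₁' : IsSylowIn p (cj x R₁) (Subgroup.normalizer (F : Set G)) := by
        have := isSylowIn_cj hR₁ x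
        rwa [cj_eq_self_of_mem hxN] at this
      have hP₁R₁ : P₁ < R₁ := lt_of_lt_of_le hlt hNR₁
      have hcR : c < Nat.card R₁ := by rw [← hc]; exact card_lt_of_lt hP₁R₁
      have hP₁'R₁' : P₁' ≤ cj x R₁ := by rw [hP₁'eq]; exact cj_mono x hP₁R₁.le
      obtain ⟨St, hSt⟩ := exists_sylow_ge (p := p) hR₁.2.1
      obtain ⟨St', hSt'⟩ := exists_sylow_ge (p := p) hR₁'.2.1
      have hB := ihB _ R₁ (cj x R₁) hH₁ hR₁ hR₁' (lt_of_le_of_lt hDP hP₁R₁)
        (hDP'.trans hP₁'R₁') hcR St St' hSt hSt'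
      have hA := star S₁ St N₁ (lt_of_le_of_lt hDP hlt) inf_le_left (hNR₁.trans hSt)
      have hC := star St' S₁' P₁' hDlt' (hP₁'R₁'.trans hSt') hS₁'
      exact hA.trans (hB.trans hC)

end Cfsg.Agent.Lib.H15.FnCtl
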