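import Mathlib
import Cfsg.Agent.Lib.H15.FnCtl3

/-!
helper15: the family of normalizers `N_G(F)`, `F ∈ f(S)`, together with the singular maximal
`p`-locals, controls Sylow `p`-intersections: the two inductions.
-/

set_option autoImplicit false
set_option linter.unusedSectionVars false

namespace Cfsg.Agent.Lib.H15.FnCtl

open Cfsg.Agent.Lib.H15
open Cfsg.Agent.Lib.H5 (IsSylowIn isSylowIn_iff isSylowIn_of_sylow isSylowIn_top_of_sylow
  exists_isSylowIn_ge)

variable {G : Type*} [Group G] [Finite G] {p : ℕ} [Fact p.Prime]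
variable {f : Subgroup G → Set (Subgroup G)}

/-- The inner induction: Sylow subgroups of a `p`-local containing `D` properly. -/
theorem lemmaB (hf : Cfsg.IsNormalizerFunctor p f)
    (hf1 : ∀ P : Subgroup G, IsPGroup p ↥P → P ≠ ⊥ → ∀ F ∈ f P, F ≠ ⊥)
    {D : Subgroup G} (hD1 : D ≠ ⊥)
    (star : ∀ (S T : Sylow p G) (Q : Subgroup G), D < Q → Q ≤ (S : Subgroup G) →
      Q ≤ (T : Subgroup G) → Conn p (Fam p f) D S T) :
    ∀ m : ℕ, ∀ (H R R' : Subgroup G), Cfsg.IsPLocal p H → IsSylowIn p R H → IsSylowIn p R' H →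
      D < R → D ≤ R' → Nat.card G - Nat.card R = m → ∀ S S' : Sylow p G, R ≤ (S : Subgroup G) →
      R' ≤ (S' : Subgroup G) → Conn p (Fam p f) D S S' := by
  intro m
  induction m using Nat.strong_induction_on with
  | _ m ih =>
    intro H R R' hH hR hR' hDR hDR' hm S S' hRS hR'S'
    have hcardRR' : Nat.card R' = Nat.card R := by rw [hR'.card_eq, hR.card_eq]
    have hDR'lt : D < R' := by
      refine lt_of_le_of_ne hDR' ?_
      intro h
      have := card_lt_of_lt hDR
      rw [h, hcardRR'] at this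
      omega
    obtain ⟨M, hMmax, hHM⟩ := exists_maximal_pLocal_ge hH
    obtain ⟨P, hP, hRP⟩ := exists_isSylowIn_ge hR.2.1 (hR.1.trans hHM)
    obtain ⟨P', hP', hR'P'⟩ := exists_isSylowIn_ge hR'.2.1 (hR'.1.trans hHM)
    have hcardPP' : Nat.card P' = Nat.card P := by rw [hP'.card_eq, hP.card_eq]
    have hcardG : ∀ Q : Subgroup G, Nat.card Q ≤ Nat.card G := fun Q => Subgroup.card_le_card_group Q
    by_cases hcard : Nat.card R < Nat.card P
    · obtain ⟨S₁, hS₁⟩ := exists_sylow_ge (p := p) hP.2.1
      obtain ⟨S₁', hS₁'⟩ := exists_sylow_ge (p := p) hP'.2.1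
      have hlt : Nat.card G - Nat.card P < m := by
        have := hcardG P
        omega
      have h1 := ih _ hlt M P P' hMmax.1 hP hP' (lt_of_lt_of_le hDR hRP) (hDR'.trans hR'P') rfl
        S₁ S₁' hS₁ hS₁'
      have h2 := star S S₁ R hDR hRS (hRP.trans hS₁)
      have h3 := star S₁' S' R' hDR'lt (hR'P'.trans hS₁') hR'S'
      exact h2.trans (h1.trans h3)
    · have hPR : R = P := eq_of_le_of_card_le' hRP (not_lt.mp hcard)
      have hP'R' : R' = P' := by
        apply eq_of_le_of_card_le' hR'P'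
        rw [hcardPP', hcardRR', hPR]
      subst hPR
      subst hP'R'
      by_cases hreg : Cfsg.IsFunctorRegular p f M
      · -- regular
        by_cases hRR' : R = R'
        · subst hRR'
          exact star S S' R hDR hRS hR'S'
        · have hne : R ⊓ R' ≠ ⊥ := by
            intro h0
            apply hD1
            rw [eq_bot_iff, ← h0]
            exact le_inf hDR.le hDR'
          have hchain := mc_of_regular hf hreg hP hP' hRR' hne
          have ihB : ∀ (H R₁ R₁' : Subgroup G), Cfsg.IsPLocal p H → IsSylowIn p R₁ H →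
              IsSylowIn p R₁' H → D < R₁ → D ≤ R₁' → Nat.card R < Nat.card R₁ →
              ∀ S S' : Sylow p G, R₁ ≤ (S : Subgroup G) → R₁' ≤ (S' : Subgroup G) →
              Conn p (Fam p f) D S S' := by
            intro H₁ R₁ R₁' hH₁ hR₁ hR₁' hDR₁ hDR₁' hc T₁ T₁' hT₁ hT₁'
            have hlt : Nat.card G - Nat.card R₁ < m := by
              have := hcardG R₁
              omega
            exact ih _ hlt H₁ R₁ R₁' hH₁ hR₁ hR₁' hDR₁ hDR₁' rfl T₁ T₁' hT₁ hT₁'
          exact conn_of_mc hf hf1 hD1 (Nat.card R) (card_lt_of_lt hDR) star ihB hchain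
            (le_inf hDR.le hDR') hDR.le hP rfl S S' hRS hR'S'
      · -- singular
        have hMF : M ∈ Fam p f := Or.inr ⟨hMmax, hreg⟩
        obtain ⟨g, hg, hR'eq⟩ := hP.exists_conj hP'
        have hR'eq' : R' = cj g R := hR'eq
        have hcoe : ((g • S : Sylow p G) : Subgroup G) = cj g (S : Subgroup G) :=
          coe_smul_sylow_eq_cj S g
        have hR'S'' : R' ≤ ((g • S : Sylow p G) : Subgroup G) := by
          rw [hcoe, hR'eq']; exact cj_mono g hRS
        have hlink : GLink p (Fam p f) D S (g • S) := by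
          refine ⟨hDR.le.trans hRS, hDR'.trans hR'S'', M, g, ?_, ?_, hg, ?_, hDR.le.trans hP.1⟩
          · rw [mem_sylowMembers_iff]
            refine ⟨hMF, ?_⟩
            rw [inf_eq_of_isSylowIn hP S hRS]
            exact hP
          · rw [mem_sylowMembers_iff]
            refine ⟨hMF, ?_⟩
            rw [inf_eq_of_isSylowIn hP' (g • S) hR'S'']
            exact hP'
          · rw [hcoe, cj_inv_cj]
        exact (Conn.single hlink).trans (star (g • S) S' R' hDR'lt hR'S'' hR'S')

/-- The outer induction. -/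
theorem conn_all (hf : Cfsg.IsNormalizerFunctor p f)
    (hf1 : ∀ P : Subgroup G, IsPGroup p ↥P → P ≠ ⊥ → ∀ F ∈ f P, F ≠ ⊥) :
    ∀ k : ℕ, ∀ D : Subgroup G, IsPGroup p ↥D → D ≠ ⊥ → Nat.card G - Nat.card D = k →
      ∀ S T : Sylow p G, D ≤ (S : Subgroup G) → D ≤ (T : Subgroup G) →
      Conn p (Fam p f) D S T := by
  intro k
  induction k using Nat.strong_induction_on with
  | _ k ih =>
    intro D hDp hD1 hk S T hDS hDT
    have hcardG : ∀ Q : Subgroup G, Nat.card Q ≤ Nat.card G := fun Q => Subgroup.card_le_card_group Q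
    have star : ∀ (S T : Sylow p G) (Q : Subgroup G), D < Q → Q ≤ (S : Subgroup G) →
        Q ≤ (T : Subgroup G) → Conn p (Fam p f) D S T := by
      intro S T Q hDQ hQS hQT
      set D' := (S : Subgroup G) ⊓ (T : Subgroup G) with hD'
      have hDD' : D < D' := lt_of_lt_of_le hDQ (le_inf hQS hQT)
      have hD'p : IsPGroup p ↥D' := S.isPGroup'.to_le inf_le_left
      have hD'1 : D' ≠ ⊥ := by
        intro h0
        rw [h0] at hDD'
        exact not_lt_bot hDD'
      have hlt : Nat.card G - Nat.card D' < k := by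
        have h1 := card_lt_of_lt hDD'
        have h2 := hcardG D'
        omega
      exact (ih _ hlt D' hD'p hD'1 rfl S T inf_le_left inf_le_right).mono hDD'.le
    by_cases hST : S = T
    · subst hST; exact Conn.refl _
    by_cases hDeq : D = (S : Subgroup G) ⊓ (T : Subgroup G)
    · have hDneS : D ≠ (S : Subgroup G) := by
        intro h
        apply hST
        have hle : (S : Subgroup G) ≤ (T : Subgroup G) := by rw [← h]; exact hDT
        exact (Sylow.ext (S.is_maximal' T.isPGroup' hle)).symm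
      have hDneT : D ≠ (T : Subgroup G) := by
        intro h
        apply hST
        have hle : (T : Subgroup G) ≤ (S : Subgroup G) := by rw [← h]; exact hDS
        exact Sylow.ext (T.is_maximal' S.isPGroup' hle)
      have hltS := lt_inf_normalizer S hDS hDneS
      have hltT := lt_inf_normalizer T hDT hDneT
      have hH : Cfsg.IsPLocal p (Subgroup.normalizer (D : Set G)) := ⟨D, hDp, hD1, rfl⟩
      obtain ⟨R, hR, hNR⟩ := exists_isSylowIn_ge (S.isPGroup'.to_le inf_le_left)
        (inf_le_right : (S : Subgroup G) ⊓ Subgroup.normalizer (D : Set G) ≤ _)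
      obtain ⟨R', hR', hNR'⟩ := exists_isSylowIn_ge (T.isPGroup'.to_le inf_le_left)
        (inf_le_right : (T : Subgroup G) ⊓ Subgroup.normalizer (D : Set G) ≤ _)
      obtain ⟨S₁, hS₁⟩ := exists_sylow_ge (p := p) hR.2.1
      obtain ⟨S₁', hS₁'⟩ := exists_sylow_ge (p := p) hR'.2.1
      have hB := lemmaB hf hf1 hD1 star _ _ R R' hH hR hR' (lt_of_lt_of_le hltS hNR)
        (hltT.le.trans hNR') rfl S₁ S₁' hS₁ hS₁'
      have hA := star S S₁ _ hltS inf_le_left (hNR.trans hS₁)
      have hC := star S₁' T _ hltT (hNR'.trans hS₁') inf_le_left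
      exact hA.trans (hB.trans hC)
    · have hlt : D < (S : Subgroup G) ⊓ (T : Subgroup G) :=
        lt_of_le_of_ne (le_inf hDS hDT) hDeq
      exact star S T _ hlt inf_le_left inf_le_right

/-- The family `𝓕 ∪ 𝓕'` controls Sylow `p`-intersections. -/
theorem controls (hf : Cfsg.IsNormalizerFunctor p f)
    (hf1 : ∀ P : Subgroup G, IsPGroup p ↥P → P ≠ ⊥ → ∀ F ∈ f P, F ≠ ⊥) :
    Cfsg.ControlsSylowIntersections p (Fam p f) := by
  apply controls_of_conn
  intro S T _ hD
  exact conn_all hf hf1 _ _ (S.isPGroup'.to_le inf_le_left) hD rfl S T inf_le_left inf_le_right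

end Cfsg.Agent.Lib.H15.FnCtl
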