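import Mathlib

/-!
# S4385, abstract piece (IDX6): `|K : C_K(W)| = 6` for a normal four-group `W` on which two
elements induce two different transvections.
-/

set_option autoImplicit false

namespace Cfsg.Agent.Lib.H15.G85

variable {K : Type*} [Group K]

/-- conjugation -/
def cj (g x : K) : K := g * x * g⁻¹

theorem cj_mul (g h x : K) : cj (g * h) x = cj g (cj h x) := by
  simp [cj, mul_assoc]

theorem cj_prod (g x y : K) : cj g (x * y) = cj g x * cj g y := by
  simp [cj, mul_assoc]

theorem cj_one (g : K) : cj g 1 = 1 := by simp [cj]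

theorem cj_inv_eq {g r x y : K} (h1 : cj g x = y) (h2 : cj r x = y) : cj (r⁻¹ * g) x = x := by
  rw [cj_mul, h1, ← h2]
  simp [cj, mul_assoc]

theorem mem_centralizer_of_fix (W : Subgroup K) (u v : K)
    (hW : ∀ g : K, g ∈ W ↔ g = 1 ∨ g = u ∨ g = v ∨ g = u * v) (g : K)
    (h1 : cj g u = u) (h2 : cj g v = v) : g ∈ Subgroup.centralizer (W : Set K) := by
  rw [Subgroup.mem_centralizer_iff]
  intro w hw
  have hfix : cj g w = w := by
    rcases (hW w).1 hw with rfl | rfl | rfl | rfl
    · exact cj_one g
    · exact h1
    · exact h2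
    · rw [cj_prod, h1, h2]
  have : g * w * g⁻¹ = w := hfix
  calc w * g = (g * w * g⁻¹) * g := by rw [this]
    _ = g * w := by simp [mul_assoc]

theorem fix_of_mem_centralizer (W : Subgroup K) {g w : K} (hw : w ∈ W)
    (hg : g ∈ Subgroup.centralizer (W : Set K)) : cj g w = w := by
  have := (Subgroup.mem_centralizer_iff.1 hg) w hw
  show g * w * g⁻¹ = w
  rw [← this]; simp

theorem index_centralizer_eq_six [Finite K] (W : Subgroup K) [W.Normal] (u v a b : K)
    (hW : ∀ g : K, g ∈ W ↔ g = 1 ∨ g = u ∨ g = v ∨ g = u * v) (hu : u ≠ 1) (hv : v ≠ 1)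
    (huv : u ≠ v) (hu2 : u * u = 1) (hv2 : v * v = 1) (hc : u * v = v * u)
    (hav : a * v * a⁻¹ = v) (hau : a * u * a⁻¹ = u * v) (hbu : b * u * b⁻¹ = u)
    (hbv : b * v * b⁻¹ = v * u) : (Subgroup.centralizer (W : Set K)).index = 6 := by
  set C := Subgroup.centralizer (W : Set K) with hC
  -- basic identities in the four-group
  have huW : u ∈ W := (hW u).2 (Or.inr (Or.inl rfl))
  have hvW : v ∈ W := (hW v).2 (Or.inr (Or.inr (Or.inl rfl)))
  have huvu : u * v * u = v := by rw [hc, mul_assoc, hu2, mul_one]
  have hvuv : v * (u * v) = u := by rw [hc, ← mul_assoc, hv2, one_mul]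
  have huuv : u * (u * v) = v := by rw [← mul_assoc, hu2, one_mul]
  have huv_u : u * v * u = v := huvu
  have huv_v : u * v * v = u := by rw [mul_assoc, hv2, mul_one]
  have hne1 : u * v ≠ u := by
    intro h
    apply hv
    have := congrArg (fun z => u * z) h
    simpa [← mul_assoc, hu2] using this
  have hne2 : u * v ≠ v := by
    intro h
    apply hu
    have := congrArg (fun z => z * v) h
    simpa [mul_assoc, hv2] using this
  have hne3 : u * v ≠ 1 := by
    intro h
    apply huv
    have := congrArg (fun z => z * v) h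
    simpa [mul_assoc, hv2] using this
  -- conjugation table
  have cau : cj a u = u * v := hau
  have cav : cj a v = v := hav
  have cbu : cj b u = u := hbu
  have cbv : cj b v = u * v := by rw [hc]; exact hbv
  have cabu : cj (a * b) u = u * v := by rw [cj_mul, cbu, cau]
  have cabv : cj (a * b) v = u := by rw [cj_mul, cbv, cj_prod, cau, cav, huv_v]
  have cbau : cj (b * a) u = v := by rw [cj_mul, cau, cj_prod, cbu, cbv, huuv]
  have cbav : cj (b * a) v = u * v := by rw [cj_mul, cav, cbv]
  have cabau : cj (a * b * a) u = v := by rw [mul_assoc, cj_mul, cbau, cav]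
  have cabav : cj (a * b * a) v = u := by rw [mul_assoc, cj_mul, cbav, cj_prod, cau, cav, huv_v]
  -- every conjugate of u, v lies in W
  have hcjW : ∀ g w : K, w ∈ W → cj g w ∈ W := fun g w hw => ‹W.Normal›.conj_mem w hw g
  have hcj_ne : ∀ g w : K, w ≠ 1 → cj g w ≠ 1 := by
    intro g w hw h
    apply hw
    have : g * w * g⁻¹ = 1 := h
    have h2 : w = g⁻¹ * (g * w * g⁻¹) * g := by simp [mul_assoc]
    rw [h2, this]; simp
  have hcj_inj : ∀ g w w' : K, cj g w = cj g w' → w = w' := by
    intro g w w' h
    have h' : g * w * g⁻¹ = g * w' * g⁻¹ := h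
    simpa using h'
  -- upper bound
  have hle : C.index ≤ 6 := by
    rw [Subgroup.index_eq_card]
    let r : Fin 6 → K := ![1, a, b, a * b, b * a, a * b * a]
    have hsurj : Function.Surjective (fun i : Fin 6 => (QuotientGroup.mk (r i) : K ⧸ C)) := by
      intro q
      obtain ⟨g, rfl⟩ := QuotientGroup.mk_surjective q
      have key : ∀ (i : Fin 6), cj (r i) u = cj g u → cj (r i) v = cj g v →
          ∃ j : Fin 6, (QuotientGroup.mk (r j) : K ⧸ C) = QuotientGroup.mk g := by
        intro i h1 h2
        refine ⟨i, ?_⟩
        rw [QuotientGroup.eq]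
        exact mem_centralizer_of_fix W u v hW _ (cj_inv_eq rfl h1) (cj_inv_eq rfl h2)
      have hgu := (hW _).1 (hcjW g u huW)
      have hgv := (hW _).1 (hcjW g v hvW)
      have hguv : cj g u ≠ cj g v := fun h => huv (hcj_inj g u v h)
      rcases hgu with h | h | h | h
      · exact absurd h (hcj_ne g u hu)
      · rcases hgv with h' | h' | h' | h'
        · exact absurd h' (hcj_ne g v hv)
        · exact absurd (h.trans h'.symm) hguv
        · exact key 0 (by show cj (1 : K) u = cj g u; rw [h]; simp [cj])
            (by show cj (1 : K) v = cj g v; rw [h']; simp [cj])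
        · exact key 2 (by show cj b u = cj g u; rw [cbu, h])
            (by show cj b v = cj g v; rw [cbv, h'])
      · rcases hgv with h' | h' | h' | h'
        · exact absurd h' (hcj_ne g v hv)
        · exact key 5 (by show cj (a * b * a) u = cj g u; rw [cabau, h])
            (by show cj (a * b * a) v = cj g v; rw [cabav, h'])
        · exact absurd (h.trans h'.symm) hguv
        · exact key 4 (by show cj (b * a) u = cj g u; rw [cbau, h])
            (by show cj (b * a) v = cj g v; rw [cbav, h'])
      · rcases hgv with h' | h' | h' | h'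
        · exact absurd h' (hcj_ne g v hv)
        · exact key 3 (by show cj (a * b) u = cj g u; rw [cabu, h])
            (by show cj (a * b) v = cj g v; rw [cabv, h'])
        · exact key 1 (by show cj a u = cj g u; rw [cau, h])
            (by show cj a v = cj g v; rw [cav, h'])
        · exact absurd (h.trans h'.symm) hguv
    have := Nat.card_le_card_of_surjective _ hsurj
    simpa using this
  -- lower bound: elements of order 2 and 3 in the quotient
  have hcard : C.index = Nat.card (K ⧸ C) := Subgroup.index_eq_card C
  have h2 : 2 ∣ C.index := by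
    rw [hcard]
    have hord : orderOf (QuotientGroup.mk a : K ⧸ C) = 2 := by
      have : Fact (Nat.Prime 2) := ⟨Nat.prime_two⟩
      apply orderOf_eq_prime
      · rw [← QuotientGroup.mk_pow, QuotientGroup.eq_one_iff]
        apply mem_centralizer_of_fix W u v hW
        · rw [pow_two, cj_mul, cau, cj_prod, cau, cav, huv_v]
        · rw [pow_two, cj_mul, cav, cav]
      · rw [Ne, QuotientGroup.eq_one_iff]
        intro hmem
        have := fix_of_mem_centralizer W huW hmem
        rw [cau] at this
        exact hne1 this
    rw [← hord]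
    exact orderOf_dvd_natCard _
  have h3 : 3 ∣ C.index := by
    rw [hcard]
    have hord : orderOf (QuotientGroup.mk (a * b) : K ⧸ C) = 3 := by
      have : Fact (Nat.Prime 3) := ⟨Nat.prime_three⟩
      apply orderOf_eq_prime
      · rw [← QuotientGroup.mk_pow, QuotientGroup.eq_one_iff]
        have e3 : (a * b) ^ 3 = (a * b) * ((a * b) * (a * b)) := by
          rw [pow_succ, pow_two, mul_assoc]
        apply mem_centralizer_of_fix W u v hW
        · rw [e3, cj_mul (a * b) ((a * b) * (a * b)), cj_mul (a * b) (a * b), cabu, cj_prod, cabu, cabv, huv_u, cabv]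
        · rw [e3, cj_mul (a * b) ((a * b) * (a * b)), cj_mul (a * b) (a * b), cabv, cabu, cj_prod, cabu, cabv, huv_u]
      · rw [Ne, QuotientGroup.eq_one_iff]
        intro hmem
        have := fix_of_mem_centralizer W huW hmem
        rw [cabu] at this
        exact hne1 this
    rw [← hord]
    exact orderOf_dvd_natCard _
  have h6 : 6 ∣ C.index := by
    have : Nat.Coprime 2 3 := by norm_num
    exact this.mul_dvd_of_dvd_of_dvd h2 h3
  have hpos : 0 < C.index := Nat.pos_of_ne_zero Subgroup.index_ne_zero_of_finite
  have := Nat.le_of_dvd hpos h6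
  omega

end Cfsg.Agent.Lib.H15.G85
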