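import Cfsg.Agent.Lib.H15.AECONST

/-!
# S1951 piece S (helper12's sigs `tools/blueprints/S1951_sigs_h12.lean`): exact-signature wrapper of
`Cfsg.Agent.Lib.H15.AE.principalBlock_const_on_pSingular` (helper15).
-/

set_option autoImplicit false

namespace Cfsg.Agent.Lib.H15.GR

open Cfsg

variable {G : Type*} [Group G] [Finite G] {p : ℕ} [Fact p.Prime]

/-- S. Members of the principal block take the value `χ z` at every `p`-singular element. -/
theorem apply_of_singular (P : Sylow p G) (hPe : Cfsg.IsElementaryAbelian p (P : Subgroup G))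
    (hconj : ∀ x ∈ (P : Subgroup G), ∀ y ∈ (P : Subgroup G), x ≠ 1 → y ≠ 1 → ∃ g : G, g * x * g⁻¹ = y)
    (hb : ∀ x ∈ (P : Subgroup G), orderOf x = p → Cfsg.HasNormalPComplement p ↥(Subgroup.centralizer ({x} : Set G)))
    (M : Ideal Cfsg.AlgInt) (hM : Cfsg.IsPModular p M) {z : G} (hz : z ∈ (P : Subgroup G)) (hz1 : z ≠ 1)
    (g : G) (hg : p ∣ orderOf g) (χ : Cfsg.IrrCharacter G) (hχ : χ ∈ Cfsg.principalBlock M G) :
    (χ : G → ℂ) g = (χ : G → ℂ) z :=
  Cfsg.Agent.Lib.H15.AE.principalBlock_const_on_pSingular M hM P hPe hconj hb z hz hz1 χ hχ g hg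

end Cfsg.Agent.Lib.H15.GR
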