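import Mathlib
import Cfsg.Prelude.Def_Transfer
import Cfsg.Agent.Lib.H1.PGroupBasic

/-!
# S5233 piece D8 (architect helper26): `exists_dihedral_decomp`

`P` finite with `Φ(P) = P'` of order `2` and an elementary abelian subgroup `B` of index `2`:
`P ≅ D₈ × A` with `A` elementary abelian.
-/

set_option autoImplicit false

namespace Cfsg.Agent.Lib.H15.GXS

open DihedralGroup

section Hom
variable {P : Type*} [Group P]

/-- underlying function of the hom `D₈ → P`: `r i ↦ y ^ i`, `sr i ↦ x * y ^ i`. -/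
def d8fun (x y : P) : DihedralGroup 4 → P
  | r i => y ^ i.val
  | sr i => x * y ^ i.val

theorem pow_val_add {y : P} (hy : y ^ 4 = 1) (i j : ZMod 4) :
    y ^ (i + j).val = y ^ i.val * y ^ j.val := by
  rw [ZMod.val_add, ← pow_add]
  exact (pow_eq_pow_mod _ hy).symm

theorem pow_val_sub {y : P} (hy : y ^ 4 = 1) (i j : ZMod 4) :
    y ^ (j - i).val = y ^ ((j.val : ℤ) - (i.val : ℤ)) := by
  have h := pow_val_add hy (j - i) i
  rw [sub_add_cancel] at h
  rw [zpow_sub, zpow_natCast, zpow_natCast, h, mul_inv_cancel_right]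

theorem zpow_mul_flip {x y : P} (hc : x * y * x⁻¹ = y⁻¹) (n : ℤ) :
    y ^ n * x = x * y ^ (-n) := by
  have h1 : x * y ^ (-n) * x⁻¹ = y ^ n := by
    rw [← conj_zpow, hc, inv_zpow', neg_neg]
  rw [← h1]; group

theorem d8fun_mul {x y : P} (hx : x * x = 1) (hy : y ^ 4 = 1) (hc : x * y * x⁻¹ = y⁻¹)
    (a b : DihedralGroup 4) : d8fun x y (a * b) = d8fun x y a * d8fun x y b := by
  cases a with
  | r i =>
    cases b with
    | r j =>
      rw [r_mul_r]
      exact pow_val_add hy i j
    | sr j =>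
      rw [r_mul_sr]
      show x * y ^ (j - i).val = y ^ i.val * (x * y ^ j.val)
      rw [pow_val_sub hy, ← mul_assoc, ← zpow_natCast y i.val, zpow_mul_flip hc, mul_assoc,
        ← zpow_natCast y j.val, ← zpow_add]
      congr 2; ring
  | sr i =>
    cases b with
    | r j =>
      rw [sr_mul_r]
      show x * y ^ (i + j).val = x * y ^ i.val * y ^ j.val
      rw [pow_val_add hy, mul_assoc]
    | sr j =>
      rw [sr_mul_sr]
      show y ^ (j - i).val = x * y ^ i.val * (x * y ^ j.val)
      rw [pow_val_sub hy]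
      have h1 : x * y ^ i.val * (x * y ^ j.val)
          = x * (y ^ (i.val : ℤ) * x) * y ^ (j.val : ℤ) := by
        simp only [zpow_natCast, mul_assoc]
      rw [h1, zpow_mul_flip hc, ← mul_assoc, hx, one_mul, ← zpow_add]
      congr 1; ring

/-- the hom `D₈ → P`. -/
def d8hom {x y : P} (hx : x * x = 1) (hy : y ^ 4 = 1) (hc : x * y * x⁻¹ = y⁻¹) :
    DihedralGroup 4 →* P :=
  MonoidHom.mk' (d8fun x y) (d8fun_mul hx hy hc)

theorem d8hom_r {x y : P} (hx : x * x = 1) (hy : y ^ 4 = 1) (hc : x * y * x⁻¹ = y⁻¹)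
    (i : ZMod 4) : d8hom hx hy hc (r i) = y ^ i.val := rfl

theorem d8hom_sr {x y : P} (hx : x * x = 1) (hy : y ^ 4 = 1) (hc : x * y * x⁻¹ = y⁻¹)
    (i : ZMod 4) : d8hom hx hy hc (sr i) = x * y ^ i.val := rfl

end Hom

/-- D8.  `p = 2`: `P ≅ D₈ × A`. -/
theorem exists_dihedral_decomp {P : Type*} [Group P] [Finite P]
    (hfr : frattini P = commutator P) (hc : Nat.card (commutator P) = 2)
    (B : Subgroup P) (hBi : B.index = 2) (hBc : ∀ a ∈ B, ∀ b ∈ B, a * b = b * a)
    (hBe : ∀ a ∈ B, a ^ 2 = 1) :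
    ∃ (A : Type) (_ : CommGroup A), (∀ a : A, a ^ 2 = 1) ∧ Nonempty (P ≃* DihedralGroup 4 × A) := by
  classical
  -- the nontrivial element `z` of `P'`
  obtain ⟨⟨z, hzc⟩, hz1, hzu⟩ := (Nat.card_eq_two_iff' (1 : ↥(commutator P))).mp hc
  have hz1' : z ≠ 1 := fun h => hz1 (Subtype.ext h)
  have hzu' : ∀ g ∈ commutator P, g = 1 ∨ g = z := by
    intro g hg
    by_cases h : g = 1
    · exact Or.inl h
    · right
      have := hzu ⟨g, hg⟩ (fun h' => h (congrArg Subtype.val h'))
      exact congrArg Subtype.val this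
  have hcomm : ∀ g h : P, g * h * g⁻¹ * h⁻¹ ∈ commutator P := by
    intro g h
    rw [commutator_def, ← commutatorElement_def]
    exact Subgroup.commutator_mem_commutator (Subgroup.mem_top g) (Subgroup.mem_top h)
  have hzcen : ∀ g : P, g * z = z * g := by
    intro g
    have hn : (commutator P).Normal := inferInstance
    have h1 : g * z * g⁻¹ ∈ commutator P := hn.conj_mem z hzc g
    rcases hzu' _ h1 with h | h
    · exfalso; apply hz1'
      have h2 : z = g⁻¹ * (g * z * g⁻¹) * g := by group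
      rw [h2, h]; group
    · calc g * z = g * z * g⁻¹ * g := by group
        _ = z * g := by rw [h]
  have hzz : z * z = 1 := by
    have h1 := pow_card_eq_one' (G := ↥(commutator P)) (x := ⟨z, hzc⟩)
    rw [hc] at h1
    have h2 := congrArg Subtype.val h1
    simpa [pow_two] using h2
  have hzinv : z⁻¹ = z := inv_eq_of_mul_eq_one_right hzz
  -- `P` is a `2`-group, squares lie in `P'`
  have hP2 : IsPGroup 2 P := by
    intro g
    refine ⟨2, ?_⟩
    have h1 : g ^ 2 ∈ B := Subgroup.sq_mem_of_index_two hBi g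
    have h2 := hBe _ h1
    rw [← pow_mul] at h2
    simpa using h2
  haveI : Fact (Nat.Prime 2) := ⟨Nat.prime_two⟩
  have hsq : ∀ g : P, g * g = 1 ∨ g * g = z := by
    intro g
    have h1 : g ^ 2 ∈ commutator P := by
      rw [← hfr]
      exact Cfsg.Agent.Lib.H1.isPGroup_pow_mem_frattini hP2 g
    rw [pow_two] at h1
    exact hzu' _ h1
  have hBsq : ∀ a ∈ B, a * a = 1 := fun a ha => by
    have := hBe a ha
    rwa [pow_two] at this
  have hBinv : ∀ a ∈ B, a⁻¹ = a := fun a ha => inv_eq_of_mul_eq_one_right (hBsq a ha)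
  -- a non-commuting pair
  have hex : ∃ g h : P, g * h * g⁻¹ * h⁻¹ = z := by
    by_contra hne
    push Not at hne
    have h1 : ∀ g h : P, g * h * g⁻¹ * h⁻¹ = 1 :=
      fun g h => (hzu' _ (hcomm g h)).resolve_right (hne g h)
    have h2 : commutator P ≤ ⊥ := by
      rw [commutator_def, Subgroup.commutator_le]
      intro g _ h _
      rw [commutatorElement_def, h1]
      exact Subgroup.one_mem _
    exact hz1' (by simpa using h2 hzc)
  -- normalise: `x ∉ B`, `t ∈ B`, `[x, t] = z`
  have hex2 : ∃ x t : P, x ∉ B ∧ t ∈ B ∧ x * t * x⁻¹ * t⁻¹ = z := by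
    obtain ⟨g, h, hgh⟩ := hex
    by_cases hg : g ∈ B
    · by_cases hh : h ∈ B
      · exfalso; apply hz1'
        rw [← hgh, hBc g hg h hh]; group
      · refine ⟨h, g, hh, hg, ?_⟩
        have h1 : h * g * h⁻¹ * g⁻¹ = (g * h * g⁻¹ * h⁻¹)⁻¹ := by group
        rw [h1, hgh, hzinv]
    · by_cases hh : h ∈ B
      · exact ⟨g, h, hg, hh, hgh⟩
      · have hb : g⁻¹ * h ∈ B := by
          rw [Subgroup.mul_mem_iff_of_index_two hBi, inv_mem_iff]
          exact ⟨fun h1 => absurd h1 hg, fun h1 => absurd h1 hh⟩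
        refine ⟨g, g⁻¹ * h, hg, hb, ?_⟩
        have h1 : g * h * g⁻¹ * h⁻¹ = g * (g * (g⁻¹ * h) * g⁻¹ * (g⁻¹ * h)⁻¹) * g⁻¹ := by group
        rcases hzu' _ (hcomm g (g⁻¹ * h)) with h2 | h2
        · exfalso; apply hz1'
          rw [← hgh, h1, h2]; group
        · exact h2
  -- normalise further: `x * x = 1`
  have hex3 : ∃ x t : P, x ∉ B ∧ t ∈ B ∧ x * t * x⁻¹ * t⁻¹ = z ∧ x * x = 1 := by
    obtain ⟨x, t, hxB, htB, hxt⟩ := hex2
    rcases hsq x with hxx | hxx
    · exact ⟨x, t, hxB, htB, hxt, hxx⟩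
    · have hxt' : x * t = z * t * x := by
        rw [← hxt]; group
      refine ⟨t * x, t, ?_, htB, ?_, ?_⟩
      · rw [Subgroup.mul_mem_iff_of_index_two hBi]
        exact fun h1 => hxB (h1.mp htB)
      · have h1 : t * x * t * (t * x)⁻¹ * t⁻¹ = t * (x * t * x⁻¹ * t⁻¹) * t⁻¹ := by group
        rw [h1, hxt, hzcen t]; group
      · calc t * x * (t * x) = t * (x * t) * x := by group
          _ = t * (z * t * x) * x := by rw [hxt']
          _ = z * (t * t) * (x * x) := by
              rw [show t * (z * t * x) * x = (t * z) * t * (x * x) by group, hzcen t]; group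
          _ = 1 := by rw [hBsq t htB, hxx, mul_one, hzz]
  obtain ⟨x, t, hxB, htB, hxt, hxx⟩ := hex3
  have hxinv : x⁻¹ = x := inv_eq_of_mul_eq_one_right hxx
  have hxt' : x * t = z * t * x := by
    rw [← hxt]; group
  -- `y = x t` has `y² = z`, `y⁴ = 1`, `x y x⁻¹ = y⁻¹`
  have hyy : x * t * (x * t) = z := by
    calc x * t * (x * t) = (x * t) * x * t := by group
      _ = z * t * x * x * t := by rw [hxt']
      _ = z * (t * (x * x) * t) := by group
      _ = z := by rw [hxx, mul_one, hBsq t htB, mul_one]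
  have hy4 : (x * t) ^ 4 = 1 := by
    have : (x * t) ^ 4 = ((x * t) ^ 2) ^ 2 := by rw [← pow_mul]
    rw [this, pow_two (x * t), hyy, pow_two, hzz]
  have hyc : x * (x * t) * x⁻¹ = (x * t)⁻¹ := by
    rw [mul_inv_rev, hBinv t htB, ← mul_assoc, hxx, one_mul]
  let ψ : DihedralGroup 4 →* P := d8hom hxx hy4 hyc
  have hψr : ∀ i : ZMod 4, ψ (r i) = (x * t) ^ i.val := fun i => rfl
  have hψsr : ∀ i : ZMod 4, ψ (sr i) = x * (x * t) ^ i.val := fun i => rfl
  have hψx : ψ (sr 0) = x := by rw [hψsr]; simp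
  have hψy : ψ (r 1) = x * t := by
    rw [hψr]
    have : (1 : ZMod 4).val = 1 := rfl
    rw [this, pow_one]
  have hψt : ψ (sr 0 * r 1) = t := by
    rw [map_mul, hψx, hψy, ← mul_assoc, hxx, one_mul]
  have hψz : ψ (r 1 * r 1) = z := by
    rw [map_mul, hψy, hyy]
  -- the centre lies in `B`
  have hcenB : ∀ c ∈ Subgroup.center P, c ∈ B := by
    intro c hc'
    by_contra hcB
    have hb : c⁻¹ * x ∈ B := by
      rw [Subgroup.mul_mem_iff_of_index_two hBi, inv_mem_iff]
      exact ⟨fun h1 => absurd h1 hcB, fun h1 => absurd h1 hxB⟩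
    rw [Subgroup.mem_center_iff] at hc'
    apply hz1'
    have h1 : x = c * (c⁻¹ * x) := by group
    have h2 : x * t * x⁻¹ * t⁻¹
        = c * ((c⁻¹ * x) * t * (c⁻¹ * x)⁻¹ * t⁻¹) * c⁻¹ := by
      have h3 : (t * c) = c * t := hc' t
      have h4 : c * (c⁻¹ * x * t * (c⁻¹ * x)⁻¹ * t⁻¹) * c⁻¹
          = x * t * x⁻¹ * (c * t⁻¹ * c⁻¹) := by group
      rw [h4]
      have h5 : c * t⁻¹ * c⁻¹ = t⁻¹ := by
        have h6 : t⁻¹ * c = c * t⁻¹ := hc' t⁻¹
        rw [← h6]; group
      rw [h5]
    have h7 : (c⁻¹ * x) * t * (c⁻¹ * x)⁻¹ * t⁻¹ = 1 := by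
      rw [hBc _ hb t htB]; group
    rw [← hxt, h2, h7]; group
  -- a complement `A₀` to `⟨z⟩` in the centre
  obtain ⟨A₀, -, hA₀, hA₀max⟩ := Finite.exists_le_maximal
    (p := fun H : Subgroup P => H ≤ Subgroup.center P ∧ z ∉ H) (a := ⊥)
    ⟨bot_le, by simpa [Subgroup.mem_bot] using hz1'⟩
  obtain ⟨hA₀c, hzA₀⟩ := hA₀
  have hA₀cen : ∀ a ∈ A₀, ∀ g : P, g * a = a * g := fun a ha g =>
    (Subgroup.mem_center_iff.mp (hA₀c ha)) g
  have hsplit : ∀ c ∈ Subgroup.center P, c ∈ A₀ ∨ c * z ∈ A₀ := by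
    intro c hc'
    by_contra hcon
    push Not at hcon
    obtain ⟨hcA, hczA⟩ := hcon
    have hcc : c * c = 1 := hBsq c (hcenB c hc')
    have hcinv : c⁻¹ = c := inv_eq_of_mul_eq_one_right hcc
    have hccen : ∀ g : P, g * c = c * g := Subgroup.mem_center_iff.mp hc'
    let A₁ : Subgroup P :=
      { carrier := {g | g ∈ A₀ ∨ g * c ∈ A₀}
        one_mem' := Or.inl A₀.one_mem
        mul_mem' := by
          intro g h hg hh
          rcases hg with hg | hg
          · rcases hh with hh | hh
            · exact Or.inl (A₀.mul_mem hg hh)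
            · right
              rw [mul_assoc]; exact A₀.mul_mem hg hh
          · rcases hh with hh | hh
            · right
              have : g * h * c = g * c * h := by
                rw [mul_assoc, hccen h, ← mul_assoc]
              rw [this]; exact A₀.mul_mem hg hh
            · left
              have : g * h = g * c * (h * c) := by
                rw [mul_assoc, ← mul_assoc c h c, ← hccen h, mul_assoc h c c, hcc, mul_one]
              rw [this]; exact A₀.mul_mem hg hh
        inv_mem' := by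
          intro g hg
          rcases hg with hg | hg
          · exact Or.inl (A₀.inv_mem hg)
          · right
            have : g⁻¹ * c = (g * c)⁻¹ := by
              rw [mul_inv_rev, hcinv, hccen g⁻¹]
            rw [this]; exact A₀.inv_mem hg }
    have hA₁mem : ∀ g, g ∈ A₁ ↔ (g ∈ A₀ ∨ g * c ∈ A₀) := fun g => Iff.rfl
    have hA₀A₁ : A₀ ≤ A₁ := fun g hg => Or.inl hg
    have hA₁c : A₁ ≤ Subgroup.center P := by
      intro g hg
      rcases hg with hg | hg
      · exact hA₀c hg
      · have h1 : g = g * c * c⁻¹ := by group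
        rw [h1]
        exact (Subgroup.center P).mul_mem (hA₀c hg) ((Subgroup.center P).inv_mem hc')
    have hzA₁ : z ∉ A₁ := by
      intro hz
      rcases hz with hz | hz
      · exact hzA₀ hz
      · apply hczA
        rw [← hzcen c] at hz
        exact hz
    have hle := hA₀max ⟨hA₁c, hzA₁⟩ hA₀A₁
    apply hcA
    apply hle
    right
    rw [hcc]; exact A₀.one_mem
  -- the product map
  let F : DihedralGroup 4 × ↥A₀ →* P :=
    ψ.noncommCoprod A₀.subtype (fun d a => (hA₀cen a.1 a.2 (ψ d)))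
  have hF : ∀ d a, F (d, a) = ψ d * (a : P) := fun d a => rfl
  -- central elements of the image of `ψ`
  have hy2 : x * t * (x * t) ≠ 1 := by rw [hyy]; exact hz1'
  have hψcen : ∀ d : DihedralGroup 4, ψ d ∈ Subgroup.center P → d = 1 ∨ ψ d = z := by
    intro d hd
    rw [Subgroup.mem_center_iff] at hd
    cases d with
    | r i =>
      rw [hψr] at hd ⊢
      have hi : i.val < 4 := ZMod.val_lt i
      have hcases : i.val = 0 ∨ i.val = 1 ∨ i.val = 2 ∨ i.val = 3 := by omega
      rcases hcases with h0 | h1 | h2 | h3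
      · left
        have : i = 0 := (ZMod.val_eq_zero i).mp h0
        rw [this]; rfl
      · exfalso
        rw [h1, pow_one] at hd
        -- `x t` central contradicts `x (x t) x⁻¹ = (x t)⁻¹`
        apply hy2
        have h5 : x * (x * t) * x⁻¹ = x * t := by
          rw [hd x]; group
        rw [hyc] at h5
        calc x * t * (x * t) = (x * t)⁻¹ * (x * t) := by rw [h5]
          _ = 1 := inv_mul_cancel _
      · right
        rw [h2, pow_two, hyy]
      · exfalso
        rw [h3] at hd
        apply hy2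
        have h4 : (x * t) ^ 3 = (x * t)⁻¹ := by
          rw [eq_inv_iff_mul_eq_one, ← pow_succ]
          exact hy4
        rw [h4] at hd
        have h5 : x * (x * t)⁻¹ * x⁻¹ = (x * t)⁻¹ := by
          rw [hd x]; group
        have h6 : x * (x * t)⁻¹ * x⁻¹ = (x * (x * t) * x⁻¹)⁻¹ := by group
        rw [h6, hyc, inv_inv] at h5
        calc x * t * (x * t) = (x * t) * (x * t)⁻¹ := by rw [← h5]
          _ = 1 := mul_inv_cancel _
    | sr i =>
      exfalso
      rw [hψsr] at hd
      apply hy2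
      -- `x y^k` commutes with `y`, so `x` commutes with `y`
      have h1 := hd (x * t)
      have h2 : x * t * (x * (x * t) ^ i.val) = x * t * x * (x * t) ^ i.val := by group
      have h3 : x * (x * t) ^ i.val * (x * t) = x * (x * t) * (x * t) ^ i.val := by
        rw [mul_assoc, ← pow_succ, pow_succ', ← mul_assoc]
      rw [h2, h3] at h1
      have h4 : x * t * x = x * (x * t) := mul_right_cancel h1
      have h5 : x * (x * t) * x⁻¹ = x * t := by
        rw [← h4]; group
      rw [hyc] at h5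
      calc x * t * (x * t) = (x * t)⁻¹ * (x * t) := by rw [h5]
        _ = 1 := inv_mul_cancel _
  have hFinj : Function.Injective F := by
    rw [injective_iff_map_eq_one]
    rintro ⟨d, a⟩ hda
    rw [hF] at hda
    have h1 : ψ d = (a : P)⁻¹ := eq_inv_of_mul_eq_one_left hda
    have h2 : ψ d ∈ Subgroup.center P := by
      rw [h1]; exact hA₀c (A₀.inv_mem a.2)
    rcases hψcen d h2 with h3 | h3
    · subst h3
      rw [map_one, one_mul] at hda
      exact Prod.ext rfl (Subtype.ext hda)
    · exfalso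
      apply hzA₀
      rw [← h3, h1]
      exact A₀.inv_mem a.2
  have hFsurj : Function.Surjective F := by
    -- first: every element of `B` is in the range
    have hcenR : ∀ c ∈ Subgroup.center P, c ∈ F.range := by
      intro c hc'
      rcases hsplit c hc' with h | h
      · exact ⟨(1, ⟨c, h⟩), by rw [hF, map_one, one_mul]⟩
      · refine ⟨(r 1 * r 1, ⟨c * z, h⟩), ?_⟩
        rw [hF, hψz]
        show z * (c * z) = c
        rw [hzcen c, ← mul_assoc, hzz, one_mul]
    have hBR : ∀ b ∈ B, b ∈ F.range := by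
      intro b hb
      have hbcen : ∀ b' ∈ B, x * b' * x⁻¹ * b'⁻¹ = 1 → b' ∈ Subgroup.center P := by
        intro b' hb' h1
        rw [Subgroup.mem_center_iff]
        intro g
        have hxb : x * b' = b' * x := by
          have : x * b' = (x * b' * x⁻¹ * b'⁻¹) * b' * x := by group
          rw [this, h1, one_mul]
        by_cases hg : g ∈ B
        · exact hBc g hg b' hb'
        · have hgb : x⁻¹ * g ∈ B := by
            rw [Subgroup.mul_mem_iff_of_index_two hBi, inv_mem_iff]
            exact ⟨fun h1 => absurd h1 hxB, fun h1 => absurd h1 hg⟩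
          calc g * b' = x * ((x⁻¹ * g) * b') := by group
            _ = x * (b' * (x⁻¹ * g)) := by rw [hBc _ hgb b' hb']
            _ = (x * b') * (x⁻¹ * g) := by group
            _ = (b' * x) * (x⁻¹ * g) := by rw [hxb]
            _ = b' * g := by group
      rcases hzu' _ (hcomm x b) with h1 | h1
      · exact hcenR b (hbcen b hb h1)
      · -- `b t` is central
        have h2 : b * t ∈ Subgroup.center P := by
          apply hbcen (b * t) (B.mul_mem hb htB)
          have h3 : x * (b * t) * x⁻¹ * (b * t)⁻¹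
              = (x * b * x⁻¹ * b⁻¹) * (b * (x * t * x⁻¹ * t⁻¹) * b⁻¹) := by group
          rw [h3, h1, hxt, hzcen b, mul_assoc, mul_inv_cancel, mul_one, hzz]
        have h4 : b = (b * t) * t := by
          rw [mul_assoc, hBsq t htB, mul_one]
        rw [h4]
        exact F.range.mul_mem (hcenR _ h2) ⟨(sr 0 * r 1, 1), by rw [hF, hψt]; simp⟩
    intro g
    by_cases hg : g ∈ B
    · exact hBR g hg
    · have hgb : x⁻¹ * g ∈ B := by
        rw [Subgroup.mul_mem_iff_of_index_two hBi, inv_mem_iff]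
        exact ⟨fun h1 => absurd h1 hxB, fun h1 => absurd h1 hg⟩
      have h2 : g = x * (x⁻¹ * g) := by group
      have h3 : g ∈ F.range := by
        rw [h2]
        exact F.range.mul_mem ⟨(sr 0, 1), by rw [hF, hψx]; simp⟩ (hBR _ hgb)
      exact h3
  let E : DihedralGroup 4 × ↥A₀ ≃* P := MulEquiv.ofBijective F ⟨hFinj, hFsurj⟩
  letI instA₀ : CommGroup ↥A₀ :=
    { (inferInstance : Group ↥A₀) with
      mul_comm := fun a b => Subtype.ext ((hA₀cen b.1 b.2 a.1)) }
  let sh : Shrink.{0} ↥A₀ ≃* ↥A₀ := Shrink.mulEquiv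
  refine ⟨Shrink.{0} ↥A₀, inferInstance, ?_, ⟨?_⟩⟩
  · intro a
    apply sh.injective
    rw [map_pow, map_one]
    apply Subtype.ext
    have := hBe _ (hcenB _ (hA₀c (sh a).2))
    simpa using this
  · exact E.symm.trans (MulEquiv.prodCongr (MulEquiv.refl _) sh.symm)

end Cfsg.Agent.Lib.H15.GXS
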