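import Mathlib
import Cfsg.Agent.Lib.H15.Conj
import Cfsg.Agent.S0016

/-!
"Generalized extraspecial" subgroups `E` of an ambient group (helper15): `GE p E z w` says that
`z ∈ Z(E)` has order `p`, `[E,E] ≤ ⟨z⟩`, `E^p ≤ ⟨z⟩`, `Z(E) ≤ ⟨z⟩` and `|E| = p^(2w+1)`.
Step lemma: for noncommuting `g, y ∈ E` the subgroup `C_E(g) ∩ C_E(y)` is `GE` of width `w - 1`;
and either some `g ∈ E \ ⟨z⟩` has `g^p = 1`, or `p = 2` and `|E| = 8`.
-/

set_option autoImplicit false

namespace Cfsg.Agent.Lib.H15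

open scoped commutatorElement

variable {G : Type*} [Group G]

structure GE (p : ℕ) (E : Subgroup G) (z : G) (w : ℕ) : Prop where
  zE : z ∈ E
  zp : orderOf z = p
  zc : ∀ a ∈ E, Commute a z
  comm : ∀ a ∈ E, ∀ b ∈ E, ⁅a, b⁆ ∈ Subgroup.zpowers z
  pow : ∀ a ∈ E, a ^ p ∈ Subgroup.zpowers z
  cen : ∀ a ∈ E, (∀ b ∈ E, Commute a b) → a ∈ Subgroup.zpowers z
  card : Nat.card E = p ^ (2 * w + 1)

/-- In a cyclic group of prime order every nontrivial element generates. -/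
theorem mem_zpowers_of_prime {p : ℕ} (hp : p.Prime) {z c : G} (hz : orderOf z = p)
    (hc : c ∈ Subgroup.zpowers z) (hc1 : c ≠ 1) : z ∈ Subgroup.zpowers c := by
  have hfin : Finite ↥(Subgroup.zpowers z) :=
    Nat.finite_of_card_ne_zero (by rw [Nat.card_zpowers, hz]; exact hp.ne_zero)
  have hle : Subgroup.zpowers c ≤ Subgroup.zpowers z := Subgroup.zpowers_le.mpr hc
  have h1 : Nat.card ↥(Subgroup.zpowers c) ∣ p := by
    have := Subgroup.card_dvd_of_le hle
    rwa [Nat.card_zpowers z, hz] at this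
  rcases (Nat.dvd_prime hp).mp h1 with h2 | h2
  · exfalso
    rw [Nat.card_zpowers] at h2
    exact hc1 (orderOf_eq_one_iff.mp h2)
  · have h3 : Subgroup.zpowers c = Subgroup.zpowers z := by
      apply Subgroup.eq_of_le_of_card_ge hle
      rw [h2, Nat.card_zpowers z, hz]
    rw [h3]; exact Subgroup.mem_zpowers z

theorem commute_of_mem_zpowers {z a b : G} (ha : a ∈ Subgroup.zpowers z)
    (hb : b ∈ Subgroup.zpowers z) : Commute a b := by
  obtain ⟨k, rfl⟩ := Subgroup.mem_zpowers_iff.mp ha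
  obtain ⟨l, rfl⟩ := Subgroup.mem_zpowers_iff.mp hb
  exact (Commute.refl z).zpow_zpow k l

/-- The commutator map `e ↦ [e, t]` as a homomorphism into `⟨z⟩`. -/
def commHom (H : Subgroup G) (z t : G) (h1 : ∀ e ∈ H, ⁅e, t⁆ ∈ Subgroup.zpowers z)
    (h2 : ∀ e ∈ H, Commute e z) : ↥H →* ↥(Subgroup.zpowers z) where
  toFun e := ⟨⁅(e : G), t⁆, h1 e e.2⟩
  map_one' := by
    apply Subtype.ext
    show ⁅((1 : ↥H) : G), t⁆ = 1
    rw [OneMemClass.coe_one, commutatorElement_one_left]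
  map_mul' := fun e₁ e₂ => by
    apply Subtype.ext
    show ⁅((e₁ * e₂ : ↥H) : G), t⁆ = ⁅(e₁ : G), t⁆ * ⁅(e₂ : G), t⁆
    rw [Subgroup.coe_mul]
    have hc : Commute (e₁ : G) ⁅(e₂ : G), t⁆ := by
      obtain ⟨k, hk⟩ := Subgroup.mem_zpowers_iff.mp (h1 e₂ e₂.2)
      rw [← hk]; exact (h2 e₁ e₁.2).zpow_right k
    have hc2 : Commute ⁅(e₂ : G), t⁆ ⁅(e₁ : G), t⁆ :=
      commute_of_mem_zpowers (h1 e₂ e₂.2) (h1 e₁ e₁.2)
    calc ⁅(e₁ : G) * e₂, t⁆ = (e₁ : G) * ⁅(e₂ : G), t⁆ * (e₁ : G)⁻¹ * ⁅(e₁ : G), t⁆ := by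
          simp only [commutatorElement_def]; group
      _ = ⁅(e₂ : G), t⁆ * ⁅(e₁ : G), t⁆ := by rw [hc.eq, mul_inv_cancel_right]
      _ = _ := hc2.eq

theorem commHom_apply_coe (H : Subgroup G) (z t : G) (h1 : ∀ e ∈ H, ⁅e, t⁆ ∈ Subgroup.zpowers z)
    (h2 : ∀ e ∈ H, Commute e z) (e : ↥H) : ((commHom H z t h1 h2 e : ↥(Subgroup.zpowers z)) : G)
      = ⁅(e : G), t⁆ := rfl

theorem card_inf_centralizer {p : ℕ} (hp : p.Prime) (H : Subgroup G) [Finite H] {z t : G}
    (hz : orderOf z = p) (h1 : ∀ e ∈ H, ⁅e, t⁆ ∈ Subgroup.zpowers z) (h2 : ∀ e ∈ H, Commute e z)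
    {e₀ : G} (he₀ : e₀ ∈ H) (hne : ⁅e₀, t⁆ ≠ 1) :
    Nat.card ↥(H ⊓ Subgroup.centralizer {t}) * p = Nat.card H := by
  have hcard : Nat.card ↥(Subgroup.zpowers z) = p := by rw [Nat.card_zpowers, hz]
  have hker : (commHom H z t h1 h2).ker = (H ⊓ Subgroup.centralizer {t}).subgroupOf H := by
    ext e
    rw [MonoidHom.mem_ker, Subgroup.mem_subgroupOf, Subgroup.mem_inf,
      Subgroup.mem_centralizer_singleton_iff]
    constructor
    · intro h
      have h3 : ⁅(e : G), t⁆ = 1 := by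
        rw [← commHom_apply_coe H z t h1 h2 e, h]; rfl
      exact ⟨e.2, (commutatorElement_eq_one_iff_commute.mp h3).eq⟩
    · intro h
      apply Subtype.ext
      rw [commHom_apply_coe]
      exact commutatorElement_eq_one_iff_commute.mpr h.2
  have hrange : (commHom H z t h1 h2).range = ⊤ := by
    have : Fact (Nat.card ↥(Subgroup.zpowers z)).Prime := ⟨hcard ▸ hp⟩
    rcases (commHom H z t h1 h2).range.eq_bot_or_eq_top_of_prime_card with h | h
    · exfalso
      apply hne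
      have h3 : commHom H z t h1 h2 ⟨e₀, he₀⟩ ∈ (commHom H z t h1 h2).range := ⟨_, rfl⟩
      rw [h, Subgroup.mem_bot] at h3
      have := congrArg Subtype.val h3
      exact this
    · exact h
  have h3 := Subgroup.card_mul_index (commHom H z t h1 h2).ker
  rw [Subgroup.index_ker, hrange, Subgroup.card_top, hcard, hker] at h3
  rw [← h3]
  congr 1
  exact (Nat.card_congr (Subgroup.subgroupOfEquivOfLe inf_le_left).toEquiv).symm


theorem GE.step {p : ℕ} (hp : p.Prime) {E : Subgroup G} [Finite E] {z : G} {w : ℕ}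
    (h : GE p E z (w + 1)) {g y : G} (hg : g ∈ E) (hy : y ∈ E) (hgy : ¬ Commute g y) :
    GE p (E ⊓ Subgroup.centralizer {g} ⊓ Subgroup.centralizer {y}) z w := by
  have hc1 : ⁅y, g⁆ ≠ 1 := fun h1 => hgy (commutatorElement_eq_one_iff_commute.mp h1).symm
  have hc2 : ⁅g, y⁆ ≠ 1 := fun h1 => hgy (commutatorElement_eq_one_iff_commute.mp h1)
  have hE₁E : E ⊓ Subgroup.centralizer {g} ⊓ Subgroup.centralizer {y} ≤ E :=
    inf_le_left.trans inf_le_left
  refine ⟨?_, h.zp, fun a ha => h.zc a (hE₁E ha),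
    fun a ha b hb => h.comm a (hE₁E ha) b (hE₁E hb), fun a ha => h.pow a (hE₁E ha), ?_, ?_⟩
  · refine Subgroup.mem_inf.mpr ⟨Subgroup.mem_inf.mpr ⟨h.zE, ?_⟩, ?_⟩
    · rw [Subgroup.mem_centralizer_singleton_iff]; exact (h.zc g hg).symm.eq
    · rw [Subgroup.mem_centralizer_singleton_iff]; exact (h.zc y hy).symm.eq
  · intro a ha hab
    apply h.cen a (hE₁E ha)
    intro e he
    have hz1 : z ∈ Subgroup.zpowers ⁅y, g⁆ :=
      mem_zpowers_of_prime hp h.zp (h.comm y hy g hg) hc1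
    have hz2 : z ∈ Subgroup.zpowers ⁅g, y⁆ :=
      mem_zpowers_of_prime hp h.zp (h.comm g hg y hy) hc2
    have h3 : (⁅e, g⁆)⁻¹ ∈ Subgroup.zpowers ⁅y, g⁆ :=
      (Subgroup.zpowers_le.mpr hz1) (Subgroup.inv_mem _ (h.comm e he g hg))
    have h4 : (⁅e, y⁆)⁻¹ ∈ Subgroup.zpowers ⁅g, y⁆ :=
      (Subgroup.zpowers_le.mpr hz2) (Subgroup.inv_mem _ (h.comm e he y hy))
    obtain ⟨i, hi⟩ := Subgroup.mem_zpowers_iff.mp h3
    obtain ⟨j, hj⟩ := Subgroup.mem_zpowers_iff.mp h4
    obtain ⟨e', he'⟩ : ∃ e' : ↥E, e' = ⟨e, he⟩ * ⟨y, hy⟩ ^ i * ⟨g, hg⟩ ^ j := ⟨_, rfl⟩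
    have hcoe : (e' : G) = e * y ^ i * g ^ j := by
      rw [he']; simp only [Subgroup.coe_mul, Subgroup.coe_zpow]
    have hfg : commHom E z g (fun e he => h.comm e he g hg) h.zc e' = 1 := by
      rw [he', map_mul, map_mul, map_zpow, map_zpow]
      apply Subtype.ext
      simp only [Subgroup.coe_mul, Subgroup.coe_zpow, commHom_apply_coe, OneMemClass.coe_one]
      rw [hi, commutatorElement_self, one_zpow, mul_one, mul_inv_cancel]
    have hfy : commHom E z y (fun e he => h.comm e he y hy) h.zc e' = 1 := by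
      rw [he', map_mul, map_mul, map_zpow, map_zpow]
      apply Subtype.ext
      simp only [Subgroup.coe_mul, Subgroup.coe_zpow, commHom_apply_coe, OneMemClass.coe_one]
      rw [hj, commutatorElement_self, one_zpow, mul_one, mul_inv_cancel]
    have h5 : ⁅(e' : G), g⁆ = 1 := by
      rw [← commHom_apply_coe E z g (fun e he => h.comm e he g hg) h.zc e', hfg]; rfl
    have h6 : ⁅(e' : G), y⁆ = 1 := by
      rw [← commHom_apply_coe E z y (fun e he => h.comm e he y hy) h.zc e', hfy]; rfl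
    have he'E₁ : (e' : G) ∈ E ⊓ Subgroup.centralizer {g} ⊓ Subgroup.centralizer {y} := by
      refine Subgroup.mem_inf.mpr ⟨Subgroup.mem_inf.mpr ⟨e'.2, ?_⟩, ?_⟩
      · rw [Subgroup.mem_centralizer_singleton_iff]
        exact (commutatorElement_eq_one_iff_commute.mp h5).eq
      · rw [Subgroup.mem_centralizer_singleton_iff]
        exact (commutatorElement_eq_one_iff_commute.mp h6).eq
    have c1 : Commute a (e' : G) := hab _ he'E₁
    have c2 : Commute a g :=
      Subgroup.mem_centralizer_singleton_iff.mp (Subgroup.mem_inf.mp (Subgroup.mem_inf.mp ha).1).2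
    have c3 : Commute a y := Subgroup.mem_centralizer_singleton_iff.mp (Subgroup.mem_inf.mp ha).2
    have e1 : e = (e' : G) * (g ^ j)⁻¹ * (y ^ i)⁻¹ := by rw [hcoe]; group
    rw [e1]
    exact (c1.mul_right (c2.zpow_right j).inv_right).mul_right (c3.zpow_right i).inv_right
  · have hfin : Finite ↥(E ⊓ Subgroup.centralizer {g}) :=
      Finite.of_injective _ (Subgroup.inclusion_injective (inf_le_left : E ⊓ Subgroup.centralizer {g} ≤ E))
    have c1 := card_inf_centralizer hp E h.zp (fun e he => h.comm e he g hg) h.zc hy hc1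
    have c2 := card_inf_centralizer hp (E ⊓ Subgroup.centralizer {g}) h.zp
      (fun e he => h.comm e (Subgroup.mem_inf.mp he).1 y hy)
      (fun e he => h.zc e (Subgroup.mem_inf.mp he).1) (e₀ := g)
      (Subgroup.mem_inf.mpr ⟨hg, Subgroup.mem_centralizer_singleton_iff.mpr rfl⟩) hc2
    rw [h.card] at c1
    have h7 : Nat.card ↥(E ⊓ Subgroup.centralizer {g} ⊓ Subgroup.centralizer {y}) * p * p
        = p ^ (2 * w + 1) * p * p := by
      rw [c2, c1]; ring
    exact Nat.eq_of_mul_eq_mul_right hp.pos (Nat.eq_of_mul_eq_mul_right hp.pos h7)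

theorem GE.exists_not_commute {p : ℕ} {E : Subgroup G} {z : G} {w : ℕ}
    (h : GE p E z w) {g : G} (hg : g ∈ E) (hgz : g ∉ Subgroup.zpowers z) :
    ∃ y ∈ E, ¬ Commute g y := by
  by_contra hcon
  push Not at hcon
  exact hgz (h.cen g hg hcon)

theorem GE.exists_or {p : ℕ} [hpf : Fact p.Prime] {E : Subgroup G} [Finite E] {z : G} {w : ℕ}
    (h : GE p E z (w + 1)) :
    (∃ g ∈ E, g ∉ Subgroup.zpowers z ∧ g ^ p = 1) ∨ (p = 2 ∧ w = 0) := by
  have hp : p.Prime := hpf.out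
  by_contra hcon
  push Not at hcon
  obtain ⟨hno, hpw⟩ := hcon
  have hEp : IsPGroup p ↥E := IsPGroup.of_card h.card
  have hzle : Subgroup.zpowers z ≤ E := Subgroup.zpowers_le.mpr h.zE
  have hZcard : Nat.card ↥((Subgroup.zpowers z).subgroupOf E) = p := by
    rw [Nat.card_congr (Subgroup.subgroupOfEquivOfLe hzle).toEquiv, Nat.card_zpowers, h.zp]
  have huniq' : ∀ K : Subgroup ↥E, Nat.card K = p → K = (Subgroup.zpowers z).subgroupOf E := by
    intro K hK
    apply eq_of_le_of_card_le'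
    · intro x hx
      rw [Subgroup.mem_subgroupOf]
      by_contra hxz
      apply hno _ x.2 hxz
      have h1 : (⟨x, hx⟩ : ↥K) ^ p = 1 := by rw [← hK]; exact pow_card_eq_one'
      have h2 := congrArg (fun t : ↥K => ((t : ↥E) : G)) h1
      simpa using h2
    · rw [hZcard, hK]
  have huniq : ∀ H K : Subgroup ↥E, Nat.card H = p → Nat.card K = p → H = K := by
    intro H K hH hK
    rw [huniq' H hH, huniq' K hK]
  -- E is not commutative
  have hcardlt : p < Nat.card ↥E := by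
    rw [h.card]
    calc p = p ^ 1 := (pow_one p).symm
      _ < p ^ (2 * (w + 1) + 1) := Nat.pow_lt_pow_right hp.one_lt (by omega)
  have hnc : ¬ ∀ a b : ↥E, a * b = b * a := by
    intro hc
    have hle : E ≤ Subgroup.zpowers z := by
      intro a ha
      apply h.cen a ha
      intro b hb
      have := hc ⟨a, ha⟩ ⟨b, hb⟩
      exact congrArg Subtype.val this
    have hfin : Finite ↥(Subgroup.zpowers z) :=
      Nat.finite_of_card_ne_zero (by rw [Nat.card_zpowers, h.zp]; exact hp.ne_zero)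
    have := Subgroup.card_le_of_le hle
    rw [Nat.card_zpowers, h.zp] at this
    omega
  rcases Cfsg.Agent.S0016.result p hEp huniq with hcyc | ⟨hp2, n, ⟨e⟩⟩
  · apply hnc
    intro a b
    have := hcyc
    obtain ⟨c, hc⟩ := hcyc.exists_generator
    obtain ⟨k, rfl⟩ := Subgroup.mem_zpowers_iff.mp (hc a)
    obtain ⟨l, rfl⟩ := Subgroup.mem_zpowers_iff.mp (hc b)
    exact ((Commute.refl c).zpow_zpow k l).eq
  · apply hpw hp2
    subst hp2
    have hn0 : NeZero (2 ^ n) := ⟨by positivity⟩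
    have hcard : Nat.card ↥E = 4 * 2 ^ n := by
      rw [Nat.card_congr e.toEquiv, Nat.card_eq_fintype_card, QuaternionGroup.card]
    obtain ⟨x, hx⟩ : ∃ x : ↥E, x = e.symm (QuaternionGroup.a 1) := ⟨_, rfl⟩
    have hox : orderOf x = 2 * 2 ^ n := by
      rw [hx, MulEquiv.orderOf_eq, QuaternionGroup.orderOf_a_one]
    have hx2 := h.pow x x.2
    have hx4 : (x : G) ^ 4 = 1 := by
      obtain ⟨k, hk⟩ := Subgroup.mem_zpowers_iff.mp hx2
      have hz2 : z ^ 2 = 1 := by rw [← h.zp]; exact pow_orderOf_eq_one z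
      calc (x : G) ^ 4 = ((x : G) ^ 2) ^ 2 := by rw [← pow_mul]
        _ = (z ^ k) ^ 2 := by rw [hk]
        _ = (z ^ 2) ^ k := by rw [← zpow_natCast, ← zpow_natCast, ← zpow_mul, ← zpow_mul, mul_comm]
        _ = 1 := by rw [hz2, one_zpow]
    have hx4' : x ^ 4 = 1 := by
      apply Subtype.ext; rw [Subgroup.coe_pow, hx4]; rfl
    have hdvd : 2 * 2 ^ n ∣ 4 := hox ▸ orderOf_dvd_of_pow_eq_one hx4'
    have hle : 2 * 2 ^ n ≤ 4 := Nat.le_of_dvd (by norm_num) hdvd
    rw [h.card] at hcard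
    have h8 : 2 ^ (2 * (w + 1) + 1) ≤ 2 ^ 3 := by rw [hcard]; omega
    have := (Nat.pow_le_pow_iff_right (by norm_num : 1 < 2)).mp h8
    omega

end Cfsg.Agent.Lib.H15
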