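import Cfsg.Agent.Lib.H5.Glaub.Defs

/-!
# S4359 (Glauberman 1969, Theorem 1), piece (CEN): `Z(I[a,b]) = I[b-q+1, a+q-1]`

Blueprint: `tools/blueprints/S4359.md`, step 6.
-/

set_option autoImplicit false
open scoped Pointwise
open Cfsg.Agent.Lib.H5.Glaub Cfsg.Agent.Lib.H5.Glaub.Setup

namespace Cfsg.Agent.Lib.H15.Glaub

variable {G : Type*} [Group G] [Finite G]

/-- a subgroup strictly between `A` and `B` with `|B : A| = p` prime is `B` -/
theorem eq_of_index_prime {A B C : Subgroup G} {p : ℕ} (hp : p.Prime) (hAC : A ≤ C) (hCB : C ≤ B)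
    (hcard : Nat.card B = p * Nat.card A) (s : G) (hsC : s ∈ C) (hsA : s ∉ A) : C = B := by
  have hApos : 0 < Nat.card A := Nat.card_pos
  obtain ⟨k, hk⟩ := Subgroup.card_dvd_of_le hAC
  obtain ⟨m, hm⟩ := Subgroup.card_dvd_of_le hCB
  have hne : Nat.card C ≠ Nat.card A := by
    intro h
    have : A = C := Subgroup.eq_of_le_of_card_ge hAC h.le
    exact hsA (this ▸ hsC)
  have hkm : k * m = p := by
    have : Nat.card A * (k * m) = Nat.card A * p := by
      calc Nat.card A * (k * m) = Nat.card A * k * m := by ring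
        _ = Nat.card C * m := by rw [hk]
        _ = Nat.card B := hm.symm
        _ = Nat.card A * p := by rw [hcard]; ring
    exact Nat.eq_of_mul_eq_mul_left hApos this
  have hk1 : k ≠ 1 := by
    intro h; apply hne; rw [hk, h, mul_one]
  have hkp : k = p := by
    have hdvd : k ∣ p := ⟨m, hkm.symm⟩
    rcases (Nat.dvd_prime hp).1 hdvd with h | h
    · exact absurd h hk1
    · exact h
  apply Subgroup.eq_of_le_of_card_ge hCB
  rw [hcard, hk, hkp]
  exact le_of_eq (by ring)

omit [Finite G] in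
theorem comm_Iv_of (S : Setup G) (t : ℕ) {a b : ℤ} {B : Subgroup G}
    (h : ∀ k : ℤ, a ≤ k → k ≤ b → Comm (S.X t k) B) : Comm (S.Iv t a b) B := by
  rw [comm_iff_le_centralizer, S.Iv_le_iff t]
  intro k h1 h2
  exact comm_iff_le_centralizer.1 (h k h1 h2)

omit [Finite G] in
theorem comm_Iv_Iv (S : Setup G) (t : ℕ) {a b c d : ℤ}
    (h : ∀ j k : ℤ, a ≤ j → j ≤ b → c ≤ k → k ≤ d → Comm (S.X t j) (S.X t k)) :
    Comm (S.Iv t a b) (S.Iv t c d) := by
  apply comm_Iv_of
  intro j h1 h2
  have h' : Comm (S.Iv t c d) (S.X t j) := by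
    apply comm_Iv_of
    intro k h3 h4 x hx y hy
    exact (h j k h1 h2 h3 h4 y hy x hx).symm
  intro x hx y hy
  exact (h' y hy x hx).symm

/-- the centre (inside the ambient group) of a nontrivial `p`-subgroup is nontrivial -/
theorem zc_ne_bot {p : ℕ} (hp : p.Prime) (H : Subgroup G) (k : ℕ) (hk : k ≠ 0)
    (hcard : Nat.card H = p ^ k) : zc H ≠ ⊥ := by
  have : Fact p.Prime := ⟨hp⟩
  have hpg : IsPGroup p H := IsPGroup.of_card hcard
  have : Nontrivial H := by
    rw [← Finite.one_lt_card_iff_nontrivial, hcard]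
    exact Nat.one_lt_pow hk hp.one_lt
  have := hpg.center_nontrivial
  obtain ⟨z, hz⟩ := exists_ne (1 : Subgroup.center H)
  intro hbot
  apply hz
  have hmem : ((z : H) : G) ∈ zc H := by
    refine mem_zc.2 ⟨(z : H).2, fun y hy => ?_⟩
    have hc := Subgroup.mem_center_iff.1 z.2 ⟨y, hy⟩
    exact congrArg Subtype.val hc
  rw [hbot, Subgroup.mem_bot] at hmem
  apply Subtype.ext
  apply Subtype.ext
  simpa using hmem

theorem cen_aux (S : Setup G) (t q : ℕ) (hI : S.Ivl t) (hD : S.Dist t q) :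
    ∀ m : ℕ, ∀ a b : ℤ, b = a + q - 1 + m → b < a + t →
      zc (S.Iv t a b) = S.Iv t (b - q + 1) (a + q - 1) ∧ b + 2 ≤ a + 2 * q := by
  intro m
  induction m with
  | zero =>
    intro a b hb hbt
    have hq := hD.pos
    have hb' : b = a + q - 1 := by simpa using hb
    have e1 : b - q + 1 = a := by omega
    have e2 : a + q - 1 = b := by omega
    rw [e1, e2]
    refine ⟨?_, by omega⟩
    have hcomm : Comm (S.Iv t a b) (S.Iv t a b) := by
      apply comm_Iv_Iv
      intro j k h1 h2 h3 h4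
      apply hD.comm
      rw [abs_lt]; constructor <;> omega
    apply le_antisymm
    · intro x hx; exact (mem_zc.1 hx).1
    · intro x hx
      exact mem_zc.2 ⟨hx, fun y hy => hcomm y hy x hx⟩
  | succ m ih =>
    intro a b hb hbt
    have hq := hD.pos
    push_cast at hb
    obtain ⟨ih1z, ih1b⟩ := ih a (b - 1) (by omega) (by omega)
    obtain ⟨ih2z, ih2b⟩ := ih (a + 1) b (by omega) (by omega)
    have hcardB : Nat.card (S.Iv t a b) = S.p ^ ((b - a).toNat + 1) := hI.card a b (by omega) hbt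
    have hcardA1 : Nat.card (S.Iv t a (b - 1)) = S.p ^ ((b - 1 - a).toNat + 1) :=
      hI.card a (b - 1) (by omega) (by omega)
    have hcardA2 : Nat.card (S.Iv t (a + 1) b) = S.p ^ ((b - (a + 1)).toNat + 1) :=
      hI.card (a + 1) b (by omega) (by omega)
    have c0 : ((b - a).toNat : ℤ) = b - a := Int.toNat_of_nonneg (by omega)
    have c1 : ((b - 1 - a).toNat : ℤ) = b - 1 - a := Int.toNat_of_nonneg (by omega)
    have c2 : ((b - (a + 1)).toNat : ℤ) = b - (a + 1) := Int.toNat_of_nonneg (by omega)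
    have hidx1 : Nat.card (S.Iv t a b) = S.p * Nat.card (S.Iv t a (b - 1)) := by
      rw [hcardB, hcardA1]
      have : (b - a).toNat = (b - 1 - a).toNat + 1 := by omega
      rw [this, pow_succ (S.p) ((b - 1 - a).toNat + 1)]; ring
    have hidx2 : Nat.card (S.Iv t a b) = S.p * Nat.card (S.Iv t (a + 1) b) := by
      rw [hcardB, hcardA2]
      have : (b - a).toNat = (b - (a + 1)).toNat + 1 := by omega
      rw [this, pow_succ (S.p) ((b - (a + 1)).toNat + 1)]; ring
    -- (i)
    have hX1 : S.X t (b - q) ≤ zc (S.Iv t a (b - 1)) := by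
      rw [ih1z]
      exact S.X_le_Iv t (by omega) (by omega)
    have hZ1 : zc (S.Iv t a b) ≤ S.Iv t a (b - 1) := by
      by_contra hnot
      obtain ⟨w, hwZ, hwA⟩ := SetLike.not_le_iff_exists.1 hnot
      have hAC : S.Iv t a (b - 1) ≤
          S.Iv t a b ⊓ Subgroup.centralizer (S.X t (b - q) : Set G) := by
        refine le_inf (S.Iv_mono t le_rfl (by omega)) ?_
        intro y hy
        rw [Subgroup.mem_centralizer_iff]
        intro x hx
        exact ((mem_zc.1 (hX1 hx)).2 y hy).symm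
      have hwC : w ∈ S.Iv t a b ⊓ Subgroup.centralizer (S.X t (b - q) : Set G) := by
        refine Subgroup.mem_inf.2 ⟨(mem_zc.1 hwZ).1, ?_⟩
        rw [Subgroup.mem_centralizer_iff]
        intro x hx
        exact (mem_zc.1 hwZ).2 x (S.X_le_Iv t (by omega) (by omega) hx)
      have hCB := eq_of_index_prime S.hp hAC inf_le_left hidx1 w hwC hwA
      have hXb : S.X t b ≤ S.Iv t a b ⊓ Subgroup.centralizer (S.X t (b - q) : Set G) := by
        rw [hCB]; exact S.X_le_Iv t (by omega) le_rfl
      apply hD.ncomm (b - q)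
      have e : b - q + q = b := by ring
      rw [e]
      intro x hx y hy
      exact (Subgroup.mem_centralizer_iff.1 (hXb hy).2) x hx
    -- (ii)
    have hX2 : S.X t (a + q) ≤ zc (S.Iv t (a + 1) b) := by
      rw [ih2z]
      exact S.X_le_Iv t (by omega) (by omega)
    have hZ2 : zc (S.Iv t a b) ≤ S.Iv t (a + 1) b := by
      by_contra hnot
      obtain ⟨w, hwZ, hwA⟩ := SetLike.not_le_iff_exists.1 hnot
      have hAC : S.Iv t (a + 1) b ≤
          S.Iv t a b ⊓ Subgroup.centralizer (S.X t (a + q) : Set G) := by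
        refine le_inf (S.Iv_mono t (by omega) le_rfl) ?_
        intro y hy
        rw [Subgroup.mem_centralizer_iff]
        intro x hx
        exact ((mem_zc.1 (hX2 hx)).2 y hy).symm
      have hwC : w ∈ S.Iv t a b ⊓ Subgroup.centralizer (S.X t (a + q) : Set G) := by
        refine Subgroup.mem_inf.2 ⟨(mem_zc.1 hwZ).1, ?_⟩
        rw [Subgroup.mem_centralizer_iff]
        intro x hx
        exact (mem_zc.1 hwZ).2 x (S.X_le_Iv t (by omega) (by omega) hx)
      have hCB := eq_of_index_prime S.hp hAC inf_le_left hidx2 w hwC hwA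
      have hXa : S.X t a ≤ S.Iv t a b ⊓ Subgroup.centralizer (S.X t (a + q) : Set G) := by
        rw [hCB]; exact S.X_le_Iv t le_rfl (by omega)
      apply hD.ncomm a
      intro x hx y hy
      exact ((Subgroup.mem_centralizer_iff.1 (hXa hx).2) y hy).symm
    -- (iii)
    have hsub : zc (S.Iv t a b) ≤ S.Iv t (b - q + 1) (a + q - 1) := by
      have h1 : zc (S.Iv t a b) ≤ zc (S.Iv t a (b - 1)) := by
        intro z hz
        exact mem_zc.2 ⟨hZ1 hz, fun y hy => (mem_zc.1 hz).2 y (S.Iv_mono t le_rfl (by omega) hy)⟩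
      have h2 : zc (S.Iv t a b) ≤ zc (S.Iv t (a + 1) b) := by
        intro z hz
        exact mem_zc.2 ⟨hZ2 hz, fun y hy => (mem_zc.1 hz).2 y (S.Iv_mono t (by omega) le_rfl hy)⟩
      have h3 := le_inf h1 h2
      rw [ih1z, ih2z, hI.inf a b _ _ _ _ hbt (by omega) (by omega) (by omega) (by omega)] at h3
      have e1 : max (b - 1 - q + 1) (b - q + 1) = b - q + 1 := max_eq_right (by omega)
      have e2 : min (a + q - 1) (a + 1 + q - 1) = a + q - 1 := min_eq_left (by omega)
      rw [e1, e2] at h3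
      exact h3
    -- (iv)
    have hne : zc (S.Iv t a b) ≠ ⊥ := zc_ne_bot S.hp _ _ (by omega) hcardB
    have hrange : b - q + 1 ≤ a + q - 1 := by
      by_contra hlt
      have := S.Iv_eq_bot t (a := b - q + 1) (b := a + q - 1) (by omega)
      rw [this] at hsub
      exact hne (le_bot_iff.1 hsub)
    -- (v)
    have hsup : S.Iv t (b - q + 1) (a + q - 1) ≤ zc (S.Iv t a b) := by
      rw [S.Iv_le_iff t]
      intro k h1 h2 x hx
      refine mem_zc.2 ⟨S.X_le_Iv t (by omega) (by omega) hx, ?_⟩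
      have hc : Comm (S.Iv t a b) (S.X t k) := by
        apply comm_Iv_of
        intro j h3 h4
        apply hD.comm
        rw [abs_lt]; constructor <;> omega
      intro y hy
      exact hc y hy x hx
    exact ⟨le_antisymm hsub hsup, by omega⟩

/-- (CEN) Step 6: `Z(I[a,b]) = I[b-q+1, a+q-1]` for every interval of length between `q` and `t`. -/
theorem cen (S : Setup G) (t q : ℕ) (hU : S.Uni t) (hI : S.Ivl t) (hD : S.Dist t q) : S.Cen t q := by
  intro a b h1 h2
  have hm : 0 ≤ b - (a + q - 1) := by omega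
  obtain ⟨m, hm'⟩ := Int.eq_ofNat_of_zero_le hm
  exact cen_aux S t q hI hD m a b (by omega) h2

end Cfsg.Agent.Lib.H15.Glaub
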