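import Cfsg.Agent.Lib.H4.HT.Defs

/-!
# S3371 piece DQC (helper15): the counting `V ∖ 0 = ⊔ C_V(τ) ∖ 0`
-/

set_option autoImplicit false

namespace Cfsg.Agent.Lib.H15.HT

open Cfsg.Agent.Lib.H4.HT

variable {q : ℕ} {V : Type*} [AddCommGroup V] [Module (ZMod q) V] {G : Type*} [Group G]

/-- P13c (M, pure counting): blueprint §4 (iv): `V ∖ 0` is the disjoint union of the `C_V(τ) ∖ 0`. -/
theorem dq_count [Finite V] [Nontrivial V] [Finite G] (ρ : G →* (V ≃ₗ[ZMod q] V)) (T : Set G)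
    (hstab : ∀ v : V, v ≠ 0 → ∃ τ ∈ T, ρ τ v = v ∧ ∀ g : G, ρ g v = v → g = 1 ∨ g = τ)
    (hT1 : (1 : G) ∉ T)
    (hhalf : ∀ τ ∈ T, Nat.card {v : V // ρ τ v = v} ^ 2 = Nat.card V) :
    ∃ Q : ℕ, Q ^ 2 = Nat.card V ∧ Q + 1 = Nat.card T := by
  classical
  have : Fintype V := Fintype.ofFinite V
  have : Fintype G := Fintype.ofFinite G
  obtain ⟨v₀, hv₀⟩ := exists_ne (0 : V)
  obtain ⟨τ₀, hτ₀T, -, -⟩ := hstab v₀ hv₀
  obtain ⟨Q, hQ⟩ : ∃ Q : ℕ, Q = Nat.card {v : V // ρ τ₀ v = v} := ⟨_, rfl⟩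
  have hQ2 : Q ^ 2 = Nat.card V := by rw [hQ]; exact hhalf τ₀ hτ₀T
  have hall : ∀ τ ∈ T, Nat.card {v : V // ρ τ v = v} = Q := by
    intro τ hτ
    have h1 := hhalf τ hτ
    exact Nat.pow_left_injective (n := 2) (by norm_num) (h1.trans hQ2.symm)
  refine ⟨Q, hQ2, ?_⟩
  have hV1 : 1 < Nat.card V := Finite.one_lt_card
  have hQ1 : 1 < Q := by
    by_contra hle
    have h1 : Q ≤ 1 := by omega
    have h2 : Q ^ 2 ≤ 1 ^ 2 := Nat.pow_le_pow_left h1 2
    omega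
  let φ : V → G := fun v => if h : v ≠ 0 then (hstab v h).choose else 1
  have hφ : ∀ v, v ≠ 0 → φ v ∈ T ∧ ρ (φ v) v = v ∧ ∀ g : G, ρ g v = v → g = 1 ∨ g = φ v := by
    intro v hv
    simp only [φ, dif_pos hv]
    exact (hstab v hv).choose_spec
  let S : Finset V := Finset.univ.filter (fun v => v ≠ 0)
  have hS : S.card = Nat.card V - 1 := by
    rw [Nat.card_eq_fintype_card]
    simp [S, Finset.filter_ne']
  have hfib : ∀ τ ∈ T.toFinset, (S.filter (fun v => φ v = τ)).card = Q - 1 := by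
    intro τ hτ
    rw [Set.mem_toFinset] at hτ
    have h1 : S.filter (fun v => φ v = τ) = (Finset.univ.filter (fun v => ρ τ v = v)).erase 0 := by
      ext v
      simp only [S, Finset.mem_filter, Finset.mem_univ, true_and, Finset.mem_erase]
      constructor
      · rintro ⟨hv, rfl⟩
        exact ⟨hv, (hφ v hv).2.1⟩
      · rintro ⟨hv, hfix⟩
        refine ⟨hv, ?_⟩
        rcases (hφ v hv).2.2 τ hfix with h | h
        · exact absurd (h ▸ hτ) hT1
        · exact h.symm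
    rw [h1, Finset.card_erase_of_mem (by simp), ← hall τ hτ, Nat.card_eq_fintype_card,
      Fintype.card_subtype]
  have hmaps : ∀ v ∈ S, φ v ∈ T.toFinset := by
    intro v hv
    simp only [S, Finset.mem_filter, Finset.mem_univ, true_and] at hv
    rw [Set.mem_toFinset]
    exact (hφ v hv).1
  have hsum := Finset.card_eq_sum_card_fiberwise (f := φ) (s := S) (t := T.toFinset) hmaps
  rw [Finset.sum_congr rfl hfib, Finset.sum_const, smul_eq_mul, hS, Set.toFinset_card,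
    ← Nat.card_eq_fintype_card, ← hQ2] at hsum
  -- hsum : Q ^ 2 - 1 = Nat.card T * (Q - 1)
  obtain ⟨r, rfl⟩ : ∃ r, Q = r + 2 := ⟨Q - 2, by omega⟩
  have h3 : (r + 2) ^ 2 - 1 = (r + 2 + 1) * (r + 2 - 1) := by
    have : (r + 2) ^ 2 = (r + 3) * (r + 1) + 1 := by ring
    rw [this]; simp
  rw [h3] at hsum
  exact Nat.eq_of_mul_eq_mul_right (by omega) hsum

end Cfsg.Agent.Lib.H15.HT
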