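import Cfsg.Agent.Lib.H4.HT.Defs

/-!
# S3371 piece DQS (helper15): stabilisers in the dihedral / quasi-dihedral set-up
-/

set_option autoImplicit false

namespace Cfsg.Agent.Lib.H15.HT

open Cfsg.Agent.Lib.H4.HT

variable {q : ℕ} {V : Type*} [AddCommGroup V] [Module (ZMod q) V] {G : Type*} [Group G]

/-- an element squaring to one has `z ^ e = z` for odd `e`. -/
theorem pow_odd_of_sq_eq_one (z : G) (hz : z * z = 1) (e : ℕ) (he : e % 2 = 1) : z ^ e = z := by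
  obtain ⟨t, rfl⟩ : ∃ t, e = 2 * t + 1 := ⟨e / 2, by omega⟩
  rw [pow_succ, pow_mul, pow_two, hz, one_pow, one_mul]

/-- the unique involution of a cyclic group of order `2 ^ n`. -/
theorem invol_of_mem_zpowers {n : ℕ} (hn : 1 ≤ n) (x : G) (hx : orderOf x = 2 ^ n) (h : G)
    (hh : h ∈ Subgroup.zpowers x) (h2 : h * h = 1) (h1 : h ≠ 1) : h = x ^ 2 ^ (n - 1) := by
  have hfin : IsOfFinOrder x := by
    rw [← orderOf_pos_iff, hx]; positivity
  rw [← hfin.mem_powers_iff_mem_zpowers] at hh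
  obtain ⟨k, hk⟩ := hh
  have hk' : x ^ k = h := hk
  subst hk'
  have hsplit : 2 ^ n = 2 ^ (n - 1) * 2 := by rw [← pow_succ, Nat.sub_add_cancel hn]
  have hzz : x ^ 2 ^ (n - 1) * x ^ 2 ^ (n - 1) = 1 := by
    rw [← pow_add, ← mul_two, ← hsplit, ← hx, pow_orderOf_eq_one]
  have hdvd : 2 ^ n ∣ k * 2 := by
    rw [← hx, orderOf_dvd_iff_pow_eq_one, mul_two, pow_add]; exact h2
  rw [hsplit] at hdvd
  have hdvd' : 2 ^ (n - 1) ∣ k := Nat.dvd_of_mul_dvd_mul_right (by norm_num) hdvd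
  obtain ⟨j, rfl⟩ := hdvd'
  rw [pow_mul]
  rcases Nat.even_or_odd j with ⟨t, rfl⟩ | ⟨t, rfl⟩
  · exfalso
    apply h1
    rw [pow_mul, ← two_mul, pow_mul, pow_two, hzz, one_pow]
  · exact pow_odd_of_sq_eq_one _ hzz _ (by omega)

/-- P13a (H): stabilisers in the dihedral / quasi-dihedral set-up (blueprint §4 (i)). -/
theorem dq_stab [Finite G] (ρ : G →* (V ≃ₗ[ZMod q] V)) (hE : EqStab ρ) (hns : ¬ Semireg ρ)
    (hc : CentFpf ρ) (n : ℕ) (hn : 1 ≤ n) (x : G) (hx : orderOf x = 2 ^ n)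
    (hG : Nat.card G = 2 ^ (n + 1)) (e : ℕ) (he : e % 2 = 1)
    (hconj : ∀ τ : G, τ ∉ Subgroup.zpowers x → τ * x * τ⁻¹ = x ^ e) (v : V) (hv : v ≠ 0) :
    ∃ τ : G, τ ∉ Subgroup.zpowers x ∧ τ * τ = 1 ∧ ρ τ v = v ∧ ∀ g : G, ρ g v = v → g = 1 ∨ g = τ := by
  classical
  have hsplit : 2 ^ n = 2 ^ (n - 1) * 2 := by rw [← pow_succ, Nat.sub_add_cancel hn]
  -- index two
  have hidx : (Subgroup.zpowers x).index = 2 := by
    have h1 := Subgroup.card_mul_index (Subgroup.zpowers x)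
    rw [Nat.card_zpowers, hx, hG, pow_succ] at h1
    exact Nat.eq_of_mul_eq_mul_left (by positivity) h1
  -- the central involution
  obtain ⟨z, hzdef⟩ : ∃ z : G, z = x ^ 2 ^ (n - 1) := ⟨_, rfl⟩
  have hzz : z * z = 1 := by
    rw [hzdef, ← pow_add, ← mul_two, ← hsplit, ← hx, pow_orderOf_eq_one]
  have hz1 : z ≠ 1 := by
    rw [hzdef]
    apply pow_ne_one_of_lt_orderOf (by positivity)
    rw [hx, hsplit]
    have : 0 < 2 ^ (n - 1) := by positivity
    omega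
  have hzc : z ∈ Subgroup.center G := by
    rw [Subgroup.mem_center_iff]
    intro g
    by_cases hg : g ∈ Subgroup.zpowers x
    · obtain ⟨k, rfl⟩ := hg
      rw [hzdef]
      exact ((Commute.refl x).zpow_left k).pow_right _
    · have h1 : g * z * g⁻¹ = z := by
        rw [hzdef, ← conj_pow, hconj g hg, ← pow_mul, mul_comm, pow_mul, ← hzdef]
        exact pow_odd_of_sq_eq_one z hzz e he
      calc g * z = g * z * g⁻¹ * g := by group
        _ = z * g := by rw [h1]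
  have hzfix : ∀ w : V, ρ z w = w → w = 0 := hc z hzc hz1
  -- a 2-group
  have hord : ∀ g : G, ∃ m : ℕ, orderOf g = 2 ^ m := by
    intro g
    have h1 : orderOf g ∣ 2 ^ (n + 1) := by
      rw [← hG]; exact orderOf_dvd_natCard g
    obtain ⟨m, -, hm⟩ := (Nat.dvd_prime_pow Nat.prime_two).mp h1
    exact ⟨m, hm⟩
  -- stabiliser meets `⟨x⟩` trivially
  have hmeet : ∀ w : V, w ≠ 0 → ∀ g : G, g ∈ Subgroup.zpowers x → ρ g w = w → g = 1 := by
    intro w hw g hgC hgw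
    by_contra hg1
    obtain ⟨m, hm⟩ := hord g
    have hm1 : 1 ≤ m := by
      rcases Nat.eq_zero_or_pos m with h0 | h0
      · rw [h0, pow_zero, orderOf_eq_one_iff] at hm
        exact absurd hm hg1
      · exact h0
    have hsplit' : 2 ^ m = 2 ^ (m - 1) * 2 := by rw [← pow_succ, Nat.sub_add_cancel hm1]
    have hh2 : g ^ 2 ^ (m - 1) * g ^ 2 ^ (m - 1) = 1 := by
      rw [← pow_add, ← mul_two, ← hsplit', ← hm, pow_orderOf_eq_one]
    have hh1 : g ^ 2 ^ (m - 1) ≠ 1 := by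
      apply pow_ne_one_of_lt_orderOf (by positivity)
      rw [hm, hsplit']
      have : 0 < 2 ^ (m - 1) := by positivity
      omega
    have hhC : g ^ 2 ^ (m - 1) ∈ Subgroup.zpowers x := Subgroup.pow_mem _ hgC _
    have hhz := invol_of_mem_zpowers hn x hx _ hhC hh2 hh1
    have hhw : g ^ 2 ^ (m - 1) ∈ stab ρ w := Subgroup.pow_mem _ (mem_stab.mpr hgw) _
    rw [hhz, ← hzdef] at hhw
    exact hw (hzfix w (mem_stab.mp hhw))
  -- at most one non-identity element in a stabiliser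
  have huniq : ∀ w : V, w ≠ 0 → ∀ g g' : G, ρ g w = w → ρ g' w = w → g ≠ 1 → g' ≠ 1 → g = g' := by
    intro w hw g g' hg hg' hg1 hg'1
    have hgC : g ∉ Subgroup.zpowers x := fun h => hg1 (hmeet w hw g h hg)
    have hg'C : g' ∉ Subgroup.zpowers x := fun h => hg'1 (hmeet w hw g' h hg')
    have h1 : g⁻¹ * g' ∈ Subgroup.zpowers x := by
      rw [Subgroup.mul_mem_iff_of_index_two hidx, Subgroup.inv_mem_iff]
      exact ⟨fun h => absurd h hgC, fun h => absurd h hg'C⟩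
    have h2 : ρ (g⁻¹ * g') w = w := by
      have : g⁻¹ * g' ∈ stab ρ w :=
        Subgroup.mul_mem _ (Subgroup.inv_mem _ (mem_stab.mpr hg)) (mem_stab.mpr hg')
      exact mem_stab.mp this
    have h3 := hmeet w hw _ h1 h2
    calc g = g * (g⁻¹ * g') := by rw [h3, mul_one]
      _ = g' := by group
  -- existence
  have hex : ∃ τ : G, τ ≠ 1 ∧ ρ τ v = v := by
    -- some stabiliser is non-trivial
    have h1 : ∃ w : V, w ≠ 0 ∧ ∃ g : G, ρ g w = w ∧ g ≠ 1 := by
      by_contra hcon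
      apply hns
      intro w hw g hg
      by_contra hg1
      exact hcon ⟨w, hw, g, hg, hg1⟩
    obtain ⟨w, hw, g, hg, hg1⟩ := h1
    have hcard : Nat.card (stab ρ v) = Nat.card (stab ρ w) := hE v w hv hw
    have h2 : 1 < Nat.card (stab ρ w) := by
      rw [Finite.one_lt_card_iff_nontrivial]
      exact ⟨⟨⟨g, mem_stab.mpr hg⟩, 1, fun h => hg1 (by simpa using congrArg Subtype.val h)⟩⟩
    rw [← hcard, Finite.one_lt_card_iff_nontrivial] at h2
    obtain ⟨⟨τ, hτ⟩, hτ1⟩ := exists_ne (1 : stab ρ v)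
    exact ⟨τ, fun h => hτ1 (Subtype.ext h), mem_stab.mp hτ⟩
  obtain ⟨τ, hτ1, hτv⟩ := hex
  have hτC : τ ∉ Subgroup.zpowers x := fun h => hτ1 (hmeet v hv τ h hτv)
  refine ⟨τ, hτC, ?_, hτv, ?_⟩
  · have h1 : τ * τ ∈ Subgroup.zpowers x := Subgroup.mul_self_mem_of_index_two hidx τ
    have h2 : ρ (τ * τ) v = v := by rw [rho_mul, hτv, hτv]
    exact hmeet v hv _ h1 h2
  · intro g hg
    by_cases hg1 : g = 1
    · exact Or.inl hg1
    · exact Or.inr (huniq v hv g τ hg hτv hg1 hτ1)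

end Cfsg.Agent.Lib.H15.HT
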