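import Mathlib

/-!
# Number theory for S3371 (Passman): `q^d - 1 = 2^a` and `q^d = 2^j - 1` for an odd prime `q`
(helper15; Mathlib only)
-/

set_option autoImplicit false

namespace Cfsg.Agent.Lib.H15.PassmanNT

/-- if `q² ≡ 1` then odd powers of `q` are `≡ q`. -/
theorem odd_pow_modEq {q M : ℕ} (h : q ^ 2 ≡ 1 [MOD M]) (k : ℕ) : q ^ (2 * k + 1) ≡ q [MOD M] := by
  have h1 : (q ^ 2) ^ k ≡ 1 ^ k [MOD M] := h.pow k
  rw [one_pow, ← pow_mul] at h1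
  have h2 : q ^ (2 * k) * q ≡ 1 * q [MOD M] := h1.mul_right q
  rwa [one_mul, ← pow_succ] at h2

theorem sq_modEq_of_eq_add {q b : ℕ} (hb : 1 ≤ b) (hq : q = 2 ^ b + 1) :
    q ^ 2 ≡ 1 [MOD 2 ^ (b + 1)] := by
  obtain ⟨c, rfl⟩ : ∃ c, b = c + 1 := ⟨b - 1, by omega⟩
  have e : q ^ 2 = 1 + 2 ^ (c + 1 + 1) * (2 ^ c + 1) := by rw [hq]; ring
  rw [e]
  have h2 : 1 + 2 ^ (c + 1 + 1) * (2 ^ c + 1) ≡ 1 [MOD 2 ^ (c + 1 + 1)] := by
    simp [Nat.ModEq]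
  exact h2

theorem sq_modEq_of_add_eq {q b : ℕ} (hb : 1 ≤ b) (hq : q + 1 = 2 ^ b) :
    q ^ 2 ≡ 1 [MOD 2 ^ (b + 1)] := by
  obtain ⟨c, rfl⟩ : ∃ c, b = c + 1 := ⟨b - 1, by omega⟩
  have e : q ^ 2 + 2 ^ (c + 1 + 1) = 1 + 2 ^ (c + 1 + 1) * 2 ^ c := by
    have : (q + 1) ^ 2 = (2 ^ (c + 1)) ^ 2 := by rw [hq]
    have h2 : (2 ^ (c + 1)) ^ 2 = 2 ^ (c + 1 + 1) * 2 ^ c := by ring
    have h3 : 2 * (q + 1) = 2 ^ (c + 1 + 1) := by rw [hq]; ring
    nlinarith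
  have h1 : q ^ 2 + 2 ^ (c + 1 + 1) ≡ q ^ 2 [MOD 2 ^ (c + 1 + 1)] := by
    simp [Nat.ModEq]
  have h2 : 1 + 2 ^ (c + 1 + 1) * 2 ^ c ≡ 1 [MOD 2 ^ (c + 1 + 1)] := by
    simp [Nat.ModEq]
  exact h1.symm.trans (e ▸ h2)

/-- NUMBER THEORY 1, odd exponent: `q^d - 1 = 2^a` with `d` odd forces `d = 1` (`q ≥ 3` odd). -/
theorem nt1_odd {q d a : ℕ} (hq3 : 3 ≤ q) (hd : Odd d) (h : q ^ d = 2 ^ a + 1) : d = 1 := by
  obtain ⟨k, rfl⟩ := hd
  by_contra hk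
  have hk1 : 1 ≤ k := by omega
  -- `q - 1 ∣ 2^a`
  have hdvd : q - 1 ∣ 2 ^ a := by
    have h1 : q - 1 ∣ q ^ (2 * k + 1) - 1 := Nat.sub_one_dvd_pow_sub_one q _
    rw [h] at h1
    simpa using h1
  obtain ⟨b, hba, hb⟩ := (Nat.dvd_prime_pow Nat.prime_two).mp hdvd
  have hb1 : 1 ≤ b := by
    rcases Nat.eq_zero_or_pos b with h0 | h0
    · rw [h0] at hb; omega
    · exact h0
  have hqb : q = 2 ^ b + 1 := by omega
  have hmod := odd_pow_modEq (sq_modEq_of_eq_add hb1 hqb) k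
  -- `a > b`
  have hlt : b < a := by
    by_contra hle
    have hab : a = b := by omega
    have h4 : q ^ (2 * k + 1) = q := by rw [h, hab, hqb]
    have h5 : q ^ (2 * k + 1) = q ^ 1 := by rw [h4, pow_one]
    have := Nat.pow_right_injective (show 2 ≤ q by omega) h5
    omega
  -- contradiction mod `2^(b+1)`
  rw [h, hqb] at hmod
  have h6 : 2 ^ a ≡ 2 ^ b [MOD 2 ^ (b + 1)] := Nat.ModEq.add_right_cancel' 1 hmod
  have h7 : 2 ^ (b + 1) ∣ 2 ^ a := pow_dvd_pow 2 hlt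
  have h8 : 2 ^ (b + 1) ∣ 2 ^ b := by
    have := (Nat.modEq_zero_iff_dvd.mpr h7)
    exact Nat.modEq_zero_iff_dvd.mp (h6.symm.trans this)
  have h9 := Nat.le_of_dvd (by positivity) h8
  rw [pow_succ] at h9
  have : 0 < 2 ^ b := by positivity
  omega

/-- NUMBER THEORY 2, odd exponent: `q^d + 1 = 2^j` with `d` odd forces `d = 1` (`q ≥ 3`). -/
theorem nt2_odd {q d j : ℕ} (hq3 : 3 ≤ q) (hd : Odd d) (h : q ^ d + 1 = 2 ^ j) : d = 1 := by
  obtain ⟨k, rfl⟩ := hd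
  by_contra hk
  have hk1 : 1 ≤ k := by omega
  have hdvd : q + 1 ∣ 2 ^ j := by
    have h1 : q + 1 ∣ q ^ (2 * k + 1) + 1 ^ (2 * k + 1) :=
      Odd.nat_add_dvd_pow_add_pow q 1 ⟨k, rfl⟩
    rwa [one_pow, h] at h1
  obtain ⟨b, hbj, hb⟩ := (Nat.dvd_prime_pow Nat.prime_two).mp hdvd
  have hb1 : 1 ≤ b := by
    rcases Nat.eq_zero_or_pos b with h0 | h0
    · rw [h0] at hb; omega
    · exact h0
  have hmod := odd_pow_modEq (sq_modEq_of_add_eq hb1 hb) k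
  have hlt : b < j := by
    by_contra hle
    have hab : j = b := by omega
    have h4 : q ^ (2 * k + 1) = q := by rw [hab, ← hb] at h; omega
    have h5 : q ^ (2 * k + 1) = q ^ 1 := by rw [h4, pow_one]
    have := Nat.pow_right_injective (show 2 ≤ q by omega) h5
    omega
  have h6 : q ^ (2 * k + 1) + 1 ≡ q + 1 [MOD 2 ^ (b + 1)] := hmod.add_right 1
  rw [h, hb] at h6
  have h7 : 2 ^ (b + 1) ∣ 2 ^ j := pow_dvd_pow 2 hlt
  have h8 : 2 ^ (b + 1) ∣ 2 ^ b := by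
    have := (Nat.modEq_zero_iff_dvd.mpr h7)
    exact Nat.modEq_zero_iff_dvd.mp (h6.symm.trans this)
  have h9 := Nat.le_of_dvd (by positivity) h8
  rw [pow_succ] at h9
  have : 0 < 2 ^ b := by positivity
  omega

/-- NUMBER THEORY 1: `q` an odd prime, `d ≥ 1`, `q^d - 1 = 2^a` ⇒ `d = 1 ∨ (q = 3 ∧ d = 2)`. -/
theorem nt1 {q d a : ℕ} (hq : q.Prime) (hq2 : q ≠ 2) (hd : 1 ≤ d) (h : q ^ d - 1 = 2 ^ a) :
    d = 1 ∨ (q = 3 ∧ d = 2) := by
  have hq3 : 3 ≤ q := by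
    have := hq.two_le
    omega
  have hpos : 1 ≤ q ^ d := Nat.one_le_pow _ _ (by omega)
  have h' : q ^ d = 2 ^ a + 1 := by omega
  rcases Nat.even_or_odd d with he | ho
  · right
    obtain ⟨e, rfl⟩ := he
    have he1 : 1 ≤ e := by omega
    have hfac : (q ^ e - 1) * (q ^ e + 1) = 2 ^ a := by
      have hpe : 1 ≤ q ^ e := Nat.one_le_pow _ _ (by omega)
      have : q ^ (e + e) = q ^ e * q ^ e := pow_add q e e
      rw [← h, this]
      obtain ⟨t, ht⟩ : ∃ t, q ^ e = t + 1 := ⟨q ^ e - 1, by omega⟩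
      rw [ht]
      have : (t + 1) * (t + 1) - 1 = t * (t + 1 + 1) := by
        have : (t + 1) * (t + 1) = t * (t + 1 + 1) + 1 := by ring
        omega
      rw [this]; simp
    obtain ⟨b, _, hb⟩ := (Nat.dvd_prime_pow Nat.prime_two).mp (Dvd.intro _ hfac)
    obtain ⟨c, _, hc⟩ := (Nat.dvd_prime_pow Nat.prime_two).mp (Dvd.intro_left _ hfac)
    have hpe : 3 ≤ q ^ e := by
      calc 3 ≤ q := hq3
        _ = q ^ 1 := (pow_one q).symm
        _ ≤ q ^ e := Nat.pow_le_pow_right (by omega) he1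
    have hbc : 2 ^ c = 2 ^ b + 2 := by omega
    -- `b = 1`
    have hb1 : b = 1 := by
      rcases Nat.lt_or_ge b 2 with hlt | hge
      · interval_cases b
        · omega
        · rfl
      · exfalso
        have h4b : 4 ∣ 2 ^ b := by
          have : (2 : ℕ) ^ 2 ∣ 2 ^ b := pow_dvd_pow 2 hge
          simpa using this
        have hc2 : 2 ≤ c := by
          by_contra hcl
          have : c ≤ 1 := by omega
          have h2c : 2 ^ c ≤ 2 ^ 1 := Nat.pow_le_pow_right (by norm_num) this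
          have : 4 ≤ 2 ^ b := Nat.le_of_dvd (by positivity) h4b
          omega
        have h4c : 4 ∣ 2 ^ c := by
          have : (2 : ℕ) ^ 2 ∣ 2 ^ c := pow_dvd_pow 2 hc2
          simpa using this
        omega
    rw [hb1] at hb
    have hqe : q ^ e = 3 := by omega
    have hq3' : q = 3 := by
      have hdvd : q ∣ 3 := by
        rw [← hqe]; exact dvd_pow_self q (by omega)
      exact (Nat.prime_dvd_prime_iff_eq hq Nat.prime_three).mp hdvd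
    refine ⟨hq3', ?_⟩
    rw [hq3'] at hqe
    have : (3 : ℕ) ^ e = 3 ^ 1 := by rw [hqe, pow_one]
    have := Nat.pow_right_injective (le_refl 2 |>.trans (by norm_num : 2 ≤ 3)) this
    omega
  · left
    exact nt1_odd hq3 ho h'

/-- NUMBER THEORY 2: `q` an odd prime, `d ≥ 1`, `j ≥ 2`, `q^d = 2^j - 1` ⇒ `d = 1`. -/
theorem nt2 {q d j : ℕ} (hq : q.Prime) (hq2 : q ≠ 2) (hd : 1 ≤ d) (hj : 2 ≤ j)
    (h : q ^ d = 2 ^ j - 1) : d = 1 := by
  have hq3 : 3 ≤ q := by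
    have := hq.two_le
    omega
  have hj4 : 4 ∣ 2 ^ j := by
    have : (2 : ℕ) ^ 2 ∣ 2 ^ j := pow_dvd_pow 2 hj
    simpa using this
  have hpos : 4 ≤ 2 ^ j := Nat.le_of_dvd (by positivity) hj4
  have h' : q ^ d + 1 = 2 ^ j := by omega
  rcases Nat.even_or_odd d with he | ho
  · exfalso
    obtain ⟨e, rfl⟩ := he
    have hqodd : Odd q := hq.odd_of_ne_two hq2
    have hodd : Odd (q ^ e) := hqodd.pow
    obtain ⟨t, ht⟩ := hodd
    have : q ^ (e + e) = q ^ e * q ^ e := pow_add q e e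
    rw [this, ht] at h'
    have h5 : (2 * t + 1) * (2 * t + 1) + 1 = 4 * (t * t + t) + 2 := by ring
    rw [h5] at h'
    omega
  · exact nt2_odd hq3 ho h'

end Cfsg.Agent.Lib.H15.PassmanNT
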