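import Cfsg.Agent.Lib.H4.HT.Defs
import Cfsg.Agent.Lib.H15.PassmanNT

/-!
# S3371 pieces NT1, NT2, POW (helper15)
-/

set_option autoImplicit false

namespace Cfsg.Agent.Lib.H15.HT

open Cfsg.Agent.Lib.H4.HT

variable {q : ℕ} {V : Type*} [AddCommGroup V] [Module (ZMod q) V] {G : Type*} [Group G]

/-- P10a (M): `q^d = 2^k + 1`, `q` an odd prime ⇒ `d = 1` or `q = 3, d = 2`. -/
theorem nt_one {q d k : ℕ} (hq : q.Prime) (hq2 : q ≠ 2) (hd : 1 ≤ d) (h : q ^ d = 2 ^ k + 1) :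
    d = 1 ∨ (q = 3 ∧ d = 2) :=
  Cfsg.Agent.Lib.H15.PassmanNT.nt1 (a := k) hq hq2 hd (by rw [h]; simp)

/-- P10b (M): `q^d + 1 = 2^j`, `j ≥ 2`, `q` prime ⇒ `d = 1`. -/
theorem nt_two {q d j : ℕ} (hq : q.Prime) (hd : 1 ≤ d) (hj : 2 ≤ j) (h : q ^ d + 1 = 2 ^ j) : d = 1 := by
  have hq2 : q ≠ 2 := by
    rintro rfl
    have h1 : 2 ∣ 2 ^ d := dvd_pow_self 2 (by omega)
    have h2 : 2 ∣ 2 ^ j := dvd_pow_self 2 (by omega)
    omega
  exact Cfsg.Agent.Lib.H15.PassmanNT.nt2 (j := j) hq hq2 hd hj (by rw [← h]; simp)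

/-- P10c (E): a number whose square is `|V|` is a positive power of `q` (as `V` is non-trivial). -/
theorem exists_pow_of_sq [Fact q.Prime] [Finite V] [Nontrivial V] {Q : ℕ} (h : Q ^ 2 = Nat.card V) :
    ∃ d : ℕ, 1 ≤ d ∧ Q = q ^ d := by
  have hq : q.Prime := Fact.out
  have hcard : Nat.card V = q ^ Module.finrank (ZMod q) V := by
    rw [Module.natCard_eq_pow_finrank (K := ZMod q) (V := V), Nat.card_zmod]
  have hdvd : Q ∣ q ^ Module.finrank (ZMod q) V := by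
    rw [← hcard, ← h]; exact dvd_pow_self Q (by norm_num)
  obtain ⟨d, _, hd⟩ := (Nat.dvd_prime_pow hq).mp hdvd
  refine ⟨d, ?_, hd⟩
  rcases Nat.eq_zero_or_pos d with h0 | h0
  · exfalso
    rw [h0, pow_zero] at hd
    rw [hd, one_pow] at h
    have : 1 < Nat.card V := Finite.one_lt_card
    omega
  · exact h0

end Cfsg.Agent.Lib.H15.HT
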