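import Mathlib
import Cfsg.Agent.Lib.H2.SL2Sylow

/-!
helper15 library: relations among the elementary matrices of `SL₂(F)`.
-/

set_option autoImplicit false

namespace Cfsg.Agent.Lib.H15.Nat

open Matrix Cfsg.Agent.Lib.H2.SL2

variable {F : Type*} [Field F]

/-- generation of `SL₂(F)` by upper and lower unitriangular matrices. -/
theorem sl2_induction (P : SpecialLinearGroup (Fin 2) F → Prop)
    (hu : ∀ t, P (uSL t)) (hl : ∀ t, P (lSL t)) (hmul : ∀ A B, P A → P B → P (A * B))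
    (g : SpecialLinearGroup (Fin 2) F) : P g := by
  refine Cfsg.Agent.Lib.H2.SL_transvection_induction P ?_ hmul g
  intro i j h c
  fin_cases i <;> fin_cases j
  · exact absurd rfl h
  · have := transvection_zero_one c
    simp only [Fin.zero_eta, Fin.mk_one] at *
    rw [this]; exact hu c
  · have := transvection_one_zero c
    simp only [Fin.zero_eta, Fin.mk_one] at *
    rw [this]; exact hl c
  · exact absurd rfl h

theorem lSL_zero : lSL (0 : F) = 1 := by
  apply ext_entries <;> simp [lSL_val]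

theorem lSL_add (s t : F) : lSL (s + t) = lSL s * lSL t := by
  apply ext_entries <;> simp [lSL_val, mul_val, add_comm]

/-- the monomial element `n(t) = x(t) y(-1/t) x(t)`. -/
def nSL (t : F) : SpecialLinearGroup (Fin 2) F := uSL t * lSL (-t⁻¹) * uSL t

theorem nSL_val {t : F} (ht : t ≠ 0) :
    ((nSL t : SpecialLinearGroup (Fin 2) F) : Matrix (Fin 2) (Fin 2) F) = !![0, t; -t⁻¹, 0] := by
  unfold nSL
  ext i j
  fin_cases i <;> fin_cases j <;> simp [mul_val, uSL_val, lSL_val, ht]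

/-- diagonal element. -/
def hSL (a : F) : SpecialLinearGroup (Fin 2) F := nSL a * nSL (-1)

theorem hSL_val {a : F} (ha : a ≠ 0) :
    ((hSL a : SpecialLinearGroup (Fin 2) F) : Matrix (Fin 2) (Fin 2) F) = !![a, 0; 0, a⁻¹] := by
  unfold hSL
  have h1 : (-1 : F) ≠ 0 := by simp
  ext i j
  fin_cases i <;> fin_cases j <;> simp [mul_val, nSL_val ha, nSL_val h1]

theorem lSL_mul_nSL {t : F} (ht : t ≠ 0) (s : F) : lSL s * nSL t = nSL t * uSL (-s * t ^ 2) := by
  apply ext_entries <;> simp [mul_val, nSL_val ht, uSL_val, lSL_val] <;> field_simp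

theorem uSL_mul_nSL {t : F} (ht : t ≠ 0) (s : F) :
    uSL s * nSL t = nSL t * lSL (-s * (t ^ 2)⁻¹) := by
  apply ext_entries <;> simp [mul_val, nSL_val ht, uSL_val, lSL_val] <;> field_simp

theorem hSL_mul {a b : F} (ha : a ≠ 0) (hb : b ≠ 0) : hSL (a * b) = hSL a * hSL b := by
  apply ext_entries <;> simp [mul_val, hSL_val ha, hSL_val hb, hSL_val (mul_ne_zero ha hb)]
  ring

theorem hSL_one : hSL (1 : F) = 1 := by
  apply ext_entries <;> simp [hSL_val (one_ne_zero : (1 : F) ≠ 0)]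

theorem hSL_mul_uSL {a : F} (ha : a ≠ 0) (t : F) : hSL a * uSL t = uSL (a ^ 2 * t) * hSL a := by
  apply ext_entries <;> simp [mul_val, hSL_val ha, uSL_val] <;> field_simp

theorem hSL_mul_lSL {a : F} (ha : a ≠ 0) (t : F) :
    hSL a * lSL t = lSL ((a ^ 2)⁻¹ * t) * hSL a := by
  apply ext_entries <;> simp [mul_val, hSL_val ha, lSL_val] <;> field_simp

theorem nSL_eq_hSL_mul {t : F} (ht : t ≠ 0) : nSL t = hSL t * nSL 1 := by
  apply ext_entries <;>
    simp [mul_val, hSL_val ht, nSL_val ht, nSL_val (one_ne_zero : (1 : F) ≠ 0)]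

theorem nSL_one_mul_nSL_one : nSL (1 : F) * nSL 1 = hSL (-1) := by
  have h1 : (-1 : F) ≠ 0 := by simp
  apply ext_entries <;>
    simp [mul_val, hSL_val h1, nSL_val (one_ne_zero : (1 : F) ≠ 0)]

/-- `w x(t) = x(-1/t) n(1/t) x(-1/t) w` with `w = n(1)`. -/
theorem nSL_one_mul_uSL {t : F} (ht : t ≠ 0) :
    nSL 1 * uSL t = uSL (-t⁻¹) * nSL t⁻¹ * uSL (-t⁻¹) * nSL 1 := by
  apply ext_entries <;>
    simp [mul_val, nSL_val (inv_ne_zero ht), uSL_val, nSL_val (one_ne_zero : (1 : F) ≠ 0)] <;>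
    field_simp <;> ring

end Cfsg.Agent.Lib.H15.Nat
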