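import Mathlib
import Cfsg.Agent.Lib.H15.Nat1

/-!
helper15 library (S3050, Higman's theorem on `SL₂(2ⁿ)`-modules with a fixed point free
element of order 3): abstract operator package and the basic subgroups.

`Ops K V`: additive operators `U a`, `W`, `H c` on `V` satisfying the relations of
`[[1,a],[0,1]]`, `[[0,1],[1,0]]`, `diag(c, c⁻¹)` in characteristic 2, plus the relation
`1 + σ + σ² = 0` for the elements `σ = U a H a W = [[1,a],[a⁻¹,0]]` of order 3.
-/

set_option autoImplicit false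

namespace Cfsg.Agent.Lib.H15.Hig

/-- the operator package. -/
structure Ops (K : Type*) [Field K] (V : Type*) [AddCommGroup V] where
  U : K → V →+ V
  W : V →+ V
  H : K → V →+ V
  U_zero : ∀ m, U 0 m = m
  U_add : ∀ a b m, U (a + b) m = U a (U b m)
  W_W : ∀ m, W (W m) = m
  H_one : ∀ m, H 1 m = m
  H_mul : ∀ a b, a ≠ 0 → b ≠ 0 → ∀ m, H (a * b) m = H a (H b m)
  H_U : ∀ c a, c ≠ 0 → ∀ m, H c (U a m) = U (c ^ 2 * a) (H c m)
  W_H : ∀ c, c ≠ 0 → ∀ m, W (H c m) = H c⁻¹ (W m)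
  fpf : ∀ a, a ≠ 0 → ∀ m, m + U a (H a (W m)) + H a (W (U a m)) = 0

/-- the standing side conditions. -/
structure Good (K : Type*) [Field K] (V : Type*) [AddCommGroup V] : Prop where
  big : ∃ c : K, c ≠ 0 ∧ c ≠ 1
  sq : ∀ c : K, ∃ a : K, a ^ 2 = c
  tors : ∀ m : V, ∃ k : ℕ, 2 ^ k • m = 0

variable {K : Type*} [Field K] {V : Type*} [AddCommGroup V] (O : Ops K V)

/-- the common fixed points of the `U a`. -/
def V0 : AddSubgroup V where
  carrier := {m | ∀ a, O.U a m = m}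
  zero_mem' := fun a => map_zero _
  add_mem' := by
    intro x y hx hy a
    rw [map_add, hx a, hy a]
  neg_mem' := by
    intro x hx a
    rw [map_neg, hx a]

theorem mem_V0 {m : V} : m ∈ V0 O ↔ ∀ a, O.U a m = m := Iff.rfl

/-- the opposite fixed points. -/
def V1 : AddSubgroup V := (V0 O).map O.W

theorem mem_V1 {m : V} : m ∈ V1 O ↔ ∃ x ∈ V0 O, O.W x = m := by
  unfold V1
  simp [AddSubgroup.mem_map]

/-- their sum. -/
def Vp : AddSubgroup V := V0 O ⊔ V1 O

theorem mem_Vp {m : V} : m ∈ Vp O ↔ ∃ x ∈ V0 O, ∃ y ∈ V0 O, x + O.W y = m := by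
  unfold Vp
  rw [AddSubgroup.mem_sup]
  constructor
  · rintro ⟨x, hx, z, hz, rfl⟩
    obtain ⟨y, hy, rfl⟩ := (mem_V1 O).1 hz
    exact ⟨x, hx, y, hy, rfl⟩
  · rintro ⟨x, hx, y, hy, rfl⟩
    exact ⟨x, hx, O.W y, (mem_V1 O).2 ⟨y, hy, rfl⟩, rfl⟩

/-- the elements fixed by all `U a` modulo `Vp`. -/
def X : AddSubgroup V where
  carrier := {m | ∀ a, O.U a m - m ∈ Vp O}
  zero_mem' := by
    intro a
    simp
  add_mem' := by
    intro x y hx hy a
    have : O.U a (x + y) - (x + y) = (O.U a x - x) + (O.U a y - y) := by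
      rw [map_add]; abel
    rw [this]
    exact (Vp O).add_mem (hx a) (hy a)
  neg_mem' := by
    intro x hx a
    have : O.U a (-x) - (-x) = -(O.U a x - x) := by
      rw [map_neg]; abel
    rw [this]
    exact (Vp O).neg_mem (hx a)

theorem mem_X {m : V} : m ∈ X O ↔ ∀ a, O.U a m - m ∈ Vp O := Iff.rfl

theorem V0_le_Vp : V0 O ≤ Vp O := le_sup_left

theorem V1_le_Vp : V1 O ≤ Vp O := le_sup_right

end Cfsg.Agent.Lib.H15.Hig
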