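import Mathlib
import Cfsg.Agent.Lib.H15.HigDefs

/-!
helper15 library (S3050): first consequences of the relations of `Ops K V`; the fixed points
`V0` form a `K`-vector space of exponent 2 (scalar `c` acting as `H c`).
-/

set_option autoImplicit false

namespace Cfsg.Agent.Lib.H15.Hig

variable {K : Type*} [Field K] {V : Type*} [AddCommGroup V] (O : Ops K V)

theorem H_inv_H {c : K} (hc : c ≠ 0) (m : V) : O.H c⁻¹ (O.H c m) = m := by
  rw [← O.H_mul _ _ (inv_ne_zero hc) hc, inv_mul_cancel₀ hc, O.H_one]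

theorem H_H_inv {c : K} (hc : c ≠ 0) (m : V) : O.H c (O.H c⁻¹ m) = m := by
  rw [← O.H_mul _ _ hc (inv_ne_zero hc), mul_inv_cancel₀ hc, O.H_one]

theorem H_injective {c : K} (hc : c ≠ 0) : Function.Injective (O.H c) := fun x y h => by
  have := congrArg (O.H c⁻¹) h
  rwa [H_inv_H O hc, H_inv_H O hc] at this

theorem W_injective : Function.Injective O.W := fun x y h => by
  have := congrArg O.W h
  rwa [O.W_W, O.W_W] at this

theorem U_U_self [CharP K 2] (a : K) (m : V) : O.U a (O.U a m) = m := by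
  rw [← O.U_add, CharTwo.add_self_eq_zero, O.U_zero]

theorem U_injective [CharP K 2] (a : K) : Function.Injective (O.U a) := fun x y h => by
  have := congrArg (O.U a) h
  rwa [U_U_self, U_U_self] at this

/-- L1. -/
theorem U_fix_HW {a : K} (ha : a ≠ 0) {m : V} (hm : O.U a m = m) :
    O.U a (O.H a (O.W m)) = - m - O.H a (O.W m) := by
  have := O.fpf a ha m
  rw [hm] at this
  linear_combination (norm := abel) this

/-- L2a. -/
theorem H_mem_V0 {c : K} (hc : c ≠ 0) {m : V} (hm : m ∈ V0 O) : O.H c m ∈ V0 O := by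
  intro a
  have h := O.H_U c ((c ^ 2)⁻¹ * a) hc m
  rw [hm, ← mul_assoc, mul_inv_cancel₀ (pow_ne_zero 2 hc), one_mul] at h
  exact h.symm

/-- L2b. -/
theorem U_W_of_mem_V0 {a : K} (ha : a ≠ 0) {m : V} (hm : m ∈ V0 O) :
    O.U a (O.W m) = - O.H a m - O.W m := by
  have h1 : O.H a (O.W (O.H a m)) = O.W m := by
    rw [O.W_H a ha, H_H_inv O ha]
  have h2 := U_fix_HW O ha (H_mem_V0 O ha hm a)
  rw [h1] at h2
  exact h2

theorem eq_zero_of_three_nsmul {m : V} (h3 : 3 • m = 0) {k : ℕ} (hk : 2 ^ k • m = 0) : m = 0 := by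
  have d3 : addOrderOf m ∣ 3 := addOrderOf_dvd_of_nsmul_eq_zero h3
  have d2 : addOrderOf m ∣ 2 ^ k := addOrderOf_dvd_of_nsmul_eq_zero hk
  have hc : Nat.Coprime 3 (2 ^ k) := Nat.Coprime.pow_right k (by norm_num)
  have := Nat.dvd_gcd d3 d2
  rw [hc.gcd_eq_one, Nat.dvd_one] at this
  exact AddMonoid.addOrderOf_eq_one_iff.1 this

/-- L2c. -/
theorem V0_inf_V1 (htors : ∀ m : V, ∃ k : ℕ, 2 ^ k • m = 0) : V0 O ⊓ V1 O = ⊥ := by
  rw [eq_bot_iff]
  rintro m ⟨hm0, hm1⟩
  obtain ⟨m', hm', rfl⟩ := (mem_V1 O).1 hm1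
  have e1 := U_W_of_mem_V0 O (one_ne_zero) hm'
  rw [hm0 1, O.H_one] at e1
  have e2 := U_W_of_mem_V0 O (one_ne_zero) hm0
  rw [O.W_W, hm' 1, O.H_one] at e2
  obtain ⟨k, hk⟩ := htors (O.W m')
  have h3 : 3 • O.W m' = 0 := by
    linear_combination (norm := abel) (2 : ℤ) • e1 - e2
  exact eq_zero_of_three_nsmul h3 hk

theorem exists_pair [CharP K 2] (hbig : ∃ c : K, c ≠ 0 ∧ c ≠ 1) :
    ∃ a b : K, a ≠ 0 ∧ b ≠ 0 ∧ a + b ≠ 0 := by
  obtain ⟨c, hc0, hc1⟩ := hbig
  refine ⟨1, c, one_ne_zero, hc0, fun h => hc1 ?_⟩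
  have : c = -1 := by linear_combination h
  rw [this, CharTwo.neg_eq]

theorem L3_aux (htors : ∀ m : V, ∃ k : ℕ, 2 ^ k • m = 0) {a b : K} (ha : a ≠ 0) (hb : b ≠ 0)
    (hab : a + b ≠ 0) {m : V} (hm : m ∈ V0 O) :
    m + m = 0 ∧ O.H (a + b) m = O.H b m - O.H a m := by
  have e1 := U_W_of_mem_V0 O hb hm
  have e2 := U_W_of_mem_V0 O ha hm
  have e3 := U_W_of_mem_V0 O hab hm
  rw [O.U_add, e1, map_sub, map_neg, H_mem_V0 O hb hm a, e2] at e3
  have key : O.W (m + m) = - O.H (a + b) m + O.H b m - O.H a m := by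
    rw [map_add]
    linear_combination (norm := abel) e3
  have h0 : O.W (m + m) ∈ V0 O := by
    rw [key]
    exact (V0 O).sub_mem ((V0 O).add_mem ((V0 O).neg_mem (H_mem_V0 O hab hm)) (H_mem_V0 O hb hm))
      (H_mem_V0 O ha hm)
  have h1 : O.W (m + m) ∈ V1 O := (mem_V1 O).2 ⟨m + m, (V0 O).add_mem hm hm, rfl⟩
  have hz : O.W (m + m) = 0 := by
    have : O.W (m + m) ∈ V0 O ⊓ V1 O := ⟨h0, h1⟩
    rw [V0_inf_V1 O htors] at this
    exact this
  have hmm : m + m = 0 := W_injective O (by rw [hz, map_zero])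
  refine ⟨hmm, ?_⟩
  rw [hz] at key
  linear_combination (norm := abel) key

variable [CharP K 2]

/-- L3, first half: `V0` has exponent 2. -/
theorem add_self_of_mem_V0 (hg : Good K V) {m : V} (hm : m ∈ V0 O) : m + m = 0 := by
  obtain ⟨a, b, ha, hb, hab⟩ := exists_pair hg.big
  exact (L3_aux O hg.tors ha hb hab hm).1

theorem neg_of_mem_V0 (hg : Good K V) {m : V} (hm : m ∈ V0 O) : - m = m := by
  have := add_self_of_mem_V0 O hg hm
  linear_combination (norm := abel) (-1 : ℤ) • this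

/-- L3, second half: `H` is additive in the scalar on `V0`. -/
theorem H_add_of_mem_V0 (hg : Good K V) {a b : K} (ha : a ≠ 0) (hb : b ≠ 0) (hab : a + b ≠ 0)
    {m : V} (hm : m ∈ V0 O) : O.H (a + b) m = O.H a m + O.H b m := by
  rw [(L3_aux O hg.tors ha hb hab hm).2, sub_eq_add_neg, neg_of_mem_V0 O hg (H_mem_V0 O ha hm),
    add_comm]

/-- L2b with the signs removed. -/
theorem U_W_of_mem_V0' (hg : Good K V) {a : K} (ha : a ≠ 0) {m : V} (hm : m ∈ V0 O) :
    O.U a (O.W m) = O.H a m + O.W m := by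
  rw [U_W_of_mem_V0 O ha hm, sub_eq_add_neg, neg_of_mem_V0 O hg (H_mem_V0 O ha hm)]
  congr 1
  rw [← map_neg, neg_of_mem_V0 O hg hm]

/-- the scalar multiplication on `V0`. -/
noncomputable def sm (c : K) (m : V0 O) : V0 O :=
  haveI := Classical.propDecidable (c = 0)
  if hc : c = 0 then 0 else ⟨O.H c m, H_mem_V0 O hc m.2⟩

theorem sm_zero_left (m : V0 O) : sm O 0 m = 0 := by
  unfold sm; simp

theorem sm_of_ne {c : K} (hc : c ≠ 0) (m : V0 O) : sm O c m = ⟨O.H c m, H_mem_V0 O hc m.2⟩ := by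
  unfold sm; simp [hc]

theorem coe_sm_of_ne {c : K} (hc : c ≠ 0) (m : V0 O) : ((sm O c m : V0 O) : V) = O.H c m := by
  rw [sm_of_ne O hc]

/-- `V0` as a `K`-vector space (needs `Good K V` for additivity in the scalar). -/
@[instance_reducible]
noncomputable def modV0 (hg : Good K V) : Module K (V0 O) where
  smul := sm O
  one_smul m := by
    show sm O 1 m = m
    rw [sm_of_ne O one_ne_zero]
    ext
    exact O.H_one _
  mul_smul a b m := by
    show sm O (a * b) m = sm O a (sm O b m)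
    by_cases ha : a = 0
    · rw [ha, zero_mul, sm_zero_left, sm_zero_left]
    by_cases hb : b = 0
    · rw [hb, mul_zero, sm_zero_left]
      ext
      rw [coe_sm_of_ne O ha]
      simp
    · ext
      rw [coe_sm_of_ne O (mul_ne_zero ha hb), coe_sm_of_ne O ha, coe_sm_of_ne O hb]
      exact O.H_mul a b ha hb _
  smul_zero a := by
    show sm O a 0 = 0
    by_cases ha : a = 0
    · rw [ha, sm_zero_left]
    · ext
      rw [coe_sm_of_ne O ha]
      simp
  smul_add a m n := by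
    show sm O a (m + n) = sm O a m + sm O a n
    by_cases ha : a = 0
    · rw [ha, sm_zero_left, sm_zero_left, sm_zero_left, add_zero]
    · ext
      rw [AddSubgroup.coe_add, coe_sm_of_ne O ha, coe_sm_of_ne O ha, coe_sm_of_ne O ha,
        AddSubgroup.coe_add, map_add]
  add_smul a b m := by
    show sm O (a + b) m = sm O a m + sm O b m
    by_cases ha : a = 0
    · rw [ha, zero_add, sm_zero_left, zero_add]
    by_cases hb : b = 0
    · rw [hb, add_zero, sm_zero_left, add_zero]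
    by_cases hab : a + b = 0
    · have : a = b := by
        have : a = -b := by linear_combination hab
        rw [this, CharTwo.neg_eq]
      rw [hab, sm_zero_left, this]
      ext
      rw [AddSubgroup.coe_add, AddSubgroup.coe_zero]
      exact (add_self_of_mem_V0 O hg (sm O b m).2).symm
    · ext
      rw [AddSubgroup.coe_add, coe_sm_of_ne O ha, coe_sm_of_ne O hb, coe_sm_of_ne O hab]
      exact H_add_of_mem_V0 O hg ha hb hab m.2
  zero_smul m := sm_zero_left O m

theorem coe_smul_V0 (hg : Good K V) {c : K} (hc : c ≠ 0) (m : V0 O) :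
    ((letI := modV0 O hg; c • m : V0 O) : V) = O.H c m :=
  coe_sm_of_ne O hc m

theorem smul_V0_def (hg : Good K V) (c : K) (m : V0 O) :
    (letI := modV0 O hg; c • m : V0 O) = sm O c m := rfl

end Cfsg.Agent.Lib.H15.Hig
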