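import Mathlib
import Cfsg.Agent.Lib.H15.Nat1

/-!
helper15 library (S3050), piece GEN: in characteristic 2 the group `SL₂(K)` is generated by the
upper unitriangular matrices and `nSL 1 = [[0,1],[1,0]]`.
-/

set_option autoImplicit false

namespace Cfsg.Agent.Lib.H15.Hig

open Matrix Cfsg.Agent.Lib.H2.SL2 Cfsg.Agent.Lib.H15.Nat

variable {K : Type*} [Field K] [CharP K 2]

theorem lSL_eq_conj (t : K) : lSL t = nSL 1 * uSL t * nSL 1 := by
  apply ext_entries <;>
    simp [mul_val, nSL_val (one_ne_zero : (1 : K) ≠ 0), uSL_val, lSL_val, CharTwo.neg_eq]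

theorem sl2_induction_char2 (P : SpecialLinearGroup (Fin 2) K → Prop)
    (hu : ∀ t, P (uSL t)) (hw : P (nSL 1)) (hmul : ∀ A B, P A → P B → P (A * B))
    (g : SpecialLinearGroup (Fin 2) K) : P g := by
  refine sl2_induction P hu ?_ hmul g
  intro t
  rw [lSL_eq_conj]
  exact hmul _ _ (hmul _ _ hw (hu t)) hw

end Cfsg.Agent.Lib.H15.Hig
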