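import Mathlib
import Cfsg.Agent.Lib.H15.Nat1

/-!
helper15 library: an irreducible nontrivial module for `SL₂(F)` on which the upper unitriangular
group acts quadratically is the natural module.  Part 1: decomposition `M = M₀ ⊕ M∞`.
-/

set_option autoImplicit false

namespace Cfsg.Agent.Lib.H15.Nat

open Matrix Cfsg.Agent.Lib.H2.SL2

variable {F : Type*} [Field F] {M : Type*} [AddCommGroup M]
variable (α : SpecialLinearGroup (Fin 2) F →* AddMonoid.End M)

lemma act_mul (g h : SpecialLinearGroup (Fin 2) F) (m : M) : α (g * h) m = α g (α h m) := by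
  rw [map_mul]; rfl

lemma act_one (m : M) : α 1 m = m := by rw [map_one]; rfl

lemma act_inv_act (g : SpecialLinearGroup (Fin 2) F) (m : M) : α g⁻¹ (α g m) = m := by
  rw [← act_mul, inv_mul_cancel, act_one]

lemma act_act_inv (g : SpecialLinearGroup (Fin 2) F) (m : M) : α g (α g⁻¹ m) = m := by
  rw [← act_mul, mul_inv_cancel, act_one]

/-- fixed points of the upper unitriangular group. -/
def fixU : AddSubgroup M where
  carrier := {m | ∀ t, α (uSL t) m = m}
  zero_mem' := fun t => map_zero _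
  add_mem' := fun {a b} ha hb t => by rw [map_add, ha t, hb t]
  neg_mem' := fun {a} ha t => by rw [map_neg, ha t]

/-- fixed points of the lower unitriangular group. -/
def fixL : AddSubgroup M where
  carrier := {m | ∀ t, α (lSL t) m = m}
  zero_mem' := fun t => map_zero _
  add_mem' := fun {a b} ha hb t => by rw [map_add, ha t, hb t]
  neg_mem' := fun {a} ha t => by rw [map_neg, ha t]

lemma mem_fixU {m : M} : m ∈ fixU α ↔ ∀ t, α (uSL t) m = m := Iff.rfl
lemma mem_fixL {m : M} : m ∈ fixL α ↔ ∀ t, α (lSL t) m = m := Iff.rfl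

/-- `D_t = x(t) - 1`. -/
def Dm (t : F) (m : M) : M := α (uSL t) m - m

/-- `E_t = y(t) - 1`. -/
def Em (t : F) (m : M) : M := α (lSL t) m - m

lemma Dm_add (t : F) (m m' : M) : Dm α t (m + m') = Dm α t m + Dm α t m' := by
  unfold Dm; rw [map_add]; abel

lemma Em_add (t : F) (m m' : M) : Em α t (m + m') = Em α t m + Em α t m' := by
  unfold Em; rw [map_add]; abel

lemma Dm_neg (t : F) (m : M) : Dm α t (-m) = -Dm α t m := by
  unfold Dm; rw [map_neg]; abel

lemma Em_neg (t : F) (m : M) : Em α t (-m) = -Em α t m := by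
  unfold Em; rw [map_neg]; abel

lemma Dm_zero_arg (t : F) : Dm α t (0 : M) = 0 := by unfold Dm; simp
lemma Em_zero_arg (t : F) : Em α t (0 : M) = 0 := by unfold Em; simp

lemma Dm_of_mem {m : M} (hm : m ∈ fixU α) (t : F) : Dm α t m = 0 := by
  unfold Dm; rw [hm t, sub_self]

lemma Em_of_mem {m : M} (hm : m ∈ fixL α) (t : F) : Em α t m = 0 := by
  unfold Em; rw [hm t, sub_self]

lemma uSL_act (t : F) (m : M) : α (uSL t) m = m + Dm α t m := by unfold Dm; abel
lemma lSL_act (t : F) (m : M) : α (lSL t) m = m + Em α t m := by unfold Em; abel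

lemma Dm_zero (m : M) : Dm α 0 m = 0 := by
  unfold Dm; rw [uSL_zero, act_one, sub_self]

lemma Em_zero (m : M) : Em α 0 m = 0 := by
  unfold Em; rw [lSL_zero, act_one, sub_self]

/-- `n(t)` maps `M₀` to `M∞`. -/
lemma nSL_fixU {t : F} (ht : t ≠ 0) {m : M} (hm : m ∈ fixU α) : α (nSL t) m ∈ fixL α := by
  intro s
  rw [← act_mul, lSL_mul_nSL ht, act_mul, hm]

/-- `n(t)` maps `M∞` to `M₀`. -/
lemma nSL_fixL {t : F} (ht : t ≠ 0) {m : M} (hm : m ∈ fixL α) : α (nSL t) m ∈ fixU α := by
  intro s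
  rw [← act_mul, uSL_mul_nSL ht, act_mul, hm]

/-- the fixed points of the whole group. -/
lemma fix_all {m : M} (h0 : m ∈ fixU α) (h1 : m ∈ fixL α) (g : SpecialLinearGroup (Fin 2) F) :
    α g m = m := by
  refine sl2_induction (fun g => α g m = m) h0 h1 ?_ g
  intro A B hA hB
  rw [act_mul, hB, hA]

section irr
variable (hirr : ∀ N : AddSubgroup M, (∀ g, ∀ m ∈ N, α g m ∈ N) → N = ⊥ ∨ N = ⊤)
variable (hnt : ∃ g m, α g m ≠ m)

include hirr hnt in
lemma fixU_inf_fixL : fixU α ⊓ fixL α = ⊥ := by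
  let N : AddSubgroup M :=
    { carrier := {m | ∀ g, α g m = m}
      zero_mem' := fun g => map_zero _
      add_mem' := fun {a b} ha hb g => by rw [map_add, ha g, hb g]
      neg_mem' := fun {a} ha g => by rw [map_neg, ha g] }
  have hN : N = ⊥ := by
    rcases hirr N (fun g m hm => by
      intro g'
      rw [hm g, hm g']) with h | h
    · exact h
    · exfalso
      obtain ⟨g, m, hgm⟩ := hnt
      have : m ∈ N := by rw [h]; trivial
      exact hgm (this g)
  rw [eq_bot_iff]
  intro m hm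
  have : m ∈ N := fun g => fix_all α hm.1 hm.2 g
  rw [hN] at this
  exact this

include hirr hnt in
lemma eq_zero_of_mem_both {m : M} (h0 : m ∈ fixU α) (h1 : m ∈ fixL α) : m = 0 := by
  have : m ∈ fixU α ⊓ fixL α := ⟨h0, h1⟩
  rw [fixU_inf_fixL α hirr hnt] at this
  exact this

/-- invariance under the generators suffices. -/
lemma inv_of_gens (N : AddSubgroup M) (hu : ∀ t, ∀ m ∈ N, α (uSL t) m ∈ N)
    (hl : ∀ t, ∀ m ∈ N, α (lSL t) m ∈ N) (g : SpecialLinearGroup (Fin 2) F) :
    ∀ m ∈ N, α g m ∈ N := by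
  refine sl2_induction (fun g => ∀ m ∈ N, α g m ∈ N) hu hl ?_ g
  intro A B hA hB m hm
  rw [act_mul]
  exact hA _ (hB m hm)

end irr

end Cfsg.Agent.Lib.H15.Nat
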