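import Mathlib
import Cfsg.Agent.Lib.H15.Nat1

/-!
helper15 library: Bruhat decomposition of `SL₂(F)` in terms of `uSL`, `nSL 1`, `hSL`.
-/

set_option autoImplicit false

namespace Cfsg.Agent.Lib.H15.Nat

open Matrix Cfsg.Agent.Lib.H2.SL2

variable {F : Type*} [Field F]

theorem nSL_one_mul_hSL {a : F} (ha : a ≠ 0) : nSL 1 * hSL a = hSL a⁻¹ * nSL 1 := by
  apply ext_entries <;>
    simp [mul_val, hSL_val ha, hSL_val (inv_ne_zero ha), nSL_val (one_ne_zero : (1 : F) ≠ 0)]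

theorem uSL_mul_hSL {a : F} (ha : a ≠ 0) (t : F) :
    uSL t * hSL a = hSL a * uSL ((a ^ 2)⁻¹ * t) := by
  rw [hSL_mul_uSL ha]
  congr 2
  field_simp

theorem lSL_mul_hSL {a : F} (ha : a ≠ 0) (t : F) :
    lSL t * hSL a = hSL a * lSL (a ^ 2 * t) := by
  rw [hSL_mul_lSL ha]
  congr 2
  field_simp

/-- Bruhat decomposition. -/
theorem bruhat (g : SpecialLinearGroup (Fin 2) F) :
    (∃ s a : F, a ≠ 0 ∧ g = uSL s * hSL a) ∨
    (∃ s s' a : F, a ≠ 0 ∧ g = uSL s * nSL 1 * uSL s' * hSL a) := by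
  set a := (g : Matrix (Fin 2) (Fin 2) F) 0 0 with ha
  set b := (g : Matrix (Fin 2) (Fin 2) F) 0 1 with hb
  set c := (g : Matrix (Fin 2) (Fin 2) F) 1 0 with hc
  set d := (g : Matrix (Fin 2) (Fin 2) F) 1 1 with hd
  have hdet : a * d - b * c = 1 := det_eq_one g
  by_cases hc0 : c = 0
  · left
    have had : a * d = 1 := by rw [hc0, mul_zero, sub_zero] at hdet; exact hdet
    have ha0 : a ≠ 0 := left_ne_zero_of_mul_eq_one had
    have hd' : d = a⁻¹ := eq_inv_of_mul_eq_one_right had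
    refine ⟨a * b, a, ha0, ?_⟩
    apply ext_entries
    · simp [mul_val, hSL_val ha0, uSL_val, ← ha]
    · simp [mul_val, hSL_val ha0, uSL_val, ← hb]; field_simp
    · simp [mul_val, hSL_val ha0, uSL_val, ← hc, hc0]
    · simp [mul_val, hSL_val ha0, uSL_val, ← hd, hd']
  · right
    have hc' : -c ≠ 0 := neg_ne_zero.mpr hc0
    have h1 : (1 : F) ≠ 0 := one_ne_zero
    refine ⟨a / c, d * c, -c, hc', ?_⟩
    apply ext_entries
    · simp [mul_val, hSL_val hc', uSL_val, nSL_val h1, ← ha]; field_simp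
    · simp [mul_val, hSL_val hc', uSL_val, nSL_val h1, ← hb]
      field_simp
      linear_combination (-1 : F) * hdet
    · simp [mul_val, hSL_val hc', uSL_val, nSL_val h1, ← hc]
    · simp [mul_val, hSL_val hc', uSL_val, nSL_val h1, ← hd]; field_simp

end Cfsg.Agent.Lib.H15.Nat
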