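import Mathlib
import Cfsg.Agent.Lib.H15.HigDefs
import Cfsg.Agent.Lib.H15.HigGEN
import Cfsg.Agent.Lib.H15.Nat2
import Cfsg.Agent.Lib.H15.Nat5

/-!
helper15 library (S3050), pieces OPS + EQV: the operator package of an `SL₂(K)`-module (char 2) in
which the elements of order 3 are fixed point free; equivariance of coordinates.
-/

set_option autoImplicit false

namespace Cfsg.Agent.Lib.H15.Hig

open Matrix Cfsg.Agent.Lib.H2.SL2 Cfsg.Agent.Lib.H15.Nat

variable {K : Type*} [Field K] [CharP K 2]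

/-- `σ_a = [[1,a],[a⁻¹,0]]`. -/
def sigSL (a : K) : SpecialLinearGroup (Fin 2) K := uSL a * hSL a * nSL 1

theorem sigSL_val {a : K} (ha : a ≠ 0) :
    ((sigSL a : SpecialLinearGroup (Fin 2) K) : Matrix (Fin 2) (Fin 2) K) = !![1, a; a⁻¹, 0] := by
  unfold sigSL
  ext i j
  fin_cases i <;> fin_cases j <;>
    simp [mul_val, uSL_val, hSL_val ha, nSL_val (one_ne_zero : (1 : K) ≠ 0), ha, CharTwo.neg_eq]

theorem sigSL_ne_one {a : K} (ha : a ≠ 0) : sigSL a ≠ 1 := by
  intro h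
  have := congrArg (fun g : SpecialLinearGroup (Fin 2) K => (g : Matrix (Fin 2) (Fin 2) K) 0 1) h
  simp [sigSL_val ha] at this
  exact ha this

theorem sigSL_mul_self {a : K} (ha : a ≠ 0) : sigSL a * sigSL a = hSL a * nSL 1 * uSL a := by
  apply ext_entries <;>
    simp [mul_val, sigSL_val ha, uSL_val, hSL_val ha, nSL_val (one_ne_zero : (1 : K) ≠ 0), ha,
      CharTwo.neg_eq, CharTwo.add_self_eq_zero]

theorem sigSL_pow_three {a : K} (ha : a ≠ 0) : sigSL a ^ 3 = 1 := by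
  rw [pow_succ, pow_two]
  apply ext_entries <;>
    simp [mul_val, sigSL_val ha, ha, CharTwo.add_self_eq_zero]

variable {V : Type*} [AddCommGroup V]

/-- OPS. -/
def opsOf (α : SpecialLinearGroup (Fin 2) K →* AddMonoid.End V)
    (hF : ∀ g : SpecialLinearGroup (Fin 2) K, g ≠ 1 → g ^ 3 = 1 →
      ∀ m : V, m + α g m + α g (α g m) = 0) : Ops K V where
  U a := α (uSL a)
  W := α (nSL 1)
  H c := α (hSL c)
  U_zero m := by
    show α (uSL 0) m = m
    rw [uSL_zero, act_one]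
  U_add a b m := by
    show α (uSL (a + b)) m = α (uSL a) (α (uSL b) m)
    rw [uSL_add, act_mul]
  W_W m := by
    show α (nSL 1) (α (nSL 1) m) = m
    rw [← act_mul, nSL_one_mul_nSL_one, CharTwo.neg_eq, hSL_one, act_one]
  H_one m := by
    show α (hSL 1) m = m
    rw [hSL_one, act_one]
  H_mul a b ha hb m := by
    show α (hSL (a * b)) m = α (hSL a) (α (hSL b) m)
    rw [hSL_mul ha hb, act_mul]
  H_U c a hc m := by
    show α (hSL c) (α (uSL a) m) = α (uSL (c ^ 2 * a)) (α (hSL c) m)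
    rw [← act_mul, ← act_mul, hSL_mul_uSL hc]
  W_H c hc m := by
    show α (nSL 1) (α (hSL c) m) = α (hSL c⁻¹) (α (nSL 1) m)
    rw [← act_mul, ← act_mul, nSL_one_mul_hSL hc]
  fpf a ha m := by
    show m + α (uSL a) (α (hSL a) (α (nSL 1) m)) + α (hSL a) (α (nSL 1) (α (uSL a) m)) = 0
    have h := hF (sigSL a) (sigSL_ne_one ha) (sigSL_pow_three ha) m
    rw [← act_mul α (sigSL a) (sigSL a), sigSL_mul_self ha] at h
    rw [← act_mul, ← act_mul, ← act_mul, ← act_mul]
    exact h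

theorem opsOf_U (α : SpecialLinearGroup (Fin 2) K →* AddMonoid.End V) hF (a : K) (m : V) :
    (opsOf α hF).U a m = α (uSL a) m := rfl

theorem opsOf_W (α : SpecialLinearGroup (Fin 2) K →* AddMonoid.End V) hF (m : V) :
    (opsOf α hF).W m = α (nSL 1) m := rfl

theorem opsOf_H (α : SpecialLinearGroup (Fin 2) K →* AddMonoid.End V) hF (c : K) (m : V) :
    (opsOf α hF).H c m = α (hSL c) m := rfl

/-- EQV. -/
theorem coords_equivariant (α : SpecialLinearGroup (Fin 2) K →* AddMonoid.End V) {k : ℕ}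
    (Φ : V ≃+ (Fin k → Fin 2 → K))
    (hU : ∀ a m i, Φ (α (uSL a) m) i = ![Φ m i 0 + a * Φ m i 1, Φ m i 1])
    (hW : ∀ m i, Φ (α (nSL 1) m) i = ![Φ m i 1, Φ m i 0]) :
    ∀ (g : SpecialLinearGroup (Fin 2) K) m i,
      Φ (α g m) i = (g : Matrix (Fin 2) (Fin 2) K).mulVec (Φ m i) := by
  intro g
  refine sl2_induction_char2
    (fun g => ∀ m i, Φ (α g m) i = (g : Matrix (Fin 2) (Fin 2) K).mulVec (Φ m i)) ?_ ?_ ?_ g
  · intro t m i
    rw [hU, uSL_val]
    ext j
    fin_cases j <;> simp [Matrix.mulVec, dotProduct, Fin.sum_univ_two]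
  · intro m i
    rw [hW, nSL_val (one_ne_zero : (1 : K) ≠ 0)]
    ext j
    fin_cases j <;> simp [Matrix.mulVec, dotProduct, Fin.sum_univ_two, CharTwo.neg_eq]
  · intro A B hA hB m i
    rw [act_mul, hA, hB, Matrix.mulVec_mulVec]
    rfl

end Cfsg.Agent.Lib.H15.Hig
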