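import Mathlib
import Cfsg.Agent.Lib.H15.HigBasic

/-!
helper15 library (S3050), pieces VPINV + STAR: `Vp = V0 + W V0` is invariant under the operators,
has exponent 2, and the general formula for `U a W`.
-/

set_option autoImplicit false

namespace Cfsg.Agent.Lib.H15.Hig

variable {K : Type*} [Field K] [CharP K 2] {V : Type*} [AddCommGroup V] (O : Ops K V)

omit [CharP K 2] in
theorem W_mem_Vp {m : V} (hm : m ∈ Vp O) : O.W m ∈ Vp O := by
  obtain ⟨x, hx, y, hy, rfl⟩ := (mem_Vp O).1 hm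
  rw [map_add, O.W_W, add_comm]
  exact (mem_Vp O).2 ⟨y, hy, x, hx, rfl⟩

omit [CharP K 2] in
theorem H_mem_Vp {c : K} (hc : c ≠ 0) {m : V} (hm : m ∈ Vp O) : O.H c m ∈ Vp O := by
  obtain ⟨x, hx, y, hy, rfl⟩ := (mem_Vp O).1 hm
  refine (mem_Vp O).2 ⟨O.H c x, H_mem_V0 O hc hx, O.H c⁻¹ y, H_mem_V0 O (inv_ne_zero hc) hy, ?_⟩
  rw [map_add, O.W_H c⁻¹ (inv_ne_zero hc), inv_inv]

theorem U_add_W (hg : Good K V) {a : K} (ha : a ≠ 0) {x y : V} (hx : x ∈ V0 O) (hy : y ∈ V0 O) :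
    O.U a (x + O.W y) = (x + O.H a y) + O.W y := by
  rw [map_add, hx a, U_W_of_mem_V0' O hg ha hy, add_assoc]

theorem U_mem_Vp (hg : Good K V) (a : K) {m : V} (hm : m ∈ Vp O) : O.U a m ∈ Vp O := by
  by_cases ha : a = 0
  · have : O.U a m = m := by rw [ha, O.U_zero]
    rw [this]; exact hm
  obtain ⟨x, hx, y, hy, rfl⟩ := (mem_Vp O).1 hm
  rw [U_add_W O hg ha hx hy]
  exact (mem_Vp O).2 ⟨x + O.H a y, (V0 O).add_mem hx (H_mem_V0 O ha hy), y, hy, rfl⟩

theorem add_self_of_mem_Vp (hg : Good K V) {m : V} (hm : m ∈ Vp O) : m + m = 0 := by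
  obtain ⟨x, hx, y, hy, rfl⟩ := (mem_Vp O).1 hm
  have h1 := add_self_of_mem_V0 O hg hx
  have h2 : O.W y + O.W y = 0 := by rw [← map_add, add_self_of_mem_V0 O hg hy, map_zero]
  linear_combination (norm := abel) h1 + h2

theorem neg_of_mem_Vp (hg : Good K V) {m : V} (hm : m ∈ Vp O) : - m = m := by
  have := add_self_of_mem_Vp O hg hm
  linear_combination (norm := abel) (-1 : ℤ) • this

theorem Vp_le_X (hg : Good K V) : Vp O ≤ X O := by
  intro m hm a
  exact (Vp O).sub_mem (U_mem_Vp O hg a hm) hm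

omit [CharP K 2] in
/-- STAR. -/
theorem U_W_general {a : K} (ha : a ≠ 0) (m : V) :
    O.U a (O.W m) = - O.H a m - O.W (O.U a⁻¹ m) := by
  have h := O.fpf a ha (O.H a m)
  have h1 : O.H a (O.W (O.H a m)) = O.W m := by
    rw [O.W_H a ha, H_H_inv O ha]
  have h2 : O.U a (O.H a m) = O.H a (O.U a⁻¹ m) := by
    rw [O.H_U a a⁻¹ ha]
    congr 2
    field_simp
  have h3 : O.H a (O.W (O.H a (O.U a⁻¹ m))) = O.W (O.U a⁻¹ m) := by
    rw [O.W_H a ha, H_H_inv O ha]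
  rw [h1, h2, h3] at h
  linear_combination (norm := abel) h

end Cfsg.Agent.Lib.H15.Hig
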