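import Mathlib

/-!
# Additive groups of idempotents normalised by a transitive group (helper15)

Shape-independent brick for S3776 (the case "exponent of `J` at least 8 is impossible"):
a set `Tt` of additive idempotent self-maps of a finite group `V` of exponent 2, closed under pointwise
addition and normalised by a set `Ee` of additive maps which is transitive on `V ∖ 0`, consists of
`0` and `id` only.
-/

set_option autoImplicit false

namespace Cfsg.Agent.H15.IdemTrans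

universe u

/-- the hypotheses: `Tt` additive idempotents closed under `+`, `Ee` additive, normalising `Tt`
(for `ψ ∈ Tt` the conjugate `e⁻¹ ψ e` is in `Tt`) and transitive on `V ∖ 0`. -/
structure Hyp {V : Type u} [AddCommGroup V] (Tt Ee : Set (V → V)) : Prop where
  two : ∀ v : V, v + v = 0
  add : ∀ φ ∈ Tt, ∀ x y : V, φ (x + y) = φ x + φ y
  idem : ∀ φ ∈ Tt, ∀ x : V, φ (φ x) = φ x
  sum : ∀ φ ∈ Tt, ∀ ψ ∈ Tt, ∃ χ ∈ Tt, ∀ x : V, χ x = φ x + ψ x
  eadd : ∀ e ∈ Ee, ∀ x y : V, e (x + y) = e x + e y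
  norm : ∀ e ∈ Ee, ∀ ψ ∈ Tt, ∃ φ ∈ Tt, ∀ x : V, ψ (e x) = e (φ x)
  trans : ∀ v w : V, v ≠ 0 → w ≠ 0 → ∃ e ∈ Ee, e v = w

variable {V : Type u} [AddCommGroup V] {Tt Ee : Set (V → V)}

theorem eq_of_add_eq_zero (h : Hyp Tt Ee) {a b : V} (hab : a + b = 0) : a = b := by
  have := h.two b
  calc a = a + (b + b) := by rw [this, add_zero]
    _ = (a + b) + b := by rw [add_assoc]
    _ = b := by rw [hab, zero_add]

theorem map_zero' (h : Hyp Tt Ee) {φ : V → V} (hφ : φ ∈ Tt) : φ 0 = 0 := by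
  have := h.add φ hφ 0 0
  rw [add_zero] at this
  have h2 : φ 0 + φ 0 = φ 0 + 0 := by rw [add_zero]; exact this.symm
  exact (add_left_cancel h2)

theorem emap_zero (h : Hyp Tt Ee) {e : V → V} (he : e ∈ Ee) : e 0 = 0 := by
  have := h.eadd e he 0 0
  rw [add_zero] at this
  have h2 : e 0 + e 0 = e 0 + 0 := by rw [add_zero]; exact this.symm
  exact (add_left_cancel h2)

/-- any two members of `Tt` commute -/
theorem comm (h : Hyp Tt Ee) {φ ψ : V → V} (hφ : φ ∈ Tt) (hψ : ψ ∈ Tt) (x : V) :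
    φ (ψ x) = ψ (φ x) := by
  obtain ⟨χ, hχ, hχe⟩ := h.sum φ hφ ψ hψ
  have h1 := h.idem χ hχ x
  rw [hχe (χ x), hχe x, h.add φ hφ, h.add ψ hψ, h.idem φ hφ, h.idem ψ hψ] at h1
  -- φ x + φ (ψ x) + (ψ (φ x) + ψ x) = φ x + ψ x
  have h2 : φ (ψ x) + ψ (φ x) = 0 := by
    have h3 : (φ x + ψ x) + (φ (ψ x) + ψ (φ x)) = (φ x + ψ x) + 0 := by
      calc (φ x + ψ x) + (φ (ψ x) + ψ (φ x)) = φ x + φ (ψ x) + (ψ (φ x) + ψ x) := by abel
        _ = φ x + ψ x := h1
        _ = (φ x + ψ x) + 0 := (add_zero _).symm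
    exact add_left_cancel h3
  exact eq_of_add_eq_zero h h2

/-- `v` is a joint eigenvector -/
def IsEig (Tt : Set (V → V)) (v : V) : Prop := ∀ φ ∈ Tt, φ v = v ∨ φ v = 0

theorem exists_eig [Finite V] (h : Hyp Tt Ee) (hne : ∃ v : V, v ≠ 0) :
    ∃ v : V, v ≠ 0 ∧ IsEig Tt v := by
  classical
  obtain ⟨v00, hv00⟩ := hne
  have : Nonempty {v : V // v ≠ 0} := ⟨⟨v00, hv00⟩⟩
  let S : V → Set (V → V) := fun v => {φ | φ ∈ Tt ∧ (φ v = v ∨ φ v = 0)}
  obtain ⟨⟨v0, hv0⟩, hmax⟩ := Finite.exists_max (fun v : {v : V // v ≠ 0} => (S v.1).ncard)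
  refine ⟨v0, hv0, ?_⟩
  intro φ hφ
  by_contra hcon
  push Not at hcon
  have hv' : φ v0 ≠ 0 := hcon.2
  have hsub : S v0 ⊂ S (φ v0) := by
    refine ⟨?_, ?_⟩
    · intro ψ hψ
      refine ⟨hψ.1, ?_⟩
      rcases hψ.2 with h1 | h1
      · left; rw [comm h hψ.1 hφ, h1]
      · right; rw [comm h hψ.1 hφ, h1, map_zero' h hφ]
    · intro hss
      have : φ ∈ S v0 := hss ⟨hφ, Or.inl (h.idem φ hφ v0)⟩
      rcases this.2 with h1 | h1
      · exact hcon.1 h1
      · exact hcon.2 h1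
  have hlt : (S v0).ncard < (S (φ v0)).ncard := Set.ncard_lt_ncard hsub (Set.toFinite _)
  have := hmax ⟨φ v0, hv'⟩
  simp only at this
  omega

theorem all_eig [Finite V] (h : Hyp Tt Ee) (x : V) (hx : x ≠ 0) : IsEig Tt x := by
  obtain ⟨v0, hv0, heig⟩ := exists_eig h ⟨x, hx⟩
  obtain ⟨e, he, hex⟩ := h.trans v0 x hv0 hx
  intro ψ hψ
  obtain ⟨φ, hφ, hφe⟩ := h.norm e he ψ hψ
  have := hφe v0
  rw [hex] at this
  rcases heig φ hφ with h1 | h1
  · left; rw [this, h1, hex]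
  · right; rw [this, h1, emap_zero h he]

/-- **the brick**: every member of `Tt` is `0` or the identity -/
theorem zero_or_id [Finite V] (h : Hyp Tt Ee) :
    ∀ φ ∈ Tt, (∀ v : V, φ v = 0) ∨ (∀ v : V, φ v = v) := by
  intro φ hφ
  by_contra hcon
  push Not at hcon
  obtain ⟨⟨v1, hv1⟩, ⟨v2, hv2⟩⟩ := hcon
  set u := φ v1 with hu
  have hφu : φ u = u := h.idem φ hφ v1
  set w := v2 + φ v2 with hw
  have hφw : φ w = 0 := by
    rw [hw, h.add φ hφ, h.idem φ hφ]; exact h.two _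
  have hw0 : w ≠ 0 := by
    intro h0
    exact hv2 (eq_of_add_eq_zero h h0).symm
  have hφx : φ (u + w) = u := by rw [h.add φ hφ, hφu, hφw, add_zero]
  have hx0 : u + w ≠ 0 := by
    intro h0
    rw [h0, map_zero' h hφ] at hφx
    exact hv1 hφx.symm
  rcases all_eig h (u + w) hx0 φ hφ with h1 | h1
  · rw [hφx] at h1
    -- u = u + w
    have : u + 0 = u + w := by rw [add_zero]; exact h1
    exact hw0 (add_left_cancel this).symm
  · rw [hφx] at h1
    exact hv1 h1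

end Cfsg.Agent.H15.IdemTrans
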