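import Mathlib
import Cfsg.Agent.S2790
import Cfsg.Agent.Lib.H14.WCProd
import Cfsg.Agent.Lib.H14.KFam1
import Cfsg.Agent.Lib.H14.Subnormal
import Cfsg.Agent.Lib.H14.McBride
import Cfsg.Agent.Lib.H27.Basic
import Cfsg.Agent.Lib.H15.NormComm

/-!
Isolated `p`-minimal subgroups (Meierfrankenfeld--Parker--Rowley), part A: the configuration inside
`G` (helper15's shared library).
-/

set_option autoImplicit false

namespace Cfsg.Agent.Lib.H15.Iso

open Cfsg Cfsg.Agent.Lib.H14
open scoped commutatorElement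

variable {G : Type*} [Group G] [Finite G] {p : ℕ} [Fact p.Prime]

/-- McBride's lemma in raw form: a subgroup `X` containing the Sylow subgroup `S` is generated by
`N_X(S)`, `S` and the `p`-minimal subgroups between `S` and `X`. -/
theorem mcbride_raw (S : Sylow p G) (X : Subgroup G) (hSX : (S : Subgroup G) ≤ X) :
    X ≤ (X ⊓ Subgroup.normalizer ((S : Subgroup G) : Set G)) ⊔
      ((S : Subgroup G) ⊔ sSup {P' : Subgroup G | (S : Subgroup G) ≤ P' ∧ P' ≤ X ∧
        Cfsg.IsPMinimal p ↥P'}) := by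
  have h1 := le_pElementClosure_sup_nzr X S hSX
  have h2 := Cfsg.Agent.S2790.main_ind S X hSX
  unfold Cfsg.Agent.S2790.LL at h2
  rw [sup_comm]
  exact h1.trans (sup_le_sup_right h2 _)

/-- The abstract configuration of an isolated `p`-minimal subgroup `P ≥ S` with `L = L_G(P,S)`. -/
structure Cfg (S : Sylow p G) (P L : Subgroup G) : Prop where
  hSP : (S : Subgroup G) ≤ P
  hNL : Subgroup.normalizer ((S : Subgroup G) : Set G) ≤ L
  hMB : ∀ X : Subgroup G, (S : Subgroup G) ≤ X → ¬ P ≤ X → X ≤ L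
  hMB2 : ∀ X : Subgroup G, (S : Subgroup G) ≤ X → X ≤ P ⊔ (L ⊓ X)
  hPL : ∀ P' : Subgroup G, (S : Subgroup G) ≤ P' → Cfsg.IsPMinimal p ↥P' → P' ≠ P → P' ≤ L
  hiso : ¬ Cfsg.pCoreOf p L ≤ Cfsg.pCoreOf p P

/-- The configuration holds for the `L` of the statements. -/
theorem cfg_of_def (S : Sylow p G) (P L : Subgroup G) (hSP : (S : Subgroup G) ≤ P)
    (hL : L = Subgroup.normalizer ((S : Subgroup G) : Set G) ⊔
      ⨆ P' : {P' : Subgroup G // (S : Subgroup G) ≤ P' ∧ Cfsg.IsPMinimal p ↥P' ∧ P' ≠ P},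
        (P' : Subgroup G))
    (hiso : ¬ (Cfsg.pCore p ↥L).map L.subtype ≤ (Cfsg.pCore p ↥P).map P.subtype) :
    Cfg S P L := by
  have hNL : Subgroup.normalizer ((S : Subgroup G) : Set G) ≤ L := by rw [hL]; exact le_sup_left
  have hSL : (S : Subgroup G) ≤ L := Subgroup.le_normalizer.trans hNL
  have hP' : ∀ P' : Subgroup G, (S : Subgroup G) ≤ P' → Cfsg.IsPMinimal p ↥P' → P' ≠ P →
      P' ≤ L := by
    intro P' h1 h2 h3
    rw [hL]
    refine le_trans ?_ le_sup_right
    exact le_iSup (fun P' : {P' : Subgroup G // (S : Subgroup G) ≤ P' ∧ Cfsg.IsPMinimal p ↥P' ∧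
      P' ≠ P} => (P' : Subgroup G)) ⟨P', h1, h2, h3⟩
  refine ⟨hSP, hNL, ?_, ?_, hP', hiso⟩
  · intro X hSX hPX
    refine (mcbride_raw S X hSX).trans (sup_le (inf_le_right.trans hNL) (sup_le hSL ?_))
    apply sSup_le
    rintro P' ⟨h1, h2, h3⟩
    apply hP' P' h1 h3
    rintro rfl
    exact hPX h2
  · intro X hSX
    refine (mcbride_raw S X hSX).trans (sup_le ?_ (sup_le ?_ ?_))
    · exact le_trans (le_inf (inf_le_right.trans hNL) inf_le_left) le_sup_right
    · exact le_trans (le_inf hSL hSX) le_sup_right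
    · apply sSup_le
      rintro P' ⟨h1, h2, h3⟩
      by_cases hPP : P' = P
      · rw [hPP]; exact le_sup_left
      · exact le_trans (le_inf (hP' P' h1 h3 hPP) h2) le_sup_right

end Cfsg.Agent.Lib.H15.Iso
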