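import Mathlib
import Cfsg.Agent.Lib.H15.Iso1

/-!
Isolated `p`-minimal subgroups, part A continued: consequences of the configuration inside `G`.
-/

set_option autoImplicit false

namespace Cfsg.Agent.Lib.H15.Iso

open Cfsg Cfsg.Agent.Lib.H14
open scoped commutatorElement

variable {G : Type*} [Group G] [Finite G] {p : ℕ} [Fact p.Prime]

omit [Finite G] in
/-- A Sylow subgroup `S ≤ H` contains `O_p(H)`. -/
theorem pCoreOf_le_sylow (S : Sylow p G) (H : Subgroup G) (hSH : (S : Subgroup G) ≤ H) :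
    Cfsg.pCoreOf p H ≤ (S : Subgroup G) := by
  have h1 : Cfsg.pCore p ↥H ≤ ((S.subtype hSH : Sylow p ↥H) : Subgroup ↥H) :=
    Cfsg.Agent.Lib.H27.pCore_le_sylow _
  unfold Cfsg.pCoreOf
  rintro _ ⟨x, hx, rfl⟩
  have := h1 hx
  rw [Sylow.coe_subtype, Subgroup.mem_subgroupOf] at this
  exact this

namespace Cfg

variable {S : Sylow p G} {P L : Subgroup G}

omit [Finite G] in
theorem hSL (h : Cfg S P L) : (S : Subgroup G) ≤ L := Subgroup.le_normalizer.trans h.hNL

omit [Finite G] in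
theorem Q_le_S (h : Cfg S P L) : Cfsg.pCoreOf p L ≤ (S : Subgroup G) :=
  pCoreOf_le_sylow S L h.hSL

omit [Finite G] in
theorem OP_le_S (h : Cfg S P L) : Cfsg.pCoreOf p P ≤ (S : Subgroup G) :=
  pCoreOf_le_sylow S P h.hSP

omit [Finite G] in
theorem L_norm_Q (_h : Cfg S P L) : L ≤ Subgroup.normalizer ((Cfsg.pCoreOf p L : Subgroup G) : Set G) :=
  pCoreOf_normalized p L

omit [Finite G] in
theorem Q_isPGroup (_h : Cfg S P L) : IsPGroup p (Cfsg.pCoreOf p L) := pCoreOf_isPGroup p L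

/-- `P = O^p(P) S`. -/
theorem P_le (h : Cfg S P L) : P ≤ presOf p P ⊔ (S : Subgroup G) := by
  have h1 := le_presOf_sup_sylow (p := p) P (S.subtype h.hSP)
  refine h1.trans (sup_le_sup_left ?_ _)
  rintro _ ⟨x, hx, rfl⟩
  rw [Sylow.coe_subtype, SetLike.mem_coe, Subgroup.mem_subgroupOf] at hx
  exact hx

omit [Finite G] in
/-- `P` is not contained in `L`. -/
theorem not_P_le_L (h : Cfg S P L) : ¬ P ≤ L := by
  intro hPL
  apply h.hiso
  exact le_pCoreOf p P _ (h.Q_le_S.trans h.hSP) (hPL.trans h.L_norm_Q) h.Q_isPGroup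

omit [Finite G] in
/-- `S`-invariant subgroups either contain `O^p(P)` or lie in `L`. -/
theorem hMBT (h : Cfg S P L) (T : Subgroup G)
    (hT : (S : Subgroup G) ≤ Subgroup.normalizer (T : Set G)) : presOf p P ≤ T ∨ T ≤ L := by
  by_cases hP : P ≤ T ⊔ (S : Subgroup G)
  · left
    exact presOf_le_of_le_sup' T (S : Subgroup G) P hT S.2 hP
  · right
    exact le_sup_left.trans (h.hMB _ le_sup_right hP)

omit [Finite G] in
theorem R_le_OP (h : Cfg S P L) : Cfsg.pCore p G ≤ Cfsg.pCoreOf p P := by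
  have hn : (Cfsg.pCore p G).Normal := Cfsg.Agent.Lib.H27.pCore_normal'
  apply le_pCoreOf p P _ ((Cfsg.Agent.Lib.H27.pCore_le_sylow S).trans h.hSP)
  · rw [Subgroup.normalizer_eq_top]; exact le_top
  · exact Cfsg.Agent.Lib.H27.pCore_isPGroup

omit [Finite G] in
theorem P_norm_W (_h : Cfg S P L) : P ≤ Subgroup.normalizer ((presOf p P : Subgroup G) : Set G) :=
  Subgroup.le_normalizer.trans (presOf_normalized p P)

omit [Finite G] in
theorem S_norm_W (h : Cfg S P L) :
    (S : Subgroup G) ≤ Subgroup.normalizer ((presOf p P : Subgroup G) : Set G) :=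
  h.hSP.trans h.P_norm_W

omit [Finite G] in
theorem OP_le_P (_h : Cfg S P L) : Cfsg.pCoreOf p P ≤ P := pCoreOf_le p P

/-- (NQ): `[O^p(P), O_p(L)]` is not contained in `O_p(P)`. -/
theorem hNQ (h : Cfg S P L) : ¬ ⁅presOf p P, Cfsg.pCoreOf p L⁆ ≤ Cfsg.pCoreOf p P := by
  intro hc
  set W := presOf p P with hW
  set Q := Cfsg.pCoreOf p L with hQ
  set OP := Cfsg.pCoreOf p P with hOP
  set J := Q ⊔ OP with hJ
  have hSJ : (S : Subgroup G) ≤ Subgroup.normalizer (J : Set G) :=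
    le_normalizer_sup (h.hSL.trans h.L_norm_Q) (h.hSP.trans (pCoreOf_normalized p P))
  have hWJ : W ≤ Subgroup.normalizer (J : Set G) := by
    intro w hw
    apply mem_nzr_of_map_cj_le_fin
    rw [hJ, Subgroup.map_sup]
    apply sup_le
    · rintro _ ⟨q, hq, rfl⟩
      have e : (MulAut.conj w).toMonoidHom q = ⁅w, q⁆ * q := by
        simp [commutatorElement_def, MulAut.conj_apply]
      rw [e]
      exact Subgroup.mul_mem _
        (le_sup_right (a := Q) (hc (Subgroup.commutator_mem_commutator hw hq)))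
        (le_sup_left (b := OP) hq)
    · have hwP : w ∈ P := presOf_le p P hw
      have h1 := pCoreOf_normalized p P hwP
      rw [mem_normalizer_iff_cj_eq] at h1
      exact le_trans (le_of_eq h1) le_sup_right
  have hPJ : P ≤ Subgroup.normalizer (J : Set G) := h.P_le.trans (sup_le hWJ hSJ)
  have hJS : J ≤ (S : Subgroup G) := sup_le h.Q_le_S h.OP_le_S
  have hJp : IsPGroup p J := S.2.to_le hJS
  have hJOP : J ≤ OP := le_pCoreOf p P J (hJS.trans h.hSP) hPJ hJp
  exact h.hiso (le_sup_left.trans hJOP)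

/-- `G = Y L` for any normal `Y` containing `O^p(P)`. -/
theorem sup_eq_top (h : Cfg S P L) (Y : Subgroup G) (hWY : presOf p P ≤ Y) : Y ⊔ L = ⊤ := by
  rw [eq_top_iff]
  have h1 := h.hMB2 ⊤ le_top
  refine h1.trans (sup_le ?_ (inf_le_left.trans le_sup_right))
  exact h.P_le.trans (sup_le (hWY.trans le_sup_left) (h.hSL.trans le_sup_right))

omit [Finite G] in
/-- (E): the normal closure of `O_p(L)` contains `O^p(P)`. -/
theorem W_le_normalClosure_Q (h : Cfg S P L) :
    presOf p P ≤ Subgroup.normalClosure ((Cfsg.pCoreOf p L : Subgroup G) : Set G) := by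
  set Q := Cfsg.pCoreOf p L with hQ
  set T := Subgroup.normalClosure ((Q : Subgroup G) : Set G) with hT
  have hTn : T.Normal := Subgroup.normalClosure_normal
  rcases h.hMBT T (by rw [Subgroup.normalizer_eq_top]; exact le_top) with h1 | h1
  · exact h1
  · exfalso
    have hQT : Q ≤ T := Subgroup.le_normalClosure
    have h2 : Q ≤ Cfsg.pCoreOf p T := le_pCoreOf p T Q hQT (h1.trans h.L_norm_Q) h.Q_isPGroup
    have h3 : Cfsg.pCoreOf p T ≤ Cfsg.pCore p G := pCoreOf_le_of_isSubnormal p T hTn.isSubnormal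
    exact h.hiso (h2.trans (h3.trans h.R_le_OP))

/-- (gen): a normal subgroup `Y ≥ O^p(P)` is generated by `O^p(P)` and `Y ∩ L`. -/
theorem gen (h : Cfg S P L) (Y : Subgroup G) [hYn : Y.Normal] (hWY : presOf p P ≤ Y) :
    Y ≤ presOf p P ⊔ (Y ⊓ L) := by
  set W := presOf p P with hW
  set Y₁ := W ⊔ (Y ⊓ L) with hY₁
  have hSY₁ : (S : Subgroup G) ≤ Subgroup.normalizer (Y₁ : Set G) := by
    apply le_normalizer_sup h.S_norm_W
    intro s hs
    rw [mem_normalizer_iff_cj_eq]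
    unfold cj
    rw [Subgroup.map_inf _ _ _ (MulAut.conj s).injective]
    have e1 : Y.map (MulAut.conj s).toMonoidHom = Y := by
      have : s ∈ Subgroup.normalizer (Y : Set G) := by rw [Subgroup.normalizer_eq_top]; trivial
      exact mem_normalizer_iff_cj_eq.mp this
    have e2 : L.map (MulAut.conj s).toMonoidHom = L :=
      mem_normalizer_iff_cj_eq.mp (Subgroup.le_normalizer (h.hSL hs))
    rw [e1, e2]
  have h1 := h.hMB2 (Y ⊔ (S : Subgroup G)) le_sup_right
  have h2 : P ⊔ (L ⊓ (Y ⊔ (S : Subgroup G))) ≤ Y₁ ⊔ (S : Subgroup G) := by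
    apply sup_le
    · exact h.P_le.trans (sup_le_sup_right le_sup_left _)
    · rintro x ⟨hxL, hxYS⟩
      obtain ⟨y, hy, s, hs, rfl⟩ := Subgroup.mem_sup_of_normal_left.mp hxYS
      have hyL : y ∈ L := by
        have := L.mul_mem hxL (L.inv_mem (h.hSL hs))
        simpa using this
      exact Subgroup.mul_mem_sup (le_sup_right (a := W) (Subgroup.mem_inf.2 ⟨hy, hyL⟩)) hs
  intro y hy
  have h3 : y ∈ Y₁ ⊔ (S : Subgroup G) := h2 (h1 (le_sup_left (b := (S : Subgroup G)) hy))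
  obtain ⟨y₁, hy₁, s, hs, rfl⟩ := Cfsg.Agent.Lib.H1.mem_sup_of_le_normalizer hSY₁ h3
  have hY₁Y : Y₁ ≤ Y := sup_le hWY inf_le_left
  have hsY : s ∈ Y := by
    have := Y.mul_mem (Y.inv_mem (hY₁Y hy₁)) hy
    simpa using this
  exact Y₁.mul_mem hy₁ (le_sup_right (a := W) (Subgroup.mem_inf.2 ⟨hsY, h.hSL hs⟩))

omit [Finite G] in
/-- Part (b): `P` is again isolated in `Y S`. -/
theorem isolated_sub (h : Cfg S P L) (Y : Subgroup G) :
    ¬ (Cfsg.pCore p ↥((Subgroup.normalizer ((S : Subgroup G) : Set G) ⊓ (Y ⊔ (S : Subgroup G))) ⊔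
          ⨆ P' : {P' : Subgroup G // (S : Subgroup G) ≤ P' ∧ P' ≤ Y ⊔ (S : Subgroup G) ∧
            Cfsg.IsPMinimal p ↥P' ∧ P' ≠ P}, (P' : Subgroup G))).map
        (Subgroup.subtype _) ≤ (Cfsg.pCore p ↥P).map P.subtype := by
  set L₀ := (Subgroup.normalizer ((S : Subgroup G) : Set G) ⊓ (Y ⊔ (S : Subgroup G))) ⊔
          ⨆ P' : {P' : Subgroup G // (S : Subgroup G) ≤ P' ∧ P' ≤ Y ⊔ (S : Subgroup G) ∧
            Cfsg.IsPMinimal p ↥P' ∧ P' ≠ P}, (P' : Subgroup G) with hL₀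
  intro hc
  have hL₀L : L₀ ≤ L := by
    apply sup_le (inf_le_left.trans h.hNL)
    apply iSup_le
    rintro ⟨P', h1, _, h3, h4⟩
    exact h.hPL P' h1 h3 h4
  have hSL₀ : (S : Subgroup G) ≤ L₀ :=
    le_trans (le_inf Subgroup.le_normalizer le_sup_right) le_sup_left
  have hQ : Cfsg.pCoreOf p L ≤ Cfsg.pCoreOf p L₀ :=
    le_pCoreOf p L₀ _ (h.Q_le_S.trans hSL₀) (hL₀L.trans h.L_norm_Q) h.Q_isPGroup
  exact h.hiso (hQ.trans hc)

omit [Finite G] in
/-- End of the nilpotent case: if `Y = ⟨O^p(P)^G⟩ ≤ O^p(P) O_p(G)` then `Y = O^p(P)`. -/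
theorem eq_of_le_sup_pCore (h : Cfg S P L) (Y : Subgroup G)
    (hY : Y = Subgroup.normalClosure ((presOf p P : Subgroup G) : Set G))
    (hle : Y ≤ presOf p P ⊔ Cfsg.pCore p G) : presOf p P = Y := by
  set W := presOf p P with hW
  have hWY : W ≤ Y := by rw [hY]; exact Subgroup.le_normalClosure
  have hYn : Y.Normal := by rw [hY]; exact Subgroup.normalClosure_normal
  have hRW : Cfsg.pCore p G ≤ Subgroup.normalizer (W : Set G) :=
    (h.R_le_OP.trans h.OP_le_P).trans h.P_norm_W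
  have h1 : presOf p Y ≤ W :=
    presOf_le_of_le_sup' W (Cfsg.pCore p G) Y hRW Cfsg.Agent.Lib.H27.pCore_isPGroup hle
  have h2 : W ≤ presOf p Y := by
    have : presOf p W = W := presOf_presOf p P
    rw [← this]
    exact presOf_mono p hWY
  have h3 : presOf p Y = W := le_antisymm h1 h2
  have h4 : (presOf p Y).Normal := by
    rw [← Subgroup.normalizer_eq_top_iff, eq_top_iff]
    refine le_trans ?_ (presOf_normalized p Y)
    rw [Subgroup.normalizer_eq_top]
  rw [h3] at h4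
  apply le_antisymm hWY
  rw [hY]
  exact Subgroup.normalClosure_le_normal (le_refl _)

end Cfg

end Cfsg.Agent.Lib.H15.Iso
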