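import Mathlib
import Cfsg.Agent.Lib.H14.Subnormal
import Cfsg.Agent.Lib.H14.KFam1
import Cfsg.Agent.Lib.H15.NormComm
import Cfsg.Prelude.Def_Solvable

/-!
Isolated `p`-minimal subgroups, part B: the configuration in the quotient `H = G / O_p(G)`.
Basic consequences.
-/

set_option autoImplicit false

namespace Cfsg.Agent.Lib.H15.Iso

open Cfsg Cfsg.Agent.Lib.H14
open scoped commutatorElement

universe u

variable {H : Type u} [Group H]

/-- The quotient configuration: `Y` is the image of the normal closure of `O^p(P)`, `Q` of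
`O_p(L)`, `S` of the Sylow subgroup, `W` of `O^p(P)`. -/
structure QCfg (p : ℕ) (Y Q S W L : Subgroup H) : Prop where
  hYn : Y.Normal
  hS : IsPGroup p S
  hQS : Q ≤ S
  hSL : S ≤ L
  hLQ : L ≤ Subgroup.normalizer (Q : Set H)
  hYL : Y ⊔ L = ⊤
  hWY : W ≤ Y
  hYW : Y ≤ Subgroup.normalClosure (W : Set H)
  hMB : ∀ T : Subgroup H, S ≤ Subgroup.normalizer (T : Set H) → W ≤ T ∨ T ≤ L
  hOp : Cfsg.pCore p H = ⊥
  hNQ : ⁅Y, Q⁆ ≠ ⊥
  hgen : Y ≤ W ⊔ (Y ⊓ L)
  hE : Y ≤ Subgroup.normalClosure (Q : Set H)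

namespace QCfg

variable {p : ℕ} {Y Q S W L : Subgroup H}

theorem Y_ne_bot (h : QCfg p Y Q S W L) : Y ≠ ⊥ := by
  intro hY
  apply h.hNQ
  rw [hY, eq_bot_iff]
  exact Subgroup.commutator_le.2 (fun a ha b _ => by
    rw [Subgroup.mem_bot] at ha
    rw [ha, Subgroup.mem_bot]
    simp [commutatorElement_def])

theorem W_ne_bot (h : QCfg p Y Q S W L) : W ≠ ⊥ := by
  intro hW
  apply h.Y_ne_bot
  rw [eq_bot_iff]
  refine h.hYW.trans ?_
  rw [hW]
  apply Subgroup.normalClosure_le_normal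
  simp

theorem Q_isPGroup (h : QCfg p Y Q S W L) : IsPGroup p Q := h.hS.to_le h.hQS

/-- Subnormal `p`-subgroups of `H` are trivial. -/
theorem trivP (h : QCfg p Y Q S W L) (N : Subgroup H) (hN : N.IsSubnormal) (hNp : IsPGroup p N) :
    N = ⊥ := by
  rw [eq_bot_iff, ← h.hOp]
  exact le_pCore_of_isSubnormal_of_isPGroup p N hN hNp

/-- A `p`-subgroup normal in a normal subgroup of `Y` is trivial. -/
theorem trivP2 (h : QCfg p Y Q S W L) (N M : Subgroup H) (hMY : M ≤ Y)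
    (hYM : Y ≤ Subgroup.normalizer (M : Set H)) (hNM : N ≤ M)
    (hMN : M ≤ Subgroup.normalizer (N : Set H)) (hNp : IsPGroup p N) : N = ⊥ := by
  apply h.trivP N _ hNp
  have hYs : Y.IsSubnormal := h.hYn.isSubnormal
  have hMs : M.IsSubnormal :=
    Subgroup.IsSubnormal.step M Y hMY hYs
      ((Subgroup.normal_subgroupOf_iff_le_normalizer hMY).2 hYM)
  exact Subgroup.IsSubnormal.step N M hNM hMs
    ((Subgroup.normal_subgroupOf_iff_le_normalizer hNM).2 hMN)

/-- A subgroup `N ≤ L` of `Y` that is normal in `Y` is centralized by `Q`, provided `Q`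
normalizes it. -/
theorem comm_Q_of_le_L (h : QCfg p Y Q S W L) (N : Subgroup H) (hNY : N ≤ Y)
    (hYN : Y ≤ Subgroup.normalizer (N : Set H)) (hQN : Q ≤ Subgroup.normalizer (N : Set H))
    (hNL : N ≤ L) : ⁅N, Q⁆ = ⊥ := by
  have h1 : ⁅N, Q⁆ ≤ N := Subgroup.le_normalizer_iff_commutator_le_left.mp hQN
  have h2 : ⁅N, Q⁆ ≤ Q := by
    rw [Subgroup.commutator_comm]
    exact Subgroup.le_normalizer_iff_commutator_le_left.mp (hNL.trans h.hLQ)
  have h3 : N ⊓ Q = ⊥ := by
    apply h.trivP2 (N ⊓ Q) N hNY hYN inf_le_left _ (h.Q_isPGroup.to_le inf_le_right)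
    intro n hn
    have e1 := mem_normalizer_iff_cj_eq.mp (Subgroup.le_normalizer (H := N) hn)
    have e2 := mem_normalizer_iff_cj_eq.mp (h.hLQ (hNL hn))
    rw [mem_normalizer_iff_cj_eq]
    unfold cj at *
    rw [Subgroup.map_inf _ _ _ (MulAut.conj n).injective, e1, e2]
  rw [eq_bot_iff, ← h3]
  exact le_inf h1 h2

/-- (K): a normal subgroup of `H` properly contained in `Y` is centralized by `Q` and by `Y`. -/
theorem KQ (h : QCfg p Y Q S W L) (N : Subgroup H) (hNn : N.Normal) (hNY : N ≤ Y) (hne : N ≠ Y) :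
    ⁅N, Q⁆ = ⊥ ∧ ⁅N, Y⁆ = ⊥ := by
  have hall : ∀ X : Subgroup H, X ≤ Subgroup.normalizer (N : Set H) := by
    intro X; rw [Subgroup.normalizer_eq_top]; exact le_top
  have hNL : N ≤ L := by
    rcases h.hMB N (hall S) with h1 | h1
    · exfalso
      apply hne
      apply le_antisymm hNY
      exact h.hYW.trans (Subgroup.normalClosure_le_normal h1)
    · exact h1
  have h1 : ⁅N, Q⁆ = ⊥ := h.comm_Q_of_le_L N hNY (hall Y) (hall Q) hNL
  refine ⟨h1, ?_⟩
  rw [Subgroup.commutator_comm, Subgroup.commutator_eq_bot_iff_le_centralizer] at h1 ⊢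
  have : (Subgroup.centralizer (N : Set H)).Normal := inferInstance
  exact h.hE.trans (Subgroup.normalClosure_le_normal h1)

end QCfg

end Cfsg.Agent.Lib.H15.Iso
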