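import Mathlib
import Cfsg.Agent.Lib.H15.Iso3
import Cfsg.Agent.Lib.H7.FStar

/-!
Isolated `p`-minimal subgroups, part B: the perfect case, `Y = E(Y)`.
-/

set_option autoImplicit false

namespace Cfsg.Agent.Lib.H15.Iso

open Cfsg Cfsg.Agent.Lib.H14 Cfsg.Agent.Lib.H7
open scoped commutatorElement

universe u

variable {H : Type u} [Group H] [Finite H] {p : ℕ} [Fact p.Prime] {Y Q S W L : Subgroup H}

omit [Finite H] in
theorem map_subtype_top' (Y : Subgroup H) : (⊤ : Subgroup ↥Y).map Y.subtype = Y := by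
  rw [← MonoidHom.range_eq_map, Subgroup.range_subtype]

namespace QCfg

omit [Finite H] [Fact p.Prime] in
/-- Characteristic proper subgroups of `Y` are central. -/
theorem char_le_center (h : QCfg p Y Q S W L) (C : Subgroup ↥Y) [hC : C.Characteristic]
    (hne : C ≠ ⊤) : C ≤ Subgroup.center ↥Y := by
  haveI := h.hYn
  have hN : (C.map Y.subtype).Normal := ConjAct.normal_of_characteristic_of_normal
  have hne' : C.map Y.subtype ≠ Y := by
    intro e
    apply hne
    apply Subgroup.map_injective Y.subtype_injective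
    rw [e, map_subtype_top']
  obtain ⟨-, h1⟩ := h.KQ _ hN (Subgroup.map_subtype_le _) hne'
  intro c hc
  rw [Subgroup.mem_center_iff]
  intro y
  have : ⁅(c : H), (y : H)⁆ ∈ ⁅C.map Y.subtype, Y⁆ :=
    Subgroup.commutator_mem_commutator ⟨c, hc, rfl⟩ y.2
  rw [h1, Subgroup.mem_bot, commutatorElement_def] at this
  apply Subtype.ext
  show (y : H) * (c : H) = (c : H) * (y : H)
  calc (y : H) * (c : H) = ((c : H) * (y : H) * (c : H)⁻¹ * (y : H)⁻¹)⁻¹ * ((c : H) * (y : H)) := by
        group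
    _ = (c : H) * (y : H) := by rw [this, inv_one, one_mul]

omit [Finite H] [Fact p.Prime] in
theorem perfect_top (_h : QCfg p Y Q S W L) (hD : ⁅Y, Y⁆ = Y) :
    ⁅(⊤ : Subgroup ↥Y), (⊤ : Subgroup ↥Y)⁆ = ⊤ := by
  apply Subgroup.map_injective Y.subtype_injective
  rw [Subgroup.map_commutator, map_subtype_top', hD]

omit [Finite H] [Fact p.Prime] in
theorem not_solvable (h : QCfg p Y Q S W L) (hD : ⁅Y, Y⁆ = Y) : ¬ Group.IsSolvable ↥Y := by
  intro hs
  haveI : Nontrivial ↥Y := (Subgroup.nontrivial_iff_ne_bot Y).2 h.Y_ne_bot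
  have h1 := Group.IsSolvable.commutator_lt_top_of_nontrivial ↥Y
  rw [commutator_def, h.perfect_top hD] at h1
  exact lt_irrefl _ h1

/-- In the perfect case `Y` is the product of its components. -/
theorem layer_eq_top (h : QCfg p Y Q S W L) (hD : ⁅Y, Y⁆ = Y) : Cfsg.layer ↥Y = ⊤ := by
  have hF : fittingSubgroup ↥Y ≠ ⊤ := by
    intro e
    apply h.not_solvable hD
    have h1 : Group.IsNilpotent ↥(fittingSubgroup ↥Y) := fittingSubgroup_isNilpotent
    rw [e] at h1
    haveI : Group.IsNilpotent ↥Y := (Group.isNilpotent_congr Subgroup.topEquiv).1 h1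
    infer_instance
  have hFc : fittingSubgroup ↥Y ≤ Subgroup.center ↥Y := h.char_le_center _ hF
  by_contra hE
  have hEc : Cfsg.layer ↥Y ≤ Subgroup.center ↥Y := h.char_le_center _ hE
  have hE0 : Cfsg.layer ↥Y = ⊥ := by
    rw [← layer_commutator_self, eq_bot_iff]
    rw [Subgroup.commutator_le]
    intro a ha b hb
    rw [Subgroup.mem_bot, commutatorElement_def]
    have := Subgroup.mem_center_iff.mp (hEc ha) b
    calc a * b * a⁻¹ * b⁻¹ = (b * a) * a⁻¹ * b⁻¹ := by rw [this]
      _ = 1 := by group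
  have hB := centralizer_generalizedFittingSubgroup_le (G := ↥Y)
  unfold generalizedFittingSubgroup at hB
  rw [hE0, bot_sup_eq] at hB
  apply hF
  rw [eq_top_iff]
  refine le_trans ?_ hB
  intro y _
  rw [Subgroup.mem_centralizer_iff]
  intro f hf
  exact (Subgroup.mem_center_iff.mp (hFc hf) y).symm

end QCfg

end Cfsg.Agent.Lib.H15.Iso
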