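import Mathlib
import Cfsg.Agent.Lib.H15.Iso5
import Cfsg.Agent.Lib.H1.CoprimeSylow
import Cfsg.Agent.Lib.H7.Kazarin

/-!
Isolated `p`-minimal subgroups, part B: in the perfect case `p` divides `|Y|` (via Kazarin's
theorem).
-/

set_option autoImplicit false

namespace Cfsg.Agent.Lib.H15.Iso

open Cfsg Cfsg.Agent.Lib.H14 Cfsg.Agent.Lib.H7
open scoped commutatorElement

universe u

/-- If `A` is normal and `A B = K` then `|K : B| = |A : A ∩ B|`. -/
theorem index_eq_relIndex_of_sup_eq_top {K : Type*} [Group K] [Finite K] (A B : Subgroup K)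
    [A.Normal] (h : A ⊔ B = ⊤) : B.index = B.relIndex A := by
  have e1 : Nat.card B * B.index = Nat.card K := B.card_mul_index
  have e2 : Nat.card A * A.index = Nat.card K := A.card_mul_index
  have e3 : A.index = A.relIndex B := by
    have := Subgroup.relIndex_sup_right B A
    rw [sup_comm, h, Subgroup.relIndex_top_right] at this
    exact this
  have e4 : Nat.card ↥(A ⊓ B) * A.relIndex B = Nat.card B := by
    have := Subgroup.relIndex_mul_relIndex ⊥ (A ⊓ B) B bot_le inf_le_right
    rw [Subgroup.relIndex_bot_left, Subgroup.relIndex_bot_left, Subgroup.inf_relIndex_right]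
      at this
    exact this
  have e5 : Nat.card ↥(A ⊓ B) * B.relIndex A = Nat.card A := by
    have := Subgroup.relIndex_mul_relIndex ⊥ (A ⊓ B) A bot_le inf_le_left
    rw [Subgroup.relIndex_bot_left, Subgroup.relIndex_bot_left, Subgroup.inf_relIndex_left]
      at this
    exact this
  have hpos : 0 < Nat.card ↥(A ⊓ B) * A.relIndex B := by
    rw [e4]; exact Nat.card_pos
  have key : Nat.card ↥(A ⊓ B) * A.relIndex B * B.index =
      Nat.card ↥(A ⊓ B) * A.relIndex B * B.relIndex A := by
    calc Nat.card ↥(A ⊓ B) * A.relIndex B * B.index = Nat.card B * B.index := by rw [e4]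
      _ = Nat.card K := e1
      _ = Nat.card A * A.index := e2.symm
      _ = (Nat.card ↥(A ⊓ B) * B.relIndex A) * A.relIndex B := by rw [e5, e3]
      _ = Nat.card ↥(A ⊓ B) * A.relIndex B * B.relIndex A := by ring
  exact Nat.eq_of_mul_eq_mul_left hpos key

variable {H : Type u} [Group H] [Finite H] {p : ℕ} [Fact p.Prime] {Y Q S W L : Subgroup H}

namespace QCfg

/-- If `p ∤ |Y|` then the index of `C_Y(Q)` in `Y` is a power of a single prime. -/
theorem exists_prime_relIndex (h : QCfg p Y Q S W L) (hpY : ¬ p ∣ Nat.card Y) :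
    ∃ t₀ : ℕ, t₀.Prime ∧ ∀ r : ℕ, r.Prime →
      r ∣ (Y ⊓ Subgroup.centralizer (Q : Set H)).relIndex Y → r = t₀ := by
  have hYn := h.hYn
  have hp : p.Prime := Fact.out
  have hcopS : (Nat.card S).Coprime (Nat.card Y) := by
    obtain ⟨a, ha⟩ := h.hS.exists_card_eq
    rw [ha]
    exact Nat.Coprime.pow_left a ((Nat.Prime.coprime_iff_not_dvd hp).2 hpY)
  have hSY : S ≤ Subgroup.normalizer (Y : Set H) := by
    rw [Subgroup.normalizer_eq_top]; exact le_top
  have hact : Cfsg.Agent.Lib.H1.CoprimeAction S Y :=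
    ⟨hSY, hcopS, Or.inl (by
      haveI := h.hS.isNilpotent
      infer_instance)⟩
  have hYS0 : Y ⊓ S = ⊥ := disjoint_iff.mp (Subgroup.disjoint_of_coprime_natCard hcopS.symm)
  have hW1 : Nat.card W ≠ 1 := by
    intro e
    exact h.W_ne_bot (Subgroup.card_eq_one.mp e)
  set t₀ := (Nat.card W).minFac with ht₀
  have ht₀p : t₀.Prime := Nat.minFac_prime hW1
  refine ⟨t₀, ht₀p, ?_⟩
  intro r hr hdvd
  by_contra hne
  haveI : Fact r.Prime := ⟨hr⟩
  obtain ⟨T, hT, hST⟩ := Cfsg.Agent.Lib.H1.coprime_exists_invariant_sylow hact r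
  have hTL : T ≤ L := by
    rcases h.hMB T hST with h1 | h1
    · exfalso
      have h2 : Nat.card W ∣ Nat.card T := Subgroup.card_dvd_of_le h1
      rw [hT.card_eq] at h2
      have h3 : t₀ ∣ r ^ (Nat.card Y).factorization r := (Nat.minFac_dvd _).trans h2
      have h4 : t₀ ∣ r := ht₀p.dvd_of_dvd_pow h3
      exact hne ((Nat.prime_dvd_prime_iff_eq ht₀p hr).mp h4).symm
    · exact h1
  have hTC : T ≤ Y ⊓ Subgroup.centralizer (Q : Set H) := by
    apply le_inf hT.le
    rw [← Subgroup.commutator_eq_bot_iff_le_centralizer, eq_bot_iff, ← hYS0]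
    apply le_inf
    · exact (Subgroup.le_normalizer_iff_commutator_le_left.mp (h.hQS.trans hST)).trans hT.le
    · rw [Subgroup.commutator_comm]
      exact (Subgroup.le_normalizer_iff_commutator_le_left.mp (hTL.trans h.hLQ)).trans h.hQS
  have h1 : (Y ⊓ Subgroup.centralizer (Q : Set H)).relIndex Y ∣ T.relIndex Y :=
    Subgroup.relIndex_dvd_of_le_left Y hTC
  have h2 : Nat.card T * T.relIndex Y = Nat.card Y := by
    have := Subgroup.relIndex_mul_relIndex ⊥ T Y bot_le hT.le
    rw [Subgroup.relIndex_bot_left, Subgroup.relIndex_bot_left] at this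
    exact this
  have h3 : r ∣ T.relIndex Y := hdvd.trans h1
  rw [hT.card_eq] at h2
  have h4 : T.relIndex Y = Nat.card Y / r ^ (Nat.card Y).factorization r :=
    (Nat.div_eq_of_eq_mul_right (pow_pos hr.pos _) h2.symm).symm
  rw [h4] at h3
  exact Nat.not_dvd_ordCompl hr Nat.card_pos.ne' h3

end QCfg

end Cfsg.Agent.Lib.H15.Iso
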