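import Mathlib
import Cfsg.Agent.Lib.H15.Iso6

/-!
Isolated `p`-minimal subgroups, part B: in the perfect case `p` divides `|Y|` (application of
Kazarin's theorem).
-/

set_option autoImplicit false

namespace Cfsg.Agent.Lib.H15.Iso

open Cfsg Cfsg.Agent.Lib.H14 Cfsg.Agent.Lib.H7
open scoped commutatorElement

universe u

variable {H : Type u} [Group H] [Finite H] {p : ℕ} [Fact p.Prime] {Y Q S W L : Subgroup H}

namespace QCfg

/-- Kazarin step: if `|Y : C_Y(Q)|` is a power of the prime `t₀` and `Y = E(Y)`, then `[y, q]` is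
central in `Y` for all `y ∈ Y`, `q ∈ Q`. -/
theorem comm_mem_centralizer (h : QCfg p Y Q S W L) (hlay : Cfsg.layer ↥Y = ⊤) (t₀ : ℕ)
    (ht₀ : t₀.Prime)
    (hidx : ∀ r : ℕ, r.Prime → r ∣ (Y ⊓ Subgroup.centralizer (Q : Set H)).relIndex Y → r = t₀)
    (q : H) (hq : q ∈ Q) (y : H) (hy : y ∈ Y) :
    ⁅y, q⁆ ∈ Subgroup.centralizer (Y : Set H) := by
  have hYn := h.hYn
  set C := Y ⊓ Subgroup.centralizer (Q : Set H) with hC
  set K := Y ⊔ Subgroup.zpowers q with hK
  have hYK : Y ≤ K := le_sup_left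
  have hqK : q ∈ K := le_sup_right (a := Y) (Subgroup.mem_zpowers q)
  set x : ↥K := ⟨q, hqK⟩ with hx
  set Y' := Y.subgroupOf K with hY'
  haveI hY'n : Y'.Normal := by rw [hY']; infer_instance
  set C' := Subgroup.centralizer ({x} : Set ↥K) with hC'
  -- `Y' C' = K`
  have hsup : Y' ⊔ C' = ⊤ := by
    rw [eq_top_iff]
    rintro ⟨k, hk⟩ _
    obtain ⟨a, ha, z, hz, rfl⟩ := Subgroup.mem_sup_of_normal_left.mp hk
    have hzK : z ∈ K := le_sup_right (a := Y) hz
    have e : (⟨a * z, hk⟩ : ↥K) = ⟨a, hYK ha⟩ * ⟨z, hzK⟩ := rfl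
    rw [e]
    apply Subgroup.mul_mem_sup
    · exact Subgroup.mem_subgroupOf.mpr ha
    · rw [hC', Subgroup.mem_centralizer_iff]
      intro w hw
      rw [Set.mem_singleton_iff] at hw
      subst hw
      apply Subtype.ext
      show q * z = z * q
      obtain ⟨n, rfl⟩ := Subgroup.mem_zpowers_iff.mp hz
      exact (Commute.self_zpow q n).eq
  have hidx1 : C'.index = C'.relIndex Y' := index_eq_relIndex_of_sup_eq_top Y' C' hsup
  have hCC' : C.subgroupOf K ≤ C' := by
    intro c hc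
    rw [Subgroup.mem_subgroupOf] at hc
    rw [hC', Subgroup.mem_centralizer_iff]
    intro w hw
    rw [Set.mem_singleton_iff] at hw
    subst hw
    apply Subtype.ext
    show q * (c : H) = (c : H) * q
    exact (Subgroup.mem_centralizer_iff.mp hc.2) q hq
  have hdvd : C'.index ∣ C.relIndex Y := by
    rw [hidx1, ← Subgroup.relIndex_subgroupOf (H := C) hYK]
    exact Subgroup.relIndex_dvd_of_le_left Y' hCC'
  have hpow : ∃ k : ℕ, C'.index = t₀ ^ k := by
    refine ⟨_, Nat.eq_prime_pow_of_unique_prime_dvd ?_ ?_⟩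
    · exact Subgroup.index_ne_zero_of_finite
    · intro d hd hdd
      exact hidx d hd (hdd.trans hdvd)
  obtain ⟨k, hk⟩ := hpow
  have hsol : Group.IsSolvable ↥(Subgroup.normalClosure ({x} : Set ↥K)) :=
    Kaz.isSolvable_normalClosure ht₀ _ x k rfl hk
  set Nx := Subgroup.normalClosure ({x} : Set ↥K) with hNx
  have hNxn : Nx.Normal := Subgroup.normalClosure_normal
  set M' : Subgroup ↥Y := (Nx.map K.subtype).subgroupOf Y with hM'
  haveI hM'n : M'.Normal := by
    constructor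
    intro m hm g
    rw [hM', Subgroup.mem_subgroupOf] at hm ⊢
    obtain ⟨n, hn, hnm⟩ := hm
    refine ⟨⟨g, hYK g.2⟩ * n * ⟨g, hYK g.2⟩⁻¹, hNxn.conj_mem n hn _, ?_⟩
    simp only [Subgroup.coe_subtype, Subgroup.coe_mul, InvMemClass.coe_inv] at hnm ⊢
    rw [hnm]
  have hsolM : Group.IsSolvable ↥M' := by
    haveI : Group.IsSolvable ↥(Nx.map K.subtype) :=
      Group.isSolvable_of_isSolvable_injective
        (f := (Nx.equivMapOfInjective K.subtype K.subtype_injective).symm.toMonoidHom)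
        (Nx.equivMapOfInjective K.subtype K.subtype_injective).symm.injective
    let f : ↥M' →* ↥(Nx.map K.subtype) :=
      { toFun := fun m => ⟨((m : ↥Y) : H), Subgroup.mem_subgroupOf.mp m.2⟩
        map_one' := rfl
        map_mul' := fun _ _ => rfl }
    have hf : Function.Injective f := by
      intro a b hab
      have h1 : ((f a : ↥(Nx.map K.subtype)) : H) = ((f b : ↥(Nx.map K.subtype)) : H) := by
        rw [hab]
      exact Subtype.ext (Subtype.ext h1)
    exact Group.isSolvable_of_isSolvable_injective hf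
  have hcen := layer_commutator_solvable (N := M') hsolM
  rw [hlay, Subgroup.commutator_comm, Subgroup.commutator_eq_bot_iff_le_centralizer] at hcen
  -- `[y, q]` lies in `M'`
  have hgY : ⁅y, q⁆ ∈ Y := by
    rw [commutatorElement_def]
    have := hYn.conj_mem y⁻¹ (Y.inv_mem hy) q
    have e : y * q * y⁻¹ * q⁻¹ = y * (q * y⁻¹ * q⁻¹) := by group
    rw [e]
    exact Y.mul_mem hy this
  have hgM : (⟨⁅y, q⁆, hgY⟩ : ↥Y) ∈ M' := by
    rw [hM', Subgroup.mem_subgroupOf]
    refine ⟨⟨y, hYK hy⟩ * x * ⟨y, hYK hy⟩⁻¹ * x⁻¹, ?_, ?_⟩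
    · apply Nx.mul_mem
      · exact hNxn.conj_mem x (Subgroup.subset_normalClosure (Set.mem_singleton x)) _
      · exact Nx.inv_mem (Subgroup.subset_normalClosure (Set.mem_singleton x))
    · simp only [Subgroup.coe_subtype, Subgroup.coe_mul, InvMemClass.coe_inv, hx,
        commutatorElement_def]
  have h2 := hcen hgM
  rw [Subgroup.mem_centralizer_iff]
  intro z hz
  have h3 := (Subgroup.mem_centralizer_iff.mp h2) ⟨z, hz⟩ (Subgroup.mem_top _)
  exact congrArg Subtype.val h3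

/-- In the perfect case `p` divides `|Y|`. -/
theorem p_dvd_card (h : QCfg p Y Q S W L) (hD : ⁅Y, Y⁆ = Y) : p ∣ Nat.card Y := by
  by_contra hpY
  obtain ⟨t₀, ht₀, hidx⟩ := h.exists_prime_relIndex hpY
  have hlay := h.layer_eq_top hD
  have h1 : ⁅Y, Q⁆ ≤ Subgroup.centralizer (Y : Set H) := by
    rw [Subgroup.commutator_le]
    intro y hy q hq
    exact h.comm_mem_centralizer hlay t₀ ht₀ hidx q hq y hy
  have h2 : ⁅⁅Y, Q⁆, Y⁆ = ⊥ := Subgroup.commutator_eq_bot_iff_le_centralizer.mpr h1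
  have h3 : ⁅⁅Q, Y⁆, Y⁆ = ⊥ := by rw [Subgroup.commutator_comm Q Y]; exact h2
  have h4 : ⁅⁅Y, Y⁆, Q⁆ = ⊥ := Subgroup.commutator_commutator_eq_bot_of_rotate h2 h3
  rw [hD] at h4
  exact h.hNQ h4

end QCfg

end Cfsg.Agent.Lib.H15.Iso
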