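import Mathlib
import Cfsg.Agent.Lib.H15.Iso7

/-!
Isolated `p`-minimal subgroups, part B: in the perfect case `S` is transitive on the components
of `Y`.
-/

set_option autoImplicit false

namespace Cfsg.Agent.Lib.H15.Iso

open Cfsg Cfsg.Agent.Lib.H14 Cfsg.Agent.Lib.H7
open scoped commutatorElement

universe u

variable {H : Type u} [Group H]

/-- A subgroup whose elements permute a family of subgroups normalizes its join. -/
theorem le_normalizer_sSup_of_cj_mem' (X : Subgroup H) (T : Set (Subgroup H))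
    (h : ∀ x ∈ X, ∀ A ∈ T, cj x A ∈ T) :
    X ≤ Subgroup.normalizer ((sSup T : Subgroup H) : Set H) := by
  have key : ∀ x ∈ X, cj x (sSup T) ≤ sSup T := by
    intro x hx
    rw [cj_le_iff]
    apply sSup_le
    intro A hA
    rw [← cj_le_iff]
    exact le_sSup (h x hx A hA)
  intro x hx
  rw [mem_normalizer_iff_cj_eq]
  apply le_antisymm (key x hx)
  have := key x⁻¹ (X.inv_mem hx)
  rw [cj_le_iff, inv_inv] at this
  exact this

variable [Finite H] {p : ℕ} [Fact p.Prime] {Y Q S W L : Subgroup H}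

namespace QCfg

omit [Finite H] [Fact p.Prime] in
/-- `Y` is generated by the components of `H` inside `Y`. -/
theorem le_sSup_components (h : QCfg p Y Q S W L) (hlay : Cfsg.layer ↥Y = ⊤) :
    Y ≤ sSup {K : Subgroup H | IsComponent K ∧ K ≤ Y} := by
  have h1 : Cfsg.layer ↥Y ≤ (sSup {K : Subgroup H | IsComponent K ∧ K ≤ Y}).comap Y.subtype := by
    unfold Cfsg.layer
    apply sSup_le
    intro K' hK'
    rw [← Subgroup.map_le_iff_le_comap]
    exact le_sSup ⟨isComponent_map_subtype h.hYn.isSubnormal hK', Subgroup.map_subtype_le _⟩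
  intro y hy
  have : (⟨y, hy⟩ : ↥Y) ∈ Cfsg.layer ↥Y := by rw [hlay]; trivial
  exact h1 this

omit [Fact p.Prime] in
/-- Components inside `Y` are normal in `Y`. -/
theorem le_normalizer_component (h : QCfg p Y Q S W L) (hlay : Cfsg.layer ↥Y = ⊤)
    (K : Subgroup H) (hK : IsComponent K) :
    Y ≤ Subgroup.normalizer (K : Set H) := by
  refine (h.le_sSup_components hlay).trans ?_
  apply sSup_le
  rintro K' ⟨hK', -⟩
  by_cases e : K' = K
  · rw [e]; exact Subgroup.le_normalizer
  · have := components_commute hK' hK e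
    rw [Subgroup.commutator_eq_bot_iff_le_centralizer] at this
    exact this.trans (Subgroup.centralizer_le_normalizer _)

omit [Fact p.Prime] in
/-- A normal subgroup `E ≤ L` of `Y` normalized by `S` contains no component. -/
theorem not_component_le (h : QCfg p Y Q S W L) (hlay : Cfsg.layer ↥Y = ⊤) (E : Subgroup H)
    (hEY : E ≤ Y) (hYE : Y ≤ Subgroup.normalizer (E : Set H))
    (hSE : S ≤ Subgroup.normalizer (E : Set H)) (hEL : E ≤ L) (K : Subgroup H)
    (hK : IsComponent K) (hKE : K ≤ E) : False := by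
  have hYn := h.hYn
  have hKY : K ≤ Y := hKE.trans hEY
  have h1 : ⁅E, Q⁆ = ⊥ := h.comm_Q_of_le_L E hEY hYE (h.hQS.trans hSE) hEL
  have hQK : ∀ q ∈ Q, ∀ k ∈ K, q * k = k * q := by
    intro q hq k hk
    rw [Subgroup.commutator_eq_bot_iff_le_centralizer] at h1
    exact ((Subgroup.mem_centralizer_iff.mp (h1 (hKE hk))) q hq)
  -- `Q` centralizes all conjugates of `K`
  have hconj : ∀ g : H, ∀ x ∈ cj g K, ∀ q ∈ Q, q * x = x * q := by
    intro g x hx q hq
    have hg : g ∈ Y ⊔ L := by rw [h.hYL]; trivial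
    obtain ⟨y, hy, l, hl, rfl⟩ := Subgroup.mem_sup_of_normal_left.mp hg
    have hlK : IsComponent (cj l K) := isComponent_map_conj l hK
    have e1 : cj (y * l) K = cj l K := by
      rw [← cj_cj]
      exact mem_normalizer_iff_cj_eq.mp (h.le_normalizer_component hlay _ hlK hy)
    rw [e1, mem_cj_iff] at hx
    have hq' : l⁻¹ * q * l ∈ Q := by
      have := (Subgroup.mem_normalizer_iff.mp (h.hLQ (L.inv_mem hl)) q).mp hq
      simpa using this
    have := hQK _ hq' _ hx
    calc q * x = l * ((l⁻¹ * q * l) * (l⁻¹ * x * l)) * l⁻¹ := by group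
      _ = l * ((l⁻¹ * x * l) * (l⁻¹ * q * l)) * l⁻¹ := by rw [this]
      _ = x * q := by group
  set N := Subgroup.normalClosure (K : Set H) with hN
  have hNn : N.Normal := Subgroup.normalClosure_normal
  have hNY : N ≤ Y := Subgroup.normalClosure_le_normal hKY
  have hKN : K ≤ N := Subgroup.le_normalClosure
  have hNQ : N ≤ Subgroup.centralizer (Q : Set H) := by
    rw [hN, Subgroup.normalClosure, Subgroup.closure_le]
    intro x hx
    rw [Group.mem_conjugatesOfSet_iff] at hx
    obtain ⟨k, hk, hkx⟩ := hx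
    rw [isConj_iff] at hkx
    obtain ⟨g, rfl⟩ := hkx
    rw [SetLike.mem_coe, Subgroup.mem_centralizer_iff]
    intro q hq
    exact hconj g _ (conj_mem_cj hk) q hq
  by_cases hNe : N = Y
  · apply h.hNQ
    rw [Subgroup.commutator_eq_bot_iff_le_centralizer, ← hNe]
    exact hNQ
  · obtain ⟨-, h2⟩ := h.KQ N hNn hNY hNe
    apply component_ne_bot hK
    rw [← component_commutator_self hK, eq_bot_iff, ← h2]
    exact Subgroup.commutator_mono hKN hKY

/-- In the perfect case, `S` permutes the components of `Y` transitively. -/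
theorem trans_components (h : QCfg p Y Q S W L) (hD : ⁅Y, Y⁆ = Y) (K₁ K₂ : Subgroup H)
    (hK₁ : IsComponent K₁) (h1 : K₁ ≤ Y) (hK₂ : IsComponent K₂) (h2 : K₂ ≤ Y) :
    ∃ s ∈ S, K₂ = K₁.map (MulAut.conj s).toMonoidHom := by
  have hYn := h.hYn
  have hlay := h.layer_eq_top hD
  by_contra hcon
  push Not at hcon
  set Ω : Set (Subgroup H) := {K | IsComponent K ∧ K ≤ Y} with hΩ
  set Δ₁ : Set (Subgroup H) := {K | ∃ s ∈ S, K = cj s K₁} with hΔ₁
  set Δ₂ : Set (Subgroup H) := {K | K ∈ Ω ∧ K ∉ Δ₁} with hΔ₂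
  have hcjY : ∀ g : H, cj g Y = Y := fun g =>
    mem_normalizer_iff_cj_eq.mp (by rw [Subgroup.normalizer_eq_top]; trivial)
  have hΩcj : ∀ g : H, ∀ K ∈ Ω, cj g K ∈ Ω := by
    rintro g K ⟨hK, hKY⟩
    refine ⟨isComponent_map_conj g hK, ?_⟩
    have := cj_mono g hKY
    rwa [hcjY] at this
  have hΔ₁Ω : Δ₁ ⊆ Ω := by
    rintro K ⟨s, -, rfl⟩
    exact hΩcj s K₁ ⟨hK₁, h1⟩
  have hK₁Δ : K₁ ∈ Δ₁ := ⟨1, S.one_mem, (cj_one K₁).symm⟩
  have hK₂Δ : K₂ ∈ Δ₂ := by
    refine ⟨⟨hK₂, h2⟩, ?_⟩
    rintro ⟨s, hs, e⟩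
    exact hcon s hs e
  set E₁ := sSup Δ₁ with hE₁
  set E₂ := sSup Δ₂ with hE₂
  have hE₁Y : E₁ ≤ Y := sSup_le (fun K hK => (hΔ₁Ω hK).2)
  have hE₂Y : E₂ ≤ Y := sSup_le (fun K hK => hK.1.2)
  have hsup : Y ≤ E₁ ⊔ E₂ := by
    refine (h.le_sSup_components hlay).trans ?_
    apply sSup_le
    intro K hK
    by_cases hK1 : K ∈ Δ₁
    · exact (le_sSup hK1).trans le_sup_left
    · exact (le_sSup (show K ∈ Δ₂ from ⟨hK, hK1⟩)).trans le_sup_right
  have hcomm : E₁ ≤ Subgroup.centralizer (E₂ : Set H) := by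
    apply sSup_le
    intro K hK
    rw [Subgroup.le_centralizer_iff]
    apply sSup_le
    intro K' hK'
    have hne : K' ≠ K := by
      rintro rfl
      exact hK'.2 hK
    have := components_commute hK'.1.1 (hΔ₁Ω hK).1 hne
    rwa [Subgroup.commutator_eq_bot_iff_le_centralizer] at this
  have hcomm' : E₂ ≤ Subgroup.centralizer (E₁ : Set H) := Subgroup.le_centralizer_iff.mp hcomm
  have hSE₁ : S ≤ Subgroup.normalizer (E₁ : Set H) := by
    apply le_normalizer_sSup_of_cj_mem'
    rintro x hx A ⟨s, hs, rfl⟩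
    exact ⟨x * s, S.mul_mem hx hs, cj_cj K₁ x s⟩
  have hSE₂ : S ≤ Subgroup.normalizer (E₂ : Set H) := by
    apply le_normalizer_sSup_of_cj_mem'
    rintro x hx A ⟨hA, hA1⟩
    refine ⟨hΩcj x A hA, ?_⟩
    rintro ⟨s, hs, e⟩
    apply hA1
    refine ⟨x⁻¹ * s, S.mul_mem (S.inv_mem hx) hs, ?_⟩
    rw [← cj_cj, ← e, cj_inv_cj]
  have hYE₁ : Y ≤ Subgroup.normalizer (E₁ : Set H) :=
    hsup.trans (sup_le Subgroup.le_normalizer
      (hcomm'.trans (Subgroup.centralizer_le_normalizer _)))
  have hYE₂ : Y ≤ Subgroup.normalizer (E₂ : Set H) :=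
    hsup.trans (sup_le (hcomm.trans (Subgroup.centralizer_le_normalizer _))
      Subgroup.le_normalizer)
  rcases h.hMB E₁ hSE₁ with hW1 | hL1
  · rcases h.hMB E₂ hSE₂ with hW2 | hL2
    · -- `W` is central in `Y`
      have hWZ : W ≤ Subgroup.centralizer (Y : Set H) := by
        intro w hw
        have ha : E₁ ≤ Subgroup.centralizer ({w} : Set H) := by
          intro e he
          rw [Subgroup.mem_centralizer_iff]
          intro x hx
          rw [Set.mem_singleton_iff] at hx
          subst hx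
          exact ((Subgroup.mem_centralizer_iff.mp (hcomm' (hW2 hw))) e he).symm
        have hb : E₂ ≤ Subgroup.centralizer ({w} : Set H) := by
          intro e he
          rw [Subgroup.mem_centralizer_iff]
          intro x hx
          rw [Set.mem_singleton_iff] at hx
          subst hx
          exact ((Subgroup.mem_centralizer_iff.mp (hcomm (hW1 hw))) e he).symm
        rw [Subgroup.mem_centralizer_iff]
        intro y hy
        have := (sup_le ha hb) (hsup hy)
        exact ((Subgroup.mem_centralizer_iff.mp this) w (Set.mem_singleton w)).symm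
      have hZn : (Subgroup.centralizer (Y : Set H)).Normal := inferInstance
      have hYZ : Y ≤ Subgroup.centralizer (Y : Set H) :=
        h.hYW.trans (Subgroup.normalClosure_le_normal hWZ)
      apply h.Y_ne_bot
      rw [← hD, Subgroup.commutator_eq_bot_iff_le_centralizer]
      exact hYZ
    · exact h.not_component_le hlay E₂ hE₂Y hYE₂ hSE₂ hL2 K₂ hK₂ (le_sSup hK₂Δ)
  · exact h.not_component_le hlay E₁ hE₁Y hYE₁ hSE₁ hL1 K₁ hK₁ (le_sSup hK₁Δ)

end QCfg

end Cfsg.Agent.Lib.H15.Iso
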