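import Mathlib
import Cfsg.Agent.Lib.H15.Iso2
import Cfsg.Agent.Lib.H15.Iso8
import Cfsg.Agent.Lib.H7.Kazarin2

/-!
Isolated `p`-minimal subgroups, part C: transfer of the configuration to `G / O_p(G)`.
-/

set_option autoImplicit false

namespace Cfsg.Agent.Lib.H15.Iso

open Cfsg Cfsg.Agent.Lib.H14 Cfsg.Agent.Lib.H7
open scoped commutatorElement

variable {G : Type*} [Group G] [Finite G] {p : ℕ} [Fact p.Prime]

namespace Cfg

variable {S : Sylow p G} {P L : Subgroup G}

/-- The quotient configuration in `G / O_p(G)`. -/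
theorem qcfg (h : Cfg S P L) (Y : Subgroup G)
    (hY : Y = Subgroup.normalClosure ((presOf p P : Subgroup G) : Set G))
    [hn : (Cfsg.pCore p G).Normal] :
    QCfg p (Y.map (QuotientGroup.mk' (Cfsg.pCore p G)))
      ((Cfsg.pCoreOf p L).map (QuotientGroup.mk' (Cfsg.pCore p G)))
      ((S : Subgroup G).map (QuotientGroup.mk' (Cfsg.pCore p G)))
      ((presOf p P).map (QuotientGroup.mk' (Cfsg.pCore p G)))
      (L.map (QuotientGroup.mk' (Cfsg.pCore p G))) := by
  set R := Cfsg.pCore p G with hR
  set π := QuotientGroup.mk' R with hπ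
  have hπs : Function.Surjective π := QuotientGroup.mk'_surjective R
  set W := presOf p P with hW
  set Q := Cfsg.pCoreOf p L with hQ
  have hWY : W ≤ Y := by rw [hY]; exact Subgroup.le_normalClosure
  haveI hYn : Y.Normal := by rw [hY]; exact Subgroup.normalClosure_normal
  have hker : π.ker = R := QuotientGroup.ker_mk' R
  refine
    { hYn := Subgroup.Normal.map hYn π hπs
      hS := S.2.map π
      hQS := Subgroup.map_mono h.Q_le_S
      hSL := Subgroup.map_mono h.hSL
      hLQ := (Subgroup.map_mono h.L_norm_Q).trans (Subgroup.le_normalizer_map π)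
      hYL := by
        rw [← Subgroup.map_sup, h.sup_eq_top Y hWY, Subgroup.map_top_of_surjective π hπs]
      hWY := Subgroup.map_mono hWY
      hYW := ?_
      hMB := ?_
      hOp := Kaz.pCore_quotient_pCore_eq_bot p
      hNQ := ?_
      hgen := ?_
      hE := ?_ }
  · have := Subgroup.map_normalClosure ((W : Subgroup G) : Set G) π hπs
    rw [← hY] at this
    rw [this, Subgroup.coe_map]
  · intro T hT
    have hST : (S : Subgroup G) ≤ Subgroup.normalizer ((T.comap π : Subgroup G) : Set G) := by
      intro s hs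
      have h1 : π s ∈ Subgroup.normalizer (T : Set (G ⧸ R)) := hT ⟨s, hs, rfl⟩
      rw [Subgroup.mem_normalizer_iff] at h1 ⊢
      intro x
      rw [Subgroup.mem_comap, Subgroup.mem_comap, map_mul, map_mul, map_inv]
      exact h1 (π x)
    rcases h.hMBT (T.comap π) hST with h1 | h1
    · left
      exact Subgroup.map_le_iff_le_comap.mpr h1
    · right
      have := Subgroup.map_mono (f := π) h1
      rwa [Subgroup.map_comap_eq_self_of_surjective hπs] at this
  · intro hc
    rw [← Subgroup.map_commutator, Subgroup.map_eq_bot_iff, hker] at hc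
    apply h.hNQ
    exact (Subgroup.commutator_mono hWY le_rfl).trans (hc.trans h.R_le_OP)
  · have h1 := Subgroup.map_mono (f := π) (h.gen Y hWY)
    rw [Subgroup.map_sup] at h1
    exact h1.trans (sup_le_sup_left (Subgroup.map_inf_le Y L π) _)
  · have h1 : Y ≤ Subgroup.normalClosure ((Q : Subgroup G) : Set G) := by
      rw [hY]
      exact Subgroup.normalClosure_le_normal h.W_le_normalClosure_Q
    have h2 := Subgroup.map_mono (f := π) h1
    rwa [Subgroup.map_normalClosure _ π hπs, ← Subgroup.coe_map] at h2

end Cfg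

end Cfsg.Agent.Lib.H15.Iso
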