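import Mathlib
import Cfsg.Agent.Lib.H15.Iso9

/-!
Isolated `p`-minimal subgroups, part C: the comparison between `Y / O_p(Y)` and the image of `Y`
in `G / O_p(G)`.
-/

set_option autoImplicit false

namespace Cfsg.Agent.Lib.H15.Iso

open Cfsg Cfsg.Agent.Lib.H14 Cfsg.Agent.Lib.H7
open scoped commutatorElement

variable {G : Type*} [Group G] {p : ℕ}

section phi

variable (Y : Subgroup G) [hYn : Y.Normal] [hn : (Cfsg.pCore p G).Normal]
  [hnY : (Cfsg.pCore p ↥Y).Normal]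

omit hn hnY in
/-- `O_p(Y) = Y ∩ O_p(G)` for a normal subgroup `Y`. -/
theorem mem_pCore_iff (y : ↥Y) : y ∈ Cfsg.pCore p ↥Y ↔ (y : G) ∈ Cfsg.pCore p G := by
  constructor
  · intro hy
    apply pCoreOf_le_of_isSubnormal p Y hYn.isSubnormal
    exact ⟨y, hy, rfl⟩
  · intro hy
    have hRn : (Cfsg.pCore p G).Normal := Cfsg.Agent.Lib.H27.pCore_normal'
    have h1 : Cfsg.pCore p G ⊓ Y ≤ Cfsg.pCoreOf p Y := by
      apply le_pCoreOf p Y _ inf_le_right
      · haveI : (Cfsg.pCore p G ⊓ Y).Normal := inferInstance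
        rw [Subgroup.normalizer_eq_top]; exact le_top
      · exact Cfsg.Agent.Lib.H27.pCore_isPGroup.to_le inf_le_left
    obtain ⟨z, hz, hzy⟩ := h1 (Subgroup.mem_inf.2 ⟨hy, y.2⟩)
    have : z = y := Subtype.ext hzy
    rwa [← this]

/-- The natural map `Y / O_p(Y) → G / O_p(G)`. -/
def phi : ↥Y ⧸ Cfsg.pCore p ↥Y →* G ⧸ Cfsg.pCore p G :=
  QuotientGroup.lift (Cfsg.pCore p ↥Y) ((QuotientGroup.mk' (Cfsg.pCore p G)).comp Y.subtype)
    (by
      intro y hy
      rw [MonoidHom.mem_ker, MonoidHom.comp_apply, QuotientGroup.mk'_apply,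
        QuotientGroup.eq_one_iff]
      exact (mem_pCore_iff Y y).mp hy)

theorem phi_mk (y : ↥Y) :
    phi (p := p) Y (QuotientGroup.mk y) = QuotientGroup.mk' (Cfsg.pCore p G) (y : G) := rfl

theorem phi_injective : Function.Injective (phi (p := p) Y) := by
  rw [injective_iff_map_eq_one]
  intro a ha
  obtain ⟨y, rfl⟩ := QuotientGroup.mk_surjective a
  rw [phi_mk, QuotientGroup.mk'_apply, QuotientGroup.eq_one_iff] at ha
  exact (QuotientGroup.eq_one_iff y).mpr ((mem_pCore_iff Y y).mpr ha)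

theorem phi_range :
    (phi (p := p) Y).range = Y.map (QuotientGroup.mk' (Cfsg.pCore p G)) := by
  ext x
  constructor
  · rintro ⟨a, rfl⟩
    obtain ⟨y, rfl⟩ := QuotientGroup.mk_surjective a
    exact ⟨y, y.2, rfl⟩
  · rintro ⟨y, hy, rfl⟩
    exact ⟨QuotientGroup.mk (⟨y, hy⟩ : ↥Y), rfl⟩

/-- The preimage in `G` of a subgroup of `Y / O_p(Y)`, computed through `G / O_p(G)`. -/
theorem pre_eq (K : Subgroup (↥Y ⧸ Cfsg.pCore p ↥Y)) :
    (K.comap (QuotientGroup.mk' (Cfsg.pCore p ↥Y))).map Y.subtype =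
      (K.map (phi (p := p) Y)).comap (QuotientGroup.mk' (Cfsg.pCore p G)) ⊓ Y := by
  ext x
  constructor
  · rintro ⟨y, hy, rfl⟩
    refine Subgroup.mem_inf.2 ⟨?_, y.2⟩
    rw [Subgroup.mem_comap]
    exact ⟨QuotientGroup.mk y, hy, rfl⟩
  · intro hx
    obtain ⟨h1, h2⟩ := Subgroup.mem_inf.1 hx
    rw [Subgroup.mem_comap] at h1
    obtain ⟨k, hk, hkx⟩ := h1
    have e : phi (p := p) Y (QuotientGroup.mk (⟨x, h2⟩ : ↥Y)) = phi (p := p) Y k := by
      rw [hkx]; rfl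
    have e2 := phi_injective Y e
    refine ⟨⟨x, h2⟩, ?_, rfl⟩
    rw [SetLike.mem_coe, Subgroup.mem_comap, QuotientGroup.mk'_apply, e2]
    exact hk

/-- `Y / O_p(Y)` is isomorphic to the image of `Y` in `G / O_p(G)`. -/
noncomputable def quotEquiv :
    ↥Y ⧸ Cfsg.pCore p ↥Y ≃* ↥(Y.map (QuotientGroup.mk' (Cfsg.pCore p G))) :=
  (MonoidHom.ofInjective (phi_injective (p := p) Y)).trans (MulEquiv.subgroupCongr (phi_range Y))

theorem quotEquiv_apply (a : ↥Y ⧸ Cfsg.pCore p ↥Y) :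
    ((quotEquiv (p := p) Y a : ↥(Y.map (QuotientGroup.mk' (Cfsg.pCore p G)))) :
      G ⧸ Cfsg.pCore p G) = phi (p := p) Y a := rfl

theorem map_quotEquiv (K : Subgroup (↥Y ⧸ Cfsg.pCore p ↥Y)) :
    (K.map (quotEquiv (p := p) Y).toMonoidHom).map
      (Y.map (QuotientGroup.mk' (Cfsg.pCore p G))).subtype = K.map (phi (p := p) Y) := by
  rw [Subgroup.map_map]
  rfl

/-- Components of `Y / O_p(Y)` give components of `G / O_p(G)` inside the image of `Y`. -/
theorem isComponent_map_phi (K : Subgroup (↥Y ⧸ Cfsg.pCore p ↥Y)) (hK : IsComponent K) :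
    IsComponent (K.map (phi (p := p) Y)) ∧
      K.map (phi (p := p) Y) ≤ Y.map (QuotientGroup.mk' (Cfsg.pCore p G)) := by
  rw [← map_quotEquiv]
  refine ⟨?_, Subgroup.map_subtype_le _⟩
  have hYn' : (Y.map (QuotientGroup.mk' (Cfsg.pCore p G))).Normal :=
    Subgroup.Normal.map hYn _ (QuotientGroup.mk'_surjective _)
  exact isComponent_map_subtype hYn'.isSubnormal (isComponent_map_equiv (quotEquiv Y) hK)

end phi

end Cfsg.Agent.Lib.H15.Iso
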