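import Mathlib
import Cfsg.Agent.Lib.H15.Iso3
import Cfsg.Agent.Lib.H1.CoprimeAction
import Cfsg.Agent.Lib.H1.CoprimeAbelian

/-!
Isolated `p`-minimal subgroups, part B: the non-perfect case (`Y/O_p(Y)` is a `t`-group of class
at most two and `Y = O^p(P)`).
-/

set_option autoImplicit false

namespace Cfsg.Agent.Lib.H15.Iso

open Cfsg Cfsg.Agent.Lib.H14
open scoped commutatorElement

universe u

/-- A subgroup containing all Sylow subgroups is the whole group. -/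
theorem eq_top_of_sylow_le {K : Type*} [Group K] [Finite K] (X : Subgroup K)
    (h : ∀ (r : ℕ) [Fact r.Prime] (T : Sylow r K), (T : Subgroup K) ≤ X) : X = ⊤ := by
  rw [← Subgroup.index_eq_one]
  by_contra hne
  obtain ⟨r, hr, hdvd⟩ := Nat.exists_prime_and_dvd hne
  haveI : Fact r.Prime := ⟨hr⟩
  obtain ⟨T⟩ : Nonempty (Sylow r K) := inferInstance
  have h1 : X.index ∣ (T : Subgroup K).index := Subgroup.index_dvd_of_le (h r T)
  exact T.not_dvd_index (hdvd.trans h1)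

variable {H : Type u} [Group H] [Finite H] {p : ℕ} [Fact p.Prime] {Y Q S W L : Subgroup H}

namespace QCfg

/-- The non-perfect case. -/
theorem case1 (h : QCfg p Y Q S W L) (hD : ⁅Y, Y⁆ ≠ Y) :
    Y = W ∧ Y.lowerCentralSeries 2 = ⊥ ∧ ∃ t : ℕ, t.Prime ∧ t ≠ p ∧ IsPGroup t Y := by
  have hYn := h.hYn
  set D := ⁅Y, Y⁆ with hDdef
  have hDn : D.Normal := Subgroup.commutator_normal Y Y
  have hDY : D ≤ Y := Subgroup.commutator_le_left Y Y
  obtain ⟨hDQ, hDYc⟩ := h.KQ D hDn hDY hD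
  have hlcs : Y.lowerCentralSeries 2 = ⊥ := hDYc
  haveI hnil : Group.IsNilpotent ↥Y := Subgroup.isNilpotent_of_lowerCentralSeries_eq_bot hlcs
  -- `Y` is a `t`-group
  have ht : ∃ t : ℕ, t.Prime ∧ IsPGroup t Y := by
    by_contra hcon
    push Not at hcon
    apply h.hNQ
    rw [Subgroup.commutator_eq_bot_iff_le_centralizer]
    have htop : (Subgroup.centralizer (Q : Set H)).subgroupOf Y = ⊤ := by
      apply eq_top_of_sylow_le
      intro r hr T
      have hTn : (T : Subgroup ↥Y).Normal := inferInstance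
      haveI hTc : (T : Subgroup ↥Y).Characteristic := Sylow.characteristic_of_normal T hTn
      have hN : ((T : Subgroup ↥Y).map Y.subtype).Normal :=
        ConjAct.normal_of_characteristic_of_normal
      have hne : (T : Subgroup ↥Y).map Y.subtype ≠ Y := by
        intro e
        apply hcon r hr.out
        have hT : (T : Subgroup ↥Y) = ⊤ := by
          rw [eq_top_iff]
          intro x _
          have hx : (x : H) ∈ (T : Subgroup ↥Y).map Y.subtype := by rw [e]; exact x.2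
          obtain ⟨y, hy, hyx⟩ := hx
          have : y = x := Subtype.ext hyx
          rwa [← this]
        have := T.2
        rw [hT] at this
        exact IsPGroup.of_equiv this Subgroup.topEquiv
      obtain ⟨h1, -⟩ := h.KQ _ hN (Subgroup.map_subtype_le _) hne
      rw [Subgroup.commutator_eq_bot_iff_le_centralizer] at h1
      intro x hx
      rw [Subgroup.mem_subgroupOf]
      exact h1 ⟨x, hx, rfl⟩
    intro y hy
    have : (⟨y, hy⟩ : ↥Y) ∈ (Subgroup.centralizer (Q : Set H)).subgroupOf Y := by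
      rw [htop]; trivial
    exact Subgroup.mem_subgroupOf.mp this
  obtain ⟨t, htp, htY⟩ := ht
  haveI : Fact t.Prime := ⟨htp⟩
  have htne : t ≠ p := by
    rintro rfl
    exact h.Y_ne_bot (h.trivP Y hYn.isSubnormal htY)
  -- coprime action of `Q` on `Y`
  have hcopc : (Nat.card Q).Coprime (Nat.card Y) := by
    obtain ⟨a, ha⟩ := h.Q_isPGroup.exists_card_eq
    obtain ⟨b, hb⟩ := htY.exists_card_eq
    rw [ha, hb]
    exact Nat.Coprime.pow _ _ ((Nat.coprime_primes Fact.out htp).2 (Ne.symm htne))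
  have hQY : Q ≤ Subgroup.normalizer (Y : Set H) := by
    rw [Subgroup.normalizer_eq_top]; exact le_top
  have hcop : Cfsg.Agent.Lib.H1.CoprimeAction Q Y :=
    ⟨hQY, hcopc, Or.inl (by
      haveI := h.Q_isPGroup.isNilpotent
      infer_instance)⟩
  have hYQ0 : Y ⊓ Q = ⊥ :=
    disjoint_iff.mp (Subgroup.disjoint_of_coprime_natCard hcopc.symm)
  -- `Y = [Y, Q] D`
  set N₁ := ⁅Y, Q⁆ ⊔ D with hN₁
  have hYQY : ⁅Y, Q⁆ ≤ Y := Subgroup.commutator_le_left Y Q
  have hN₁Y : N₁ ≤ Y := sup_le hYQY hDY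
  have hN₁n : N₁.Normal := by
    rw [← Subgroup.normalizer_eq_top_iff, eq_top_iff, ← h.hYL]
    apply sup_le
    · intro y hy
      apply mem_nzr_of_map_cj_le_fin
      rintro _ ⟨x, hx, rfl⟩
      have e : (MulAut.conj y).toMonoidHom x = ⁅y, x⁆ * x := by
        simp [commutatorElement_def, MulAut.conj_apply]
      rw [e]
      exact N₁.mul_mem (le_sup_right (a := ⁅Y, Q⁆)
        (Subgroup.commutator_mem_commutator hy (hN₁Y hx))) hx
    · apply le_normalizer_sup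
      · apply le_normalizer_commutator
        · rw [Subgroup.normalizer_eq_top]; exact le_top
        · exact h.hLQ
      · rw [Subgroup.normalizer_eq_top]; exact le_top
  have hN₁eq : N₁ = Y := by
    by_contra hne
    obtain ⟨h1, -⟩ := h.KQ N₁ hN₁n hN₁Y hne
    apply h.hNQ
    rw [← Cfsg.Agent.Lib.H1.coprime_commutator_commutator hcop, eq_bot_iff, ← h1]
    exact Subgroup.commutator_mono le_sup_left le_rfl
  -- `Y ∩ L` centralizes `Q`
  have hC : Y ⊓ L ≤ Subgroup.centralizer (Q : Set H) := by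
    rw [← Subgroup.commutator_eq_bot_iff_le_centralizer, eq_bot_iff, ← hYQ0]
    apply le_inf
    · exact (Subgroup.commutator_mono inf_le_left le_rfl).trans hYQY
    · rw [Subgroup.commutator_comm]
      exact Subgroup.le_normalizer_iff_commutator_le_left.mp (inf_le_right.trans h.hLQ)
  -- pass to `H / D`
  have hCD : Y ⊓ L ≤ D := by
    let ρ := QuotientGroup.mk' D
    have hρs : Function.Surjective ρ := QuotientGroup.mk'_surjective D
    set Y' := Y.map ρ with hY'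
    set Q' := Q.map ρ with hQ'
    haveI : IsMulCommutative ↥Y' := by
      refine ⟨⟨?_⟩⟩
      rintro ⟨_, a, ha, rfl⟩ ⟨_, b, hb, rfl⟩
      apply Subtype.ext
      show ρ a * ρ b = ρ b * ρ a
      have hab : ⁅a, b⁆ ∈ D := Subgroup.commutator_mem_commutator ha hb
      have : ρ ⁅a, b⁆ = 1 := (QuotientGroup.eq_one_iff _).2 hab
      rw [commutatorElement_def, map_mul, map_mul, map_mul, map_inv, map_inv] at this
      calc ρ a * ρ b = (ρ a * ρ b * (ρ a)⁻¹ * (ρ b)⁻¹) * (ρ b * ρ a) := by group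
        _ = ρ b * ρ a := by rw [this, one_mul]
    have hQ'Y' : Q' ≤ Subgroup.normalizer (Y' : Set (H ⧸ D)) := by
      haveI : Y'.Normal := Subgroup.Normal.map hYn ρ hρs
      rw [Subgroup.normalizer_eq_top]; exact le_top
    have hcop' : (Nat.card Q').Coprime (Nat.card Y') :=
      Nat.Coprime.coprime_dvd_left (Subgroup.card_map_dvd Q ρ)
        (Nat.Coprime.coprime_dvd_right (Subgroup.card_map_dvd Y ρ) hcopc)
    have h1 := Cfsg.Agent.Lib.H1.coprime_abelian_centralizer_inf_commutator hQ'Y' hcop'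
    have h2 : ⁅Y', Q'⁆ = Y' := by
      rw [hY', hQ', ← Subgroup.map_commutator]
      have : (⁅Y, Q⁆).map ρ = N₁.map ρ := by
        rw [hN₁, Subgroup.map_sup]
        have : D.map ρ = ⊥ := by
          rw [Subgroup.map_eq_bot_iff, QuotientGroup.ker_mk']
        rw [this, sup_bot_eq]
      rw [this, hN₁eq]
    rw [h2] at h1
    intro c hc
    have hc1 : ρ c ∈ Y' := ⟨c, hc.1, rfl⟩
    have hc2 : ρ c ∈ Subgroup.centralizer (Q' : Set (H ⧸ D)) := by
      rw [Subgroup.mem_centralizer_iff]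
      rintro _ ⟨q, hq, rfl⟩
      have := (Subgroup.mem_centralizer_iff.mp (hC hc)) q hq
      show ρ q * ρ c = ρ c * ρ q
      rw [← map_mul, ← map_mul, this]
    have : ρ c ∈ ((Y' ⊓ Subgroup.centralizer (Q' : Set (H ⧸ D))) ⊓ Y' : Subgroup (H ⧸ D)) :=
      Subgroup.mem_inf.2 ⟨Subgroup.mem_inf.2 ⟨hc1, hc2⟩, hc1⟩
    rw [h1, Subgroup.mem_bot] at this
    exact (QuotientGroup.eq_one_iff c).mp this
  -- `Y = W D`, hence `Y = W`
  have hYWD : Y ≤ W ⊔ D := h.hgen.trans (sup_le_sup_left hCD _)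
  have hDc : ∀ d ∈ D, ∀ y ∈ Y, d * y = y * d := by
    intro d hd y hy
    have : ⁅d, y⁆ ∈ ⁅D, Y⁆ := Subgroup.commutator_mem_commutator hd hy
    rw [hDYc, Subgroup.mem_bot, commutatorElement_def] at this
    calc d * y = (d * y * d⁻¹ * y⁻¹) * (y * d) := by group
      _ = y * d := by rw [this, one_mul]
  have hDW : D ≤ W := by
    rw [hDdef, Subgroup.commutator_le]
    intro a ha b hb
    obtain ⟨w₁, hw₁, d₁, hd₁, rfl⟩ := Subgroup.mem_sup_of_normal_right.mp (hYWD ha)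
    obtain ⟨w₂, hw₂, d₂, hd₂, rfl⟩ := Subgroup.mem_sup_of_normal_right.mp (hYWD hb)
    have hw₁Y := h.hWY hw₁
    have hw₂Y := h.hWY hw₂
    have e : ⁅w₁ * d₁, w₂ * d₂⁆ = ⁅w₁, w₂⁆ := by
      have c1 := hDc d₁ hd₁ w₂ hw₂Y
      have c2 := hDc d₁ hd₁ d₂ (hDY hd₂)
      have c3 := hDc d₂ hd₂ w₁ hw₁Y
      have c4 := hDc d₁ hd₁ w₁ hw₁Y
      have c5 := hDc d₂ hd₂ w₂ hw₂Y
      rw [commutatorElement_def, commutatorElement_def]
      calc w₁ * d₁ * (w₂ * d₂) * (w₁ * d₁)⁻¹ * (w₂ * d₂)⁻¹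
          = w₁ * (d₁ * w₂) * d₂ * d₁⁻¹ * w₁⁻¹ * d₂⁻¹ * w₂⁻¹ := by group
        _ = w₁ * (w₂ * d₁) * d₂ * d₁⁻¹ * w₁⁻¹ * d₂⁻¹ * w₂⁻¹ := by rw [c1]
        _ = w₁ * w₂ * (d₁ * d₂) * d₁⁻¹ * w₁⁻¹ * d₂⁻¹ * w₂⁻¹ := by group
        _ = w₁ * w₂ * (d₂ * d₁) * d₁⁻¹ * w₁⁻¹ * d₂⁻¹ * w₂⁻¹ := by rw [c2]
        _ = w₁ * w₂ * (d₂ * w₁⁻¹) * d₂⁻¹ * w₂⁻¹ := by group
        _ = w₁ * w₂ * (w₁⁻¹ * d₂) * d₂⁻¹ * w₂⁻¹ := by
            have : d₂ * w₁⁻¹ = w₁⁻¹ * d₂ := by
              calc d₂ * w₁⁻¹ = w₁⁻¹ * (w₁ * d₂) * w₁⁻¹ := by group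
                _ = w₁⁻¹ * (d₂ * w₁) * w₁⁻¹ := by rw [c3]
                _ = w₁⁻¹ * d₂ := by group
            rw [this]
        _ = w₁ * w₂ * w₁⁻¹ * w₂⁻¹ := by group
    rw [e, commutatorElement_def]
    exact W.mul_mem (W.mul_mem (W.mul_mem hw₁ hw₂) (W.inv_mem hw₁)) (W.inv_mem hw₂)
  refine ⟨le_antisymm (hYWD.trans (sup_le le_rfl hDW)) h.hWY, hlcs, t, htp, htne, htY⟩

end QCfg

end Cfsg.Agent.Lib.H15.Iso
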