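import Mathlib
import Cfsg.Agent.Lib.H15.Iso4
import Cfsg.Agent.Lib.H15.Iso10

/-!
Isolated `p`-minimal subgroups: the two main theorems (Meierfrankenfeld--Parker--Rowley).
-/

set_option autoImplicit false

namespace Cfsg.Agent.Lib.H15.Iso

open Cfsg Cfsg.Agent.Lib.H14 Cfsg.Agent.Lib.H7
open scoped commutatorElement

/-- Preimages commute with conjugation. -/
theorem comap_cj {G G' : Type*} [Group G] [Group G'] (f : G →* G') (s : G) (A : Subgroup G') :
    (cj (f s) A).comap f = cj s (A.comap f) := by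
  ext x
  rw [Subgroup.mem_comap, mem_cj_iff, mem_cj_iff, Subgroup.mem_comap, map_mul, map_mul, map_inv]

variable {G : Type*} [Group G] [Finite G] {p : ℕ} [Fact p.Prime]

/-- The main structure theorem for isolated `p`-minimal subgroups. -/
theorem main44 (S : Sylow p G) (P : Subgroup G) (hSP : (S : Subgroup G) ≤ P)
    (L Y : Subgroup G)
    (hL : L = Subgroup.normalizer ((S : Subgroup G) : Set G) ⊔ ⨆ P' : {P' : Subgroup G // (S : Subgroup G) ≤ P' ∧ Cfsg.IsPMinimal p ↥P' ∧ P' ≠ P}, (P' : Subgroup G))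
    (hiso : ¬ (Cfsg.pCore p ↥L).map L.subtype ≤ (Cfsg.pCore p ↥P).map P.subtype)
    (hY : Y = Subgroup.normalClosure (((Cfsg.pResidual p ↥P).map P.subtype : Subgroup G) : Set G)) :
    Y ⊔ L = ⊤ ∧
    ¬ (Cfsg.pCore p ↥((Subgroup.normalizer ((S : Subgroup G) : Set G) ⊓ (Y ⊔ (S : Subgroup G))) ⊔
          ⨆ P' : {P' : Subgroup G // (S : Subgroup G) ≤ P' ∧ P' ≤ Y ⊔ (S : Subgroup G) ∧ Cfsg.IsPMinimal p ↥P' ∧ P' ≠ P}, (P' : Subgroup G))).map
        (Subgroup.subtype _) ≤ (Cfsg.pCore p ↥P).map P.subtype ∧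
    ((Cfsg.pResidual p ↥P).map P.subtype = Y ∨
     ∃ _ : (Cfsg.pCore p ↥Y).Normal,
       p ∣ Nat.card (↥Y ⧸ Cfsg.pCore p ↥Y) ∧ Cfsg.layer (↥Y ⧸ Cfsg.pCore p ↥Y) = ⊤ ∧
       ∀ K₁ K₂ : Subgroup (↥Y ⧸ Cfsg.pCore p ↥Y), Cfsg.IsComponent K₁ → Cfsg.IsComponent K₂ →
         ∃ s ∈ (S : Subgroup G), ((K₂.comap (QuotientGroup.mk' (Cfsg.pCore p ↥Y))).map Y.subtype) = (((K₁.comap (QuotientGroup.mk' (Cfsg.pCore p ↥Y))).map Y.subtype)).map (MulAut.conj s).toMonoidHom) := by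
  have hc := cfg_of_def S P L hSP hL hiso
  have hW : (Cfsg.pResidual p ↥P).map P.subtype = presOf p P := pResidual_map_eq p P
  rw [hW] at hY ⊢
  haveI hRn : (Cfsg.pCore p G).Normal := Cfsg.Agent.Lib.H27.pCore_normal'
  haveI hYn : Y.Normal := by rw [hY]; exact Subgroup.normalClosure_normal
  haveI hnY : (Cfsg.pCore p ↥Y).Normal := Cfsg.Agent.Lib.H27.pCore_normal'
  have hWY : presOf p P ≤ Y := by rw [hY]; exact Subgroup.le_normalClosure
  have hq := hc.qcfg Y hY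
  refine ⟨hc.sup_eq_top Y hWY, hc.isolated_sub Y, ?_⟩
  set π := QuotientGroup.mk' (Cfsg.pCore p G) with hπ
  by_cases hD : ⁅Y.map π, Y.map π⁆ = Y.map π
  · right
    refine ⟨hnY, ?_, ?_, ?_⟩
    · have := hq.p_dvd_card hD
      rwa [← Nat.card_congr (quotEquiv (p := p) Y).toEquiv] at this
    · have h1 := hq.layer_eq_top hD
      have h2 := layer_map_equiv (quotEquiv (p := p) Y)
      rw [h1] at h2
      rw [eq_top_iff]
      intro x _
      have : (quotEquiv (p := p) Y) x ∈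
          (Cfsg.layer (↥Y ⧸ Cfsg.pCore p ↥Y)).map (quotEquiv (p := p) Y).toMonoidHom := by
        rw [h2]; trivial
      obtain ⟨l, hl, hlx⟩ := this
      have : l = x := (quotEquiv (p := p) Y).injective hlx
      rwa [← this]
    · intro K₁ K₂ hK₁ hK₂
      obtain ⟨hc1, hl1⟩ := isComponent_map_phi (p := p) Y K₁ hK₁
      obtain ⟨hc2, hl2⟩ := isComponent_map_phi (p := p) Y K₂ hK₂
      obtain ⟨s', hs', e⟩ := hq.trans_components hD _ _ hc1 hl1 hc2 hl2
      obtain ⟨s, hs, rfl⟩ := hs'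
      refine ⟨s, hs, ?_⟩
      rw [pre_eq Y K₂, pre_eq Y K₁, e]
      have e1 := comap_cj π s (K₁.map (phi (p := p) Y))
      unfold cj at e1
      rw [e1, Subgroup.map_inf _ _ _ (MulAut.conj s).injective]
      congr 1
      have : s ∈ Subgroup.normalizer (Y : Set G) := by rw [Subgroup.normalizer_eq_top]; trivial
      exact (mem_normalizer_iff_cj_eq.mp this).symm
  · left
    obtain ⟨h1, -, -⟩ := hq.case1 hD
    apply hc.eq_of_le_sup_pCore Y hY
    have h2 : Y ≤ (Y.map π).comap π := Subgroup.le_comap_map π Y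
    rw [h1, Subgroup.comap_map_eq, QuotientGroup.ker_mk'] at h2
    exact h2

/-- The second theorem: `O^p(P) ≤ F*_p(G)`, and the solvable case. -/
theorem main45 (S : Sylow p G) (P : Subgroup G) (hSP : (S : Subgroup G) ≤ P)
    (L Y : Subgroup G)
    (hL : L = Subgroup.normalizer ((S : Subgroup G) : Set G) ⊔ ⨆ P' : {P' : Subgroup G // (S : Subgroup G) ≤ P' ∧ Cfsg.IsPMinimal p ↥P' ∧ P' ≠ P}, (P' : Subgroup G))
    (hiso : ¬ (Cfsg.pCore p ↥L).map L.subtype ≤ (Cfsg.pCore p ↥P).map P.subtype)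
    (hY : Y = Subgroup.normalClosure (((Cfsg.pResidual p ↥P).map P.subtype : Subgroup G) : Set G)) [hn : (Cfsg.pCore p G).Normal] :
    (Cfsg.pResidual p ↥P).map P.subtype ≤ (Cfsg.generalizedFittingSubgroup (G ⧸ Cfsg.pCore p G)).comap (QuotientGroup.mk' (Cfsg.pCore p G)) ∧
    (Group.IsSolvable ↥Y → (Cfsg.pResidual p ↥P).map P.subtype = Y ∧
       ∃ _ : (Cfsg.pCore p ↥Y).Normal, ∃ t : ℕ, t.Prime ∧ t ≠ p ∧ IsPGroup t (↥Y ⧸ Cfsg.pCore p ↥Y) ∧
         ∃ _ : Group.IsNilpotent (↥Y ⧸ Cfsg.pCore p ↥Y), Group.nilpotencyClass (↥Y ⧸ Cfsg.pCore p ↥Y) ≤ 2) := by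
  have hc := cfg_of_def S P L hSP hL hiso
  have hW : (Cfsg.pResidual p ↥P).map P.subtype = presOf p P := pResidual_map_eq p P
  rw [hW] at hY ⊢
  haveI hYn : Y.Normal := by rw [hY]; exact Subgroup.normalClosure_normal
  haveI hnY : (Cfsg.pCore p ↥Y).Normal := Cfsg.Agent.Lib.H27.pCore_normal'
  have hWY : presOf p P ≤ Y := by rw [hY]; exact Subgroup.le_normalClosure
  have hq := hc.qcfg Y hY
  set π := QuotientGroup.mk' (Cfsg.pCore p G) with hπ
  have hπs : Function.Surjective π := QuotientGroup.mk'_surjective _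
  haveI hYn' : (Y.map π).Normal := Subgroup.Normal.map hYn π hπs
  constructor
  · rw [← Subgroup.map_le_iff_le_comap]
    refine (Subgroup.map_mono hWY).trans ?_
    by_cases hD : ⁅Y.map π, Y.map π⁆ = Y.map π
    · have h1 := hq.layer_eq_top hD
      have h2 := layer_subnormal_le hYn'.isSubnormal
      rw [h1, map_subtype_top'] at h2
      exact h2.trans layer_le_generalizedFittingSubgroup
    · obtain ⟨-, h1, -⟩ := hq.case1 hD
      have h2 : Group.IsNilpotent ↥(Y.map π) := Subgroup.isNilpotent_of_lowerCentralSeries_eq_bot h1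
      exact (le_fittingSubgroup hYn' h2).trans fittingSubgroup_le_generalizedFittingSubgroup
  · intro hsol
    have hsol' : Group.IsSolvable ↥(Y.map π) :=
      Group.isSolvable_of_surjective (MonoidHom.subgroupMap_surjective π Y)
    have hD : ⁅Y.map π, Y.map π⁆ ≠ Y.map π := fun hD => hq.not_solvable hD hsol'
    obtain ⟨h1, h2, t, ht, htp, htY⟩ := hq.case1 hD
    constructor
    · apply hc.eq_of_le_sup_pCore Y hY
      have h3 : Y ≤ (Y.map π).comap π := Subgroup.le_comap_map π Y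
      rw [h1, Subgroup.comap_map_eq, QuotientGroup.ker_mk'] at h3
      exact h3
    · refine ⟨hnY, t, ht, htp, IsPGroup.of_equiv htY (quotEquiv (p := p) Y).symm, ?_⟩
      have h3 : (⊤ : Subgroup (↥Y ⧸ Cfsg.pCore p ↥Y)).lowerCentralSeries 2 = ⊥ := by
        have h4 := Subgroup.map_lowerCentralSeries (⊤ : Subgroup (↥Y ⧸ Cfsg.pCore p ↥Y))
          (phi (p := p) Y) 2
        rw [← MonoidHom.range_eq_map, phi_range, h2] at h4
        exact (Subgroup.map_eq_bot_iff_of_injective _ (phi_injective Y)).mp h4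
      have hnil : Group.IsNilpotent (↥Y ⧸ Cfsg.pCore p ↥Y) :=
        Subgroup.nilpotent_iff_lowerCentralSeries.mpr ⟨2, h3⟩
      exact ⟨hnil, Subgroup.lowerCentralSeries_eq_bot_iff_nilpotencyClass_le.mp h3⟩

end Cfsg.Agent.Lib.H15.Iso
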