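import Mathlib
import Cfsg.Agent.Lib.H15.JCN5

/-!
helper15: existence of a `J(T)`-component outside a proper subgroup containing `N(J(T))`.
-/

set_option autoImplicit false

namespace Cfsg.Agent.Lib.H15.JC

open scoped commutatorElement
open Cfsg.Agent.Lib.H15
open Cfsg.Agent.Lib.H5 (IsSylowIn)
open Cfsg.Agent.Lib.H26 (maxEA JJ)
open Cfsg.Agent.Lib.H3 (FFS MO)
open Cfsg.Agent.Lib.H3.QT (Gam Vh hat toGam)

variable {X : Type*} [Group X] [Finite X]

namespace LT

variable {T : Subgroup X}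

/-- If every `J(T)`-component lies in `Mx ≥ N(J(T))` then `J(X) ≤ Mx`. -/
theorem JX_le_of_components_le (h : LT T) {Mx : Subgroup X}
    (hNM : Subgroup.normalizer (Cfsg.thompsonSubgroupOf 2 T : Set X) ≤ Mx)
    (hall : ∀ K : Subgroup X, Cfsg.IsJComponent T K → K ≤ Mx) : JX X ≤ Mx := by
  haveI : Fact (Nat.Prime 2) := ⟨Nat.prime_two⟩
  have hTM : T ≤ Mx := (le_normalizer_thompson T).trans hNM
  have hCM : CC X ≤ Mx :=
    (h.hCT.trans (Cfsg.Agent.Lib.L0.normalizer_le_normalizer_thompsonSubgroupOf 2 T)).trans hNM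
  have hH : HH X ≤ Mx.map (toGam (VV X)) := by
    apply h.ffs.le_of_forall_MO h.hS3
    intro B mB
    obtain ⟨K, hK, hsup⟩ := h.exists_component mB
    have hK₁ : KK₁ B ≤ Mx := by
      rw [← hsup]; exact sup_le (hall K hK) hCM
    have hE : EE₁ B ≤ Mx := by
      rw [← h.EE₁_eq_sup mB]
      exact sup_le hK₁ (inf_le_left.trans hTM)
    intro b hb
    obtain ⟨g, -, hg⟩ := mem_HH.mp (mB.le hb)
    refine ⟨g, hE ?_, hg⟩
    show toGam (VV X) g ∈ DD B ⊔ B
    rw [hg]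
    exact (le_sup_right : B ≤ DD B ⊔ B) hb
  intro g hg
  have h1 : toGam (VV X) g ∈ HH X := mem_HH.mpr ⟨g, hg, rfl⟩
  obtain ⟨m, hm, hmg⟩ := hH h1
  have h2 : m⁻¹ * g ∈ CC X := by
    apply toGam_eq_one_iff.mp
    rw [map_mul, map_inv, hmg]; group
  have e : g = m * (m⁻¹ * g) := by group
  rw [e]
  exact Subgroup.mul_mem _ hm (hCM h2)

/-- A proper subgroup `Mx ≥ N(J(T))` does not contain every `J(T)`-component. -/
theorem exists_component_not_le (h : LT T) {Mx : Subgroup X}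
    (hNM : Subgroup.normalizer (Cfsg.thompsonSubgroupOf 2 T : Set X) ≤ Mx) (hne : Mx ≠ ⊤) :
    ∃ K : Subgroup X, Cfsg.IsJComponent T K ∧ ¬ K ≤ Mx := by
  by_contra hcon
  push Not at hcon
  apply hne
  rw [eq_top_iff]
  intro l _
  obtain ⟨z, hz, n, hn, rfl⟩ := h.exists_mul_of_frattini l
  exact Subgroup.mul_mem _ (h.JX_le_of_components_le hNM hcon hz) (hNM hn)

end LT

end Cfsg.Agent.Lib.H15.JC
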