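import Mathlib
import Cfsg.Agent.Lib.H15.JCO

/-!
helper15: for `T ∈ 𝒯*(M)` there is a `J(T)`-component in `𝒦₀(T)` outside `M` generating with `T`
a subgroup with nontrivial `2`-core.
-/

set_option autoImplicit false

namespace Cfsg.Agent.Lib.H15.JC

open scoped commutatorElement
open Cfsg.Agent.Lib.H15
open Cfsg.Agent.Lib.H5 (IsSylowIn)
open Cfsg.Agent.Lib.H26 (maxEA JJ)

variable {G : Type*} [Group G] [Finite G]

theorem pCoreOf_ne_bot_of_mem_jOvergroups {T L : Subgroup G} (hT1 : T ≠ ⊥)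
    (hLT : L ∈ Cfsg.jOvergroups T) : Cfsg.pCoreOf 2 L ≠ ⊥ := by
  obtain ⟨-, -, hchar⟩ := hLT
  intro hbot
  apply hT1
  rw [hbot] at hchar
  rw [eq_bot_iff]
  intro t _
  apply hchar
  rw [Subgroup.mem_centralizer_iff]
  intro g hg
  have : g = 1 := Subgroup.mem_bot.mp hg
  rw [this, one_mul, mul_one]

/-- members of `𝒯*(M)` are Sylow in any `2`-local `L ≰ M` containing them, and `L ∈ ℒ(T)`. -/
theorem mem_jOvergroups_of_maxStraddling (hL : Cfsg.IsCharacteristicTwoType G) (S : Sylow 2 G)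
    {M : Subgroup G}
    (hMJ : Subgroup.normalizer (Cfsg.thompsonSubgroupOf 2 (S : Subgroup G) : Set G) ≤ M)
    {T : Subgroup G} (hT : T ∈ Cfsg.maxStraddlingTwoSubgroups M)
    {L : Subgroup G} (hL2 : Cfsg.IsTwoLocal L) (hLM : ¬ L ≤ M) (hTL : T ≤ L) :
    L ∈ Cfsg.jOvergroups T := by
  haveI : Fact (Nat.Prime 2) := ⟨Nat.prime_two⟩
  obtain ⟨hT2, hT1, hTM, -⟩ := hT.1
  obtain ⟨T₁, hT₁, hTT₁⟩ := Cfsg.Agent.Lib.H5.exists_isSylowIn_ge hT2 hTL
  have hT₁' : Cfsg.IsSylowTwoIn T₁ L := isSylowTwoIn_iff_isSylowIn.mpr hT₁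
  have hJT₁ : Cfsg.thompsonSubgroupOf 2 T ≤ T₁ := (thompson_le T).trans hTT₁
  have h3 := straddling_of_sylow S hMJ hT hL2 hLM hT₁' hJT₁
  have h4 := mem_jOvergroups_of_sylow hL S hMJ hT hL2 hLM hT₁' hJT₁
  have hTeq : T = T₁ := eq_of_le_of_card_le' hTT₁ h3.2.2
  rw [← hTeq] at h4
  exact h4

theorem exists_mem_jComponentsOutside (hL : Cfsg.IsCharacteristicTwoType G)
    (hN : ∀ N : Subgroup G, Cfsg.IsTwoLocal N → Group.IsSolvable ↥N)
    (hZ : ∀ S : Sylow 2 G, Subgroup.centralizer (Cfsg.omegaCenterOf (S : Subgroup G) : Set G) ≤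
      Subgroup.normalizer ((S : Subgroup G) : Set G))
    (S : Sylow 2 G) {M : Subgroup G}
    (hMJ : Subgroup.normalizer (Cfsg.thompsonSubgroupOf 2 (S : Subgroup G) : Set G) ≤ M)
    {T : Subgroup G} (hT : T ∈ Cfsg.maxStraddlingTwoSubgroups M) :
    (Cfsg.jComponentsOutside M T).Nonempty := by
  haveI : Fact (Nat.Prime 2) := ⟨Nat.prime_two⟩
  obtain ⟨hT2, hT1, hTM, L, hL2, hTL, hLM⟩ := hT.1
  have hmem := mem_jOvergroups_of_maxStraddling hL S hMJ hT hL2 hLM hTL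
  have hlt := lt_of_mem_jOvergroups hN hZ hT1 hmem
  have hNJM := normalizer_thompson_le_of_maxStraddling S hMJ hT
  have hsyl : IsSylowIn 2 T L := isSylowTwoIn_iff_isSylowIn.mp hmem.1
  -- the normalizer of `J(T)` inside `↥L`
  have hJmap : Cfsg.thompsonSubgroupOf 2 T =
      (Cfsg.thompsonSubgroupOf 2 (T.subgroupOf L)).map L.subtype := by
    rw [← thompson_map L.subtype L.subtype_injective, map_subgroupOf_subtype hTL]
  have hNM : Subgroup.normalizer (Cfsg.thompsonSubgroupOf 2 (T.subgroupOf L) : Set ↥L) ≤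
      M.subgroupOf L := by
    intro n hn
    rw [Subgroup.mem_subgroupOf]
    apply hNJM
    rw [hJmap]
    exact Subgroup.le_normalizer_map L.subtype ⟨n, hn, rfl⟩
  have hne : M.subgroupOf L ≠ ⊤ := by
    intro h1
    exact hLM (Subgroup.subgroupOf_eq_top.mp h1)
  obtain ⟨Kx, hKx, hKxM⟩ := hlt.exists_component_not_le hNM hne
  set K := Kx.map L.subtype with hKdef
  have hK : Cfsg.IsJComponent T K := by
    have := (isJComponent_map_iff L.subtype L.subtype_injective (T.subgroupOf L) Kx).mpr hKx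
    rwa [map_subgroupOf_subtype hTL] at this
  have hKL : K ≤ L := Subgroup.map_subtype_le _
  have hKM : ¬ K ≤ M := by
    intro hle
    apply hKxM
    intro k hk
    rw [Subgroup.mem_subgroupOf]
    exact hle ⟨k, hk, rfl⟩
  refine ⟨K, ⟨hK, ?_⟩, hKM, ?_⟩
  · intro S₁ hJS₁ hS₁
    have hL'2 : Cfsg.IsTwoLocal (Subgroup.normalizer (Cfsg.wOf K : Set G)) :=
      isTwoLocal_normalizer (wOf_isPGroup hK) (LT.wOf_ne_bot hK)
    have hL'M : ¬ Subgroup.normalizer (Cfsg.wOf K : Set G) ≤ M :=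
      fun h => hKM ((le_normalizer_wOf hK).trans h)
    exact (straddling_of_sylow S hMJ hT hL'2 hL'M hS₁ hJS₁).1
  · have hQne := pCoreOf_ne_bot_of_mem_jOvergroups hT1 hmem
    have hQT : Cfsg.pCoreOf 2 L ≤ T := pCoreOf_le_of_isSylowIn hsyl
    have hle : Cfsg.pCoreOf 2 L ≤ Cfsg.pCoreOf 2 (K ⊔ T) :=
      le_pcoreOf (hQT.trans le_sup_right) ((sup_le hKL hTL).trans (pcoreOf_normalized 2 L))
        (pcoreOf_isPGroup 2 L)
    intro h0
    apply hQne
    rw [eq_bot_iff, ← h0]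
    exact hle

end Cfsg.Agent.Lib.H15.JC
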