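import Mathlib
import Cfsg.Agent.Lib.H15.JCU2
import Cfsg.Agent.Lib.H15.JCN5

/-!
helper15: distinct `J(T)`-components of `X` (local set-up `LT T`) centralize each other's `W`.
-/

set_option autoImplicit false

namespace Cfsg.Agent.Lib.H15.JC

open scoped commutatorElement
open Cfsg.Agent.Lib.H15
open Cfsg.Agent.Lib.H5 (IsSylowIn)
open Cfsg.Agent.Lib.H26 (maxEA JJ)
open Cfsg.Agent.Lib.H3 (FFS MO)
open Cfsg.Agent.Lib.H3.QT (Gam Vh hat toGam)

variable {X : Type*} [Group X] [Finite X]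

/-- If `toGam y` centralizes the image of `U ≤ V` in `Γ` then `y` centralizes `U`. -/
theorem mem_centralizer_of_toGam {U : Subgroup X} (hU : U ≤ VV X) {y : X}
    (hy : toGam (VV X) y ∈
      Subgroup.centralizer ((up U : Subgroup (Gam (VV X))) : Set (Gam (VV X)))) :
    y ∈ Subgroup.centralizer (U : Set X) := by
  rw [Subgroup.mem_centralizer_iff]
  intro u hu
  have h1 := comm_inl_toGam (⟨u, hU hu⟩ : ↥(VV X)) y
  have h2 : (SemidirectProduct.inl (⟨u, hU hu⟩ : ↥(VV X)) : Gam (VV X)) ∈ up U :=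
    mem_up.mpr ⟨⟨u, hU hu⟩, hu, rfl⟩
  have h3 := Subgroup.mem_centralizer_iff.mp hy _ h2
  have h4 : ⁅(SemidirectProduct.inl (⟨u, hU hu⟩ : ↥(VV X)) : Gam (VV X)), toGam (VV X) y⁆ = 1 := by
    rw [commutatorElement_eq_one_iff_mul_comm]
    exact h3
  rw [h4] at h1
  have h5 := SemidirectProduct.inl_injective (h1.symm.trans (map_one _).symm)
  have h6 : ⁅u, y⁆ = 1 := congrArg Subtype.val h5
  exact commutatorElement_eq_one_iff_mul_comm.mp h6

namespace LT

variable {T K K' : Subgroup X}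

/-- Distinct `J(T)`-components centralize each other's `W`. -/
theorem le_centralizer_wOf_of_ne (h : LT T) (hK : Cfsg.IsJComponent T K)
    (hK' : Cfsg.IsJComponent T K') (hne : K ≠ K') :
    K' ≤ Subgroup.centralizer (Cfsg.wOf K : Set X) := by
  haveI : Fact (Nat.Prime 2) := ⟨Nat.prime_two⟩
  obtain ⟨x, A₁, c⟩ := h.exists_KLoc hK
  obtain ⟨x', A₁', c'⟩ := h.exists_KLoc hK'
  have hWV : Cfsg.wOf K ≤ VV X := by
    rw [c.hW]
    exact Subgroup.commutator_le_left _ _
  by_cases hE : DD A₁ ⊔ A₁ = DD A₁' ⊔ A₁'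
  · exfalso
    apply hne
    have hD : DD A₁ = DD A₁' :=
      le_antisymm (h.DD_le_of_E_eq c.mo c'.mo hE) (h.DD_le_of_E_eq c'.mo c.mo hE.symm)
    have h1 : KK₁ A₁ = KK₁ A₁' := by
      unfold KK₁
      rw [hD]
    exact h.eq_of_sup_eq c.mo hK hK' c.hsup (by rw [h1]; exact c'.hsup)
  · have h1 := (h.ffs.E_le_centralizer_of_ne c.mo c'.mo hE).2
    have hx' : toGam (VV X) x' ∈
        Subgroup.centralizer ((up (Cfsg.wOf K) : Subgroup (Gam (VV X))) : Set (Gam (VV X))) := by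
      rw [c.hWup]
      exact h1 ((le_sup_left : DD A₁' ≤ DD A₁' ⊔ A₁') c'.hξ)
    have hx'c : x' ∈ Subgroup.centralizer (Cfsg.wOf K : Set X) :=
      mem_centralizer_of_toGam hWV hx'
    rw [c'.hK]
    apply sup_le
    · exact c'.hRC.trans (Subgroup.centralizer_le hWV)
    · rw [Subgroup.zpowers_le]
      exact hx'c

end LT

end Cfsg.Agent.Lib.H15.JC
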