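import Mathlib
import Cfsg.Agent.Lib.H15.JCV1
import Cfsg.Agent.Lib.H15.JCS1

/-!
helper15: `G`-level consequences: distinct `J(T)`-components inside a member of `ℒ(T)` centralize
each other's `W`; subnormality transport lemmas.
-/

set_option autoImplicit false

namespace Cfsg.Agent.Lib.H15.JC

open scoped commutatorElement
open Cfsg.Agent.Lib.H15
open Cfsg.Agent.Lib.H5 (IsSylowIn)

variable {G : Type*} [Group G]

/-- restriction of subnormality to an intermediate subgroup. -/
theorem isSubnormal_subgroupOf_of_le {K Y H : Subgroup G} (hYH : Y ≤ H)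
    (h : (K.subgroupOf H).IsSubnormal) : (K.subgroupOf Y).IsSubnormal := by
  have h1 := h.comap (Subgroup.inclusion hYH)
  have h2 : (K.subgroupOf H).comap (Subgroup.inclusion hYH) = K.subgroupOf Y := by
    ext x
    simp [Subgroup.mem_subgroupOf]
  rwa [h2] at h1

/-- conjugation preserves relative subnormality. -/
theorem isSubnormal_cj {K N : Subgroup G} (g : G) (hsn : (K.subgroupOf N).IsSubnormal) :
    ((cj g K).subgroupOf (cj g N)).IsSubnormal := by
  set e : ↥N ≃* ↥(cj g N) := (MulAut.conj g).subgroupMap N with he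
  have h1 := hsn.map (f := e.toMonoidHom) e.surjective
  have h2 : (K.subgroupOf N).map e.toMonoidHom = (cj g K).subgroupOf (cj g N) := by
    ext ⟨y, hy⟩
    rw [Subgroup.mem_map, Subgroup.mem_subgroupOf]
    constructor
    · rintro ⟨⟨x, hxN⟩, hxK, hxy⟩
      have hxy' : g * x * g⁻¹ = y := congrArg Subtype.val hxy
      show y ∈ cj g K
      rw [← hxy']
      exact conj_mem_cj (Subgroup.mem_subgroupOf.mp hxK)
    · intro hyK
      have hyK' : g⁻¹ * y * g ∈ K := mem_cj_iff.mp hyK
      have hyN' : g⁻¹ * y * g ∈ N := mem_cj_iff.mp hy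
      refine ⟨⟨g⁻¹ * y * g, hyN'⟩, Subgroup.mem_subgroupOf.mpr hyK', ?_⟩
      apply Subtype.ext
      show g * (g⁻¹ * y * g) * g⁻¹ = y
      group
  rwa [h2] at h1

variable [Finite G]

/-- distinct `J(T)`-components inside `L ∈ ℒ(T)` centralize each other's `W`. -/
theorem le_centralizer_wOf_of_ne
    (hN : ∀ N : Subgroup G, Cfsg.IsTwoLocal N → Group.IsSolvable ↥N)
    (hZ : ∀ S : Sylow 2 G, Subgroup.centralizer (Cfsg.omegaCenterOf (S : Subgroup G) : Set G) ≤
      Subgroup.normalizer ((S : Subgroup G) : Set G))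
    {T L K K' : Subgroup G} (hT1 : T ≠ ⊥) (hLT : L ∈ Cfsg.jOvergroups T)
    (hK : Cfsg.IsJComponent T K) (hK' : Cfsg.IsJComponent T K') (hKL : K ≤ L) (hK'L : K' ≤ L)
    (hne : K ≠ K') : K' ≤ Subgroup.centralizer (Cfsg.wOf K : Set G) := by
  have hlt := lt_of_mem_jOvergroups hN hZ hT1 hLT
  have hTL : T ≤ L := hLT.1.1
  have hKs := isJComponent_subgroupOf hTL hKL hK
  have hK's := isJComponent_subgroupOf hTL hK'L hK'
  have hne' : K.subgroupOf L ≠ K'.subgroupOf L := by
    intro e
    apply hne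
    rw [← map_subgroupOf_subtype hKL, ← map_subgroupOf_subtype hK'L, e]
  have hmain := hlt.le_centralizer_wOf_of_ne hKs hK's hne'
  have hW : Cfsg.wOf K = (Cfsg.wOf (K.subgroupOf L)).map L.subtype := by
    rw [← wOf_map L.subtype L.subtype_injective, map_subgroupOf_subtype hKL]
  intro k hk
  rw [Subgroup.mem_centralizer_iff]
  intro w hw
  rw [SetLike.mem_coe, hW] at hw
  obtain ⟨w', hw', rfl⟩ := hw
  have h1 := Subgroup.mem_centralizer_iff.mp
    (hmain (show (⟨k, hK'L hk⟩ : ↥L) ∈ K'.subgroupOf L from Subgroup.mem_subgroupOf.mpr hk)) w' hw'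
  exact congrArg Subtype.val h1

end Cfsg.Agent.Lib.H15.JC
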