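import Mathlib
import Cfsg.Agent.Lib.H15.JCV2
import Cfsg.Agent.Lib.H15.JCStar

/-!
helper15: the uniqueness set-up: for `T ∈ 𝒯*(M)` and `K ∈ 𝒦₀(T)` not in `M`, the family `Σ` of
`J(T)`-components inside `N_G(K)` is permuted by every `2`-local subgroup containing `⟨K, J(T)⟩`.
-/

set_option autoImplicit false

namespace Cfsg.Agent.Lib.H15.JC

open scoped commutatorElement
open Cfsg.Agent.Lib.H15
open Cfsg.Agent.Lib.H5 (IsSylowIn)

variable {G : Type*} [Group G] [Finite G]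

/-- `𝒦₀(T)` only depends on `J(T)`. -/
theorem jComponentsZero_congr {T T' : Subgroup G}
    (hJ : Cfsg.thompsonSubgroupOf 2 T = Cfsg.thompsonSubgroupOf 2 T') :
    Cfsg.jComponentsZero T = Cfsg.jComponentsZero T' := by
  unfold Cfsg.jComponentsZero Cfsg.IsJComponent
  rw [hJ]

/-- `𝒦₀` is conjugation invariant. -/
theorem mem_jComponentsZero_cj {T K : Subgroup G} (g : G) (hK : K ∈ Cfsg.jComponentsZero T) :
    cj g K ∈ Cfsg.jComponentsZero (cj g T) := by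
  refine ⟨isJComponent_cj g hK.1, ?_⟩
  intro S hJS hS
  have h1 : Cfsg.thompsonSubgroupOf 2 T ≤ cj g⁻¹ S := by
    rw [← cj_le_iff, ← thompsonSubgroupOf_cj]
    exact hJS
  have h2 : Cfsg.IsSylowTwoIn (cj g⁻¹ S) (Subgroup.normalizer (Cfsg.wOf K : Set G)) := by
    rw [isSylowTwoIn_iff_isSylowIn] at hS ⊢
    have h3 := isSylowIn_cj hS g⁻¹
    have h4 : cj g⁻¹ (Subgroup.normalizer (Cfsg.wOf (cj g K) : Set G)) =
        Subgroup.normalizer (Cfsg.wOf K : Set G) := by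
      rw [wOf_cj, normalizer_cj]
      exact cj_inv_cj _ g
    rw [h4] at h3
    exact h3
  have h5 := hK.2 (cj g⁻¹ S) h1 h2
  rw [thompsonSubgroupOf_cj] at h5
  rw [thompsonSubgroupOf_cj, ← h5, cj_cj_inv]

/-- `W_K ≤ O₂(K)`. -/
theorem wOf_le_pCoreOf (K : Subgroup G) : Cfsg.wOf K ≤ Cfsg.pCoreOf 2 K := by
  unfold Cfsg.wOf
  have h1 : ⁅Cfsg.omegaCenterOf (Cfsg.pCoreOf 2 K), K⁆ ≤ ⁅Cfsg.pCoreOf 2 K, K⁆ :=
    Subgroup.commutator_mono (omegaCenterOf_le _) le_rfl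
  exact h1.trans ((Subgroup.le_normalizer_iff_commutator_le_left).mp (pcoreOf_normalized 2 K))

end Cfsg.Agent.Lib.H15.JC
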