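import Mathlib
import Cfsg.Agent.Lib.H15.JCV3

/-!
helper15: the uniqueness set-up, continued: the environment `Env M T` and the closure step.
-/

set_option autoImplicit false

namespace Cfsg.Agent.Lib.H15.JC

open scoped commutatorElement
open Cfsg.Agent.Lib.H15
open Cfsg.Agent.Lib.H5 (IsSylowIn)

variable {G : Type*} [Group G] [Finite G]

/-- The standing hypotheses, in the abstract form used below. -/
structure Env (M T : Subgroup G) : Prop where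
  hL : Cfsg.IsCharacteristicTwoType G
  hN : ∀ N : Subgroup G, Cfsg.IsTwoLocal N → Group.IsSolvable ↥N
  hZ : ∀ S : Sylow 2 G, Subgroup.centralizer (Cfsg.omegaCenterOf (S : Subgroup G) : Set G) ≤
      Subgroup.normalizer ((S : Subgroup G) : Set G)
  hT2 : IsPGroup 2 ↥T
  hT1 : T ≠ ⊥
  hA : ∀ H T₀ : Subgroup G, Cfsg.IsTwoLocal H → ¬ H ≤ M → Cfsg.IsSylowTwoIn T₀ H →
    Cfsg.thompsonSubgroupOf 2 T ≤ T₀ →
    Cfsg.thompsonSubgroupOf 2 T₀ = Cfsg.thompsonSubgroupOf 2 T ∧ H ∈ Cfsg.jOvergroups T₀ ∧ T₀ ≠ ⊥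

/-- The environment from the hypotheses of the statements. -/
theorem Env.mk' (hL : Cfsg.IsCharacteristicTwoType G)
    (hN : ∀ N : Subgroup G, Cfsg.IsTwoLocal N → Group.IsSolvable ↥N)
    (hZ : ∀ S : Sylow 2 G, Subgroup.centralizer (Cfsg.omegaCenterOf (S : Subgroup G) : Set G) ≤
      Subgroup.normalizer ((S : Subgroup G) : Set G))
    (S : Sylow 2 G) {M : Subgroup G}
    (hMJ : Subgroup.normalizer (Cfsg.thompsonSubgroupOf 2 (S : Subgroup G) : Set G) ≤ M)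
    {T : Subgroup G} (hT : T ∈ Cfsg.maxStraddlingTwoSubgroups M) : Env M T where
  hL := hL
  hN := hN
  hZ := hZ
  hT2 := hT.1.1
  hT1 := hT.1.2.1
  hA := by
    intro H T₀ hH2 hHM hT₀ hJ
    have h1 := straddling_of_sylow S hMJ hT hH2 hHM hT₀ hJ
    exact ⟨h1.1, mem_jOvergroups_of_sylow hL S hMJ hT hH2 hHM hT₀ hJ, h1.2.1.2.1⟩

namespace Env

variable {M T K : Subgroup G}

/-- A Sylow `2`-subgroup of a `2`-local `H ≰ M` containing `J(T)`. -/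
theorem exists_sylow (E : Env M T) {H : Subgroup G} (hH2 : Cfsg.IsTwoLocal H) (hHM : ¬ H ≤ M)
    (hJH : Cfsg.thompsonSubgroupOf 2 T ≤ H) :
    ∃ T₀ : Subgroup G, Cfsg.IsSylowTwoIn T₀ H ∧ Cfsg.thompsonSubgroupOf 2 T ≤ T₀ ∧
      Cfsg.thompsonSubgroupOf 2 T₀ = Cfsg.thompsonSubgroupOf 2 T ∧ H ∈ Cfsg.jOvergroups T₀ ∧
      T₀ ≠ ⊥ ∧ IsPGroup 2 ↥T₀ := by
  haveI : Fact (Nat.Prime 2) := ⟨Nat.prime_two⟩
  have hJ2 : IsPGroup 2 ↥(Cfsg.thompsonSubgroupOf 2 T) := E.hT2.to_le (thompson_le T)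
  obtain ⟨T₀, hT₀, hJT₀⟩ := Cfsg.Agent.Lib.H5.exists_isSylowIn_ge hJ2 hJH
  have hT₀' : Cfsg.IsSylowTwoIn T₀ H := isSylowTwoIn_iff_isSylowIn.mpr hT₀
  obtain ⟨h1, h2, h3⟩ := E.hA H T₀ hH2 hHM hT₀' hJT₀
  exact ⟨T₀, hT₀', hJT₀, h1, h2, h3, hT₀.2.1⟩

/-- The closure step. -/
theorem closure_step (E : Env M T) (hK : Cfsg.IsJComponent T K) (hKM : ¬ K ≤ M)
    {H K'' : Subgroup G} (hH2 : Cfsg.IsTwoLocal H) (hKH : K ≤ H)
    (hJH : Cfsg.thompsonSubgroupOf 2 T ≤ H) (hK''H : K'' ≤ H)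
    (hsn : (K''.subgroupOf H).IsSubnormal) (g : G)
    (hK''0 : K'' ∈ Cfsg.jComponentsZero (cj g T)) :
    Cfsg.IsJComponent T K'' ∧
      (K'' ≠ K → K'' ≤ Subgroup.centralizer (Cfsg.wOf K : Set G) ∧
        K ≤ Subgroup.centralizer (Cfsg.wOf K'' : Set G)) := by
  haveI : Fact (Nat.Prime 2) := ⟨Nat.prime_two⟩
  have hHM : ¬ H ≤ M := fun h => hKM (hKH.trans h)
  obtain ⟨T₀, hT₀, hJT₀, hJeq, hHT₀, hT₀1, hT₀2⟩ := E.exists_sylow hH2 hHM hJH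
  have hJg : Cfsg.thompsonSubgroupOf 2 (cj g T) = Cfsg.thompsonSubgroupOf 2 (cj g T₀) := by
    rw [thompsonSubgroupOf_cj, thompsonSubgroupOf_cj, hJeq]
  have hK''0' : K'' ∈ Cfsg.jComponentsZero (cj g T₀) := by
    rw [← jComponentsZero_congr hJg]; exact hK''0
  have hY : K'' ⊔ Cfsg.thompsonSubgroupOf 2 T₀ ≤ H := by
    rw [hJeq]; exact sup_le hK''H hJH
  have hsn' : (K''.subgroupOf (K'' ⊔ Cfsg.thompsonSubgroupOf 2 T₀)).IsSubnormal :=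
    isSubnormal_subgroupOf_of_le hY hsn
  have hT₁ : IsPGroup 2 ↥(cj g T₀) := hT₀2.map _
  have hT₁1 : cj g T₀ ≠ ⊥ := by
    intro e
    apply hT₀1
    have := cj_inv_cj T₀ g
    rw [e] at this
    rw [← this]
    simp
  have hTL : IsSylowIn 2 T₀ H := isSylowTwoIn_iff_isSylowIn.mp hT₀
  have hJW := thompson_le_normalizer_wOf_of_subnormal hT₁ hK''0'.1 hTL hK''H hsn'
  have hfin := isJComponent_cj_of_le E.hL E.hN E.hZ hT₁ hT₁1 hK''0' (g := g⁻¹)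
    (by rw [cj_inv_cj]; exact hJW)
  rw [cj_inv_cj] at hfin
  have hK₀ : Cfsg.IsJComponent T₀ K := (isJComponent_congr hJeq).mpr hK
  refine ⟨(isJComponent_congr hJeq).mp hfin, ?_⟩
  intro hne
  exact ⟨le_centralizer_wOf_of_ne E.hN E.hZ hT₀1 hHT₀ hK₀ hfin hKH hK''H (Ne.symm hne),
    le_centralizer_wOf_of_ne E.hN E.hZ hT₀1 hHT₀ hfin hK₀ hK''H hKH hne⟩

end Env

end Cfsg.Agent.Lib.H15.JC
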