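import Mathlib
import Cfsg.Agent.Lib.H15.JCV4

/-!
helper15: the uniqueness set-up, concluded: a nontrivial `2`-subgroup `W` normalized by every
`2`-local subgroup containing `⟨K, J(T)⟩`.
-/

set_option autoImplicit false

namespace Cfsg.Agent.Lib.H15.JC

open scoped commutatorElement
open Cfsg.Agent.Lib.H15
open Cfsg.Agent.Lib.H5 (IsSylowIn)

variable {G : Type*} [Group G] [Finite G]

namespace Env

variable {M T K : Subgroup G}

/-- `J(T)`-components inside a `2`-local `H ≰ M` containing `J(T)` are subnormal in `H`. -/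
theorem isSubnormal_of_le (E : Env M T) {H K' : Subgroup G} (hH2 : Cfsg.IsTwoLocal H)
    (hHM : ¬ H ≤ M) (hJH : Cfsg.thompsonSubgroupOf 2 T ≤ H) (hK' : Cfsg.IsJComponent T K')
    (hK'H : K' ≤ H) : (K'.subgroupOf H).IsSubnormal := by
  obtain ⟨T₀, hT₀, hJT₀, hJeq, hHT₀, hT₀1, hT₀2⟩ := E.exists_sylow hH2 hHM hJH
  have hlt := lt_of_mem_jOvergroups E.hN E.hZ hT₀1 hHT₀
  exact hlt.isSubnormal_of_isJComponent
    (isJComponent_subgroupOf hT₀.1 hK'H ((isJComponent_congr hJeq).mpr hK'))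

/-- distinct `J(T)`-components inside a `2`-local `H ≰ M` containing `J(T)` centralize each
other's `W`. -/
theorem le_centralizer_of_le (E : Env M T) {H K₁ K₂ : Subgroup G} (hH2 : Cfsg.IsTwoLocal H)
    (hHM : ¬ H ≤ M) (hJH : Cfsg.thompsonSubgroupOf 2 T ≤ H) (hK₁ : Cfsg.IsJComponent T K₁)
    (hK₂ : Cfsg.IsJComponent T K₂) (hK₁H : K₁ ≤ H) (hK₂H : K₂ ≤ H) (hne : K₁ ≠ K₂) :
    K₂ ≤ Subgroup.centralizer (Cfsg.wOf K₁ : Set G) := by
  obtain ⟨T₀, hT₀, hJT₀, hJeq, hHT₀, hT₀1, hT₀2⟩ := E.exists_sylow hH2 hHM hJH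
  exact le_centralizer_wOf_of_ne E.hN E.hZ hT₀1 hHT₀ ((isJComponent_congr hJeq).mpr hK₁)
    ((isJComponent_congr hJeq).mpr hK₂) hK₁H hK₂H hne

/-- The main construction. -/
theorem exists_W (E : Env M T) (hK : K ∈ Cfsg.jComponentsZero T) (hKM : ¬ K ≤ M) :
    ∃ W : Subgroup G, IsPGroup 2 ↥W ∧ W ≠ ⊥ ∧
      ∀ H : Subgroup G, Cfsg.IsTwoLocal H → K ⊔ Cfsg.thompsonSubgroupOf 2 T ≤ H →
        H ≤ Subgroup.normalizer (W : Set G) := by
  haveI : Fact (Nat.Prime 2) := ⟨Nat.prime_two⟩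
  set J := Cfsg.thompsonSubgroupOf 2 T with hJdef
  set N₀ := Subgroup.normalizer (Cfsg.wOf K : Set G) with hN₀
  have hN₀2 : Cfsg.IsTwoLocal N₀ := isTwoLocal_normalizer (wOf_isPGroup hK.1) (LT.wOf_ne_bot hK.1)
  have hKN₀ : K ≤ N₀ := le_normalizer_wOf hK.1
  have hJN₀ : J ≤ N₀ := thompson_le_normalizer_wOf hK.1
  have hN₀M : ¬ N₀ ≤ M := fun h => hKM (hKN₀.trans h)
  set Sg : Set (Subgroup G) := {K' | Cfsg.IsJComponent T K' ∧ K' ≤ N₀} with hSg
  have hKSg : K ∈ Sg := ⟨hK.1, hKN₀⟩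
  -- subnormality in `N₀`
  have hsub : ∀ K' ∈ Sg, (K'.subgroupOf N₀).IsSubnormal := fun K' hK' =>
    E.isSubnormal_of_le hN₀2 hN₀M hJN₀ hK'.1 hK'.2
  -- membership in `𝒦₀(T)`
  have hzero : ∀ K' ∈ Sg, K' ∈ Cfsg.jComponentsZero T := by
    intro K' hK'
    refine ⟨hK'.1, ?_⟩
    intro S' hJS' hS'
    have hKW' : K ≤ Subgroup.normalizer (Cfsg.wOf K' : Set G) := by
      by_cases he : K' = K
      · rw [he]; exact hKN₀
      · exact (E.le_centralizer_of_le hN₀2 hN₀M hJN₀ hK'.1 hK.1 hK'.2 hKN₀ he).trans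
          (Subgroup.centralizer_le_normalizer _)
    have h2 : Cfsg.IsTwoLocal (Subgroup.normalizer (Cfsg.wOf K' : Set G)) :=
      isTwoLocal_normalizer (wOf_isPGroup hK'.1) (LT.wOf_ne_bot hK'.1)
    have h3 : ¬ Subgroup.normalizer (Cfsg.wOf K' : Set G) ≤ M := fun h => hKM (hKW'.trans h)
    exact (E.hA _ S' h2 h3 hS' hJS').1
  -- the closure property
  have hclos : ∀ H : Subgroup G, Cfsg.IsTwoLocal H → K ⊔ J ≤ H → ∀ h ∈ H, ∀ K' ∈ Sg,
      cj h K' ∈ Sg := by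
    intro H hH2 hKJH h hh K' hK'
    have hKH : K ≤ H := le_sup_left.trans hKJH
    have hJH : J ≤ H := le_sup_right.trans hKJH
    have hHM : ¬ H ≤ M := fun h => hKM (hKH.trans h)
    have hKsnH : (K.subgroupOf H).IsSubnormal := E.isSubnormal_of_le hH2 hHM hJH hK.1 hKH
    have hHh : cj h H = H := cj_eq_self_of_mem hh
    have hKh_sn : ((cj h K).subgroupOf H).IsSubnormal := by
      have := isSubnormal_cj h hKsnH
      rwa [hHh] at this
    have hKhH : cj h K ≤ H := by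
      have := cj_mono h hKH
      rwa [hHh] at this
    have hKh0 := mem_jComponentsZero_cj h hK
    obtain ⟨hKhc, hKhcent⟩ := E.closure_step hK.1 hKM hH2 hKH hJH hKhH hKh_sn h hKh0
    -- the conjugate normalizer
    have hN'eq : cj h N₀ = Subgroup.normalizer (Cfsg.wOf (cj h K) : Set G) := by
      rw [wOf_cj, normalizer_cj]
    have hN'2 : Cfsg.IsTwoLocal (cj h N₀) := by
      rw [hN'eq]
      exact isTwoLocal_normalizer (wOf_isPGroup hKhc) (LT.wOf_ne_bot hKhc)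
    have hKN' : K ≤ cj h N₀ := by
      by_cases he : cj h K = K
      · rw [hN'eq, he]; exact hKN₀
      · rw [hN'eq]
        exact (hKhcent he).2.trans (Subgroup.centralizer_le_normalizer _)
    have hJN' : J ≤ cj h N₀ := by
      rw [hN'eq]; exact thompson_le_normalizer_wOf hKhc
    have hK'h_sn : ((cj h K').subgroupOf (cj h N₀)).IsSubnormal := isSubnormal_cj h (hsub K' hK')
    have hK'hN' : cj h K' ≤ cj h N₀ := cj_mono h hK'.2
    have hK'h0 := mem_jComponentsZero_cj h (hzero K' hK')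
    obtain ⟨hc, hcent⟩ := E.closure_step hK.1 hKM hN'2 hKN' hJN' hK'hN' hK'h_sn h hK'h0
    refine ⟨hc, ?_⟩
    by_cases he : cj h K' = K
    · rw [he]; exact hKN₀
    · exact (hcent he).1.trans (Subgroup.centralizer_le_normalizer _)
  -- the subgroup `W`
  set W : Subgroup G := ⨆ K' : {K' // K' ∈ Sg}, Cfsg.wOf K'.1 with hW
  have hWle : W ≤ Cfsg.pCoreOf 2 N₀ := by
    apply iSup_le
    rintro ⟨K', hK'⟩
    exact (wOf_le_pCoreOf K').trans (pcoreOf_le_pcoreOf_of_subnormal hK'.2 (hsub K' hK'))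
  have hW2 : IsPGroup 2 ↥W := (pcoreOf_isPGroup 2 N₀).to_le hWle
  have hKW : Cfsg.wOf K ≤ W := le_iSup (fun K' : {K' // K' ∈ Sg} => Cfsg.wOf K'.1) ⟨K, hKSg⟩
  have hW1 : W ≠ ⊥ := by
    intro e
    apply LT.wOf_ne_bot hK.1
    rw [eq_bot_iff, ← e]; exact hKW
  refine ⟨W, hW2, hW1, ?_⟩
  intro H hH2 hKJH h hh
  apply mem_normalizer_of_cj_le
  show W.map (MulAut.conj h).toMonoidHom ≤ W
  rw [hW, Subgroup.map_iSup]
  apply iSup_le
  rintro ⟨K', hK'⟩
  have h1 : (Cfsg.wOf K').map (MulAut.conj h).toMonoidHom = Cfsg.wOf (cj h K') := (wOf_cj h K').symm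
  show (Cfsg.wOf K').map (MulAut.conj h).toMonoidHom ≤ _
  rw [h1]
  exact le_iSup (fun K' : {K' // K' ∈ Sg} => Cfsg.wOf K'.1) ⟨cj h K', hclos H hH2 hKJH h hh K' hK'⟩

end Env

end Cfsg.Agent.Lib.H15.JC
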