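import Mathlib
import Cfsg.Agent.Lib.H28.KB.Defs

set_option autoImplicit false

namespace Cfsg.Agent.Lib.H15.KB

open Cfsg.Agent.Lib.H28.KB
open scoped ComplexConjugate

theorem formH_self_re (α β γ : ℤ) (x y : ℂ) :
    (formH α β γ x y x y).re =
      ((α : ℝ) - β) * ‖x‖ ^ 2 + ((γ : ℝ) - β) * ‖y‖ ^ 2 + (β : ℝ) * ‖x + y‖ ^ 2 := by
  simp only [formH, Complex.sq_norm, Complex.normSq_apply]
  simp only [Complex.add_re, Complex.mul_re, Complex.conj_re, Complex.conj_im, Complex.intCast_re,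
    Complex.intCast_im, Complex.add_im, Complex.mul_im]
  ring

theorem formH_left_y_zero (γ : ℤ) (x x' y' : ℂ) :
    formH 1 0 γ x 0 x' y' = x * conj x' := by
  simp [formH]

theorem formH_left_x_zero (γ : ℤ) (y x' y' : ℂ) :
    formH 1 0 γ 0 y x' y' = (γ : ℂ) * (y * conj y') := by
  simp [formH]

theorem card_le_of_form_bounds {ι κ : Type*} [Fintype ι] [Fintype κ] (one : κ)
    (α β γ : ℤ) (hα : 0 < α) (hβ0 : 0 ≤ 2 * β) (hβα : 2 * β ≤ α) (hαγ : α ≤ γ)
    (X Y : ι → κ → ℂ) (P : ℝ) (hP : 0 < P) (p : ℕ) (hp : 2 ≤ p) (h : ι → ℕ)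
    (hX : ∀ i, (X i one = 0 → ∀ k, X i k = 0) ∧
      (X i one ≠ 0 → (∀ k, X i k ≠ 0) ∧ (Fintype.card κ : ℝ) ≤ ∑ k, ‖X i k‖ ^ 2))
    (hY : ∀ i, (Y i one = 0 → ∀ k, Y i k = 0) ∧
      (Y i one ≠ 0 → (∀ k, Y i k ≠ 0) ∧ (Fintype.card κ : ℝ) ≤ ∑ k, ‖Y i k‖ ^ 2))
    (hXY : ∀ i, (X i one + Y i one = 0 → ∀ k, X i k + Y i k = 0) ∧
      (X i one + Y i one ≠ 0 → (∀ k, X i k + Y i k ≠ 0) ∧
        (Fintype.card κ : ℝ) ≤ ∑ k, ‖X i k + Y i k‖ ^ 2))
    (hT : ∀ k, ∑ i, (formH α β γ (X i k) (Y i k) (X i k) (Y i k)).re ≤ 2 * P)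
    (hI : ∀ i k, ∑ j, ‖formH α β γ (X i k) (Y i k) (X j k) (Y j k)‖ ^ 2 ≤
      P * (formH α β γ (X i k) (Y i k) (X i k) (Y i k)).re)
    (hNZ : ∀ i j, h i = 0 → formH α β γ (X i one) (Y i one) (X j one) (Y j one) ≠ 0)
    (hH : ∀ i, (Fintype.card κ : ℝ) * (p : ℝ) ^ h i ≤
      ∑ k, (formH α β γ (X i k) (Y i k) (X i k) (Y i k)).re)
    (h0 : Nonempty ι → ∃ i, h i = 0) :
    (Fintype.card ι : ℝ) ≤ P := by
  classical
  have hφpos : (0 : ℝ) < (Fintype.card κ : ℝ) := by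
    have : 0 < Fintype.card κ := Fintype.card_pos_iff.mpr ⟨one⟩
    exact_mod_cast this
  rcases isEmpty_or_nonempty ι with hemp | hne
  · rw [Fintype.card_eq_zero]
    simpa using hP.le
  obtain ⟨i0, hi0⟩ := h0 hne
  -- the three sums of squares
  let nx : ι → ℝ := fun i => ∑ k, ‖X i k‖ ^ 2
  let ny : ι → ℝ := fun i => ∑ k, ‖Y i k‖ ^ 2
  let nxy : ι → ℝ := fun i => ∑ k, ‖X i k + Y i k‖ ^ 2
  let S : ι → ℝ := fun i => ∑ k, (formH α β γ (X i k) (Y i k) (X i k) (Y i k)).re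
  have hS : ∀ i, S i = ((α : ℝ) - β) * nx i + ((γ : ℝ) - β) * ny i + (β : ℝ) * nxy i := by
    intro i
    simp only [S, nx, ny, nxy, formH_self_re, Finset.sum_add_distrib, Finset.mul_sum]
  have hnx0 : ∀ i, 0 ≤ nx i := fun i => Finset.sum_nonneg (fun k _ => by positivity)
  have hny0 : ∀ i, 0 ≤ ny i := fun i => Finset.sum_nonneg (fun k _ => by positivity)
  have hnxy0 : ∀ i, 0 ≤ nxy i := fun i => Finset.sum_nonneg (fun k _ => by positivity)
  have hnxφ : ∀ i, X i one ≠ 0 → (Fintype.card κ : ℝ) ≤ nx i := fun i hi => ((hX i).2 hi).2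
  have hnyφ : ∀ i, Y i one ≠ 0 → (Fintype.card κ : ℝ) ≤ ny i := fun i hi => ((hY i).2 hi).2
  have hnxyφ : ∀ i, X i one + Y i one ≠ 0 → (Fintype.card κ : ℝ) ≤ nxy i :=
    fun i hi => ((hXY i).2 hi).2
  have hnxz : ∀ i, X i one = 0 → nx i = 0 := by
    intro i hi
    simp only [nx]
    apply Finset.sum_eq_zero
    intro k _
    rw [(hX i).1 hi k]; simp
  have hnyz : ∀ i, Y i one = 0 → ny i = 0 := by
    intro i hi
    simp only [ny]
    apply Finset.sum_eq_zero
    intro k _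
    rw [(hY i).1 hi k]; simp
  have hSsum : ∑ i, S i ≤ 2 * P * (Fintype.card κ : ℝ) := by
    calc ∑ i, S i = ∑ k, ∑ i, (formH α β γ (X i k) (Y i k) (X i k) (Y i k)).re :=
          Finset.sum_comm
      _ ≤ ∑ _k : κ, 2 * P := Finset.sum_le_sum (fun k _ => hT k)
      _ = 2 * P * (Fintype.card κ : ℝ) := by
          rw [Finset.sum_const, Finset.card_univ, nsmul_eq_mul]; ring
  have hXYne : ∀ j, X j one ≠ 0 ∨ Y j one ≠ 0 := by
    intro j
    by_contra hcon
    rw [not_or, not_not, not_not] at hcon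
    apply hNZ i0 j hi0
    simp [formH, hcon.1, hcon.2]
  have hkey : ∀ c : ℝ, (∀ i, c * (Fintype.card κ : ℝ) ≤ S i) →
      (Fintype.card ι : ℝ) * c ≤ 2 * P := by
    intro c hc
    have h1 : ∑ _i : ι, c * (Fintype.card κ : ℝ) ≤ ∑ i, S i :=
      Finset.sum_le_sum (fun i _ => hc i)
    rw [Finset.sum_const, Finset.card_univ, nsmul_eq_mul] at h1
    have h2 := h1.trans hSsum
    have h3 : ((Fintype.card ι : ℝ) * c) * (Fintype.card κ : ℝ) ≤
        (2 * P) * (Fintype.card κ : ℝ) := by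
      calc ((Fintype.card ι : ℝ) * c) * (Fintype.card κ : ℝ)
          = (Fintype.card ι : ℝ) * (c * (Fintype.card κ : ℝ)) := by ring
        _ ≤ 2 * P * (Fintype.card κ : ℝ) := h2
    exact le_of_mul_le_mul_right h3 hφpos
  have hcard0 : (0 : ℝ) ≤ (Fintype.card ι : ℝ) := by positivity
  have hβ0' : (0 : ℝ) ≤ 2 * (β : ℝ) := by exact_mod_cast hβ0
  have hβα' : 2 * (β : ℝ) ≤ (α : ℝ) := by exact_mod_cast hβα
  have hαγ' : (α : ℝ) ≤ (γ : ℝ) := by exact_mod_cast hαγ
  have hα' : (0 : ℝ) < (α : ℝ) := by exact_mod_cast hα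
  rcases le_or_gt 2 α with hα2 | hα1
  · -- case α ≥ 2
    have hα2' : (2 : ℝ) ≤ (α : ℝ) := by exact_mod_cast hα2
    have hall : ∀ i, (α : ℝ) * (Fintype.card κ : ℝ) ≤ S i := by
      intro i
      rw [hS i]
      by_cases hx : X i one = 0
      · have hy : Y i one ≠ 0 := (hXYne i).resolve_left (not_not.mpr hx)
        have h1 := hnxz i hx
        have h2 := hnyφ i hy
        have h3 := hnxyφ i (by rw [hx, zero_add]; exact hy)
        rw [h1]
        nlinarith [hnx0 i, hny0 i, hnxy0 i]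
      · by_cases hy : Y i one = 0
        · have h1 := hnyz i hy
          have h2 := hnxφ i hx
          have h3 := hnxyφ i (by rw [hy, add_zero]; exact hx)
          rw [h1]
          nlinarith [hnx0 i, hny0 i, hnxy0 i]
        · have h2 := hnxφ i hx
          have h3 := hnyφ i hy
          nlinarith [hnx0 i, hny0 i, hnxy0 i]
    have h4 := hkey (α : ℝ) hall
    nlinarith
  · -- case α = 1, β = 0
    have hα1' : α = 1 := by omega
    have hβ' : β = 0 := by omega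
    subst hα1' hβ'
    have hγ1 : (1 : ℝ) ≤ (γ : ℝ) := by exact_mod_cast hαγ
    have hS' : ∀ i, S i = nx i + (γ : ℝ) * ny i := by
      intro i
      rw [hS i]; simp
    by_cases ha : ∃ i1, h i1 = 0 ∧ Y i1 one = 0
    · -- (a)
      obtain ⟨i1, hi1, hy1⟩ := ha
      have hYz : ∀ k, Y i1 k = 0 := (hY i1).1 hy1
      have hx1 : X i1 one ≠ 0 := (hXYne i1).resolve_right (not_not.mpr hy1)
      have hXnz : ∀ k, X i1 k ≠ 0 := ((hX i1).2 hx1).1
      have hXj : ∀ j, X j one ≠ 0 := by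
        intro j hj
        apply hNZ i1 j hi1
        rw [hy1, formH_left_y_zero, hj]; simp
      have hcol : ∀ k, ∑ j, ‖X j k‖ ^ 2 ≤ P := by
        intro k
        have h1 := hI i1 k
        simp only [hYz k, formH_left_y_zero] at h1
        have h2 : ∀ j, ‖X i1 k * conj (X j k)‖ ^ 2 = ‖X i1 k‖ ^ 2 * ‖X j k‖ ^ 2 := by
          intro j
          rw [norm_mul, RCLike.norm_conj, mul_pow]
        have h3 : (X i1 k * conj (X i1 k)).re = ‖X i1 k‖ ^ 2 := by
          rw [Complex.mul_conj, Complex.ofReal_re, Complex.sq_norm]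
        simp only [h2, h3] at h1
        rw [← Finset.mul_sum] at h1
        have hpos : 0 < ‖X i1 k‖ ^ 2 := by
          have := norm_pos_iff.mpr (hXnz k)
          positivity
        have h4 : ‖X i1 k‖ ^ 2 * ∑ j, ‖X j k‖ ^ 2 ≤ ‖X i1 k‖ ^ 2 * P := by
          rw [mul_comm (‖X i1 k‖ ^ 2) P]; exact h1
        exact le_of_mul_le_mul_left h4 hpos
      have hsum1 : ∑ j, nx j ≤ P * (Fintype.card κ : ℝ) := by
        calc ∑ j, nx j = ∑ k, ∑ j, ‖X j k‖ ^ 2 := Finset.sum_comm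
          _ ≤ ∑ _k : κ, P := Finset.sum_le_sum (fun k _ => hcol k)
          _ = P * (Fintype.card κ : ℝ) := by
              rw [Finset.sum_const, Finset.card_univ, nsmul_eq_mul]; ring
      have hsum2 : ∑ _j : ι, (Fintype.card κ : ℝ) ≤ ∑ j, nx j :=
        Finset.sum_le_sum (fun j _ => hnxφ j (hXj j))
      rw [Finset.sum_const, Finset.card_univ, nsmul_eq_mul] at hsum2
      exact le_of_mul_le_mul_right (hsum2.trans hsum1) hφpos
    · by_cases hb : ∃ i1, h i1 = 0 ∧ X i1 one = 0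
      · -- (b)
        obtain ⟨i1, hi1, hx1⟩ := hb
        have hXz : ∀ k, X i1 k = 0 := (hX i1).1 hx1
        have hy1 : Y i1 one ≠ 0 := (hXYne i1).resolve_left (not_not.mpr hx1)
        have hYnz : ∀ k, Y i1 k ≠ 0 := ((hY i1).2 hy1).1
        have hYj : ∀ j, Y j one ≠ 0 := by
          intro j hj
          apply hNZ i1 j hi1
          rw [hx1, formH_left_x_zero, hj]; simp
        have hcol : ∀ k, ∑ j, ‖Y j k‖ ^ 2 ≤ P := by
          intro k
          have h1 := hI i1 k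
          simp only [hXz k, formH_left_x_zero] at h1
          have h2 : ∀ j, ‖(γ : ℂ) * (Y i1 k * conj (Y j k))‖ ^ 2 =
              ((γ : ℝ) ^ 2 * ‖Y i1 k‖ ^ 2) * ‖Y j k‖ ^ 2 := by
            intro j
            rw [norm_mul, norm_mul, RCLike.norm_conj, mul_pow, mul_pow, Complex.norm_intCast,
              sq_abs]
            ring
          have h3 : ((γ : ℂ) * (Y i1 k * conj (Y i1 k))).re = (γ : ℝ) * ‖Y i1 k‖ ^ 2 := by
            rw [Complex.mul_conj, ← Complex.ofReal_intCast, ← Complex.ofReal_mul,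
              Complex.ofReal_re, Complex.sq_norm]
          simp only [h2, h3] at h1
          rw [← Finset.mul_sum] at h1
          have hpos : 0 < ‖Y i1 k‖ ^ 2 := by
            have := norm_pos_iff.mpr (hYnz k)
            positivity
          have hs0 : 0 ≤ ∑ j, ‖Y j k‖ ^ 2 := Finset.sum_nonneg (fun j _ => by positivity)
          -- γ² a s ≤ P γ a  ⇒  γ s ≤ P  ⇒  s ≤ P
          have h4 : ((γ : ℝ) * ‖Y i1 k‖ ^ 2) * ((γ : ℝ) * ∑ j, ‖Y j k‖ ^ 2) ≤
              ((γ : ℝ) * ‖Y i1 k‖ ^ 2) * P := by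
            calc ((γ : ℝ) * ‖Y i1 k‖ ^ 2) * ((γ : ℝ) * ∑ j, ‖Y j k‖ ^ 2)
                = (γ : ℝ) ^ 2 * ‖Y i1 k‖ ^ 2 * ∑ j, ‖Y j k‖ ^ 2 := by ring
              _ ≤ P * ((γ : ℝ) * ‖Y i1 k‖ ^ 2) := h1
              _ = ((γ : ℝ) * ‖Y i1 k‖ ^ 2) * P := by ring
          have hpos2 : 0 < (γ : ℝ) * ‖Y i1 k‖ ^ 2 := by positivity
          have h5 : (γ : ℝ) * ∑ j, ‖Y j k‖ ^ 2 ≤ P := le_of_mul_le_mul_left h4 hpos2
          nlinarith
        have hsum1 : ∑ j, ny j ≤ P * (Fintype.card κ : ℝ) := by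
          calc ∑ j, ny j = ∑ k, ∑ j, ‖Y j k‖ ^ 2 := Finset.sum_comm
            _ ≤ ∑ _k : κ, P := Finset.sum_le_sum (fun k _ => hcol k)
            _ = P * (Fintype.card κ : ℝ) := by
                rw [Finset.sum_const, Finset.card_univ, nsmul_eq_mul]; ring
        have hsum2 : ∑ _j : ι, (Fintype.card κ : ℝ) ≤ ∑ j, ny j :=
          Finset.sum_le_sum (fun j _ => hnyφ j (hYj j))
        rw [Finset.sum_const, Finset.card_univ, nsmul_eq_mul] at hsum2
        exact le_of_mul_le_mul_right (hsum2.trans hsum1) hφpos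
      · -- (c)
        rw [not_exists] at ha hb
        have hall : ∀ i, (2 : ℝ) * (Fintype.card κ : ℝ) ≤ S i := by
          intro i
          by_cases hi : h i = 0
          · have hy : Y i one ≠ 0 := fun hy => ha i ⟨hi, hy⟩
            have hx : X i one ≠ 0 := fun hx => hb i ⟨hi, hx⟩
            rw [hS' i]
            have h2 := hnxφ i hx
            have h3 := hnyφ i hy
            nlinarith [hny0 i]
          · have h1 := hH i
            have h2 : (2 : ℝ) ≤ (p : ℝ) ^ h i := by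
              have hp' : (2 : ℝ) ≤ (p : ℝ) := by exact_mod_cast hp
              calc (2 : ℝ) ≤ (p : ℝ) := hp'
                _ = (p : ℝ) ^ 1 := (pow_one _).symm
                _ ≤ (p : ℝ) ^ h i :=
                    pow_le_pow_right₀ (by linarith) (Nat.one_le_iff_ne_zero.mpr hi)
            calc (2 : ℝ) * (Fintype.card κ : ℝ) = (Fintype.card κ : ℝ) * 2 := by ring
              _ ≤ (Fintype.card κ : ℝ) * (p : ℝ) ^ h i :=
                  mul_le_mul_of_nonneg_left h2 hφpos.le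
              _ ≤ S i := h1
        have h4 := hkey 2 hall
        linarith

end Cfsg.Agent.Lib.H15.KB
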