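import Mathlib
import Cfsg.Agent.Lib.H2.KRDEFS
import Cfsg.Agent.Lib.H25.KRC0

/-!
S4651 piece (C1) `flip_isUChain` (helper15): the toggled chain is again a `u`-stable normal chain.
-/

set_option autoImplicit false
set_option linter.unusedSectionVars false

namespace Cfsg.Agent.Lib.H15.KR

open Cfsg Cfsg.Agent.Lib.H2.KR Cfsg.Agent.Lib.H25.KR
open scoped Classical

variable {G : Type*} [Group G] [Finite G] {p : ℕ} [Fact p.Prime]

/-- `low ≤ top`. -/
theorem low_le_top (s : Finset (Subgroup G)) (u : G) : low s u ≤ top s := by
  unfold low top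
  exact Finset.sup_mono (Finset.filter_subset _ _)

/-- The `top`-conjugates of `u` normalise every member of a `u`-stable chain. -/
theorem ncl_le_normalizer {u : G} {s : Finset (Subgroup G)} (hs : IsUChain p u s)
    {Q : Subgroup G} (hQ : Q ∈ s) : ncl s u ≤ Subgroup.normalizer (Q : Set G) := by
  unfold ncl
  rw [Subgroup.closure_le]
  rintro y ⟨t, ht, rfl⟩
  have h1 : t ∈ Subgroup.normalizer (Q : Set G) := top_le_normalizer hs hQ ht
  have h2 : u ∈ Subgroup.normalizer (Q : Set G) := hs.2 Q hQ
  exact Subgroup.mul_mem _ (Subgroup.mul_mem _ h1 h2) (Subgroup.inv_mem _ h1)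

/-- `top` normalises `low`. -/
theorem top_le_normalizer_low {u : G} {s : Finset (Subgroup G)} (hs : IsUChain p u s) :
    top s ≤ Subgroup.normalizer (low s u : Set G) := by
  rcases low_eq_bot_or_mem hs with h | ⟨h, -⟩
  · rw [h]
    intro x _
    rw [Subgroup.mem_normalizer_iff]
    intro y
    simp
  · exact top_le_normalizer hs h

/-- `top` normalises the pivot. -/
theorem top_le_normalizer_piv {u : G} {s : Finset (Subgroup G)} (hs : IsUChain p u s) :
    top s ≤ Subgroup.normalizer (piv s u : Set G) := by
  intro x hx
  unfold piv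
  exact mem_normalizer_sup (top_le_normalizer_low hs hx) (top_le_normalizer_ncl s u hx)

/-- `u` normalises the pivot. -/
theorem mem_normalizer_piv_self {u : G} {s : Finset (Subgroup G)} (hs : IsUChain p u s) :
    u ∈ Subgroup.normalizer (piv s u : Set G) := by
  unfold piv
  apply mem_normalizer_sup
  · unfold low
    apply mem_normalizer_finset_sup
    intro Q hQ
    exact hs.2 Q (Finset.mem_filter.mp hQ).1
  · exact Subgroup.le_normalizer (mem_ncl s u)

/-- The pivot contains `u`. -/
theorem mem_piv (s : Finset (Subgroup G)) (u : G) : u ∈ piv s u := by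
  unfold piv
  exact (le_sup_right : ncl s u ≤ low s u ⊔ ncl s u) (mem_ncl s u)

/-- The pivot lies in `top ⊔ ncl`. -/
theorem piv_le_top_sup_ncl (s : Finset (Subgroup G)) (u : G) : piv s u ≤ top s ⊔ ncl s u := by
  unfold piv
  exact sup_le_sup_right (low_le_top s u) _

/-- Members are comparable with the pivot. -/
theorem piv_comparable {u : G} {s : Finset (Subgroup G)} (hs : IsUChain p u s)
    {Q : Subgroup G} (hQ : Q ∈ s) : Q ≤ piv s u ∨ piv s u ≤ Q := by
  by_cases hu : u ∈ Q
  · right
    unfold piv
    exact sup_le (low_le_of_mem hs hQ hu) (ncl_le_of_mem hs hQ hu)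
  · left
    unfold piv
    exact le_trans (le_low_of_not_mem hQ hu) le_sup_left

/-- If `u ∉ top` then `low = top`. -/
theorem low_eq_top_of_not_mem {u : G} {s : Finset (Subgroup G)} (hs : IsUChain p u s)
    (hu : u ∉ top s) : low s u = top s := by
  apply le_antisymm (low_le_top s u)
  rcases hs.1 with h | h
  · rw [h, top_empty]
    exact bot_le
  · exact le_low_of_not_mem (top_mem h) hu

/-- (C1 L1) the toggled chain is a `u`-stable chain. -/
theorem flip_isUChain {u : G} (hu : ∃ k : ℕ, orderOf u = p ^ k) (hu1 : u ≠ 1)
    {s : Finset (Subgroup G)} (hs : IsUChain p u s) : IsUChain p u (flip s u) := by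
  unfold Cfsg.Agent.Lib.H2.KR.flip
  by_cases hX : piv s u ∈ s
  · -- erase
    rw [if_pos hX]
    have hne : s ≠ ∅ := fun h => by rw [h] at hX; exact absurd hX (Finset.notMem_empty _)
    have hN : IsNChain p s := by
      rcases hs.1 with h | h
      · exact absurd h hne
      · exact h
    obtain ⟨-, hch, hpg, T₀, hT₀, hT₀top⟩ := hN
    refine ⟨?_, fun Q hQ => hs.2 Q (Finset.mem_of_mem_erase hQ)⟩
    by_cases hemp : s.erase (piv s u) = ∅
    · exact Or.inl hemp
    right
    have hne' : (s.erase (piv s u)).Nonempty := Finset.nonempty_iff_ne_empty.mpr hemp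
    refine ⟨hne', fun Q hQ R hR => hch Q (Finset.mem_of_mem_erase hQ) R (Finset.mem_of_mem_erase hR),
      fun Q hQ => hpg Q (Finset.mem_of_mem_erase hQ), ?_⟩
    by_cases hT₀X : T₀ = piv s u
    · -- the top is erased: a maximal member of the rest
      obtain ⟨T', hT', hmax⟩ := (s.erase (piv s u)).exists_maximal hne'
      refine ⟨T', hT', fun Q hQ => ⟨?_, ?_⟩⟩
      · rcases hch Q (Finset.mem_of_mem_erase hQ) T' (Finset.mem_of_mem_erase hT') with h | h
        · exact h
        · exact hmax hQ h
      · exact le_trans (hT₀top T' (Finset.mem_of_mem_erase hT')).1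
          (hT₀top Q (Finset.mem_of_mem_erase hQ)).2
    · exact ⟨T₀, Finset.mem_erase.mpr ⟨hT₀X, hT₀⟩,
        fun Q hQ => hT₀top Q (Finset.mem_of_mem_erase hQ)⟩
  · -- insert
    rw [if_neg hX]
    have hXu : u ∈ Subgroup.normalizer (piv s u : Set G) := mem_normalizer_piv_self hs
    refine ⟨Or.inr ⟨Finset.insert_nonempty _ _, ?_, ?_, ?_⟩, ?_⟩
    · -- chain
      intro Q hQ R hR
      rw [Finset.mem_insert] at hQ hR
      rcases hQ with rfl | hQ <;> rcases hR with rfl | hR
      · exact Or.inl le_rfl
      · exact (piv_comparable hs hR).symm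
      · exact piv_comparable hs hQ
      · rcases hs.1 with h | h
        · rw [h] at hQ; exact absurd hQ (Finset.notMem_empty _)
        · exact h.2.1 Q hQ R hR
    · -- nontrivial p-groups
      intro Q hQ
      rw [Finset.mem_insert] at hQ
      rcases hQ with rfl | hQ
      · refine ⟨?_, (isPGroup_top_sup_ncl hu hs).to_le (piv_le_top_sup_ncl s u)⟩
        intro h
        have := mem_piv s u
        rw [h, Subgroup.mem_bot] at this
        exact hu1 this
      · rcases hs.1 with h | h
        · rw [h] at hQ; exact absurd hQ (Finset.notMem_empty _)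
        · exact h.2.2.1 Q hQ
    · -- the top
      by_cases huT : u ∈ top s
      · -- `top s` stays the top
        have hne : s ≠ ∅ := by
          intro h
          rw [h, top_empty, Subgroup.mem_bot] at huT
          exact hu1 huT
        have hN : IsNChain p s := by
          rcases hs.1 with h | h
          · exact absurd h hne
          · exact h
        have hTs : top s ∈ s := top_mem hN
        refine ⟨top s, Finset.mem_insert_of_mem hTs, fun Q hQ => ?_⟩
        rw [Finset.mem_insert] at hQ
        rcases hQ with rfl | hQ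
        · refine ⟨?_, top_le_normalizer_piv hs⟩
          unfold piv
          exact sup_le (low_le_top s u) (ncl_le_of_mem hs hTs huT)
        · exact ⟨le_top_of_mem hQ, top_le_normalizer hs hQ⟩
      · -- the pivot `top ⊔ ncl` is the new top
        have hlow := low_eq_top_of_not_mem hs huT
        refine ⟨piv s u, Finset.mem_insert_self _ _, fun Q hQ => ?_⟩
        rw [Finset.mem_insert] at hQ
        rcases hQ with rfl | hQ
        · exact ⟨le_rfl, Subgroup.le_normalizer⟩
        · refine ⟨?_, ?_⟩
          · unfold piv
            rw [hlow]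
            exact le_trans (le_top_of_mem hQ) le_sup_left
          · unfold piv
            rw [hlow]
            exact sup_le (top_le_normalizer hs hQ) (ncl_le_normalizer hs hQ)
    · intro Q hQ
      rw [Finset.mem_insert] at hQ
      rcases hQ with rfl | hQ
      · exact hXu
      · exact hs.2 Q hQ

end Cfsg.Agent.Lib.H15.KR
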