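import Cfsg.Agent.Lib.H15.KYCY4Core
import Cfsg.Agent.Lib.H5.KYZ1
import Cfsg.Agent.Lib.H3.KYCY2
import Cfsg.Agent.Lib.H5.KYCY3

/-!
# S4540 piece CY4 `exists_int_sum_units_of_mem`, exact signature of `tools/blueprints/S4540_sigs.lean`.

Wrapper of `exists_int_sum_units_of_mem_core` on Z1 (helper5), CY2 (helper3), CY3 (helper5).
-/

set_option autoImplicit false

namespace Cfsg.Agent.Lib.H15.KY

open scoped ComplexConjugate

/-- (CY4) exact signature of `tools/blueprints/S4540_sigs.lean`. -/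
theorem exists_int_sum_units_of_mem (R : Subring ℂ) [IsLocalRing R]
    (h2 : (2 : R) ∈ IsLocalRing.maximalIdeal R) (hint : ∀ x : ℂ, IsIntegral ℤ x → x ∈ R)
    {ι : Type*} [Fintype ι] (c : ι → ℤ) (w : ι → ℂ) (j : ℕ) (hwj : ∀ t, w t ^ (2 ^ j) = 1)
    (m : ℕ) [NeZero m] (hwm : ∀ t, w t ^ m = 1)
    (hreal : conj (∑ t, (c t : ℂ) * w t) = ∑ t, (c t : ℂ) * w t)
    (h : ℕ) (r : R) (hx : ∑ t, (c t : ℂ) * w t = 2 ^ h * (r : ℂ)) :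
    ∃ A : ℤ, (∑ k : (ZMod m)ˣ, ∑ t, (c t : ℂ) * w t ^ (k : ZMod m).val) =
        (Fintype.card (ZMod m)ˣ : ℂ) * (A : ℂ) ∧ (2 : ℤ) ^ h ∣ A ∧
      (r ∈ IsLocalRing.maximalIdeal R → (2 : ℤ) ^ (h + 1) ∣ A) :=
  exists_int_sum_units_of_mem_core R hint m
    (fun w hwm j hwj h1 hm1 => Cfsg.Agent.Lib.H5.KY.sum_units_pow_eq_zero m w hwm j hwj h1 hm1)
    (fun ζ hζR a hζ β h r hr hx => Cfsg.Agent.Lib.H3.KY.coeff_dvd R h2 ζ hζR a hζ β h r hr hx)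
    (fun ζ hζR a hζ γ hreal y hy hym =>
      Cfsg.Agent.Lib.H5.KY.real_parity R h2 ζ hζR a hζ γ hreal y hy hym)
    c w j hwj hwm hreal h r hx

end Cfsg.Agent.Lib.H15.KY
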