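import Mathlib

/-!
# S4540 piece CY4 (core): the combined cyclotomic statement, with Z1 / CY2 / CY3 as explicit hypotheses.
-/

set_option autoImplicit false

namespace Cfsg.Agent.Lib.H15.KY

open scoped ComplexConjugate

/-- values of a unit of `ZMod m` are odd when `m` is even. -/
theorem cy4_odd_val (m : ℕ) [NeZero m] (hm : Even m) (k : (ZMod m)ˣ) : Odd (k : ZMod m).val := by
  have hc := ZMod.val_coe_unit_coprime k
  rcases Nat.even_or_odd (k : ZMod m).val with he | ho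
  · exfalso
    have h2m : 2 ∣ m := hm.two_dvd
    have h2v : 2 ∣ (k : ZMod m).val := he.two_dvd
    have := Nat.dvd_gcd h2v h2m
    rw [Nat.Coprime] at hc
    rw [hc] at this
    omega
  · exact ho

/-- the Ramanujan sums of roots of unity of 2-power order, from Z1. -/
theorem cy4_sum_units (m : ℕ) [NeZero m]
    (hZ1 : ∀ (w : ℂ), w ^ m = 1 → ∀ j : ℕ, w ^ (2 ^ j) = 1 → w ≠ 1 → w ≠ -1 →
      ∑ k : (ZMod m)ˣ, w ^ (k : ZMod m).val = 0)
    (w : ℂ) (hwm : w ^ m = 1) (j : ℕ) (hwj : w ^ (2 ^ j) = 1) :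
    ∑ k : (ZMod m)ˣ, w ^ (k : ZMod m).val =
      (Fintype.card (ZMod m)ˣ : ℂ) *
        (((if w = 1 then (1 : ℤ) else 0) - (if w = -1 then (1 : ℤ) else 0) : ℤ) : ℂ) := by
  have hne : (-1 : ℂ) ≠ 1 := by norm_num
  by_cases h1 : w = 1
  · subst h1
    have : ¬ ((1 : ℂ) = -1) := fun h => hne h.symm
    simp [this]
  · by_cases hm1 : w = -1
    · subst hm1
      have hev : Even m := (neg_one_pow_eq_one_iff_even hne).1 hwm
      have : ∀ k : (ZMod m)ˣ, (-1 : ℂ) ^ (k : ZMod m).val = -1 := fun k =>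
        (cy4_odd_val m hev k).neg_one_pow
      simp [this, hne]
    · rw [hZ1 w hwm j hwj h1 hm1]
      simp [h1, hm1]

/-- decomposition of a `2^(a+1)`-th root of unity in the basis `1, ζ, …, ζ^(2^a-1)` with signs. -/
theorem cy4_key (ζ : ℂ) (a : ℕ) (hprim : IsPrimitiveRoot ζ (2 ^ (a + 1))) (hζ : ζ ^ (2 ^ a) = -1)
    (w : ℂ) (hw : w ^ (2 ^ (a + 1)) = 1) :
    ∑ i ∈ Finset.range (2 ^ a),
      (((if w = ζ ^ i then (1 : ℤ) else 0) - (if w = -ζ ^ i then (1 : ℤ) else 0) : ℤ) : ℂ) * ζ ^ i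
      = w := by
  obtain ⟨e, he, rfl⟩ := hprim.eq_pow_of_pow_eq_one hw
  have hpow : 2 ^ (a + 1) = 2 ^ a + 2 ^ a := by rw [pow_succ]; ring
  have hζ0 : ζ ≠ 0 := by
    intro h0
    rw [h0, zero_pow (by positivity)] at hζ
    norm_num at hζ
  have hneg : ∀ i : ℕ, -ζ ^ i = ζ ^ (i + 2 ^ a) := by
    intro i
    rw [pow_add, hζ]; ring
  have hiff1 : ∀ i < 2 ^ a, (ζ ^ e = ζ ^ i ↔ e = i) := by
    intro i hi
    constructor
    · intro h
      exact hprim.pow_inj he (by omega) h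
    · rintro rfl; rfl
  have hiff2 : ∀ i < 2 ^ a, (ζ ^ e = -ζ ^ i ↔ e = i + 2 ^ a) := by
    intro i hi
    rw [hneg i]
    constructor
    · intro h
      exact hprim.pow_inj he (by omega) h
    · rintro rfl; rfl
  by_cases hlt : e < 2 ^ a
  · rw [Finset.sum_eq_single e]
    · have h1 : ¬ (e = e + 2 ^ a) := by
        have : 0 < 2 ^ a := by positivity
        omega
      rw [if_pos rfl, if_neg (fun h => h1 ((hiff2 e hlt).1 h))]
      simp
    · intro i hi hie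
      rw [Finset.mem_range] at hi
      have h1 : ¬ (ζ ^ e = ζ ^ i) := fun h => hie ((hiff1 i hi).1 h).symm
      have h2 : ¬ (ζ ^ e = -ζ ^ i) := fun h => by
        have := (hiff2 i hi).1 h
        omega
      rw [if_neg h1, if_neg h2]
      simp
    · intro hn
      exact absurd (Finset.mem_range.2 hlt) hn
  · have hi0 : e - 2 ^ a < 2 ^ a := by omega
    rw [Finset.sum_eq_single (e - 2 ^ a)]
    · have h1 : ¬ (ζ ^ e = ζ ^ (e - 2 ^ a)) := fun h => by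
        have := (hiff1 _ hi0).1 h
        have : 0 < 2 ^ a := by positivity
        omega
      have h2 : ζ ^ e = -ζ ^ (e - 2 ^ a) := (hiff2 _ hi0).2 (by omega)
      rw [if_neg h1, if_pos h2]
      rw [h2]
      simp
    · intro i hi hie
      rw [Finset.mem_range] at hi
      have h1 : ¬ (ζ ^ e = ζ ^ i) := fun h => by
        have := (hiff1 i hi).1 h
        omega
      have h2 : ¬ (ζ ^ e = -ζ ^ i) := fun h => by
        have := (hiff2 i hi).1 h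
        omega
      rw [if_neg h1, if_neg h2]
      simp
    · intro hn
      exact absurd (Finset.mem_range.2 hi0) hn

/-- existence of `ζ` with `ζ^(2^a) = -1`, primitive, integral. -/
theorem cy4_exists_zeta (a : ℕ) :
    ∃ ζ : ℂ, IsPrimitiveRoot ζ (2 ^ (a + 1)) ∧ ζ ^ (2 ^ a) = -1 ∧ IsIntegral ℤ ζ := by
  have hn : (2 ^ (a + 1) : ℕ) ≠ 0 := by positivity
  have hprim := Complex.isPrimitiveRoot_exp (2 ^ (a + 1)) hn
  refine ⟨_, hprim, ?_, hprim.isIntegral (by positivity)⟩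
  have h2 : IsPrimitiveRoot (Complex.exp (2 * Real.pi * Complex.I / ((2 ^ (a + 1) : ℕ) : ℂ)) ^ (2 ^ a)) 2 :=
    IsPrimitiveRoot.pow (by positivity) hprim (by rw [pow_succ])
  exact h2.eq_neg_one_of_two_right

/-- (CY4, core) with Z1, CY2, CY3 as hypotheses. -/
theorem exists_int_sum_units_of_mem_core (R : Subring ℂ) [IsLocalRing R]
    (hint : ∀ x : ℂ, IsIntegral ℤ x → x ∈ R)
    (m : ℕ) [NeZero m]
    (hZ1 : ∀ (w : ℂ), w ^ m = 1 → ∀ j : ℕ, w ^ (2 ^ j) = 1 → w ≠ 1 → w ≠ -1 →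
      ∑ k : (ZMod m)ˣ, w ^ (k : ZMod m).val = 0)
    (hCY2 : ∀ (ζ : ℂ), ζ ∈ R → ∀ a : ℕ, ζ ^ (2 ^ a) = -1 → ∀ (β : ℕ → ℤ) (h : ℕ) (r : ℂ), r ∈ R →
      ∑ i ∈ Finset.range (2 ^ a), (β i : ℂ) * ζ ^ i = 2 ^ h * r → ∀ i < 2 ^ a, (2 : ℤ) ^ h ∣ β i)
    (hCY3 : ∀ (ζ : ℂ), ζ ∈ R → ∀ a : ℕ, ζ ^ (2 ^ a) = -1 → ∀ (γ : ℕ → ℤ),
      conj (∑ i ∈ Finset.range (2 ^ a), (γ i : ℂ) * ζ ^ i) =
        ∑ i ∈ Finset.range (2 ^ a), (γ i : ℂ) * ζ ^ i →
      ∀ y : R, (y : ℂ) = ∑ i ∈ Finset.range (2 ^ a), (γ i : ℂ) * ζ ^ i →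
        y ∈ IsLocalRing.maximalIdeal R → (2 : ℤ) ∣ γ 0)
    {ι : Type*} [Fintype ι] (c : ι → ℤ) (w : ι → ℂ) (j : ℕ) (hwj : ∀ t, w t ^ (2 ^ j) = 1)
    (hwm : ∀ t, w t ^ m = 1)
    (hreal : conj (∑ t, (c t : ℂ) * w t) = ∑ t, (c t : ℂ) * w t)
    (h : ℕ) (r : R) (hx : ∑ t, (c t : ℂ) * w t = 2 ^ h * (r : ℂ)) :
    ∃ A : ℤ, (∑ k : (ZMod m)ˣ, ∑ t, (c t : ℂ) * w t ^ (k : ZMod m).val) =
        (Fintype.card (ZMod m)ˣ : ℂ) * (A : ℂ) ∧ (2 : ℤ) ^ h ∣ A ∧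
      (r ∈ IsLocalRing.maximalIdeal R → (2 : ℤ) ^ (h + 1) ∣ A) := by
  classical
  obtain ⟨ζ, hprim, hζ, hζint⟩ := cy4_exists_zeta (j - 1)
  set a := j - 1 with ha
  have hζR : ζ ∈ R := hint ζ hζint
  have hw2 : ∀ t, w t ^ (2 ^ (a + 1)) = 1 := by
    intro t
    have hle : j ≤ a + 1 := by omega
    obtain ⟨d, hd⟩ := pow_dvd_pow 2 hle
    rw [hd, pow_mul, hwj t, one_pow]
  -- the coefficients
  set β : ℕ → ℤ := fun i =>
    ∑ t, c t * ((if w t = ζ ^ i then (1 : ℤ) else 0) - (if w t = -ζ ^ i then (1 : ℤ) else 0))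
    with hβ
  have hkey : ∑ i ∈ Finset.range (2 ^ a), (β i : ℂ) * ζ ^ i = ∑ t, (c t : ℂ) * w t := by
    have : ∀ i, (β i : ℂ) * ζ ^ i = ∑ t, (c t : ℂ) *
        ((((if w t = ζ ^ i then (1 : ℤ) else 0) - (if w t = -ζ ^ i then (1 : ℤ) else 0) : ℤ) : ℂ)
          * ζ ^ i) := by
      intro i
      rw [hβ]
      push_cast
      rw [Finset.sum_mul]
      refine Finset.sum_congr rfl fun t _ => ?_
      ring
    simp_rw [this]
    rw [Finset.sum_comm]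
    refine Finset.sum_congr rfl fun t _ => ?_
    rw [← Finset.mul_sum, cy4_key ζ a hprim hζ (w t) (hw2 t)]
  have hβ0 : β 0 =
      ∑ t, c t * ((if w t = 1 then (1 : ℤ) else 0) - (if w t = -1 then (1 : ℤ) else 0)) := by
    rw [hβ]
    simp only [pow_zero]
  refine ⟨β 0, ?_, ?_, ?_⟩
  · rw [Finset.sum_comm]
    have : ∀ t, ∑ k : (ZMod m)ˣ, (c t : ℂ) * w t ^ (k : ZMod m).val =
        (Fintype.card (ZMod m)ˣ : ℂ) * ((c t : ℂ) *
          (((if w t = 1 then (1 : ℤ) else 0) - (if w t = -1 then (1 : ℤ) else 0) : ℤ) : ℂ)) := by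
      intro t
      rw [← Finset.mul_sum, cy4_sum_units m hZ1 (w t) (hwm t) j (hwj t)]
      ring
    simp_rw [this]
    rw [← Finset.mul_sum, hβ0]
    push_cast
    rfl
  · have hpos : 0 < 2 ^ a := by positivity
    exact hCY2 ζ hζR a hζ β h (r : ℂ) r.2 (hkey.trans hx) 0 hpos
  · intro hr
    have hdiv := hCY2 ζ hζR a hζ β h (r : ℂ) r.2 (hkey.trans hx)
    set γ : ℕ → ℤ := fun i => β i / 2 ^ h with hγ
    have hβγ : ∀ i < 2 ^ a, β i = 2 ^ h * γ i := by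
      intro i hi
      rw [hγ]
      exact (Int.mul_ediv_cancel' (hdiv i hi)).symm
    have h2ne : (2 : ℂ) ^ h ≠ 0 := pow_ne_zero _ two_ne_zero
    have hsum : (r : ℂ) = ∑ i ∈ Finset.range (2 ^ a), (γ i : ℂ) * ζ ^ i := by
      have h1 : (2 : ℂ) ^ h * ∑ i ∈ Finset.range (2 ^ a), (γ i : ℂ) * ζ ^ i = 2 ^ h * (r : ℂ) := by
        rw [← hx, ← hkey, Finset.mul_sum]
        refine Finset.sum_congr rfl fun i hi => ?_
        rw [hβγ i (Finset.mem_range.1 hi)]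
        push_cast
        ring
      exact (mul_left_cancel₀ h2ne h1).symm
    have hrreal : conj (r : ℂ) = (r : ℂ) := by
      rw [hx] at hreal
      rw [map_mul, map_pow] at hreal
      have : conj (2 : ℂ) = 2 := by
        rw [show (2 : ℂ) = ((2 : ℝ) : ℂ) by norm_num, Complex.conj_ofReal]
      rw [this] at hreal
      exact mul_left_cancel₀ h2ne hreal
    have hγreal : conj (∑ i ∈ Finset.range (2 ^ a), (γ i : ℂ) * ζ ^ i) =
        ∑ i ∈ Finset.range (2 ^ a), (γ i : ℂ) * ζ ^ i := by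
      rw [← hsum]; exact hrreal
    have h2 := hCY3 ζ hζR a hζ γ hγreal r hsum hr
    have hpos : 0 < 2 ^ a := by positivity
    rw [hβγ 0 hpos, pow_succ]
    exact mul_dvd_mul_left _ h2

end Cfsg.Agent.Lib.H15.KY
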