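/-
S2335 / S2334 (helper15): the orbit lemma in the shape used by the assemblies, from helper16's neutral
`Cfsg.Agent.Lib.H16.LS.card_orbit_ge` / `card_orbit_ge_one`.
-/
import Cfsg.Agent.Lib.H15.LSDefs
import Cfsg.Agent.Lib.H16.LSOrbit

set_option autoImplicit false

namespace Cfsg.Agent.Lib.H15.LS

open Matrix

section orb

variable {F : Type*} [Field F] [Fintype F] {q : ℕ}

theorem map_frob_eq (σ : F →+* F) (hσ : ∀ x, σ x = x ^ q) {m : ℕ} (g : Matrix (Fin m) (Fin m) F) :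
    g.map (· ^ q) = g.map σ := by
  ext i j
  simp [hσ]

theorem map_map_self' (σ : F →+* F) (hσ2 : ∀ x, σ (σ x) = x) {m : ℕ} (g : Matrix (Fin m) (Fin m) F) :
    (g.map σ).map σ = g := by
  ext i j
  simp [hσ2]

theorem hActD_mem (σ : F →+* F) (hσ2 : ∀ x, σ (σ x) = x) {m : ℕ} (g Y : Matrix (Fin m) (Fin m) F)
    (hY : Y ∈ Herm σ m) : hActD σ g Y ∈ Herm σ m := by
  have hY' : (Y.map σ)ᵀ = Y := hY
  show ((hActD σ g Y).map σ)ᵀ = hActD σ g Y
  unfold hActD
  rw [Matrix.map_mul, Matrix.map_mul, Matrix.transpose_mul, Matrix.transpose_mul, hY']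
  have h1 : (((g.map σ)ᵀ).map σ)ᵀ = g := by
    rw [Matrix.transpose_map, Matrix.transpose_transpose, map_map_self' σ hσ2]
  rw [h1, Matrix.mul_assoc]

theorem hActD_mul (σ : F →+* F) {m : ℕ} (g h Y : Matrix (Fin m) (Fin m) F) :
    hActD σ (h * g) Y = hActD σ g (hActD σ h Y) := by
  unfold hActD
  rw [Matrix.map_mul, Matrix.transpose_mul]
  simp only [Matrix.mul_assoc]

theorem hActD_one (σ : F →+* F) {m : ℕ} (Y : Matrix (Fin m) (Fin m) F) : hActD σ 1 Y = Y := by
  unfold hActD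
  have : ((1 : Matrix (Fin m) (Fin m) F).map σ) = 1 := by
    ext i j
    by_cases h : i = j
    · subst h; simp
    · simp [h]
  rw [this, Matrix.transpose_one, Matrix.one_mul, Matrix.mul_one]

theorem finite_Herm (σ : F →+* F) (m : ℕ) : Finite (Herm σ m) :=
  Finite.of_injective (fun X : Herm σ m => (X : Matrix (Fin m) (Fin m) F)) Subtype.val_injective

/-- the `SL_m`-orbit lemma -/
theorem orbit_card_ge (hF : Fintype.card F = q ^ 2) (σ : F →+* F) (hσ : ∀ x, σ x = x ^ q)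
    (hσ2 : ∀ x, σ (σ x) = x) (m : ℕ) (hm : 2 ≤ m) (Y : Herm σ m) (hY : Y ≠ 0) :
    q ^ (2 * m) - 1 ≤ (q + 1) *
      Nat.card {Z : Herm σ m // ∃ g : Matrix.SpecialLinearGroup (Fin m) F,
        (Z : Matrix (Fin m) (Fin m) F) = hActD σ g.1 Y.1} := by
  classical
  haveI := finite_Herm σ m
  set S : Set (Matrix (Fin m) (Fin m) F) :=
    {Z | ∃ g : Matrix.SpecialLinearGroup (Fin m) F, Z = hActD σ g.1 Y.1} with hS
  have h1 : ∀ Z ∈ S, ∀ g : Matrix.SpecialLinearGroup (Fin m) F,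
      ((g : Matrix _ _ F).map (· ^ q))ᵀ * Z * (g : Matrix _ _ F) ∈ S := by
    rintro Z ⟨h, rfl⟩ g
    refine ⟨h * g, ?_⟩
    rw [map_frob_eq σ hσ]
    show hActD σ g.1 (hActD σ h.1 Y.1) = hActD σ (h * g).1 Y.1
    rw [← hActD_mul]
    rfl
  have h2 : Y.1 ∈ S := ⟨1, by
    show Y.1 = hActD σ ((1 : Matrix.SpecialLinearGroup (Fin m) F) : Matrix (Fin m) (Fin m) F) Y.1
    rw [Matrix.SpecialLinearGroup.coe_one, hActD_one]⟩
  have h3 : Y.1 ≠ 0 := fun h => hY (Subtype.ext h)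
  have h4 : ∀ i j, Y.1 j i = (Y.1 i j) ^ q := by
    intro i j
    have hY' : (Y.1.map σ)ᵀ = Y.1 := Y.2
    have := congrFun (congrFun hY' j) i
    rw [Matrix.transpose_apply, Matrix.map_apply, hσ] at this
    exact this.symm
  have key := Cfsg.Agent.Lib.H16.LS.card_orbit_ge hF hm S h1 Y.1 h2 h3 h4
  refine key.trans (Nat.mul_le_mul_left _ ?_)
  rw [← _root_.Nat.card_coe_set_eq]
  apply Nat.card_le_card_of_injective
    (fun Z : S => (⟨⟨Z.1, by
        obtain ⟨g, hg⟩ := Z.2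
        rw [hg]
        exact hActD_mem σ hσ2 g.1 Y.1 Y.2⟩, Z.2⟩ :
      {Z : Herm σ m // ∃ g : Matrix.SpecialLinearGroup (Fin m) F,
        (Z : Matrix (Fin m) (Fin m) F) = hActD σ g.1 Y.1}))
  intro Z Z' h
  apply Subtype.ext
  have := congrArg (fun z : {Z : Herm σ m // ∃ g : Matrix.SpecialLinearGroup (Fin m) F,
        (Z : Matrix (Fin m) (Fin m) F) = hActD σ g.1 Y.1} => (z.1 : Matrix (Fin m) (Fin m) F)) h
  exact this

/-- the `GL_m`-orbit lemma, all `m ≥ 1` -/
theorem orbit_card_ge_GL' (hF : Fintype.card F = q ^ 2) (σ : F →+* F) (hσ : ∀ x, σ x = x ^ q)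
    (hσ2 : ∀ x, σ (σ x) = x) (m : ℕ) (hm : 1 ≤ m) (Y : Herm σ m) (hY : Y ≠ 0) :
    q ^ (2 * m) - 1 ≤ (q + 1) *
      Nat.card {Z : Herm σ m // ∃ g : Matrix.GeneralLinearGroup (Fin m) F,
        (Z : Matrix (Fin m) (Fin m) F) = hActD σ g.1 Y.1} := by
  classical
  haveI := finite_Herm σ m
  rcases Nat.lt_or_ge m 2 with h1 | h2
  · -- m = 1
    obtain rfl : m = 1 := by omega
    set S : Set F := {z | ∃ g : Matrix.GeneralLinearGroup (Fin 1) F, z = (hActD σ g.1 Y.1) 0 0} with hS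
    have hS1 : ∀ z ∈ S, ∀ l : F, l ≠ 0 → l ^ (q + 1) * z ∈ S := by
      rintro z ⟨g, rfl⟩ l hl
      have hdet : IsUnit (Matrix.det (l • (1 : Matrix (Fin 1) (Fin 1) F))) := by
        rw [Matrix.det_smul, Matrix.det_one, mul_one, Fintype.card_fin, pow_one]
        exact hl.isUnit
      refine ⟨g * Matrix.GeneralLinearGroup.mk'' (l • (1 : Matrix (Fin 1) (Fin 1) F)) hdet, ?_⟩
      have e1 : ((g * Matrix.GeneralLinearGroup.mk'' (l • (1 : Matrix (Fin 1) (Fin 1) F)) hdet :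
          Matrix.GeneralLinearGroup (Fin 1) F) : Matrix (Fin 1) (Fin 1) F) =
          g.1 * (l • (1 : Matrix (Fin 1) (Fin 1) F)) := rfl
      show l ^ (q + 1) * (hActD σ g.1 Y.1) 0 0 =
        (hActD σ ((g * Matrix.GeneralLinearGroup.mk'' (l • (1 : Matrix (Fin 1) (Fin 1) F)) hdet :
          Matrix.GeneralLinearGroup (Fin 1) F) : Matrix (Fin 1) (Fin 1) F) Y.1) 0 0
      rw [e1, hActD_mul]
      unfold hActD
      simp only [Matrix.mul_apply, Fin.sum_univ_one, Fin.isValue, Matrix.transpose_apply, Matrix.map_apply,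
        Matrix.smul_apply, Matrix.one_apply_eq, smul_eq_mul, mul_one, hσ]
      ring
    have hy0 : Y.1 0 0 ≠ 0 := by
      intro h0
      apply hY
      apply Subtype.ext
      ext i j
      have hi : i = 0 := Subsingleton.elim _ _
      have hj : j = 0 := Subsingleton.elim _ _
      rw [hi, hj, h0]
      rfl
    have hyS : Y.1 0 0 ∈ S := ⟨1, by
      show Y.1 0 0 = (hActD σ ((1 : Matrix.GeneralLinearGroup (Fin 1) F) : Matrix (Fin 1) (Fin 1) F) Y.1) 0 0
      rw [Matrix.GeneralLinearGroup.coe_one, hActD_one]⟩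
    have hyq : (Y.1 0 0) ^ q = Y.1 0 0 := by
      have hY' : (Y.1.map σ)ᵀ = Y.1 := Y.2
      have := congrFun (congrFun hY' 0) 0
      rw [Matrix.transpose_apply, Matrix.map_apply, hσ] at this
      exact this
    have key := Cfsg.Agent.Lib.H16.LS.card_orbit_ge_one hF S hS1 (Y.1 0 0) hyS hy0 hyq
    have hq1 : 1 ≤ q := by
      rcases Nat.eq_zero_or_pos q with h0 | h0
      · subst h0
        simp at hF
      · exact h0
    have e2 : q ^ (2 * 1) - 1 = (q + 1) * (q - 1) := by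
      obtain ⟨r, rfl⟩ : ∃ r, q = r + 1 := ⟨q - 1, by omega⟩
      simp only [Nat.add_sub_cancel, mul_one]
      have : (r + 1) ^ 2 = (r + 1 + 1) * r + 1 := by ring
      rw [this, Nat.add_sub_cancel]
    rw [e2]
    refine Nat.mul_le_mul_left _ (key.trans ?_)
    rw [← _root_.Nat.card_coe_set_eq]
    apply Nat.card_le_card_of_injective
      (fun z : S => (⟨⟨Matrix.of (fun _ _ => z.1), by
          obtain ⟨g, hg⟩ := z.2
          have : Matrix.of (fun _ _ => z.1) = hActD σ g.1 Y.1 := by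
            ext i j
            have hi : i = 0 := Subsingleton.elim _ _
            have hj : j = 0 := Subsingleton.elim _ _
            rw [hi, hj, ← hg]
            rfl
          rw [this]
          exact hActD_mem σ hσ2 g.1 Y.1 Y.2⟩, by
          obtain ⟨g, hg⟩ := z.2
          refine ⟨g, ?_⟩
          ext i j
          have hi : i = 0 := Subsingleton.elim _ _
          have hj : j = 0 := Subsingleton.elim _ _
          rw [hi, hj, ← hg]
          rfl⟩ :
        {Z : Herm σ 1 // ∃ g : Matrix.GeneralLinearGroup (Fin 1) F,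
          (Z : Matrix (Fin 1) (Fin 1) F) = hActD σ g.1 Y.1}))
    intro z z' h
    apply Subtype.ext
    have := congrArg (fun z : {Z : Herm σ 1 // ∃ g : Matrix.GeneralLinearGroup (Fin 1) F,
          (Z : Matrix (Fin 1) (Fin 1) F) = hActD σ g.1 Y.1} => (z.1 : Matrix (Fin 1) (Fin 1) F) 0 0) h
    exact this
  · refine (orbit_card_ge hF σ hσ hσ2 m h2 Y hY).trans (Nat.mul_le_mul_left _ ?_)
    apply Nat.card_le_card_of_injective
      (fun Z : {Z : Herm σ m // ∃ g : Matrix.SpecialLinearGroup (Fin m) F,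
          (Z : Matrix (Fin m) (Fin m) F) = hActD σ g.1 Y.1} => (⟨Z.1, by
          obtain ⟨g, hg⟩ := Z.2
          have hdet : IsUnit (Matrix.det g.1) := by
            rw [g.2]; exact isUnit_one
          exact ⟨Matrix.GeneralLinearGroup.mk'' g.1 hdet, hg⟩⟩ :
        {Z : Herm σ m // ∃ g : Matrix.GeneralLinearGroup (Fin m) F,
          (Z : Matrix (Fin m) (Fin m) F) = hActD σ g.1 Y.1}))
    intro Z Z' h
    apply Subtype.ext
    have := congrArg (fun z : {Z : Herm σ m // ∃ g : Matrix.GeneralLinearGroup (Fin m) F,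
          (Z : Matrix (Fin m) (Fin m) F) = hActD σ g.1 Y.1} => z.1) h
    exact this

end orb

end Cfsg.Agent.Lib.H15.LS
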