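/-
S2335 (helper15): assembly of the Landazuri-Seitz bound for `SU_n(q)`, `n = m + m` even.
-/
import Cfsg.Agent.Lib.H15.LSOrb
import Cfsg.Agent.Lib.H4.Herm
import Cfsg.Agent.Lib.H4.LSR
import Cfsg.Agent.Lib.H23.LSD
import Cfsg.Agent.Lib.H11.LSN
import Cfsg.Agent.Lib.H11.LSMV
import Cfsg.Agent.Lib.H13.LSSE

set_option autoImplicit false

namespace Cfsg.Agent.Lib.H15.LS

open Matrix

section act

variable {F : Type*} [Field F]

theorem map_map_self (σ : F →+* F) (hσ2 : ∀ x, σ (σ x) = x) {m : ℕ} (g : Matrix (Fin m) (Fin m) F) :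
    (g.map σ).map σ = g := by
  ext i j
  simp [hσ2]

theorem hAct_mem (σ : F →+* F) (hσ2 : ∀ x, σ (σ x) = x) {m : ℕ} (g X : Matrix (Fin m) (Fin m) F)
    (hX : X ∈ Herm σ m) : hAct σ g X ∈ Herm σ m := by
  have hX' : (X.map σ)ᵀ = X := hX
  show ((hAct σ g X).map σ)ᵀ = hAct σ g X
  unfold hAct
  rw [Matrix.map_mul, Matrix.map_mul, Matrix.transpose_mul, Matrix.transpose_mul, hX']
  have h1 : (((g.map σ)ᵀ).map σ)ᵀ = g := by
    rw [Matrix.transpose_map, Matrix.transpose_transpose, map_map_self σ hσ2]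
  rw [h1, Matrix.mul_assoc]

theorem hAct_one (σ : F →+* F) {m : ℕ} (X : Matrix (Fin m) (Fin m) F) : hAct σ 1 X = X := by
  unfold hAct
  have : ((1 : Matrix (Fin m) (Fin m) F).map σ) = 1 := by
    ext i j
    by_cases h : i = j
    · subst h; simp
    · simp [h]
  rw [this, Matrix.transpose_one, Matrix.one_mul, Matrix.mul_one]

theorem hAct_mul (σ : F →+* F) {m : ℕ} (g h X : Matrix (Fin m) (Fin m) F) :
    hAct σ (g * h) X = hAct σ g (hAct σ h X) := by
  unfold hAct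
  rw [Matrix.map_mul, Matrix.transpose_mul]
  simp only [Matrix.mul_assoc]

theorem hAct_add (σ : F →+* F) {m : ℕ} (g X X' : Matrix (Fin m) (Fin m) F) :
    hAct σ g (X + X') = hAct σ g X + hAct σ g X' := by
  unfold hAct
  rw [Matrix.mul_add, Matrix.add_mul]

/-- trace duality: `tr (g X g^* Y) = tr (X g^* Y g)` -/
theorem trace_hAct (σ : F →+* F) {m : ℕ} (g X Y : Matrix (Fin m) (Fin m) F) :
    Matrix.trace (hAct σ g X * Y) = Matrix.trace (X * hActD σ g Y) := by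
  unfold hAct hActD
  rw [Matrix.mul_assoc, Matrix.mul_assoc, Matrix.trace_mul_comm]
  simp only [Matrix.mul_assoc]

end act



section evenmain


variable {F : Type*} [Field F] [Fintype F] {q : ℕ}

/-- the action of `SL_m` on `Herm σ m` -/
def actSL (σ : F →+* F) (hσ2 : ∀ x, σ (σ x) = x) {m : ℕ}
    (g : Matrix.SpecialLinearGroup (Fin m) F) (X : Herm σ m) : Herm σ m :=
  ⟨hAct σ g.1 X.1, hAct_mem σ hσ2 g.1 X.1 X.2⟩

/-- **Landazuri-Seitz, `n = m + m`**: a non-trivial complex representation of `SU_{2m}(q)` has degree at least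
`(q^(2m) - 1)/(q + 1)`. -/
theorem min_degree_even (hF : Fintype.card F = q ^ 2) (m : ℕ) (hm : 2 ≤ m)
    {V : Type*} [AddCommGroup V] [Module ℂ V] [FiniteDimensional ℂ V]
    (ρ : Cfsg.SU (m + m) F q →* Module.End ℂ V) (hρ : ∃ g, ρ g ≠ 1) :
    (q ^ (m + m) - 1) / (q + 1) ≤ Module.finrank ℂ V := by
  classical
  obtain ⟨σ, hσ, hσ2⟩ := Cfsg.Agent.Lib.H4.exists_frob hF
  obtain ⟨t, l, ht, htinj, hconj⟩ := Cfsg.Agent.Lib.H13.LS.exists_even_structure hF σ hσ hσ2 m (by omega)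
  haveI : Finite (Herm σ m) := Finite.of_injective (fun X : Herm σ m => (X : Matrix (Fin m) (Fin m) F))
    Subtype.val_injective
  haveI : Fintype (Herm σ m) := Fintype.ofFinite _
  set act := actSL (m := m) σ hσ2 with hactdef
  have hact1 : ∀ X, act 1 X = X := by
    intro X
    apply Subtype.ext
    show hAct σ ((1 : Matrix.SpecialLinearGroup (Fin m) F) : Matrix (Fin m) (Fin m) F) X.1 = X.1
    rw [Matrix.SpecialLinearGroup.coe_one, hAct_one]
  have hactmul : ∀ g h X, act (g * h) X = act g (act h X) := by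
    intro g h X
    apply Subtype.ext
    show hAct σ ((g * h : Matrix.SpecialLinearGroup (Fin m) F) : Matrix (Fin m) (Fin m) F) X.1 =
      hAct σ g.1 (hAct σ h.1 X.1)
    rw [Matrix.SpecialLinearGroup.coe_mul, hAct_mul]
  have hactadd : ∀ g X X', act g (X + X') = act g X + act g X' := by
    intro g X X'
    apply Subtype.ext
    show hAct σ g.1 ((X + X' : Herm σ m) : Matrix (Fin m) (Fin m) F) = hAct σ g.1 X.1 + hAct σ g.1 X'.1
    rw [AddSubgroup.coe_add, hAct_add]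
  have hconj' : ∀ g X, l g * t X * (l g)⁻¹ = t (act g X) := fun g X => hconj g X (act g X) rfl
  have hmove : ∃ g X, act g X ≠ X := by
    obtain ⟨g, X, hgX⟩ := Cfsg.Agent.Lib.H11.LS.exists_moved_SL (F := F) σ m hm
    exact ⟨g, X, fun h => hgX (congrArg Subtype.val h)⟩
  obtain ⟨X0, hX0⟩ := Cfsg.Agent.Lib.H11.LS.exists_t_ne_one hF (m + m) (by omega) (by omega) t l act htinj hconj' hmove ρ hρ
  obtain ⟨ψ, hψ1, hd, hle⟩ := Cfsg.Agent.Lib.H4.LS.exists_char_orbit_le ρ t ht l act hact1 hactmul hactadd hconj' X0 hX0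
  obtain ⟨χ, Φ, -, hΦ⟩ := Cfsg.Agent.Lib.H23.LS.exists_duality hF σ hσ hσ2 m
  set Y := Φ.symm ψ with hYdef
  have hΦY : Φ Y = ψ := Φ.apply_symm_apply ψ
  have hY0 : Y ≠ 0 := by
    intro h0
    apply hψ1
    rw [← hΦY, h0]
    ext X
    rw [hΦ]
    simp
  have hH := orbit_card_ge hF σ hσ hσ2 m hm Y hY0
  -- the orbit of `Y` injects into the orbit of `ψ`
  haveI : Finite (AddChar (Herm σ m) ℂ) := Finite.of_equiv _ Φ
  have hinj : Nat.card {Z : Herm σ m // ∃ g : Matrix.SpecialLinearGroup (Fin m) F,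
        (Z : Matrix (Fin m) (Fin m) F) = hActD σ g.1 Y.1} ≤
      Nat.card {ψ' : AddChar (Herm σ m) ℂ // ∃ g : Matrix.SpecialLinearGroup (Fin m) F,
        ∀ X, ψ' X = ψ (act g X)} := by
    apply Nat.card_le_card_of_injective
      (fun Z : {Z : Herm σ m // ∃ g : Matrix.SpecialLinearGroup (Fin m) F,
        (Z : Matrix (Fin m) (Fin m) F) = hActD σ g.1 Y.1} =>
        (⟨Φ Z.1, by
          obtain ⟨g, hg⟩ := Z.2
          refine ⟨g, fun X => ?_⟩
          rw [← hΦY, hΦ, hΦ, hg]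
          show χ (Matrix.trace (X.1 * hActD σ g.1 Y.1)) = χ (Matrix.trace (hAct σ g.1 X.1 * Y.1))
          rw [trace_hAct]⟩ :
          {ψ' : AddChar (Herm σ m) ℂ // ∃ g : Matrix.SpecialLinearGroup (Fin m) F,
            ∀ X, ψ' X = ψ (act g X)}))
    intro Z Z' h
    have h' : Φ Z.1 = Φ Z'.1 := congrArg Subtype.val h
    exact Subtype.ext (Φ.injective h')
  have hd1 : 1 ≤ Module.finrank ℂ (LinearMap.range (projC ρ t ψ)) := Nat.one_le_iff_ne_zero.2 hd
  apply Nat.div_le_of_le_mul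
  have e2 : q ^ (m + m) = q ^ (2 * m) := by rw [two_mul]
  rw [e2]
  calc q ^ (2 * m) - 1 ≤ (q + 1) * Nat.card {Z : Herm σ m // ∃ g : Matrix.SpecialLinearGroup (Fin m) F,
        (Z : Matrix (Fin m) (Fin m) F) = hActD σ g.1 Y.1} := hH
    _ ≤ (q + 1) * Nat.card {ψ' : AddChar (Herm σ m) ℂ // ∃ g : Matrix.SpecialLinearGroup (Fin m) F,
        ∀ X, ψ' X = ψ (act g X)} := Nat.mul_le_mul_left _ hinj
    _ ≤ (q + 1) * (Nat.card {ψ' : AddChar (Herm σ m) ℂ // ∃ g : Matrix.SpecialLinearGroup (Fin m) F,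
        ∀ X, ψ' X = ψ (act g X)} * Module.finrank ℂ (LinearMap.range (projC ρ t ψ))) :=
        Nat.mul_le_mul_left _ (Nat.le_mul_of_pos_right _ hd1)
    _ ≤ (q + 1) * Module.finrank ℂ V := Nat.mul_le_mul_left _ hle

end evenmain

end Cfsg.Agent.Lib.H15.LS
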