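/-
helper15: an irreducible complex representation of degree at least 2 is not trivial (pattern of helper2's S2337).
-/
import Mathlib

set_option autoImplicit false

namespace Cfsg.Agent.Lib.H15.LS

theorem exists_ne_one_of_irreducible {G : Type*} [Group G] {k : ℕ}
    (ρ : Representation ℂ G (Fin k → ℂ)) (hirr : ρ.IsIrreducible) (hk : 2 ≤ k) : ∃ g, ρ g ≠ 1 := by
  by_contra hcon
  have htriv : ∀ g, ρ g = 1 := fun g => by_contra fun h => hcon ⟨g, h⟩
  have hk0 : 0 < k := by omega
  let v : Fin k → ℂ := Pi.single ⟨0, hk0⟩ 1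
  let W : Subrepresentation ρ :=
    ⟨Submodule.span ℂ {v}, fun g x hx => by rw [htriv g]; exact hx⟩
  rcases hirr.eq_bot_or_eq_top W with h7 | h7
  · have h8 : v ∈ W.toSubmodule := Submodule.subset_span rfl
    rw [h7] at h8
    have h9 : v = 0 := h8
    have h10 := congrFun h9 ⟨0, hk0⟩
    simp [v] at h10
  · have h8 : W.toSubmodule = ⊤ := congrArg Subrepresentation.toSubmodule h7
    have hv0 : v ≠ 0 := by
      intro h9
      have h10 := congrFun h9 ⟨0, hk0⟩
      simp [v] at h10
    have h9 : Module.finrank ℂ (Submodule.span ℂ {v}) = 1 := finrank_span_singleton hv0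
    have h10 : Module.finrank ℂ (Submodule.span ℂ {v}) = k := by
      have h11 : Submodule.span ℂ {v} = ⊤ := h8
      rw [h11, finrank_top, Module.finrank_fin_fun]
    omega

end Cfsg.Agent.Lib.H15.LS
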