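/-
S2334 (helper15): assembly of the Landazuri-Seitz bound for `SU_n(q)`, `n = 2 m + 1` odd.
-/
import Cfsg.Agent.Lib.H15.LSEven
import Cfsg.Agent.Lib.H4.LSM
import Cfsg.Agent.Lib.H21.LSSO
import Cfsg.Agent.S0782
import Cfsg.Agent.S0837

set_option autoImplicit false

namespace Cfsg.Agent.Lib.H15.LS

open Matrix

section oddtools

variable {F : Type*} [Field F]

/-- the hermitian matrix `ε⁻¹ (d b'^* - b' d^*)` -/
theorem comm_mem_Herm (σ : F →+* F) (hσ2 : ∀ x, σ (σ x) = x) {m : ℕ} (ε : F) (hε : σ ε = -ε)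
    (d b' : Fin m → F) :
    ε⁻¹ • (vecMulVec d (σ ∘ b') - vecMulVec b' (σ ∘ d)) ∈ Herm σ m := by
  show ((ε⁻¹ • (vecMulVec d (σ ∘ b') - vecMulVec b' (σ ∘ d))).map σ)ᵀ = _
  ext i j
  simp only [Matrix.transpose_apply, Matrix.map_apply, Matrix.smul_apply, Matrix.sub_apply,
    Matrix.vecMulVec_apply, Function.comp_apply, smul_eq_mul, map_mul, map_sub, map_inv₀, hσ2, hε]
  rw [inv_neg]
  ring

/-- `tr (a c^T Y) = c ⬝ (Y a)` -/
theorem trace_vecMulVec_mul {m : ℕ} (a c : Fin m → F) (Y : Matrix (Fin m) (Fin m) F) :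
    Matrix.trace (vecMulVec a c * Y) = c ⬝ᵥ (Y *ᵥ a) := by
  simp only [Matrix.trace, Matrix.diag_apply, Matrix.mul_apply, Matrix.vecMulVec_apply, dotProduct,
    Matrix.mulVec]
  rw [Finset.sum_comm]
  refine Finset.sum_congr rfl fun j _ => ?_
  rw [Finset.mul_sum]
  refine Finset.sum_congr rfl fun i _ => ?_
  ring

end oddtools

section oddmain


variable {F : Type*} [Field F] [Fintype F] {q : ℕ}

/-- the action of `GL_m` on `Herm σ m` -/
def actGL (σ : F →+* F) (hσ2 : ∀ x, σ (σ x) = x) {m : ℕ}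
    (g : Matrix.GeneralLinearGroup (Fin m) F) (X : Herm σ m) : Herm σ m :=
  ⟨hAct σ (g : Matrix (Fin m) (Fin m) F) X.1, hAct_mem σ hσ2 _ X.1 X.2⟩

/-- **Landazuri-Seitz, `n = 2 m + 1`**: a non-trivial complex representation of `SU_{2m+1}(q)` has degree at least
`(q^(2m+1) - q)/(q + 1)`. -/
theorem min_degree_odd (hF : Fintype.card F = q ^ 2) (m : ℕ) (hm : 1 ≤ m) (h32 : ¬ (m = 1 ∧ q = 2))
    {V : Type*} [AddCommGroup V] [Module ℂ V] [FiniteDimensional ℂ V]
    (ρ : Cfsg.SU (2 * m + 1) F q →* Module.End ℂ V) (hρ : ∃ g, ρ g ≠ 1) :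
    (q ^ (2 * m + 1) - q) / (q + 1) ≤ Module.finrank ℂ V := by
  classical
  obtain ⟨σ, hσ, hσ2⟩ := Cfsg.Agent.Lib.H4.exists_frob hF
  have hσne : σ ≠ RingHom.id F := Cfsg.Agent.S0837.phi_ne_id σ hF hσ
  have hq2 : 2 ≤ q := by
    have h1 : 1 < Fintype.card F := Fintype.one_lt_card
    rw [hF] at h1
    by_contra hlt
    have h2 : q ≤ 1 := by omega
    have h3 : q ^ 2 ≤ 1 ^ 2 := Nat.pow_le_pow_left h2 2
    omega
  obtain ⟨ε, t, l, w, hε0, hσε, ht, htinj, hconj, hwt, hwadd, hw0, hwcomm⟩ :=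
    Cfsg.Agent.Lib.H21.LS.exists_odd_structure hF σ hσ hσ2 m hm
  haveI : Finite (Herm σ m) := Finite.of_injective (fun X : Herm σ m => (X : Matrix (Fin m) (Fin m) F))
    Subtype.val_injective
  haveI : Fintype (Herm σ m) := Fintype.ofFinite _
  set act := actGL (m := m) σ hσ2 with hactdef
  have hact1 : ∀ X, act 1 X = X := by
    intro X
    apply Subtype.ext
    show hAct σ ((1 : Matrix.GeneralLinearGroup (Fin m) F) : Matrix (Fin m) (Fin m) F) X.1 = X.1
    rw [Units.val_one, hAct_one]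
  have hactmul : ∀ g h X, act (g * h) X = act g (act h X) := by
    intro g h X
    apply Subtype.ext
    show hAct σ ((g * h : Matrix.GeneralLinearGroup (Fin m) F) : Matrix (Fin m) (Fin m) F) X.1 =
      hAct σ (g : Matrix (Fin m) (Fin m) F) (hAct σ (h : Matrix (Fin m) (Fin m) F) X.1)
    rw [Units.val_mul, hAct_mul]
  have hactadd : ∀ g X X', act g (X + X') = act g X + act g X' := by
    intro g X X'
    apply Subtype.ext
    show hAct σ (g : Matrix (Fin m) (Fin m) F) ((X + X' : Herm σ m) : Matrix (Fin m) (Fin m) F) =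
      hAct σ (g : Matrix (Fin m) (Fin m) F) X.1 + hAct σ (g : Matrix (Fin m) (Fin m) F) X'.1
    rw [AddSubgroup.coe_add, hAct_add]
  have hconj' : ∀ g X, l g * t X * (l g)⁻¹ = t (act g X) := fun g X => hconj g X (act g X) rfl
  have hmove : ∃ g X, act g X ≠ X := by
    obtain ⟨g, X, hgX⟩ := Cfsg.Agent.Lib.H11.LS.exists_moved_GL hF σ hσ hσ2 m hm (fun h1 => by
      by_contra hlt
      exact h32 ⟨h1, by omega⟩)
    exact ⟨g, X, fun h => hgX (congrArg Subtype.val h)⟩
  obtain ⟨X0, hX0⟩ := Cfsg.Agent.Lib.H11.LS.exists_t_ne_one hF (2 * m + 1) (by omega)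
    (fun h => h32 ⟨by omega, h.2⟩) t l act htinj hconj' hmove ρ hρ
  obtain ⟨ψ, hψ1, hd, hle⟩ := Cfsg.Agent.Lib.H4.LS.exists_char_orbit_le ρ t ht l act hact1 hactmul hactadd hconj' X0 hX0
  obtain ⟨χ, Φ, hχ, hΦ⟩ := Cfsg.Agent.Lib.H23.LS.exists_duality hF σ hσ hσ2 m
  set Y := Φ.symm ψ with hYdef
  have hΦY : Φ Y = ψ := Φ.apply_symm_apply ψ
  have hY0 : Y ≠ 0 := by
    intro h0
    apply hψ1
    rw [← hΦY, h0]
    ext X
    rw [hΦ]
    simp
  have hH := orbit_card_ge_GL' hF σ hσ hσ2 m hm Y hY0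
  haveI : Finite (AddChar (Herm σ m) ℂ) := Finite.of_equiv _ Φ
  have hinj : Nat.card {Z : Herm σ m // ∃ g : Matrix.GeneralLinearGroup (Fin m) F,
        (Z : Matrix (Fin m) (Fin m) F) = hActD σ g.1 Y.1} ≤
      Nat.card {ψ' : AddChar (Herm σ m) ℂ // ∃ g : Matrix.GeneralLinearGroup (Fin m) F,
        ∀ X, ψ' X = ψ (act g X)} := by
    apply Nat.card_le_card_of_injective
      (fun Z : {Z : Herm σ m // ∃ g : Matrix.GeneralLinearGroup (Fin m) F,
        (Z : Matrix (Fin m) (Fin m) F) = hActD σ g.1 Y.1} =>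
        (⟨Φ Z.1, by
          obtain ⟨g, hg⟩ := Z.2
          refine ⟨g, fun X => ?_⟩
          rw [← hΦY, hΦ, hΦ, hg]
          show χ (Matrix.trace (X.1 * hActD σ g.1 Y.1)) =
            χ (Matrix.trace (hAct σ (g : Matrix (Fin m) (Fin m) F) X.1 * Y.1))
          rw [trace_hAct]⟩ :
          {ψ' : AddChar (Herm σ m) ℂ // ∃ g : Matrix.GeneralLinearGroup (Fin m) F,
            ∀ X, ψ' X = ψ (act g X)}))
    intro Z Z' h
    have h' : Φ Z.1 = Φ Z'.1 := congrArg Subtype.val h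
    exact Subtype.ext (Φ.injective h')
  -- the multiplicity: `q ≤ d`
  have hYherm : ∀ i j, σ (Y.1 i j) = Y.1 j i := by
    intro i j
    have h1 : (Y.1.map σ)ᵀ = Y.1 := Y.2
    have := congrFun (congrFun h1 j) i
    simpa using this
  obtain ⟨b0, hb0⟩ : ∃ b0 : Fin m → F, Y.1 *ᵥ b0 ≠ 0 := by
    by_contra hcon
    apply hY0
    apply Subtype.ext
    show Y.1 = 0
    ext i j
    have : Y.1 *ᵥ (Pi.single j 1) = 0 := by
      by_contra h
      exact hcon ⟨_, h⟩
    have := congrFun this i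
    simpa using this
  obtain ⟨τ, hτ⟩ := Cfsg.Agent.S0782.exists_trace hσne hσ2 (-1 : F) (by rw [map_neg, map_one])
  have hτ1 : τ + σ τ = 1 := by linear_combination hτ
  obtain ⟨a, ha, hχa⟩ := hχ 1 (map_one σ) one_ne_zero
  rw [mul_one] at hχa
  have hdq : q * q ≤ Module.finrank ℂ (LinearMap.range (projC ρ t ψ)) *
      Module.finrank ℂ (LinearMap.range (projC ρ t ψ)) := by
    have hM := Cfsg.Agent.Lib.H4.LS.card_le_rank_sq (ι := F) ρ t ht ψ (fun c => w (c • b0)) (fun c X => hwt _ X) ?_ hd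
    · rw [hF, pow_two] at hM
      exact hM
    · intro c c' hcc'
      set d : Fin m → F := (c - c') • b0 with hddef
      have hy : Y.1 *ᵥ d ≠ 0 := by
        rw [hddef, Matrix.mulVec_smul]
        intro h
        rcases smul_eq_zero.1 h with h | h
        · exact hcc' (sub_eq_zero.1 h)
        · exact hb0 h
      obtain ⟨j0, hj0⟩ : ∃ j0, (Y.1 *ᵥ d) j0 ≠ 0 := by
        by_contra hcon
        apply hy
        funext j
        by_contra h
        exact hcon ⟨j, h⟩
      set β : F := τ * ε * a with hβ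
      have hββ : β - σ β = ε * a := by
        rw [hβ, map_mul, map_mul, hσε, ha]
        linear_combination (ε * a) * hτ1
      set b' : Fin m → F := Pi.single j0 (σ (β / (Y.1 *ᵥ d) j0)) with hb'
      let s : Herm σ m := ⟨ε⁻¹ • (vecMulVec d (σ ∘ b') - vecMulVec b' (σ ∘ d)),
        comm_mem_Herm σ hσ2 ε hσε d b'⟩
      obtain ⟨X1, hX1⟩ := hwadd (c' • b0) d
      have hcd : c' • b0 + d = c • b0 := by
        rw [hddef, sub_smul]; abel
      rw [hcd] at hX1
      have hrel : (w (c' • b0))⁻¹ * w (c • b0) = w d * t X1 := by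
        rw [hX1]; group
      refine ⟨w b', s, fun X => hwt b' X, ?_, ?_⟩
      · show w b' * ((w (c' • b0))⁻¹ * w (c • b0)) * (w b')⁻¹ = (w (c' • b0))⁻¹ * w (c • b0) * t s
        rw [hrel]
        have h1 := hwcomm d b' s rfl
        have h2 : w b' * t X1 = t X1 * w b' := hwt b' X1
        have h3 : t X1 * t s = t s * t X1 := by rw [← ht, ← ht, add_comm X1 s]
        calc w b' * (w d * t X1) * (w b')⁻¹ = (w b' * w d * (w b')⁻¹) * (w b' * t X1 * (w b')⁻¹) := by group
          _ = (w d * t s) * t X1 := by rw [h1, h2]; group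
          _ = w d * t X1 * t s := by rw [mul_assoc, ← h3, mul_assoc]
      · rw [← hΦY, hΦ]
        show χ (Matrix.trace ((ε⁻¹ • (vecMulVec d (σ ∘ b') - vecMulVec b' (σ ∘ d))) * Y.1)) ≠ 1
        have e1 : (σ ∘ b') ⬝ᵥ (Y.1 *ᵥ d) = β := by
          rw [hb']
          have : (σ ∘ (Pi.single j0 (σ (β / (Y.1 *ᵥ d) j0)) : Fin m → F)) =
              Pi.single j0 (β / (Y.1 *ᵥ d) j0) := by
            funext j
            by_cases hj : j = j0
            · subst hj; simp [hσ2]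
            · simp [hj]
          rw [this, single_dotProduct]
          field_simp
        have e2 : (σ ∘ d) ⬝ᵥ (Y.1 *ᵥ b') = σ β := by
          have h1 : Y.1 *ᵥ b' = fun i => Y.1 i j0 * σ (β / (Y.1 *ᵥ d) j0) := by
            rw [hb']
            funext i
            simp [Matrix.mulVec, dotProduct, Pi.single_apply]
          have h2 : σ ((Y.1 *ᵥ d) j0) = ∑ i, σ (d i) * Y.1 i j0 := by
            simp only [Matrix.mulVec, dotProduct, map_sum, map_mul, hYherm]
            refine Finset.sum_congr rfl fun i _ => ?_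
            ring
          rw [h1]
          simp only [dotProduct, Function.comp_apply]
          have h3 : ∑ i, σ (d i) * (Y.1 i j0 * σ (β / (Y.1 *ᵥ d) j0)) =
              (∑ i, σ (d i) * Y.1 i j0) * σ (β / (Y.1 *ᵥ d) j0) := by
            rw [Finset.sum_mul]
            refine Finset.sum_congr rfl fun i _ => ?_
            ring
          rw [h3, ← h2, ← map_mul]
          congr 1
          field_simp
        rw [Matrix.smul_mul, Matrix.trace_smul, Matrix.sub_mul, Matrix.trace_sub,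
          trace_vecMulVec_mul, trace_vecMulVec_mul, e1, e2, hββ, smul_eq_mul]
        have : ε⁻¹ * (ε * a) = a := by field_simp
        rw [this]
        exact hχa
  have hdq' : q ≤ Module.finrank ℂ (LinearMap.range (projC ρ t ψ)) := by
    by_contra hlt
    have h1 : Module.finrank ℂ (LinearMap.range (projC ρ t ψ)) < q := by omega
    have h2 := Nat.mul_self_lt_mul_self h1
    omega
  apply Nat.div_le_of_le_mul
  have e3 : q ^ (2 * m + 1) - q = (q ^ (2 * m) - 1) * q := by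
    rw [Nat.sub_mul, one_mul, pow_succ]
  rw [e3]
  calc (q ^ (2 * m) - 1) * q ≤ ((q + 1) * Nat.card {Z : Herm σ m // ∃ g : Matrix.GeneralLinearGroup (Fin m) F,
        (Z : Matrix (Fin m) (Fin m) F) = hActD σ g.1 Y.1}) * q := Nat.mul_le_mul_right _ hH
    _ ≤ ((q + 1) * Nat.card {ψ' : AddChar (Herm σ m) ℂ // ∃ g : Matrix.GeneralLinearGroup (Fin m) F,
        ∀ X, ψ' X = ψ (act g X)}) * q := Nat.mul_le_mul_right _ (Nat.mul_le_mul_left _ hinj)
    _ ≤ ((q + 1) * Nat.card {ψ' : AddChar (Herm σ m) ℂ // ∃ g : Matrix.GeneralLinearGroup (Fin m) F,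
        ∀ X, ψ' X = ψ (act g X)}) * Module.finrank ℂ (LinearMap.range (projC ρ t ψ)) :=
        Nat.mul_le_mul_left _ hdq'
    _ = (q + 1) * (Nat.card {ψ' : AddChar (Herm σ m) ℂ // ∃ g : Matrix.GeneralLinearGroup (Fin m) F,
        ∀ X, ψ' X = ψ (act g X)} * Module.finrank ℂ (LinearMap.range (projC ρ t ψ))) := by ring
    _ ≤ (q + 1) * Module.finrank ℂ V := Nat.mul_le_mul_left _ hle

end oddmain

end Cfsg.Agent.Lib.H15.LS
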