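import Mathlib
import Cfsg.Agent.Lib.H1.M11U.LP

/-!
# S0420 piece ACT1 (helper15, twin): the stabiliser of a closed 10-clique has order 720

`C` a set of ten pairwise adjacent Sylow 3-subgroups, closed under each of its members.  Every member of
`C` lies in `H = G_C` and is regular on the other nine points, so `H` is transitive on `C`; the stabiliser
of `x₀` in `H` is transitive on `C ∖ {x₀}` with point stabiliser `N(x₀) ∩ N(y₀)` of order 8.
-/

set_option autoImplicit false
open scoped Pointwise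

universe u

namespace Cfsg.Agent.Lib.H15.M11U

open Cfsg.Agent.Lib.H1.M11U

variable {G : Type u} [Group G] [Finite G]

omit [Finite G] in
/-- orbit-stabiliser for a subgroup `H` of `G` acting on a `G`-set, written inside `G` -/
theorem card_eq_orbit_mul {X : Type*} [MulAction G X] (H : Subgroup G) (x : X) :
    Nat.card ↥H = (MulAction.orbit ↥H x).ncard * Nat.card ↥(H ⊓ MulAction.stabilizer G x) := by
  classical
  have e1 : (MulAction.orbit ↥H x) × (MulAction.stabilizer ↥H x) ≃ ↥H :=
    MulAction.orbitProdStabilizerEquivGroup ↥H x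
  have e2 : ↥(MulAction.stabilizer ↥H x) ≃ ↥(H ⊓ MulAction.stabilizer G x) :=
    { toFun := fun k => ⟨(k.1 : G), Subgroup.mem_inf.2 ⟨k.1.2,
        MulAction.mem_stabilizer_iff.2 (MulAction.mem_stabilizer_iff.1 k.2)⟩⟩
      invFun := fun k => ⟨⟨k.1, (Subgroup.mem_inf.1 k.2).1⟩,
        MulAction.mem_stabilizer_iff.2 (MulAction.mem_stabilizer_iff.1 (Subgroup.mem_inf.1 k.2).2)⟩
      left_inv := fun k => rfl
      right_inv := fun k => rfl }
  rw [← Nat.card_congr e1, Nat.card_prod, Nat.card_congr e2, Nat.card_coe_set_eq]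

/-- an element mapping the finite set `C` into itself stabilises it -/
theorem mem_stabilizer_of_forall_mem {C : Set (Sylow 3 G)} {g : G} (hg : ∀ y ∈ C, g • y ∈ C) :
    g ∈ MulAction.stabilizer G C := by
  rw [MulAction.mem_stabilizer_iff]
  refine Set.eq_of_subset_of_ncard_le ?_ ?_ (Set.toFinite _)
  · rintro _ ⟨y, hy, rfl⟩
    exact hg y hy
  · rw [← Set.image_smul, Set.ncard_image_of_injective C (MulAction.injective g)]

/-- a member `z` of the closed clique is regular on the other nine points -/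
theorem orb_eq_diff (h : Hyp G) {C : Set (Sylow 3 G)} (hC : C.ncard = 10)
    (hst : ∀ x ∈ C, ∀ u ∈ (x : Subgroup G), ∀ y ∈ C, u • y ∈ C) {z w : Sylow 3 G} (hz : z ∈ C)
    (hw : w ∈ C) (hne : w ≠ z) : orb z w = C \ {z} := by
  refine Set.eq_of_subset_of_ncard_le ?_ ?_ (Set.toFinite _)
  · rintro _ ⟨u, hu, rfl⟩
    refine ⟨hst z hz u hu w hw, ?_⟩
    intro he
    rw [Set.mem_singleton_iff] at he
    apply hne
    have h1 : u • w = u • z := by rw [he, smul_self_of_mem hu]
    exact smul_left_cancel u h1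
  · rw [orb_ncard h hne, Set.ncard_sdiff_singleton_of_mem hz, hC]

/-- (ACT1) -/
theorem card_stabilizer_clique (h : Hyp G) {C : Set (Sylow 3 G)} (hC : C.ncard = 10)
    (hcl : ∀ x ∈ C, ∀ y ∈ C, x ≠ y → Adj x y)
    (hst : ∀ x ∈ C, ∀ u ∈ (x : Subgroup G), ∀ y ∈ C, u • y ∈ C) :
    Nat.card (MulAction.stabilizer G C) = 720 := by
  classical
  have hne : C.Nonempty := by
    rw [← Set.ncard_pos]
    omega
  obtain ⟨x0, hx0⟩ := hne
  have h2 : (C \ {x0}).Nonempty := by
    rw [← Set.ncard_pos, Set.ncard_sdiff_singleton_of_mem hx0, hC]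
    norm_num
  obtain ⟨y0, hy0C, hy0ne⟩ := h2
  have hy0ne' : y0 ≠ x0 := by simpa using hy0ne
  -- members of the points of `C` lie in `H`
  have hmemH : ∀ x ∈ C, ∀ u ∈ (x : Subgroup G), u ∈ MulAction.stabilizer G C :=
    fun x hx u hu => mem_stabilizer_of_forall_mem (hst x hx u hu)
  -- `H` maps `C` to `C`
  have hHC : ∀ g ∈ MulAction.stabilizer G C, ∀ y ∈ C, g • y ∈ C := by
    intro g hg y hy
    have h3 : g • C = C := MulAction.mem_stabilizer_iff.1 hg
    rw [← h3]
    exact Set.smul_mem_smul_set hy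
  -- the orbit of `x0` under `H` is `C`
  have horb1 : MulAction.orbit ↥(MulAction.stabilizer G C) x0 = C := by
    ext y
    constructor
    · rintro ⟨⟨g, hg⟩, rfl⟩
      exact hHC g hg x0 hx0
    · intro hy
      by_cases hyx : y = x0
      · rw [hyx]
        exact MulAction.mem_orbit_self _
      · have hy' : y ∈ C \ {x0} := ⟨hy, hyx⟩
        have h3 : ((C \ {x0}) \ {y}).Nonempty := by
          rw [← Set.ncard_pos, Set.ncard_sdiff_singleton_of_mem hy',
            Set.ncard_sdiff_singleton_of_mem hx0, hC]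
          norm_num
        obtain ⟨z, ⟨hzC, hzx⟩, hzy⟩ := h3
        have hzx' : z ≠ x0 := by simpa using hzx
        have hzy' : z ≠ y := by simpa using hzy
        have h4 : y ∈ orb z x0 := by
          rw [orb_eq_diff h hC hst hzC hx0 (Ne.symm hzx')]
          exact ⟨hy, fun he => hzy' (Set.mem_singleton_iff.1 he).symm⟩
        obtain ⟨u, hu, rfl⟩ := h4
        exact ⟨⟨u, hmemH z hzC u hu⟩, rfl⟩
  -- the orbit of `y0` under `K = H ∩ N(x0)` is `C ∖ {x0}`
  have horb2 : MulAction.orbit ↥(MulAction.stabilizer G C ⊓ MulAction.stabilizer G x0) y0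
      = C \ {x0} := by
    ext y
    constructor
    · rintro ⟨⟨g, hgH, hgx⟩, rfl⟩
      refine ⟨hHC g hgH y0 hy0C, ?_⟩
      intro he
      have he' : g • y0 = x0 := Set.mem_singleton_iff.1 he
      apply hy0ne'
      have hgx' : g • x0 = x0 := MulAction.mem_stabilizer_iff.1 hgx
      have h3 : g • y0 = g • x0 := by rw [hgx']; exact he'
      exact smul_left_cancel g h3
    · intro hy
      rw [← orb_eq_diff h hC hst hx0 hy0C hy0ne'] at hy
      obtain ⟨u, hu, rfl⟩ := hy
      exact ⟨⟨u, hmemH x0 hx0 u hu, MulAction.mem_stabilizer_iff.2 (smul_self_of_mem hu)⟩, rfl⟩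
  -- the two-point stabiliser
  have hQ : (MulAction.stabilizer G C ⊓ MulAction.stabilizer G x0) ⊓ MulAction.stabilizer G y0
      = Nrm x0 ⊓ Nrm y0 := by
    ext g
    rw [Subgroup.mem_inf, Subgroup.mem_inf, Subgroup.mem_inf, MulAction.mem_stabilizer_iff (a := x0),
      MulAction.mem_stabilizer_iff (a := y0)]
    constructor
    · rintro ⟨⟨_, hgx⟩, hgy⟩
      exact ⟨(smul_eq_iff g x0).1 hgx, (smul_eq_iff g y0).1 hgy⟩
    · rintro ⟨hgx, hgy⟩
      have hgx' := (smul_eq_iff g x0).2 hgx
      have hgy' := (smul_eq_iff g y0).2 hgy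
      refine ⟨⟨?_, hgx'⟩, hgy'⟩
      apply mem_stabilizer_of_forall_mem
      intro y hy
      by_cases hyx : y = x0
      · rw [hyx, hgx']
        exact hx0
      · have h3 : y ∈ orb x0 y0 := by
          rw [orb_eq_diff h hC hst hx0 hy0C hy0ne']
          exact ⟨hy, hyx⟩
        have h5 : g • y ∈ orb x0 (g • y0) := (smul_mem_orb_iff hgx).2 h3
        rw [hgy', orb_eq_diff h hC hst hx0 hy0C hy0ne'] at h5
        exact h5.1
  have hcl0 : Nat.card ↥(Nrm x0 ⊓ Nrm y0) = 8 := hcl x0 hx0 y0 hy0C (Ne.symm hy0ne')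
  have e1 := card_eq_orbit_mul (MulAction.stabilizer G C) x0
  have e2 := card_eq_orbit_mul (MulAction.stabilizer G C ⊓ MulAction.stabilizer G x0) y0
  rw [horb1, hC] at e1
  rw [horb2, Set.ncard_sdiff_singleton_of_mem hx0, hC, hQ, hcl0] at e2
  rw [e1, e2]

end Cfsg.Agent.Lib.H15.M11U
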