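import Mathlib
import Cfsg.Agent.Lib.H1.M11U.Base

/-!
# S0420 helper MU (helper15), core: the number of common neighbours of two distinct non-adjacent
Sylow 3-subgroups is constant (`nonadj_trans` taken as a hypothesis).
-/

set_option autoImplicit false

universe u

namespace Cfsg.Agent.Lib.H15.M11U

open Cfsg.Agent.Lib.H1.M11U

variable {G : Type u} [Group G] [Finite G]

/-- translation by `g` preserves the number of common neighbours. -/
theorem card_common_smul (g : G) (x y : Sylow 3 G) :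
    Nat.card {w : Sylow 3 G // Adj (g • x) w ∧ Adj (g • y) w} =
      Nat.card {w : Sylow 3 G // Adj x w ∧ Adj y w} := by
  refine Nat.card_congr
    { toFun := fun w => ⟨g⁻¹ • (w : Sylow 3 G), ?_⟩
      invFun := fun w => ⟨g • (w : Sylow 3 G), ?_⟩
      left_inv := ?_
      right_inv := ?_ }
  · obtain ⟨h1, h2⟩ := w.2
    constructor
    · have := (adj_smul g⁻¹ (P := g • x) (P' := (w : Sylow 3 G))).2
      rw [← adj_smul g]
      simpa using h1
    · rw [← adj_smul g]
      simpa using h2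
  · obtain ⟨h1, h2⟩ := w.2
    exact ⟨(adj_smul g).2 h1, (adj_smul g).2 h2⟩
  · intro w
    apply Subtype.ext
    simp
  · intro w
    apply Subtype.ext
    simp

/-- MU, core. -/
theorem mu_const_core
    (hna : ∀ {P P₁ P₂ : Sylow 3 G}, P₁ ≠ P → ¬ Adj P P₁ → P₂ ≠ P → ¬ Adj P P₂ →
      ∃ n ∈ Nrm P, n • P₁ = P₂) :
    ∃ μ : ℕ, ∀ x y : Sylow 3 G, x ≠ y → ¬ Adj x y →
      Nat.card {w : Sylow 3 G // Adj x w ∧ Adj y w} = μ := by
  classical
  haveI : Fact (Nat.Prime 3) := ⟨by norm_num⟩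
  by_cases hex : ∃ x₀ y₀ : Sylow 3 G, x₀ ≠ y₀ ∧ ¬ Adj x₀ y₀
  · obtain ⟨x₀, y₀, hne₀, hna₀⟩ := hex
    refine ⟨Nat.card {w : Sylow 3 G // Adj x₀ w ∧ Adj y₀ w}, ?_⟩
    intro x y hne hnadj
    -- move `x₀` to `x`
    obtain ⟨g, hg⟩ := MulAction.exists_smul_eq G x₀ x
    have h1 : g • y₀ ≠ x := by
      intro h0
      apply hne₀
      have : g • y₀ = g • x₀ := by rw [h0, hg]
      exact (smul_left_cancel g this).symm
    have h2 : ¬ Adj x (g • y₀) := by
      rw [← hg, adj_smul]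
      exact hna₀
    obtain ⟨n, hn, hny⟩ := hna (P := x) h1 h2 (Ne.symm hne) hnadj
    have hnx : n • x = x := (smul_eq_iff n x).2 hn
    have hx : (n * g) • x₀ = x := by rw [mul_smul, hg, hnx]
    have hy : (n * g) • y₀ = y := by rw [mul_smul, hny]
    rw [← hx, ← hy]
    exact card_common_smul (n * g) x₀ y₀
  · refine ⟨0, ?_⟩
    intro x y hne hnadj
    exact absurd ⟨x, y, hne, hnadj⟩ hex

end Cfsg.Agent.Lib.H15.M11U
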