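import Mathlib
import Cfsg.Agent.Lib.H26.MC3Defs
import Cfsg.Agent.Lib.H26.MC3Nm

/-!
S4079 piece A5 (helper15): `p = 3`, from the norm formula and the divisibility of binomial coefficients.
-/

set_option autoImplicit false

namespace Cfsg.Agent.Lib.H15.MC3

open Cfsg.Agent.Lib.H26.MC3

universe u

variable {p : ℕ} [Fact p.Prime] {L : Type u} [Group L] [Finite L]

variable {σ : MulAut L}

/-- powers of an element of order dividing `p` with exponent divisible by `p` -/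
theorem a5_pow_eq_one {g : L} (hg : g ^ p = 1) {k : ℕ} (hk : p ∣ k) : g ^ k = 1 := by
  obtain ⟨j, rfl⟩ := hk
  rw [pow_mul, hg, one_pow]

/-- A5 -/
theorem p_eq_three (h : Hyp p L) (hm : Mov p σ) (F : Facts p L) (SF : SFacts p σ)
    (hom : ∀ g k : L, (g * k) ^ p = g ^ p * k ^ p) :
    p = 3 ∧ ∃ y : L, y ^ p ∈ Zf p σ ∧ y ^ p ≠ 1 ∧ (y⁻¹ * σ y) ^ p = 1 ∧ y⁻¹ * σ y ∉ Zf p σ := by
  have hp : p.Prime := Fact.out
  obtain ⟨x₀, hx₀p, hx₀m⟩ := hm.hmv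
  obtain ⟨x, hx⟩ := F.exists_pow_eq hx₀p
  -- inverse powers
  have hinvpow : ∀ g : L, (g⁻¹) ^ p = (g ^ p)⁻¹ := fun g => inv_pow g p
  -- y and z₁
  obtain ⟨y, hydef⟩ : ∃ y : L, y = x⁻¹ * σ x := ⟨_, rfl⟩
  have hyp : y ^ p = x₀⁻¹ * σ x₀ := by
    rw [hydef, hom, hinvpow, ← map_pow, hx]
  have hz₁Z : y ^ p ∈ Zf p σ := by
    rw [hyp]; exact SF.inv_mul_sigma_mem_Zf hx₀p
  have hz₁ne : y ^ p ≠ 1 := by
    rw [hyp]
    intro h1
    apply hx₀m
    have : σ x₀ = x₀ * (x₀⁻¹ * σ x₀) := by group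
    rw [this, h1, mul_one]
  have hz₁fix : σ (y ^ p) = y ^ p := (mem_Fx σ _).mp hz₁Z.2
  -- w
  obtain ⟨w, hwdef⟩ : ∃ w : L, w = y⁻¹ * σ y := ⟨_, rfl⟩
  have hwp : w ^ p = 1 := by
    rw [hwdef, hom, hinvpow, ← map_pow, hz₁fix, inv_mul_cancel]
  -- u
  obtain ⟨u, hudef⟩ : ∃ u : L, u = w⁻¹ * σ w := ⟨_, rfl⟩
  have huZ : u ∈ Zf p σ := by rw [hudef]; exact SF.inv_mul_sigma_mem_Zf hwp
  have hufix : σ u = u := (mem_Fx σ _).mp huZ.2
  have hucen : u ∈ Subgroup.center L := SF.Zf_le_center huZ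
  have hup : u ^ p = 1 := (F.mem_Om_iff u).mp huZ.1
  -- c
  obtain ⟨c, hcdef⟩ : ∃ c : L, c = w⁻¹ * y⁻¹ * w * y := ⟨_, rfl⟩
  have hc'Z : y⁻¹ * w * y⁻¹⁻¹ * w⁻¹ ∈ Zf p σ := SF.comm_mem_Zf y⁻¹ hwp
  have hc'cen : y⁻¹ * w * y⁻¹⁻¹ * w⁻¹ ∈ Subgroup.center L := SF.Zf_le_center hc'Z
  have hcc' : c = y⁻¹ * w * y⁻¹⁻¹ * w⁻¹ := by
    have h1 := Subgroup.mem_center_iff.mp hc'cen w
    -- w * c' = c' * w
    have : c = w⁻¹ * (y⁻¹ * w * y⁻¹⁻¹ * w⁻¹) * w := by rw [hcdef]; group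
    rw [this, mul_assoc, ← h1]
    group
  have hcZ : c ∈ Zf p σ := by rw [hcc']; exact hc'Z
  have hccen : c ∈ Subgroup.center L := SF.Zf_le_center hcZ
  have hcp : c ^ p = 1 := (F.mem_Om_iff c).mp hcZ.1
  -- the hypotheses of the norm formula
  have hy : σ y = y * w := by rw [hwdef]; group
  have hw : σ w = w * u := by rw [hudef]; group
  have hwu : w * u = u * w := Subgroup.mem_center_iff.mp hucen w
  have hcw : c * w = w * c := (Subgroup.mem_center_iff.mp hccen w).symm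
  have hcu : c * u = u * c := (Subgroup.mem_center_iff.mp hccen u).symm
  have hcy : c * y = y * c := (Subgroup.mem_center_iff.mp hccen y).symm
  have huy : u * y = y * u := (Subgroup.mem_center_iff.mp hucen y).symm
  have hwy : w * y = y * w * c := by rw [hcdef]; group
  have hNm := Nm_formula σ hy hw hufix hwu hcw hcu hcy huy hwy p
  have hNm1 : Nm σ p y = 1 := by rw [hydef]; exact Nm_eq_one_of_pow σ hm.hσ x
  rw [hNm1] at hNm
  have hp2 : p ≠ 2 := h.hp2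
  have hp3 : 3 ≤ p := by
    have := hp.two_le
    omega
  have hc2 : p ∣ p.choose 2 := hp.dvd_choose_self (by norm_num) (by omega)
  have hw2 : w ^ p.choose 2 = 1 := a5_pow_eq_one hwp hc2
  rw [hw2, mul_one] at hNm
  -- p = 3
  have hp_eq : p = 3 := by
    by_contra hne
    have hp5 : 3 < p := by omega
    have hc3 : p ∣ p.choose 3 := hp.dvd_choose_self (by norm_num) hp5
    rw [a5_pow_eq_one hup hc3, a5_pow_eq_one hcp hc3, mul_one, mul_one] at hNm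
    exact hz₁ne hNm.symm
  refine ⟨hp_eq, y, hz₁Z, hz₁ne, ?_, ?_⟩
  · rw [← hwdef]; exact hwp
  · rw [← hwdef]
    intro hwZ
    have hwfix : σ w = w := (mem_Fx σ _).mp hwZ.2
    have hwcen : w ∈ Subgroup.center L := SF.Zf_le_center hwZ
    have hu1 : u = 1 := by rw [hudef, hwfix, inv_mul_cancel]
    have hc1 : c = 1 := by
      rw [hcdef]
      have := Subgroup.mem_center_iff.mp hwcen y⁻¹
      -- y⁻¹ * w = w * y⁻¹
      calc w⁻¹ * y⁻¹ * w * y = w⁻¹ * (y⁻¹ * w) * y := by group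
        _ = w⁻¹ * (w * y⁻¹) * y := by rw [this]
        _ = 1 := by group
    rw [hu1, hc1] at hNm
    simp only [one_pow, mul_one] at hNm
    exact hz₁ne hNm.symm

end Cfsg.Agent.Lib.H15.MC3
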