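import Mathlib
import Cfsg.Agent.Lib.H26.MC3Defs
import Cfsg.Agent.Lib.H26.MC3Nm

/-!
S4079 piece A6 (helper15): the fixed points of `σ` have exponent `p`, i.e. `Fx σ ≤ Zf p σ`.
-/

set_option autoImplicit false

namespace Cfsg.Agent.Lib.H15.MC3

open Cfsg.Agent.Lib.H26.MC3

universe u

variable {p : ℕ} [Fact p.Prime] {L : Type u} [Group L] [Finite L]

variable {σ : MulAut L}

/-- in a `p`-group an element with `g ^ p ≠ 1` has a power `g₂` with `g₂ ^ p ≠ 1`, `(g₂ ^ p) ^ p = 1` -/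
theorem a6_exists_pow (hL : IsPGroup p L) {g : L} (hg : g ^ p ≠ 1) :
    ∃ j : ℕ, (g ^ j) ^ p ≠ 1 ∧ ((g ^ j) ^ p) ^ p = 1 := by
  have hp : p.Prime := Fact.out
  obtain ⟨k, hk⟩ := (IsPGroup.iff_orderOf.mp hL) g
  have hk2 : 2 ≤ k := by
    by_contra hcon
    push Not at hcon
    apply hg
    have : orderOf g ∣ p := by
      rw [hk]
      interval_cases k
      · simp
      · simp
    exact orderOf_dvd_iff_pow_eq_one.mp this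
  refine ⟨p ^ (k - 2), ?_, ?_⟩
  · rw [← pow_mul, ← pow_succ]
    intro h1
    have hd : orderOf g ∣ p ^ (k - 2 + 1) := orderOf_dvd_iff_pow_eq_one.mpr h1
    rw [hk] at hd
    have := (Nat.pow_dvd_pow_iff_le_right hp.one_lt).mp hd
    omega
  · rw [← pow_mul, ← pow_mul]
    have : p ^ (k - 2) * (p * p) = p ^ k := by
      rw [← mul_assoc, ← pow_succ, ← pow_succ]
      congr 1
      omega
    rw [this, ← hk]
    exact pow_orderOf_eq_one g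

/-- A6 -/
theorem Fx_le_Zf (h : Hyp p L) (hm : Mov p σ) (F : Facts p L) (SF : SFacts p σ)
    (hom : ∀ g k : L, (g * k) ^ p = g ^ p * k ^ p)
    (h5 : ∃ y : L, y ^ p ∈ Zf p σ ∧ y ^ p ≠ 1 ∧ (y⁻¹ * σ y) ^ p = 1 ∧ y⁻¹ * σ y ∉ Zf p σ) :
    Fx σ ≤ Zf p σ := by
  intro g hg
  have hgfix : σ g = g := (mem_Fx σ g).mp hg
  suffices hgp1 : g ^ p = 1 from ⟨(F.mem_Om_iff g).mpr hgp1, hg⟩
  by_contra hgp
  obtain ⟨j, hj1, hj2⟩ := a6_exists_pow h.hL hgp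
  obtain ⟨g₂, hg₂⟩ : ∃ g₂ : L, g₂ = g ^ j := ⟨_, rfl⟩
  rw [← hg₂] at hj1 hj2
  have hg₂fix : σ g₂ = g₂ := by rw [hg₂, map_pow, hgfix]
  obtain ⟨g₁, hg₁⟩ : ∃ g₁ : L, g₁ = g₂ ^ p := ⟨_, rfl⟩
  rw [← hg₁] at hj1 hj2
  have hg₁fix : σ g₁ = g₁ := by rw [hg₁, map_pow, hg₂fix]
  have hg₁Z : g₁ ∈ Zf p σ := ⟨(F.mem_Om_iff g₁).mpr hj2, (mem_Fx σ g₁).mpr hg₁fix⟩
  obtain ⟨y, hyZ, hy1, hwp, hwZ⟩ := h5
  -- `Zf` is generated by `g₁`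
  have htop : Subgroup.zpowers (⟨g₁, hg₁Z⟩ : ↥(Zf p σ)) = ⊤ :=
    zpowers_eq_top_of_prime_card SF.card_Zf (by
      intro h1
      exact hj1 (congrArg Subtype.val h1))
  have hmem : (⟨y ^ p, hyZ⟩ : ↥(Zf p σ)) ∈ Subgroup.zpowers (⟨g₁, hg₁Z⟩ : ↥(Zf p σ)) := by
    rw [htop]; exact Subgroup.mem_top _
  rw [← mem_powers_iff_mem_zpowers, Submonoid.mem_powers_iff] at hmem
  obtain ⟨i, hi⟩ := hmem
  have hi' : g₁ ^ i = y ^ p := by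
    have := congrArg Subtype.val hi
    simpa using this
  -- the element `e`
  obtain ⟨t, ht⟩ : ∃ t : L, t = g₂ ^ i := ⟨_, rfl⟩
  have htfix : σ t = t := by rw [ht, map_pow, hg₂fix]
  have htp : t ^ p = y ^ p := by
    rw [ht, ← pow_mul, mul_comm, pow_mul, ← hg₁, hi']
  have hep : (y * t⁻¹) ^ p = 1 := by
    rw [hom, inv_pow, htp, mul_inv_cancel]
  have h1 := SF.inv_mul_sigma_mem_Zf hep
  have h2 : (y * t⁻¹)⁻¹ * σ (y * t⁻¹) = t * (y⁻¹ * σ y) * t⁻¹ := by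
    rw [map_mul, map_inv, htfix]
    group
  rw [h2] at h1
  have h3 := SF.comm_mem_Zf t hwp
  apply hwZ
  have h4 : y⁻¹ * σ y = (t * (y⁻¹ * σ y) * t⁻¹ * (y⁻¹ * σ y)⁻¹)⁻¹ * (t * (y⁻¹ * σ y) * t⁻¹) := by
    group
  rw [h4]
  exact (Zf p σ).mul_mem ((Zf p σ).inv_mem h3) h1

end Cfsg.Agent.Lib.H15.MC3
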