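import Mathlib
import Cfsg.Agent.Lib.H24.MI.Defs

set_option autoImplicit false

namespace Cfsg.Agent.Lib.H15.MI

open Cfsg.Agent.Lib.H24.MI

/-- K6. The frozen hypotheses give `MetaIdx`. -/
theorem metaIdx_of_hyp {G : Type*} [Group G] [Finite G] (A : Subgroup G) (p s : ℕ) (hA : A.index = p ^ s)
    (B : Subgroup A) [B.Normal] (hB : IsCyclic B) (hAB : IsCyclic (A ⧸ B)) (r : ℕ)
    (hr : Nat.card (A ⧸ B) = 2 ^ r) : MetaIdx G p := by
  classical
  obtain ⟨g, hg⟩ := hAB.exists_generator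
  obtain ⟨c, hc⟩ := QuotientGroup.mk_surjective g
  have hn0 : orderOf c ≠ 0 := (orderOf_pos c).ne'
  obtain ⟨e, m, hm, hnm⟩ := Nat.exists_eq_two_pow_mul_odd hn0
  -- order of g
  have hog : orderOf g = 2 ^ r := by
    rw [orderOf_eq_card_of_forall_mem_zpowers hg, hr]
  have hcop : Nat.Coprime m (orderOf g) := by
    rw [hog]
    exact (Nat.Coprime.pow_right r (Nat.coprime_two_right.mpr hm))
  obtain ⟨j, hj⟩ := exists_pow_eq_self_of_coprime hcop
  -- u = c ^ m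
  set u : A := c ^ m with hu
  have hmku : (QuotientGroup.mk u : A ⧸ B) = g ^ m := by
    rw [hu, QuotientGroup.mk_pow, hc]
  have hu2 : u ^ (2 ^ e) = 1 := by
    rw [hu, ← pow_mul, mul_comm, ← hnm, pow_orderOf_eq_one]
  have huG : ((u : A) : G) ^ (2 ^ e) = 1 := by
    have := congrArg (fun x : A => (x : G)) hu2
    simpa using this
  refine ⟨A, B.map A.subtype, Subgroup.zpowers ((u : A) : G), s, ?_, ?_, ?_, ?_, ?_, ?_, ?_, ?_⟩
  · -- B' ≤ A
    intro x hx
    obtain ⟨b, _, rfl⟩ := Subgroup.mem_map.mp hx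
    exact b.2
  · -- T ≤ A
    rw [Subgroup.zpowers_le]
    exact u.2
  · -- A ≤ normalizer B'
    intro a ha
    rw [Subgroup.mem_normalizer_iff]
    intro n
    constructor
    · intro hn
      obtain ⟨b, hbB, rfl⟩ := Subgroup.mem_map.mp hn
      refine Subgroup.mem_map.mpr ⟨⟨a, ha⟩ * b * ⟨a, ha⟩⁻¹, ?_, ?_⟩
      · exact Subgroup.Normal.conj_mem inferInstance b hbB ⟨a, ha⟩
      · simp
    · intro hn
      obtain ⟨b, hbB, hb⟩ := Subgroup.mem_map.mp hn
      refine Subgroup.mem_map.mpr ⟨⟨a, ha⟩⁻¹ * b * ⟨a, ha⟩, ?_, ?_⟩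
      · have := Subgroup.Normal.conj_mem (inferInstance : B.Normal) b hbB (⟨a, ha⟩⁻¹ : A)
        simpa using this
      · simp only [Subgroup.coe_subtype, Subgroup.coe_mul, Subgroup.coe_inv] at hb ⊢
        rw [hb]; group
  · -- A ≤ B' ⊔ T
    intro a ha
    obtain ⟨k, hk⟩ := Subgroup.mem_zpowers_iff.mp (hg (QuotientGroup.mk (⟨a, ha⟩ : A)))
    -- mk a = g ^ k = (mk u) ^ (j * k)
    have h1 : (QuotientGroup.mk (⟨a, ha⟩ : A) : A ⧸ B) = QuotientGroup.mk (u ^ ((j : ℤ) * k)) := by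
      rw [QuotientGroup.mk_zpow, hmku, ← hk, zpow_mul, zpow_natCast, hj]
    have h2 : (u ^ ((j : ℤ) * k))⁻¹ * (⟨a, ha⟩ : A) ∈ B := by
      exact QuotientGroup.eq.mp h1.symm
    have h3 : a = ((u : A) : G) ^ ((j : ℤ) * k) *
        (((u ^ ((j : ℤ) * k))⁻¹ * (⟨a, ha⟩ : A) : A) : G) := by
      simp
    rw [h3, sup_comm]
    apply Subgroup.mul_mem_sup
    · exact Subgroup.zpow_mem _ (Subgroup.mem_zpowers _) _
    · exact Subgroup.mem_map.mpr ⟨_, h2, rfl⟩
  · -- IsCyclic B'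
    exact isCyclic_of_surjective (B.equivMapOfInjective A.subtype A.subtype_injective).toMonoidHom
      (B.equivMapOfInjective A.subtype A.subtype_injective).surjective
  · -- IsCyclic T
    infer_instance
  · -- IsPGroup 2 T
    have hdvd : orderOf ((u : A) : G) ∣ 2 ^ e := orderOf_dvd_of_pow_eq_one huG
    obtain ⟨t, _, ht⟩ := (Nat.dvd_prime_pow Nat.prime_two).mp hdvd
    apply IsPGroup.of_card (n := t)
    rw [Nat.card_zpowers, ht]
  · -- index
    rw [hA]
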