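import Mathlib
import Cfsg.Prelude.Def_LocalEven

/-!
# 3-minimal groups: generic lemmas (helper15)

* `join_ne_top_of_existsUnique_coatom`: if `S` lies in a unique maximal subgroup, two proper
  subgroups containing `S` do not generate the group.
* `not_isPMinimal_of_two`: a Sylow subgroup with two proper overgroups generating the group shows
  the group is not `p`-minimal.
* `IsPMinimal` is invariant under isomorphism.
-/

set_option autoImplicit false

namespace Cfsg.Agent.Lib.H15.Min3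

open Cfsg

variable {G : Type*} [Group G] [Finite G]

theorem join_ne_top_of_existsUnique_coatom (S : Subgroup G)
    (hu : ∃! M : Subgroup G, IsCoatom M ∧ S ≤ M) (K1 K2 : Subgroup G) (h1 : S ≤ K1) (h2 : S ≤ K2)
    (hK1 : K1 ≠ ⊤) (hK2 : K2 ≠ ⊤) : K1 ⊔ K2 ≠ ⊤ := by
  obtain ⟨M, ⟨hM, hSM⟩, huniq⟩ := hu
  have key : ∀ K : Subgroup G, S ≤ K → K ≠ ⊤ → K ≤ M := by
    intro K hSK hK
    rcases eq_top_or_exists_le_coatom K with h | ⟨M', hM', hKM'⟩
    · exact absurd h hK
    · have := huniq M' ⟨hM', hSK.trans hKM'⟩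
      rw [← this]; exact hKM'
  intro htop
  have : K1 ⊔ K2 ≤ M := sup_le (key K1 h1 hK1) (key K2 h2 hK2)
  rw [htop, top_le_iff] at this
  exact hM.1 this

theorem not_isPMinimal_of_two {p : ℕ} [Fact p.Prime] (S : Sylow p G) (K1 K2 : Subgroup G)
    (h1 : (S : Subgroup G) ≤ K1) (h2 : (S : Subgroup G) ≤ K2)
    (hK1 : K1 ≠ ⊤) (hK2 : K2 ≠ ⊤) (hsup : K1 ⊔ K2 = ⊤) : ¬ IsPMinimal p G := by
  intro h
  exact join_ne_top_of_existsUnique_coatom (S : Subgroup G) (h S).2 K1 K2 h1 h2 hK1 hK2 hsup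

theorem isPMinimal_of_mulEquiv {p : ℕ} [Fact p.Prime] {A : Type*} [Group A] [Finite A]
    (e : G ≃* A) (h : IsPMinimal p G) : IsPMinimal p A := by
  intro SA
  have hr : (SA : Subgroup A) ≤ e.toMonoidHom.range := by
    rw [MonoidHom.range_eq_top.mpr e.surjective]; exact le_top
  set SG : Sylow p G := SA.comapOfInjective e.toMonoidHom e.injective hr with hSG
  have hcoe : (SG : Subgroup G) = (SA : Subgroup A).comap e.toMonoidHom :=
    Sylow.coe_comapOfInjective _ _ _ _
  obtain ⟨hnn, M, ⟨hM, hSM⟩, huniq⟩ := h SG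
  refine ⟨?_, M.map e.toMonoidHom, ⟨?_, ?_⟩, ?_⟩
  · intro hN
    apply hnn
    rw [hcoe]
    exact hN.comap _
  · exact (e.mapSubgroup.isCoatom_iff M).mpr hM
  · intro a ha
    refine ⟨e.symm a, hSM ?_, by simp⟩
    rw [hcoe, Subgroup.mem_comap]
    simpa using ha
  · intro M' ⟨hM', hSM'⟩
    have h1 : IsCoatom (M'.comap e.toMonoidHom) := by
      have : M'.comap e.toMonoidHom = e.symm.mapSubgroup M' := by
        ext x
        constructor
        · intro hx
          exact ⟨e x, hx, by simp⟩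
        · rintro ⟨y, hy, rfl⟩
          simpa using hy
      rw [this]
      exact (e.symm.mapSubgroup.isCoatom_iff M').mpr hM'
    have h2 : (SG : Subgroup G) ≤ M'.comap e.toMonoidHom := by
      rw [hcoe]; exact Subgroup.comap_mono hSM'
    have h3 := huniq _ ⟨h1, h2⟩
    rw [← h3]
    exact (Subgroup.map_comap_eq_self_of_surjective e.surjective M').symm

end Cfsg.Agent.Lib.H15.Min3
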