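import Mathlib
import Cfsg.Agent.Lib.H7.FStar
import Cfsg.Agent.Lib.H20.AltPQ2
import Cfsg.Agent.Lib.H15.Min3A

/-!
# 3-minimal groups with alternating generalized Fitting subgroup are alternating (helper15)

`eq_top_of_isPMinimal_three`: if `X` is 3-minimal and `F*(X) ≅ A_n` (`n ≥ 5`), then `X = F*(X)`.
-/

set_option autoImplicit false

namespace Cfsg.Agent.Lib.H15.Min3

open Cfsg Equiv Equiv.Perm

/-- An automorphism of odd order of `A_n`, `n ≥ 5`, is inner. -/
theorem exists_conj_eq_of_odd {n : ℕ} (hn : 5 ≤ n) (ψ : MulAut (alternatingGroup (Fin n)))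
    (hψ : Odd (orderOf ψ)) : ∃ a : alternatingGroup (Fin n), MulAut.conj a = ψ := by
  have h4 : 4 ≤ Fintype.card (Fin n) := by rw [Fintype.card_fin]; omega
  obtain ⟨σ, hσ⟩ : ∃ σ : Perm (Fin n),
      (MulAut.conjNormal σ : MulAut (alternatingGroup (Fin n))) = ψ := by
    by_cases hn6 : n = 6
    · subst hn6
      exact Cfsg.Agent.Lib.H20.AltPQ.exists_conjNormal_eq_of_map_threeCycle h4 ψ
        (fun g hg => Cfsg.Agent.Lib.H20.AltPQ.isThreeCycle_map_of_odd ψ hψ g hg)
    · exact Cfsg.Agent.Lib.H18.conjNormal_alternating_surjective h4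
        (by rw [Fintype.card_fin]; exact hn6) ψ
  have hinj := Cfsg.Agent.Lib.H18.conjNormal_alternating_injective (α := Fin n) h4
  have hord : orderOf σ = orderOf ψ := by
    rw [← hσ]; exact (orderOf_injective _ hinj σ).symm
  have hsign : Perm.sign σ = 1 := by
    rcases Int.units_eq_one_or (Perm.sign σ) with h | h
    · exact h
    · exfalso
      have h1 : Perm.sign σ ^ orderOf σ = 1 := by
        rw [← map_pow, pow_orderOf_eq_one, map_one]
      rw [h, hord, Odd.neg_one_pow hψ] at h1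
      exact absurd h1 (by decide)
  refine ⟨⟨σ, mem_alternatingGroup.mpr hsign⟩, ?_⟩
  rw [← hσ]
  ext g
  rw [MulAut.conj_apply, MulAut.conjNormal_apply]
  simp

variable {X : Type*} [Group X] [Finite X]

theorem mem_fstar_of_three_pow {n : ℕ} (hn : 5 ≤ n)
    (e : ↥(generalizedFittingSubgroup X) ≃* ↥(alternatingGroup (Fin n))) (x : X) (k : ℕ)
    (hx : x ^ 3 ^ k = 1) : x ∈ generalizedFittingSubgroup X := by
  haveI : (generalizedFittingSubgroup X).Normal :=
    Cfsg.Agent.Lib.H7.generalizedFittingSubgroup_normal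
  set L := generalizedFittingSubgroup X with hL
  set φ : MulAut L := MulAut.conjNormal x with hφ
  set ψ : MulAut (alternatingGroup (Fin n)) := MulAut.congr e φ with hψ
  have hpow : ψ ^ 3 ^ k = 1 := by
    rw [hψ, ← map_pow, hφ, ← map_pow, hx, map_one, map_one]
  have hodd : Odd (orderOf ψ) := by
    have hdvd : orderOf ψ ∣ 3 ^ k := orderOf_dvd_of_pow_eq_one hpow
    have h3 : Odd (3 ^ k) := Odd.pow (by decide)
    exact h3.of_dvd_nat hdvd
  obtain ⟨a, ha⟩ := exists_conj_eq_of_odd hn ψ hodd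
  set l : L := e.symm a with hl
  have hconj : ∀ y : L, x * (y : X) * x⁻¹ = (l : X) * y * (l : X)⁻¹ := by
    intro y
    have h1 : ψ (e y) = a * e y * a⁻¹ := by rw [← ha, MulAut.conj_apply]
    have h2 : ψ (e y) = e (φ y) := by
      rw [hψ]; simp [MulAut.congr]
    have h3 : φ y = l * y * l⁻¹ := by
      apply e.injective
      rw [← h2, h1, map_mul, map_mul, map_inv, hl, MulEquiv.apply_symm_apply]
    have h4 := congrArg (Subtype.val) h3
    rw [hφ, MulAut.conjNormal_apply] at h4
    rw [h4]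
    simp
  have hcent : (l : X)⁻¹ * x ∈ Subgroup.centralizer (L : Set X) := by
    rw [Subgroup.mem_centralizer_iff]
    intro y hy
    have := hconj ⟨y, hy⟩
    simp only at this
    -- y * (l⁻¹ x) = (l⁻¹ x) * y
    have h5 : x * y = (l : X) * y * (l : X)⁻¹ * x := by
      rw [← this]; group
    calc y * ((l : X)⁻¹ * x) = (l : X)⁻¹ * ((l : X) * y * (l : X)⁻¹ * x) := by group
      _ = (l : X)⁻¹ * (x * y) := by rw [h5]
      _ = (l : X)⁻¹ * x * y := by group
  have hle := Cfsg.Agent.Lib.H7.centralizer_generalizedFittingSubgroup_le (G := X)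
  have h6 : (l : X)⁻¹ * x ∈ L := hle hcent
  have h7 : (l : X) * ((l : X)⁻¹ * x) ∈ L := L.mul_mem l.2 h6
  simpa using h7

theorem sylow_le_fstar {n : ℕ} (hn : 5 ≤ n)
    (e : ↥(generalizedFittingSubgroup X) ≃* ↥(alternatingGroup (Fin n))) (P : Sylow 3 X) :
    (P : Subgroup X) ≤ generalizedFittingSubgroup X := by
  intro x hx
  obtain ⟨k, hk⟩ := P.2 ⟨x, hx⟩
  have hk' : x ^ 3 ^ k = 1 := by
    have := congrArg Subtype.val hk
    simpa using this
  exact mem_fstar_of_three_pow hn e x k hk'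

theorem eq_top_of_isPMinimal_three (hX : IsPMinimal 3 X) {n : ℕ} (hn : 5 ≤ n)
    (e : ↥(generalizedFittingSubgroup X) ≃* ↥(alternatingGroup (Fin n))) :
    generalizedFittingSubgroup X = ⊤ := by
  haveI : (generalizedFittingSubgroup X).Normal :=
    Cfsg.Agent.Lib.H7.generalizedFittingSubgroup_normal
  set L := generalizedFittingSubgroup X with hL
  by_contra hne
  obtain ⟨P⟩ : Nonempty (Sylow 3 X) := inferInstance
  have hPL : (P : Subgroup X) ≤ L := sylow_le_fstar hn e P
  obtain ⟨hnn, hu⟩ := hX P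
  have hN : Subgroup.normalizer ((P : Subgroup X) : Set X) ≠ ⊤ := by
    intro h
    exact hnn (Subgroup.normalizer_eq_top_iff.mp h)
  have hjoin := join_ne_top_of_existsUnique_coatom (P : Subgroup X) hu L
    (Subgroup.normalizer ((P : Subgroup X) : Set X)) hPL Subgroup.le_normalizer hne hN
  apply hjoin
  have hfr := Sylow.normalizer_sup_eq_top (P.subtype hPL)
  have hmap : ((P.subtype hPL : Sylow 3 L) : Subgroup L).map L.subtype = (P : Subgroup X) := by
    rw [Sylow.coe_subtype, Subgroup.subgroupOf_map_subtype, inf_eq_left.mpr hPL]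
  rw [hmap] at hfr
  rw [sup_comm]
  exact hfr

end Cfsg.Agent.Lib.H15.Min3
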