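import Mathlib
import Cfsg.Prelude.Def_CaseTheorems
import Cfsg.Agent.Lib.H7.Quasisimple

/-!
# Subgroups of symmetric groups containing 3-cycles (helper15), part 1

General lemmas: a quasisimple subgroup `L` normalized but not centralized by `c` lies in the
subgroup generated by the `L`-conjugates of `c`; a perfect subgroup all of whose elements commute
with a 3-cycle does not contain that 3-cycle.
-/

set_option autoImplicit false

namespace Cfsg.Agent.Lib.H15.SymF

open Cfsg Equiv Equiv.Perm
open scoped commutatorElement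

section group

variable {G : Type*} [Group G]

/-- The subgroup generated by the `L`-conjugates of `c`. -/
def conjCl (L : Subgroup G) (c : G) : Subgroup G :=
  Subgroup.closure {g | ∃ x ∈ L, g = x * c * x⁻¹}

theorem conj_mem_conjCl (L : Subgroup G) (c : G) {x : G} (hx : x ∈ L) : x * c * x⁻¹ ∈ conjCl L c :=
  Subgroup.subset_closure ⟨x, hx, rfl⟩

theorem self_mem_conjCl (L : Subgroup G) (c : G) : c ∈ conjCl L c := by
  have := conj_mem_conjCl L c L.one_mem
  simpa using this

/-- `L` normalizes `conjCl L c`. -/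
theorem conj_conjCl (L : Subgroup G) (c : G) {x : G} (hx : x ∈ L) {d : G} (hd : d ∈ conjCl L c) :
    x * d * x⁻¹ ∈ conjCl L c := by
  have h : (conjCl L c).map (MulAut.conj x).toMonoidHom ≤ conjCl L c := by
    unfold conjCl
    rw [MonoidHom.map_closure, Subgroup.closure_le]
    rintro _ ⟨_, ⟨y, hy, rfl⟩, rfl⟩
    apply Subgroup.subset_closure
    refine ⟨x * y, L.mul_mem hx hy, ?_⟩
    simp [MulAut.conj_apply, mul_assoc]
  have := h (Subgroup.mem_map_of_mem _ hd)
  simpa [MulAut.conj_apply] using this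

/-- Quasisimple subgroup: perfect. -/
theorem commutator_self_of_quasisimple (L : Subgroup G) (hL : IsQuasisimple ↥L) : ⁅L, L⁆ = L :=
  Subgroup.isPerfect_iff.1 hL.1

/-- Quasisimple subgroup: an `L`-invariant subgroup of `L` is `L` or central in `L`. -/
theorem eq_or_central_of_quasisimple (L : Subgroup G) (hL : IsQuasisimple ↥L) (N : Subgroup G)
    (hNL : N ≤ L) (hinv : ∀ x ∈ L, ∀ y ∈ N, x * y * x⁻¹ ∈ N) :
    N = L ∨ ∀ y ∈ N, ∀ x ∈ L, x * y = y * x := by
  haveI : (N.subgroupOf L).Normal := by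
    constructor
    intro y hy x
    rw [Subgroup.mem_subgroupOf] at hy ⊢
    simpa using hinv x x.2 y hy
  rcases Cfsg.Agent.Lib.H7.quasisimple_normal hL (N.subgroupOf L) with h | h
  · left
    apply le_antisymm hNL
    intro x hx
    have : (⟨x, hx⟩ : ↥L) ∈ N.subgroupOf L := by rw [h]; trivial
    simpa [Subgroup.mem_subgroupOf] using this
  · right
    intro y hy x hx
    have : (⟨y, hNL hy⟩ : ↥L) ∈ Subgroup.center ↥L := h (by simpa [Subgroup.mem_subgroupOf] using hy)
    rw [Subgroup.mem_center_iff] at this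
    have := this ⟨x, hx⟩
    simpa using congrArg Subtype.val this

/-- Key lemma: `L` perfect with the "normal subgroups are everything or central" property,
`c` normalizing but not centralizing `L`: then `L ≤ ⟨c^L⟩`. -/
theorem le_conjCl (L : Subgroup G) (hperf : ⁅L, L⁆ = L)
    (hqn : ∀ N : Subgroup G, N ≤ L → (∀ x ∈ L, ∀ y ∈ N, x * y * x⁻¹ ∈ N) →
      N = L ∨ ∀ y ∈ N, ∀ x ∈ L, x * y = y * x)
    (c : G) (hcN : c ∈ Subgroup.normalizer (L : Set G))
    (hnc : ∃ x ∈ L, x * c ≠ c * x) : L ≤ conjCl L c := by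
  set C : Subgroup G := Subgroup.zpowers c with hC
  have hCN : C ≤ Subgroup.normalizer (L : Set G) := by
    rw [hC, Subgroup.zpowers_le]; exact hcN
  set M : Subgroup G := ⁅L, C⁆ with hM
  have hML : M ≤ L := Subgroup.le_normalizer_iff_commutator_le_left.mp hCN
  -- `M ≤ conjCl`
  have hMD : M ≤ conjCl L c := by
    rw [hM, Subgroup.commutator_le]
    intro l hl d hd
    obtain ⟨k, rfl⟩ := Subgroup.mem_zpowers_iff.1 hd
    have h1 : l * c ^ k * l⁻¹ ∈ conjCl L c := by
      have : l * c ^ k * l⁻¹ = (l * c * l⁻¹) ^ k := by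
        rw [conj_zpow]
      rw [this]
      exact Subgroup.zpow_mem _ (conj_mem_conjCl L c hl) k
    have h2 : (c ^ k)⁻¹ ∈ conjCl L c :=
      Subgroup.inv_mem _ (Subgroup.zpow_mem _ (self_mem_conjCl L c) k)
    have : ⁅l, c ^ k⁆ = l * c ^ k * l⁻¹ * (c ^ k)⁻¹ := by
      rw [commutatorElement_def]
    rw [this]
    exact Subgroup.mul_mem _ h1 h2
  -- `M` is `L`-invariant
  have hMinv : ∀ x ∈ L, ∀ y ∈ M, x * y * x⁻¹ ∈ M := by
    intro x hx y hy
    have h : M.map (MulAut.conj x).toMonoidHom ≤ M := by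
      rw [hM, Subgroup.commutator_def, MonoidHom.map_closure, Subgroup.closure_le]
      rintro _ ⟨_, ⟨l, hl, d, hd, rfl⟩, rfl⟩
      have e : (MulAut.conj x).toMonoidHom ⁅l, d⁆ = ⁅x * l, d⁆ * ⁅x, d⁆⁻¹ := by
        simp only [MulEquiv.toMonoidHom_eq_coe, MonoidHom.coe_coe, MulAut.conj_apply,
          commutatorElement_def]
        group
      rw [e]
      exact Subgroup.mul_mem _
        (Subgroup.commutator_mem_commutator (L.mul_mem hx hl) hd)
        (Subgroup.inv_mem _ (Subgroup.commutator_mem_commutator hx hd))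
    have := h (Subgroup.mem_map_of_mem _ hy)
    simpa [MulAut.conj_apply] using this
  rcases hqn M hML hMinv with h | h
  · exact h.ge.trans hMD
  · exfalso
    have h1 : ⁅⁅L, C⁆, L⁆ = ⊥ := by
      rw [Subgroup.commutator_eq_bot_iff_le_centralizer]
      intro y hy
      rw [Subgroup.mem_centralizer_iff]
      intro x hx
      exact h y hy x hx
    have h2 : ⁅⁅C, L⁆, L⁆ = ⊥ := by rw [Subgroup.commutator_comm C L]; exact h1
    have h3 : ⁅⁅L, L⁆, C⁆ = ⊥ := Subgroup.commutator_commutator_eq_bot_of_rotate h1 h2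
    rw [hperf, Subgroup.commutator_eq_bot_iff_le_centralizer] at h3
    obtain ⟨x, hx, hxc⟩ := hnc
    have := h3 hx
    rw [Subgroup.mem_centralizer_iff] at this
    exact hxc (this c (Subgroup.mem_zpowers c)).symm

end group

end Cfsg.Agent.Lib.H15.SymF
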