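import Mathlib
import Cfsg.Agent.Lib.H15.SymF1

/-!
# Subgroups of symmetric groups containing 3-cycles (helper15), part 2

A perfect subgroup all of whose elements commute with a 3-cycle does not contain that 3-cycle.
-/

set_option autoImplicit false

namespace Cfsg.Agent.Lib.H15.SymF

open Cfsg Equiv Equiv.Perm
open scoped commutatorElement

variable {α : Type*} [Fintype α] [DecidableEq α]

/-- An element commuting with a 3-cycle acts on a point of its support as a power of it. -/
theorem exists_pow_apply_eq {c x : Perm α} (hc : c.IsThreeCycle) (hx : x * c = c * x) {a : α}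
    (ha : c a ≠ a) : ∃ i : ℕ, (c ^ i) a = x a := by
  have hxa : c (x a) ≠ x a := by
    intro h
    apply ha
    have h1 : x (c a) = c (x a) := by
      have := congrArg (fun f : Perm α => f a) hx
      simpa [Perm.mul_apply] using this
    exact x.injective (h1.trans h)
  exact hc.isCycle.exists_pow_eq ha hxa

theorem apply_pow_apply {c z : Perm α} (hz : z * c = c * z) (k : ℕ) (b : α) :
    z ((c ^ k) b) = (c ^ k) (z b) := by
  have hcomm : Commute z c := hz
  have := (hcomm.pow_right k).eq
  have := congrArg (fun f : Perm α => f b) this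
  simpa [Perm.mul_apply] using this

/-- A perfect subgroup centralized by a 3-cycle does not contain it. -/
theorem not_mem_of_perfect_of_commute (L : Subgroup (Perm α)) (hperf : ⁅L, L⁆ = L) {c : Perm α}
    (hc : c.IsThreeCycle) (hcomm : ∀ x ∈ L, x * c = c * x) : c ∉ L := by
  intro hcL
  obtain ⟨a, ha⟩ : ∃ a, c a ≠ a := by
    have h3 := hc.card_support
    have : c.support.Nonempty := by
      rw [← Finset.card_pos, h3]; norm_num
    obtain ⟨a, ha⟩ := this
    exact ⟨a, Perm.mem_support.1 ha⟩
  have hle : L ≤ MulAction.stabilizer (Perm α) a := by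
    rw [← hperf, Subgroup.commutator_le]
    intro x hx y hy
    rw [MulAction.mem_stabilizer_iff, Perm.smul_def]
    obtain ⟨i, hi⟩ := exists_pow_apply_eq hc (hcomm x hx) ha
    obtain ⟨j, hj⟩ := exists_pow_apply_eq hc (hcomm y hy) ha
    obtain ⟨i', hi'⟩ := exists_pow_apply_eq hc (hcomm x⁻¹ (L.inv_mem hx)) ha
    obtain ⟨j', hj'⟩ := exists_pow_apply_eq hc (hcomm y⁻¹ (L.inv_mem hy)) ha
    have hx1 : (c ^ i') ((c ^ i) a) = a := by
      rw [hi, ← apply_pow_apply (hcomm x hx), hi']; simp
    have hy1 : (c ^ j') ((c ^ j) a) = a := by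
      rw [hj, ← apply_pow_apply (hcomm y hy), hj']; simp
    rw [commutatorElement_def]
    simp only [Perm.mul_apply]
    rw [← hj', apply_pow_apply (hcomm x⁻¹ (L.inv_mem hx)), ← hi',
      apply_pow_apply (hcomm y hy), apply_pow_apply (hcomm y hy), ← hj,
      apply_pow_apply (hcomm x hx), apply_pow_apply (hcomm x hx), apply_pow_apply (hcomm x hx), ← hi]
    -- goal: c^j' (c^i' (c^j (c^i a))) = a
    have e : (c ^ j') ((c ^ i') ((c ^ j) ((c ^ i) a))) = (c ^ j') ((c ^ j) ((c ^ i') ((c ^ i) a))) := by
      simp only [← Perm.mul_apply, ← pow_add]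
      congr 2
      ring
    rw [e, hx1, hy1]
  have := hle hcL
  rw [MulAction.mem_stabilizer_iff, Perm.smul_def] at this
  exact ha this

end Cfsg.Agent.Lib.H15.SymF
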