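import Mathlib
import Cfsg.Agent.Lib.H15.SymF2

/-!
# Subgroups of symmetric groups containing 3-cycles (helper15), part 3

A transitive permutation group generated by 3-cycles is primitive, hence alternating (Jordan).
-/

set_option autoImplicit false

namespace Cfsg.Agent.Lib.H15.SymF

open Cfsg Equiv Equiv.Perm MulAction
open scoped commutatorElement Pointwise

variable {β : Type*} [Fintype β] [DecidableEq β]

/-- A transitive group generated by 3-cycles is primitive. -/
theorem isPreprimitive_of_closure_threeCycles (S : Set (Perm β)) (hS : ∀ g ∈ S, g.IsThreeCycle)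
    (G : Subgroup (Perm β)) (hG : G = Subgroup.closure S) [htr : IsPretransitive G β] :
    IsPreprimitive G β := by
  refine { htr with isTrivialBlock_of_isBlock := ?_ }
  intro B hB
  by_contra hnt
  unfold IsTrivialBlock at hnt
  rw [not_or] at hnt
  obtain ⟨hns, hnu⟩ := hnt
  obtain ⟨x, hx, y, hy, hxy⟩ := Set.not_subsingleton_iff.1 hns
  -- some generator moves `B`
  have hex : ∃ t ∈ S, (t : Perm β) • B ≠ B := by
    by_contra hall
    have hall : ∀ t ∈ S, (t : Perm β) • B = B := by
      intro t ht
      by_contra h
      exact hall ⟨t, ht, h⟩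
    have hle : G ≤ MulAction.stabilizer (Perm β) B := by
      rw [hG, Subgroup.closure_le]
      intro t ht
      exact MulAction.mem_stabilizer_iff.2 (hall t ht)
    obtain ⟨z, hz⟩ := (Set.ne_univ_iff_exists_notMem B).1 hnu
    obtain ⟨g, hg⟩ := htr.exists_smul_eq x z
    have h1 := MulAction.mem_stabilizer_iff.1 (hle g.2)
    have : z ∈ (g : Perm β) • B := by
      rw [← hg]
      exact Set.smul_mem_smul_set (a := (g : Perm β)) hx
    rw [h1] at this
    exact hz this
  obtain ⟨t, htS, htB⟩ := hex
  have htG : t ∈ G := by rw [hG]; exact Subgroup.subset_closure htS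
  have hdisj : Disjoint ((t : Perm β) • B) B := by
    rcases hB.smul_eq_or_disjoint ⟨t, htG⟩ with h | h
    · exact absurd h htB
    · exact h
  have hmv : ∀ b ∈ B, t b ∉ B := by
    intro b hb hb'
    have : t b ∈ (t : Perm β) • B := Set.smul_mem_smul_set (a := t) hb
    exact Set.disjoint_left.1 hdisj this hb'
  have h3 := (hS t htS).card_support
  have hxs : x ∈ t.support := Perm.mem_support.2 (fun h => hmv x hx (by rw [h]; exact hx))
  have hys : y ∈ t.support := Perm.mem_support.2 (fun h => hmv y hy (by rw [h]; exact hy))
  have htxs : t x ∈ t.support := Perm.apply_mem_support.2 hxs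
  have htys : t y ∈ t.support := Perm.apply_mem_support.2 hys
  have htx1 : t x ≠ x := Perm.mem_support.1 hxs
  have htx2 : t x ≠ y := fun h => hmv x hx (by rw [h]; exact hy)
  have hty1 : t y ≠ y := Perm.mem_support.1 hys
  have hty2 : t y ≠ x := fun h => hmv y hy (by rw [h]; exact hx)
  have hsub : ({x, y, t x} : Finset β) ⊆ t.support := by
    intro w hw
    simp only [Finset.mem_insert, Finset.mem_singleton] at hw
    rcases hw with rfl | rfl | rfl <;> assumption
  have hcard : ({x, y, t x} : Finset β).card = 3 := by
    rw [Finset.card_insert_of_notMem, Finset.card_insert_of_notMem, Finset.card_singleton]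
    · simpa using htx2.symm
    · simp only [Finset.mem_insert, Finset.mem_singleton, not_or]
      exact ⟨hxy, htx1.symm⟩
  have heq : ({x, y, t x} : Finset β) = t.support :=
    Finset.eq_of_subset_of_card_le hsub (by rw [h3, hcard])
  rw [← heq] at htys
  simp only [Finset.mem_insert, Finset.mem_singleton] at htys
  rcases htys with h | h | h
  · exact hty2 h
  · exact hty1 h
  · exact hxy (t.injective h).symm

/-- A transitive group generated by 3-cycles (at least one) is the alternating group. -/
theorem eq_alternatingGroup_of_closure_threeCycles (S : Set (Perm β)) (hS : ∀ g ∈ S, g.IsThreeCycle)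
    (hne : S.Nonempty) (G : Subgroup (Perm β)) (hG : G = Subgroup.closure S)
    (htr : ∀ a b : β, ∃ g ∈ G, g a = b) : G = alternatingGroup β := by
  haveI : IsPretransitive G β := ⟨fun a b => by
    obtain ⟨g, hg, h⟩ := htr a b
    exact ⟨⟨g, hg⟩, h⟩⟩
  have hprim := isPreprimitive_of_closure_threeCycles S hS G hG
  obtain ⟨t, ht⟩ := hne
  have htG : t ∈ G := by rw [hG]; exact Subgroup.subset_closure ht
  apply le_antisymm
  · rw [hG, Subgroup.closure_le]
    intro g hg
    exact (hS g hg).mem_alternatingGroup
  · exact Equiv.Perm.alternatingGroup_le_of_isPreprimitive_of_isThreeCycle_mem hprim (hS t ht) htG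

end Cfsg.Agent.Lib.H15.SymF
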