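import Mathlib
import Cfsg.Agent.Lib.H18.AutAlt
import Cfsg.Agent.Lib.H15.SymF3

/-!
# Generating the alternating group by 3-cycles inside a subgroup (helper15)

For a subgroup `J` of `Perm Ω`, `Rel J x y` says that `x` and `y` lie in the same orbit of the
subgroup generated by the 3-cycles of `J`.  If `Rel J` is total then `J` contains the alternating
group.
-/

set_option autoImplicit false

namespace Cfsg.Agent.Lib.H15.Min3

open Cfsg Equiv Equiv.Perm Cfsg.Agent.Lib.H18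

variable {Ω : Type*} [Fintype Ω] [DecidableEq Ω]

/-- the 3-cycles of `J` -/
def tc (J : Subgroup (Perm Ω)) : Set (Perm Ω) := {t | t ∈ J ∧ t.IsThreeCycle}

/-- the subgroup generated by the 3-cycles of `J` -/
def tcN (J : Subgroup (Perm Ω)) : Subgroup (Perm Ω) := Subgroup.closure (tc J)

/-- same orbit under `tcN J` -/
def Rel (J : Subgroup (Perm Ω)) (x y : Ω) : Prop := ∃ g ∈ tcN J, g x = y

theorem Rel.refl (J : Subgroup (Perm Ω)) (x : Ω) : Rel J x x := ⟨1, (tcN J).one_mem, rfl⟩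

theorem Rel.symm {J : Subgroup (Perm Ω)} {x y : Ω} (h : Rel J x y) : Rel J y x := by
  obtain ⟨g, hg, rfl⟩ := h
  exact ⟨g⁻¹, (tcN J).inv_mem hg, by simp⟩

theorem Rel.trans {J : Subgroup (Perm Ω)} {x y z : Ω} (h1 : Rel J x y) (h2 : Rel J y z) :
    Rel J x z := by
  obtain ⟨g, hg, rfl⟩ := h1
  obtain ⟨g', hg', rfl⟩ := h2
  exact ⟨g' * g, (tcN J).mul_mem hg' hg, by simp⟩

theorem tcN_le (J : Subgroup (Perm Ω)) : tcN J ≤ J := by
  unfold tcN
  rw [Subgroup.closure_le]
  intro t ht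
  exact ht.1

theorem conj_mem_tcN {J : Subgroup (Perm Ω)} {h : Perm Ω} (hh : h ∈ J) {g : Perm Ω}
    (hg : g ∈ tcN J) : h * g * h⁻¹ ∈ tcN J := by
  unfold tcN at hg ⊢
  induction hg using Subgroup.closure_induction with
  | mem t ht =>
    apply Subgroup.subset_closure
    refine ⟨J.mul_mem (J.mul_mem hh ht.1) (J.inv_mem hh), ?_⟩
    have : h * t * h⁻¹ = (MulAut.conj h) t := rfl
    unfold IsThreeCycle
    rw [Equiv.Perm.cycleType_conj]
    exact ht.2
  | one => simp
  | mul a b _ _ iha ihb =>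
    have : h * (a * b) * h⁻¹ = (h * a * h⁻¹) * (h * b * h⁻¹) := by group
    rw [this]
    exact Subgroup.mul_mem _ iha ihb
  | inv a _ iha =>
    have : h * a⁻¹ * h⁻¹ = (h * a * h⁻¹)⁻¹ := by group
    rw [this]
    exact Subgroup.inv_mem _ iha

theorem Rel.smul {J : Subgroup (Perm Ω)} {h : Perm Ω} (hh : h ∈ J) {x y : Ω} (hxy : Rel J x y) :
    Rel J (h x) (h y) := by
  obtain ⟨g, hg, rfl⟩ := hxy
  exact ⟨h * g * h⁻¹, conj_mem_tcN hh hg, by simp⟩

theorem Rel.mono {J J' : Subgroup (Perm Ω)} (hJ : J ≤ J') {x y : Ω} (h : Rel J x y) :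
    Rel J' x y := by
  obtain ⟨g, hg, rfl⟩ := h
  refine ⟨g, ?_, rfl⟩
  unfold tcN at hg ⊢
  refine Subgroup.closure_mono ?_ hg
  intro t ht
  exact ⟨hJ ht.1, ht.2⟩

/-- If `J` contains all 3-cycles supported in `D`, any two points of `D` are related
(provided a third point of `D` exists). -/
theorem rel_of_forall_threeCycle_mem {J : Subgroup (Perm Ω)} (D : Set Ω)
    (hD : ∀ t : Perm Ω, t.IsThreeCycle → (∀ x, t x ≠ x → x ∈ D) → t ∈ J)
    {x y : Ω} (hx : x ∈ D) (hy : y ∈ D) (hw : ∃ w ∈ D, w ≠ x ∧ w ≠ y) : Rel J x y := by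
  by_cases hxy : x = y
  · subst hxy; exact Rel.refl J x
  obtain ⟨w, hwD, hwx, hwy⟩ := hw
  have h3 : (c3 x y w).IsThreeCycle := isThreeCycle_c3 hxy (Ne.symm hwx) (Ne.symm hwy)
  have hmem : c3 x y w ∈ J := by
    apply hD _ h3
    intro p hp
    rw [c3_apply hxy (Ne.symm hwx) (Ne.symm hwy)] at hp
    by_cases h1 : p = x
    · rw [h1]; exact hx
    by_cases h2 : p = y
    · rw [h2]; exact hy
    by_cases h3 : p = w
    · rw [h3]; exact hwD
    simp [h1, h2, h3] at hp
  refine ⟨c3 x y w, Subgroup.subset_closure ⟨hmem, h3⟩, ?_⟩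
  rw [c3_apply hxy (Ne.symm hwx) (Ne.symm hwy)]
  simp

theorem exists_third_of_ncard {D : Set Ω} (h : 3 ≤ D.ncard) (x y : Ω) :
    ∃ w ∈ D, w ≠ x ∧ w ≠ y := by
  by_contra hcon
  push Not at hcon
  have hsub : D ⊆ ({x, y} : Set Ω) := by
    intro w hw
    by_cases h1 : w = x
    · simp [h1]
    · have := hcon w hw h1
      simp [this]
  have h2 : D.ncard ≤ ({x, y} : Set Ω).ncard := Set.ncard_le_ncard hsub (Set.toFinite _)
  have h3 : ({x, y} : Set Ω).ncard ≤ 2 := by
    have := Set.ncard_insert_le x ({y} : Set Ω)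
    rw [Set.ncard_singleton] at this
    exact this
  omega

/-- If the 3-cycles of `J` generate a transitive group, then `J` contains the alternating group. -/
theorem alternatingGroup_le_of_rel [Nontrivial Ω] {J : Subgroup (Perm Ω)}
    (htr : ∀ x y : Ω, Rel J x y) : alternatingGroup Ω ≤ J := by
  have hne : (tc J).Nonempty := by
    by_contra hcon
    rw [Set.not_nonempty_iff_eq_empty] at hcon
    obtain ⟨x, y, hxy⟩ := exists_pair_ne Ω
    obtain ⟨g, hg, hgx⟩ := htr x y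
    unfold tcN at hg
    rw [hcon, Subgroup.closure_empty, Subgroup.mem_bot] at hg
    rw [hg] at hgx
    exact hxy hgx
  have h := Cfsg.Agent.Lib.H15.SymF.eq_alternatingGroup_of_closure_threeCycles (tc J)
    (fun g hg => hg.2) hne (tcN J) rfl htr
  rw [← h]
  exact tcN_le J

end Cfsg.Agent.Lib.H15.Min3
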