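import Mathlib
import Cfsg.Agent.Lib.H15.Min3C

/-!
# Two set stabilizers generate the alternating group (helper15)

Case I of the analysis of 3-minimal alternating groups: a subgroup with at least three orbits
lies in two proper subgroups of the alternating group which generate it.
-/

set_option autoImplicit false

namespace Cfsg.Agent.Lib.H15.Min3

open Cfsg Equiv Equiv.Perm Cfsg.Agent.Lib.H18

variable {Ω : Type*} [Fintype Ω] [DecidableEq Ω]

/-- setwise stabilizer of `O` -/
def stab (O : Set Ω) : Subgroup (Perm Ω) where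
  carrier := {g | ∀ x, g x ∈ O ↔ x ∈ O}
  one_mem' := by intro x; simp
  mul_mem' := by
    intro a b ha hb x
    rw [Perm.mul_apply, ha, hb]
  inv_mem' := by
    intro a ha x
    rw [← ha (a⁻¹ x)]
    simp

theorem mem_stab {O : Set Ω} {g : Perm Ω} : g ∈ stab O ↔ ∀ x, g x ∈ O ↔ x ∈ O := Iff.rfl

theorem mem_stab_of_support {O : Set Ω} {t : Perm Ω} (ht : ∀ x, t x ≠ x → x ∉ O) :
    t ∈ stab O := by
  intro x
  by_cases h : t x = x
  · rw [h]
  · have h1 := ht x h
    have h2 : t (t x) ≠ t x := fun h' => h (t.injective h')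
    have h3 := ht (t x) h2
    exact ⟨fun h' => absurd h' h3, fun h' => absurd h' h1⟩

theorem not_alternatingGroup_le_stab (hcard : 3 ≤ Fintype.card Ω) {O : Set Ω} {a b : Ω}
    (ha : a ∈ O) (hb : b ∉ O) : ¬ alternatingGroup Ω ≤ stab O := by
  intro hle
  have hab : a ≠ b := fun h => hb (h ▸ ha)
  obtain ⟨w, hw⟩ : ∃ w : Ω, w ≠ a ∧ w ≠ b := by
    by_contra hcon
    push Not at hcon
    have hsub : (Finset.univ : Finset Ω) ⊆ {a, b} := by
      intro w _
      by_cases h1 : w = a
      · simp [h1]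
      · simp [hcon w h1]
    have := Finset.card_le_card hsub
    have h2 : ({a, b} : Finset Ω).card ≤ 2 := Finset.card_le_two
    rw [Finset.card_univ] at this
    omega
  have hmem := hle (c3_mem_alternating hab (Ne.symm hw.1) (Ne.symm hw.2))
  have := (hmem a).mpr ha
  rw [c3_apply hab (Ne.symm hw.1) (Ne.symm hw.2)] at this
  simp at this
  exact hb this

theorem caseI_sets [Nontrivial Ω] (O1 O2 : Set Ω) (hdisj : Disjoint O1 O2)
    (hc1 : 3 ≤ O1ᶜ.ncard) (hc2 : 3 ≤ O2ᶜ.ncard) (hz : ∃ z, z ∉ O1 ∧ z ∉ O2) :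
    alternatingGroup Ω ≤
      (stab O1 ⊓ alternatingGroup Ω) ⊔ (stab O2 ⊓ alternatingGroup Ω) := by
  set J := (stab O1 ⊓ alternatingGroup Ω) ⊔ (stab O2 ⊓ alternatingGroup Ω) with hJ
  obtain ⟨z, hz1, hz2⟩ := hz
  have hD1 : ∀ t : Perm Ω, t.IsThreeCycle → (∀ x, t x ≠ x → x ∈ O1ᶜ) → t ∈ J := by
    intro t ht hsup
    apply Subgroup.mem_sup_left
    exact ⟨mem_stab_of_support hsup, ht.mem_alternatingGroup⟩
  have hD2 : ∀ t : Perm Ω, t.IsThreeCycle → (∀ x, t x ≠ x → x ∈ O2ᶜ) → t ∈ J := by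
    intro t ht hsup
    apply Subgroup.mem_sup_right
    exact ⟨mem_stab_of_support hsup, ht.mem_alternatingGroup⟩
  have hxz : ∀ x : Ω, Rel J x z := by
    intro x
    by_cases hx : x ∈ O1
    · have hx2 : x ∈ O2ᶜ := fun h => (Set.disjoint_left.mp hdisj) hx h
      exact rel_of_forall_threeCycle_mem O2ᶜ hD2 hx2 hz2 (exists_third_of_ncard hc2 x z)
    · exact rel_of_forall_threeCycle_mem O1ᶜ hD1 hx hz1 (exists_third_of_ncard hc1 x z)
  apply alternatingGroup_le_of_rel
  intro x y
  exact (hxz x).trans (hxz y).symm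

theorem le_stab_orbit (S : Subgroup (Perm Ω)) (x : Ω) : S ≤ stab (MulAction.orbit S x) := by
  intro g hg w
  rw [MulAction.mem_orbit_iff, MulAction.mem_orbit_iff]
  constructor
  · rintro ⟨s, hs⟩
    refine ⟨⟨g, hg⟩⁻¹ * s, ?_⟩
    rw [mul_smul, hs]
    show g⁻¹ (g w) = w
    simp
  · rintro ⟨s, hs⟩
    refine ⟨⟨g, hg⟩ * s, ?_⟩
    rw [mul_smul, hs]
    rfl

theorem orbit_disjoint (S : Subgroup (Perm Ω)) {x y : Ω} (h : y ∉ MulAction.orbit S x) :
    Disjoint (MulAction.orbit S x) (MulAction.orbit S y) := by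
  rw [Set.disjoint_left]
  intro w hwx hwy
  apply h
  have h1 := MulAction.orbit_eq_iff.mpr hwx
  have h2 := MulAction.orbit_eq_iff.mpr hwy
  rw [← MulAction.orbit_eq_iff, ← h2, h1]

/-- **Case I**: a subgroup `S` of the alternating group with at least three orbits lies in two
proper subgroups which generate the alternating group. -/
theorem caseI (hcard : 5 ≤ Fintype.card Ω) (S : Subgroup (Perm Ω)) (hS : S ≤ alternatingGroup Ω)
    (x y z : Ω) (hxy : y ∉ MulAction.orbit S x) (hxz : z ∉ MulAction.orbit S x)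
    (hyz : z ∉ MulAction.orbit S y) :
    ∃ K1 K2 : Subgroup (Perm Ω), S ≤ K1 ∧ S ≤ K2 ∧ K1 ≤ alternatingGroup Ω ∧
      K2 ≤ alternatingGroup Ω ∧ ¬ alternatingGroup Ω ≤ K1 ∧ ¬ alternatingGroup Ω ≤ K2 ∧
      alternatingGroup Ω ≤ K1 ⊔ K2 := by
  haveI : Nontrivial Ω := Fintype.one_lt_card_iff_nontrivial.mp (by omega)
  have hyx : x ∉ MulAction.orbit S y := fun h => hxy (by
    rw [← MulAction.orbit_eq_iff] at h ⊢; exact h.symm)
  have hzx : x ∉ MulAction.orbit S z := fun h => hxz (by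
    rw [← MulAction.orbit_eq_iff] at h ⊢; exact h.symm)
  have hzy : y ∉ MulAction.orbit S z := fun h => hyz (by
    rw [← MulAction.orbit_eq_iff] at h ⊢; exact h.symm)
  -- the general construction
  have main : ∀ a b c : Ω, b ∉ MulAction.orbit S a → c ∉ MulAction.orbit S a →
      c ∉ MulAction.orbit S b → a ∉ MulAction.orbit S b →
      3 ≤ (MulAction.orbit S a)ᶜ.ncard → 3 ≤ (MulAction.orbit S b)ᶜ.ncard →
      ∃ K1 K2 : Subgroup (Perm Ω), S ≤ K1 ∧ S ≤ K2 ∧ K1 ≤ alternatingGroup Ω ∧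
      K2 ≤ alternatingGroup Ω ∧ ¬ alternatingGroup Ω ≤ K1 ∧ ¬ alternatingGroup Ω ≤ K2 ∧
      alternatingGroup Ω ≤ K1 ⊔ K2 := by
    intro a b c hab hac hbc hba hca hcb
    refine ⟨stab (MulAction.orbit S a) ⊓ alternatingGroup Ω,
      stab (MulAction.orbit S b) ⊓ alternatingGroup Ω,
      le_inf (le_stab_orbit S a) hS, le_inf (le_stab_orbit S b) hS, inf_le_right, inf_le_right,
      ?_, ?_, ?_⟩
    · intro h
      exact not_alternatingGroup_le_stab (by omega) (MulAction.mem_orbit_self a) hab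
        (h.trans inf_le_left)
    · intro h
      exact not_alternatingGroup_le_stab (by omega) (MulAction.mem_orbit_self b) hba
        (h.trans inf_le_left)
    · exact caseI_sets _ _ (orbit_disjoint S hab) hca hcb ⟨c, hac, hbc⟩
  -- size bookkeeping
  have hsmall : ∀ a b : Ω, b ∉ MulAction.orbit S a →
      3 ≤ (MulAction.orbit S a)ᶜ.ncard ∨ 3 ≤ (MulAction.orbit S b)ᶜ.ncard := by
    intro a b hab
    by_contra hcon
    push Not at hcon
    have h1 := Set.ncard_add_ncard_compl (MulAction.orbit S a)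
    have h2 := Set.ncard_add_ncard_compl (MulAction.orbit S b)
    have h3 : (MulAction.orbit S a ∪ MulAction.orbit S b).ncard =
        (MulAction.orbit S a).ncard + (MulAction.orbit S b).ncard :=
      Set.ncard_union_eq (orbit_disjoint S hab) (Set.toFinite _) (Set.toFinite _)
    have h4 : (MulAction.orbit S a ∪ MulAction.orbit S b).ncard ≤ Nat.card Ω := by
      rw [← Set.ncard_univ]
      exact Set.ncard_le_ncard (Set.subset_univ _) (Set.toFinite _)
    rw [Nat.card_eq_fintype_card] at h1 h2 h4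
    omega
  by_cases hx : 3 ≤ (MulAction.orbit S x)ᶜ.ncard
  · by_cases hy : 3 ≤ (MulAction.orbit S y)ᶜ.ncard
    · exact main x y z hxy hxz hyz hyx hx hy
    · have hz : 3 ≤ (MulAction.orbit S z)ᶜ.ncard := by
        rcases hsmall y z hyz with h | h
        · exact absurd h hy
        · exact h
      exact main x z y hxz hxy hzy hzx hx hz
  · have hy : 3 ≤ (MulAction.orbit S y)ᶜ.ncard := by
      rcases hsmall x y hxy with h | h
      · exact absurd h hx
      · exact h
    have hz : 3 ≤ (MulAction.orbit S z)ᶜ.ncard := by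
      rcases hsmall x z hxz with h | h
      · exact absurd h hx
      · exact h
    exact main y z x hyz hyx hzx hzy hy hz

end Cfsg.Agent.Lib.H15.Min3
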