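import Mathlib
import Cfsg.Agent.Lib.H9.SylSymC
import Cfsg.Agent.Lib.H15.Min3D

/-!
# Block system stabilizers generate the alternating group (helper15)

Case II of the analysis of 3-minimal alternating groups: the wreath product `C_3 ≀ H` on
`ι × ZMod 3` lies in the stabilizer of the system of blocks of size 3 and, if `H` preserves a
coarser partition given by `c : ι → κ`, in the stabilizer of that partition.  Together they
generate the alternating group.
-/

set_option autoImplicit false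

namespace Cfsg.Agent.Lib.H15.Min3

open Cfsg Equiv Equiv.Perm Cfsg.Agent.Lib.H18 Cfsg.Agent.Lib.H9.SylSym

section Pres

variable {Ω : Type*} [Fintype Ω] [DecidableEq Ω] {κ : Type*}

/-- permutations preserving the fibres of `f` -/
def pres (f : Ω → κ) : Subgroup (Perm Ω) where
  carrier := {g | ∀ x y, f (g x) = f (g y) ↔ f x = f y}
  one_mem' := by intro x y; simp
  mul_mem' := by
    intro a b ha hb x y
    rw [Perm.mul_apply, Perm.mul_apply, ha, hb]
  inv_mem' := by
    intro a ha x y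
    rw [← ha (a⁻¹ x) (a⁻¹ y)]
    simp

theorem mem_pres {f : Ω → κ} {g : Perm Ω} :
    g ∈ pres f ↔ ∀ x y, f (g x) = f (g y) ↔ f x = f y := Iff.rfl

theorem mem_pres_of_support {f : Ω → κ} {t : Perm Ω} (k0 : κ)
    (ht : ∀ x, t x ≠ x → f x = k0) : t ∈ pres f := by
  have key : ∀ x, f (t x) = f x := by
    intro x
    by_cases h : t x = x
    · rw [h]
    · have h2 : t (t x) ≠ t x := fun h' => h (t.injective h')
      rw [ht x h, ht (t x) h2]
  intro x y
  rw [key, key]

theorem sign_eq_one_of_pow_three {g : Perm Ω} {k : ℕ} (h : g ^ 3 ^ k = 1) : Perm.sign g = 1 := by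
  rcases Int.units_eq_one_or (Perm.sign g) with h1 | h1
  · exact h1
  · exfalso
    have h2 : Perm.sign g ^ 3 ^ k = 1 := by rw [← map_pow, h, map_one]
    have h3 : Odd (3 ^ k) := Odd.pow (by decide)
    rw [h1, Odd.neg_one_pow h3] at h2
    exact absurd h2 (by decide)

end Pres

section Wr

variable {ι : Type*} [Fintype ι] [DecidableEq ι] {κ : Type*}

theorem zmod_three_zero_ne_one : (0 : ZMod 3) ≠ 1 := by decide

theorem wr_le_pres_fst (H : Subgroup (Perm ι)) :
    wr 3 H ≤ pres (Prod.fst : ι × ZMod 3 → ι) := by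
  rintro _ ⟨f, σ, _, rfl⟩ x y
  rw [beta_mul_tau_apply, beta_mul_tau_apply]
  simp

theorem wr_le_pres_comp (H : Subgroup (Perm ι)) (c : ι → κ)
    (hc : ∀ σ ∈ H, ∀ i j, c (σ i) = c (σ j) ↔ c i = c j) :
    wr 3 H ≤ pres (fun x : ι × ZMod 3 => c x.1) := by
  rintro _ ⟨f, σ, hσ, rfl⟩ x y
  rw [beta_mul_tau_apply, beta_mul_tau_apply]
  exact hc σ hσ x.1 y.1

theorem isPGroup_wr {H : Subgroup (Perm ι)} (hH : IsPGroup 3 H) : IsPGroup 3 (wr 3 H) := by
  obtain ⟨k, hk⟩ := IsPGroup.iff_card.mp hH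
  apply IsPGroup.of_card (n := Fintype.card ι + k)
  rw [card_wr, hk, pow_add]

theorem wr_le_alternatingGroup {H : Subgroup (Perm ι)} (hH : IsPGroup 3 H) :
    wr 3 H ≤ alternatingGroup (ι × ZMod 3) := by
  intro g hg
  obtain ⟨k, hk⟩ := (isPGroup_wr hH) ⟨g, hg⟩
  have hk' : g ^ 3 ^ k = 1 := by
    have := congrArg Subtype.val hk
    simpa using this
  exact mem_alternatingGroup.mpr (sign_eq_one_of_pow_three hk')

theorem not_le_pres_fst {i j : ι} (hij : i ≠ j) :
    ¬ alternatingGroup (ι × ZMod 3) ≤ pres (Prod.fst : ι × ZMod 3 → ι) := by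
  intro hle
  have h1 : ((i, 0) : ι × ZMod 3) ≠ (i, 1) := by
    intro h
    have := congrArg Prod.snd h
    exact zmod_three_zero_ne_one this
  have h2 : ((i, 0) : ι × ZMod 3) ≠ (j, 0) := fun h => hij (congrArg Prod.fst h)
  have h3 : ((i, 1) : ι × ZMod 3) ≠ (j, 0) := fun h => hij (congrArg Prod.fst h)
  have hmem := hle (c3_mem_alternating h1 h2 h3)
  have := (hmem (i, 0) (i, 1)).mpr rfl
  rw [c3_apply h1 h2 h3, c3_apply h1 h2 h3] at this
  simp [h1.symm] at this
  exact hij this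

theorem not_le_pres_comp (c : ι → κ) {i j k : ι} (hij : i ≠ j) (hcij : c i = c j)
    (hk : c k ≠ c i) :
    ¬ alternatingGroup (ι × ZMod 3) ≤ pres (fun x : ι × ZMod 3 => c x.1) := by
  intro hle
  have hik : i ≠ k := fun h => hk (by rw [h])
  have hjk : j ≠ k := fun h => hk (by rw [← h, hcij])
  have h1 : ((i, 0) : ι × ZMod 3) ≠ (k, 0) := fun h => hik (congrArg Prod.fst h)
  have h2 : ((i, 0) : ι × ZMod 3) ≠ (k, 1) := fun h => hik (congrArg Prod.fst h)
  have h3 : ((k, 0) : ι × ZMod 3) ≠ (k, 1) := by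
    intro h
    have := congrArg Prod.snd h
    exact zmod_three_zero_ne_one this
  have hmem := hle (c3_mem_alternating h1 h2 h3)
  have := (hmem (i, 0) (j, 0)).mpr hcij
  rw [c3_apply h1 h2 h3, c3_apply h1 h2 h3] at this
  have e1 : ((j, 0) : ι × ZMod 3) ≠ (i, 0) := fun h => hij (congrArg Prod.fst h).symm
  have e2 : ((j, 0) : ι × ZMod 3) ≠ (k, 0) := fun h => hjk (congrArg Prod.fst h)
  have e3 : ((j, 0) : ι × ZMod 3) ≠ (k, 1) := fun h => hjk (congrArg Prod.fst h)
  simp [e1, e2, e3] at this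
  exact hk (this.trans hcij.symm)

/-- the corrected block swap -/
def bswap (i1 i2 k : ι) : Perm (ι × ZMod 3) :=
  tau 3 ι (swap i1 k) * swap ((i2, 0) : ι × ZMod 3) (i2, 1)

theorem fst_swap_apply (i2 : ι) (x : ι × ZMod 3) :
    (swap ((i2, 0) : ι × ZMod 3) (i2, 1) x).1 = x.1 := by
  rw [swap_apply_def]
  split_ifs with h1 h2
  · rw [h1]
  · rw [h2]
  · rfl

theorem bswap_mem_pres (i1 i2 k : ι) : bswap i1 i2 k ∈ pres (Prod.fst : ι × ZMod 3 → ι) := by
  intro x y
  unfold bswap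
  rw [Perm.mul_apply, Perm.mul_apply, tau_apply, tau_apply]
  simp only [fst_swap_apply]
  exact (swap i1 k).injective.eq_iff

theorem bswap_mem_alt {i1 i2 k : ι} (h : i1 ≠ k) :
    bswap i1 i2 k ∈ alternatingGroup (ι × ZMod 3) := by
  rw [mem_alternatingGroup]
  unfold bswap
  rw [map_mul]
  have h1 : Perm.sign (tau 3 ι (swap i1 k)) = -1 := by
    show Perm.sign (Equiv.prodCongrLeft (fun _ : ZMod 3 => swap i1 k)) = -1
    rw [Perm.sign_prodCongrLeft]
    simp only [Perm.sign_swap h, Finset.prod_const, Finset.card_univ, ZMod.card]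
    exact Odd.neg_one_pow (by decide)
  have h2 : Perm.sign (swap ((i2, 0) : ι × ZMod 3) (i2, 1)) = -1 := by
    apply Perm.sign_swap
    intro h
    have := congrArg Prod.snd h
    exact zmod_three_zero_ne_one this
  rw [h1, h2]
  norm_num

theorem bswap_apply_one {i1 i2 k : ι} (h12 : i1 ≠ i2) (h2k : i2 ≠ k) :
    bswap i1 i2 k (i2, 0) = (i2, 1) := by
  unfold bswap
  rw [Perm.mul_apply, swap_apply_left, tau_apply]
  simp only
  rw [swap_apply_of_ne_of_ne h12.symm h2k]

theorem bswap_apply_two {i1 i2 k : ι} (h12 : i1 ≠ i2) :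
    bswap i1 i2 k (i1, 0) = (k, 0) := by
  unfold bswap
  have e1 : ((i1, 0) : ι × ZMod 3) ≠ (i2, 0) := fun h => h12 (congrArg Prod.fst h)
  have e2 : ((i1, 0) : ι × ZMod 3) ≠ (i2, 1) := fun h => h12 (congrArg Prod.fst h)
  rw [Perm.mul_apply, swap_apply_of_ne_of_ne e1 e2, tau_apply]
  simp

theorem fibre_ncard (c : ι → κ) (i : ι) :
    3 ≤ {x : ι × ZMod 3 | c x.1 = c i}.ncard := by
  have hinj : Function.Injective (fun t : ZMod 3 => ((i, t) : ι × ZMod 3)) := by
    intro a b h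
    exact congrArg Prod.snd h
  have hsub : Set.range (fun t : ZMod 3 => ((i, t) : ι × ZMod 3)) ⊆
      {x : ι × ZMod 3 | c x.1 = c i} := by
    rintro _ ⟨t, rfl⟩
    rfl
  have h1 := Set.ncard_le_ncard hsub (Set.toFinite _)
  have h2 : (Set.range (fun t : ZMod 3 => ((i, t) : ι × ZMod 3))).ncard = 3 := by
    rw [← Set.image_univ, Set.ncard_image_of_injective _ hinj, Set.ncard_univ, Nat.card_zmod]
  omega

/-- **Case II**: the two block stabilizers generate the alternating group. -/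
theorem caseII_sup (c : ι → κ) {i1 i2 k0 : ι} (h12 : i1 ≠ i2) (hc12 : c i1 = c i2)
    (hk0 : c k0 ≠ c i1) :
    alternatingGroup (ι × ZMod 3) ≤
      (pres (Prod.fst : ι × ZMod 3 → ι) ⊓ alternatingGroup (ι × ZMod 3)) ⊔
      (pres (fun x : ι × ZMod 3 => c x.1) ⊓ alternatingGroup (ι × ZMod 3)) := by
  haveI : Nontrivial ι := ⟨⟨i1, i2, h12⟩⟩
  set J := (pres (Prod.fst : ι × ZMod 3 → ι) ⊓ alternatingGroup (ι × ZMod 3)) ⊔
      (pres (fun x : ι × ZMod 3 => c x.1) ⊓ alternatingGroup (ι × ZMod 3)) with hJ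
  -- points in the same `c`-part are related
  have hpart : ∀ x y : ι × ZMod 3, c x.1 = c y.1 → Rel J x y := by
    intro x y hxy
    have hD : ∀ t : Perm (ι × ZMod 3), t.IsThreeCycle →
        (∀ p, t p ≠ p → p ∈ {p : ι × ZMod 3 | c p.1 = c x.1}) → t ∈ J := by
      intro t ht hsup
      apply Subgroup.mem_sup_right
      exact ⟨mem_pres_of_support (c x.1) hsup, ht.mem_alternatingGroup⟩
    exact rel_of_forall_threeCycle_mem _ hD rfl hxy.symm
      (exists_third_of_ncard (fibre_ncard c x.1) x y)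
  -- the block swaps
  have hswap : ∀ k : ι, c k ≠ c i1 → Rel J ((i2, 1) : ι × ZMod 3) (k, 0) := by
    intro k hk
    have h1k : i1 ≠ k := fun h => hk (by rw [h])
    have h2k : i2 ≠ k := fun h => hk (by rw [← h, hc12])
    have hmem : bswap i1 i2 k ∈ J :=
      Subgroup.mem_sup_left ⟨bswap_mem_pres i1 i2 k, bswap_mem_alt h1k⟩
    have h0 : Rel J ((i2, 0) : ι × ZMod 3) (i1, 0) := hpart _ _ hc12.symm
    have := h0.smul hmem
    rw [bswap_apply_one h12 h2k, bswap_apply_two h12] at this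
    exact this
  have hall : ∀ x : ι × ZMod 3, Rel J x (i1, 0) := by
    intro x
    by_cases hx : c x.1 = c i1
    · exact hpart _ _ hx
    · have h1 : Rel J x (x.1, 0) := hpart _ _ rfl
      have h2 : Rel J ((i2, 1) : ι × ZMod 3) (x.1, 0) := hswap x.1 hx
      have h3 : Rel J ((i2, 1) : ι × ZMod 3) (i1, 0) := hpart _ _ hc12.symm
      exact (h1.trans h2.symm).trans h3
  apply alternatingGroup_le_of_rel
  intro x y
  exact (hall x).trans (hall y).symm

/-- **Case II**, packaged. -/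
theorem caseII (H : Subgroup (Perm ι)) (hH : IsPGroup 3 H) (c : ι → κ)
    (hc : ∀ σ ∈ H, ∀ i j, c (σ i) = c (σ j) ↔ c i = c j)
    {i1 i2 k0 : ι} (h12 : i1 ≠ i2) (hc12 : c i1 = c i2) (hk0 : c k0 ≠ c i1) :
    ∃ K1 K2 : Subgroup (Perm (ι × ZMod 3)), wr 3 H ≤ K1 ∧ wr 3 H ≤ K2 ∧
      K1 ≤ alternatingGroup (ι × ZMod 3) ∧ K2 ≤ alternatingGroup (ι × ZMod 3) ∧
      ¬ alternatingGroup (ι × ZMod 3) ≤ K1 ∧ ¬ alternatingGroup (ι × ZMod 3) ≤ K2 ∧
      alternatingGroup (ι × ZMod 3) ≤ K1 ⊔ K2 := by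
  refine ⟨pres (Prod.fst : ι × ZMod 3 → ι) ⊓ alternatingGroup (ι × ZMod 3),
    pres (fun x : ι × ZMod 3 => c x.1) ⊓ alternatingGroup (ι × ZMod 3),
    le_inf (wr_le_pres_fst H) (wr_le_alternatingGroup hH),
    le_inf (wr_le_pres_comp H c hc) (wr_le_alternatingGroup hH), inf_le_right, inf_le_right,
    ?_, ?_, caseII_sup c h12 hc12 hk0⟩
  · intro h
    exact not_le_pres_fst h12 (h.trans inf_le_left)
  · intro h
    exact not_le_pres_comp c h12 hc12 hk0 (h.trans inf_le_left)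

end Wr

end Cfsg.Agent.Lib.H15.Min3
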