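import Mathlib
import Cfsg.Agent.Lib.H15.Min3A
import Cfsg.Agent.Lib.H15.Min3E

/-!
# Alternating groups which are 3-minimal (helper15)

`mem_list_of_isPMinimal_alt`: if `A_n` (`n ≥ 5`) is 3-minimal then `n = 6`, `n = 9` or
`n = 3 ^ a + 1` with `a ≥ 2`.
-/

set_option autoImplicit false

namespace Cfsg.Agent.Lib.H15.Min3

open Cfsg Equiv Equiv.Perm Cfsg.Agent.Lib.H18 Cfsg.Agent.Lib.H9.SylSym

section Assemble

variable {Ω : Type*} [Fintype Ω] [DecidableEq Ω]

theorem not_isPMinimal_alt_of_sylow (S : Sylow 3 ↥(alternatingGroup Ω))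
    (K1 K2 : Subgroup (Perm Ω))
    (h1 : (S : Subgroup ↥(alternatingGroup Ω)).map (alternatingGroup Ω).subtype ≤ K1)
    (h2 : (S : Subgroup ↥(alternatingGroup Ω)).map (alternatingGroup Ω).subtype ≤ K2)
    (hK1 : K1 ≤ alternatingGroup Ω) (hK2 : K2 ≤ alternatingGroup Ω)
    (hn1 : ¬ alternatingGroup Ω ≤ K1) (hn2 : ¬ alternatingGroup Ω ≤ K2)
    (hsup : alternatingGroup Ω ≤ K1 ⊔ K2) : ¬ IsPMinimal 3 ↥(alternatingGroup Ω) := by
  apply not_isPMinimal_of_two S (K1.subgroupOf (alternatingGroup Ω))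
    (K2.subgroupOf (alternatingGroup Ω))
  · intro x hx
    rw [Subgroup.mem_subgroupOf]
    exact h1 ⟨x, hx, rfl⟩
  · intro x hx
    rw [Subgroup.mem_subgroupOf]
    exact h2 ⟨x, hx, rfl⟩
  · rw [Ne, Subgroup.subgroupOf_eq_top]; exact hn1
  · rw [Ne, Subgroup.subgroupOf_eq_top]; exact hn2
  · rw [← Subgroup.subgroupOf_sup hK1 hK2, Subgroup.subgroupOf_eq_top]
    exact hsup

theorem not_isPMinimal_alt_of_card [Nontrivial Ω] (S0 K1 K2 : Subgroup (Perm Ω))
    (hcard : Nat.card S0 = 3 ^ (Nat.card (Perm Ω)).factorization 3)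
    (h1 : S0 ≤ K1) (h2 : S0 ≤ K2)
    (hK1 : K1 ≤ alternatingGroup Ω) (hK2 : K2 ≤ alternatingGroup Ω)
    (hn1 : ¬ alternatingGroup Ω ≤ K1) (hn2 : ¬ alternatingGroup Ω ≤ K2)
    (hsup : alternatingGroup Ω ≤ K1 ⊔ K2) : ¬ IsPMinimal 3 ↥(alternatingGroup Ω) := by
  have hS0 : S0 ≤ alternatingGroup Ω := h1.trans hK1
  have hfac : (Nat.card ↥(alternatingGroup Ω)).factorization 3 =
      (Nat.card (Perm Ω)).factorization 3 := by
    rw [← two_mul_nat_card_alternatingGroup (α := Ω),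
      Nat.factorization_mul (by norm_num) (Nat.card_pos.ne')]
    simp [Nat.factorization_eq_zero_of_not_dvd (show ¬ 3 ∣ 2 by norm_num)]
  have hc : Nat.card (S0.subgroupOf (alternatingGroup Ω)) =
      3 ^ (Nat.card ↥(alternatingGroup Ω)).factorization 3 := by
    rw [hfac, ← hcard]
    exact Nat.card_congr (Subgroup.subgroupOfEquivOfLe hS0).toEquiv
  have hmap : (S0.subgroupOf (alternatingGroup Ω)).map (alternatingGroup Ω).subtype = S0 := by
    rw [Subgroup.subgroupOf_map_subtype, inf_eq_left.mpr hS0]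
  apply not_isPMinimal_alt_of_sylow (Sylow.ofCard _ hc) K1 K2 _ _ hK1 hK2 hn1 hn2 hsup
  · rw [Sylow.coe_ofCard, hmap]; exact h1
  · rw [Sylow.coe_ofCard, hmap]; exact h2

/-- A 3-group with at most two orbits acts on a set of size `3^a` or `3^a + 3^b`. -/
theorem card_of_le_two_orbits [Nonempty Ω] (S0 : Subgroup (Perm Ω)) (hS0 : IsPGroup 3 S0)
    (h : ∀ x y z : Ω, y ∈ MulAction.orbit S0 x ∨ z ∈ MulAction.orbit S0 x ∨
      z ∈ MulAction.orbit S0 y) :
    (∃ a : ℕ, Fintype.card Ω = 3 ^ a) ∨ ∃ a b : ℕ, Fintype.card Ω = 3 ^ a + 3 ^ b := by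
  obtain ⟨x0⟩ := ‹Nonempty Ω›
  obtain ⟨a, ha⟩ := hS0.card_orbit x0
  rw [Nat.card_coe_set_eq] at ha
  by_cases hall : ∀ y, y ∈ MulAction.orbit S0 x0
  · left
    refine ⟨a, ?_⟩
    have : MulAction.orbit S0 x0 = Set.univ := Set.eq_univ_of_forall hall
    rw [this, Set.ncard_univ, Nat.card_eq_fintype_card] at ha
    exact ha
  · right
    push Not at hall
    obtain ⟨y, hy⟩ := hall
    obtain ⟨b, hb⟩ := hS0.card_orbit y
    rw [Nat.card_coe_set_eq] at hb
    refine ⟨a, b, ?_⟩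
    have hun : MulAction.orbit S0 x0 ∪ MulAction.orbit S0 y = Set.univ := by
      apply Set.eq_univ_of_forall
      intro z
      rcases h x0 y z with h1 | h1 | h1
      · exact absurd h1 hy
      · exact Or.inl h1
      · exact Or.inr h1
    have h3 : (MulAction.orbit S0 x0 ∪ MulAction.orbit S0 y).ncard =
        (MulAction.orbit S0 x0).ncard + (MulAction.orbit S0 y).ncard :=
      Set.ncard_union_eq (orbit_disjoint S0 hy) (Set.toFinite _) (Set.toFinite _)
    rw [hun, Set.ncard_univ, Nat.card_eq_fintype_card, ha, hb] at h3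
    exact h3

end Assemble

end Cfsg.Agent.Lib.H15.Min3
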