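import Mathlib
import Cfsg.Agent.Lib.H15.Min3F

/-!
# Alternating groups which are 3-minimal, main theorem (helper15)
-/

set_option autoImplicit false

namespace Cfsg.Agent.Lib.H15.Min3

open Cfsg Equiv Equiv.Perm Cfsg.Agent.Lib.H18 Cfsg.Agent.Lib.H9.SylSym

/-- the case `3 ∤ n` -/
theorem exists_pow_of_not_dvd (n : ℕ) (hn : 5 ≤ n) (h3 : ¬ 3 ∣ n)
    (h : IsPMinimal 3 ↥(alternatingGroup (Fin n))) : ∃ a : ℕ, 2 ≤ a ∧ n = 3 ^ a + 1 := by
  obtain ⟨S⟩ : Nonempty (Sylow 3 ↥(alternatingGroup (Fin n))) := inferInstance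
  set S0 : Subgroup (Perm (Fin n)) :=
    (S : Subgroup ↥(alternatingGroup (Fin n))).map (alternatingGroup (Fin n)).subtype with hS0
  have hS0le : S0 ≤ alternatingGroup (Fin n) := by
    rintro _ ⟨x, _, rfl⟩
    exact x.2
  have hS0p : IsPGroup 3 S0 := S.2.map _
  have hcardn : 5 ≤ Fintype.card (Fin n) := by rw [Fintype.card_fin]; exact hn
  by_cases h3o : ∃ x y z : Fin n, y ∉ MulAction.orbit S0 x ∧ z ∉ MulAction.orbit S0 x ∧
      z ∉ MulAction.orbit S0 y
  · exfalso
    obtain ⟨x, y, z, hxy, hxz, hyz⟩ := h3o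
    obtain ⟨K1, K2, h1, h2, hK1, hK2, hn1, hn2, hsup⟩ := caseI hcardn S0 hS0le x y z hxy hxz hyz
    exact not_isPMinimal_alt_of_sylow S K1 K2 h1 h2 hK1 hK2 hn1 hn2 hsup h
  · push Not at h3o
    haveI : Nonempty (Fin n) := ⟨⟨0, by omega⟩⟩
    have hdich := card_of_le_two_orbits S0 hS0p (by
      intro x y z
      by_cases h1 : y ∈ MulAction.orbit S0 x
      · exact Or.inl h1
      by_cases h2 : z ∈ MulAction.orbit S0 x
      · exact Or.inr (Or.inl h2)
      exact Or.inr (Or.inr (h3o x y z h1 h2)))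
    rw [Fintype.card_fin] at hdich
    rcases hdich with ⟨a, ha⟩ | ⟨a, b, hab⟩
    · exfalso
      rcases Nat.eq_zero_or_pos a with h0 | h0
      · rw [h0] at ha; omega
      · apply h3
        rw [ha]
        exact dvd_pow_self 3 (by omega)
    · -- one of the exponents is zero
      have key : ∀ c : ℕ, n = 3 ^ c + 1 → ∃ a : ℕ, 2 ≤ a ∧ n = 3 ^ a + 1 := by
        intro c hc
        refine ⟨c, ?_, hc⟩
        by_contra hlt
        push Not at hlt
        interval_cases c <;> omega
      rcases Nat.eq_zero_or_pos a with h0 | h0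
      · rw [h0] at hab
        exact key b (by omega)
      rcases Nat.eq_zero_or_pos b with h1 | h1
      · rw [h1] at hab
        exact key a (by omega)
      · exfalso
        apply h3
        rw [hab]
        exact dvd_add (dvd_pow_self 3 (by omega)) (dvd_pow_self 3 (by omega))

/-- the block case, general form -/
theorem false_of_blocks {ι : Type} [Fintype ι] [DecidableEq ι] {κ : Type*}
    (H : Subgroup (Perm ι))
    (hcardH : Nat.card H = 3 ^ ((Fintype.card ι).factorial).factorization 3)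
    (c : ι → κ) (hc : ∀ σ ∈ H, ∀ i j, c (σ i) = c (σ j) ↔ c i = c j)
    {i1 i2 k0 : ι} (h12 : i1 ≠ i2) (hc12 : c i1 = c i2) (hk0 : c k0 ≠ c i1)
    (n : ℕ) (hn : n = 3 * Fintype.card ι)
    (h : IsPMinimal 3 ↥(alternatingGroup (Fin n))) : False := by
  have hH : IsPGroup 3 H := IsPGroup.of_card hcardH
  have hcardΩ : Fintype.card (Fin n) = Fintype.card (ι × ZMod 3) := by
    rw [Fintype.card_fin, Fintype.card_prod, ZMod.card, hn, mul_comm]
  let e : Fin n ≃ ι × ZMod 3 := Fintype.equivOfCardEq hcardΩ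
  have hmin : IsPMinimal 3 ↥(alternatingGroup (ι × ZMod 3)) :=
    isPMinimal_of_mulEquiv (Equiv.altCongrHom e) h
  haveI : Nontrivial (ι × ZMod 3) := ⟨⟨(i1, 0), (i2, 0), fun h => h12 (congrArg Prod.fst h)⟩⟩
  obtain ⟨K1, K2, h1, h2, hK1, hK2, hn1, hn2, hsup⟩ := caseII H hH c hc h12 hc12 hk0
  have hcard : Nat.card (wr 3 H) = 3 ^ (Nat.card (Perm (ι × ZMod 3))).factorization 3 := by
    rw [card_wr, hcardH, Nat.card_perm, Nat.card_eq_fintype_card, Fintype.card_prod, ZMod.card,
      ← pow_add]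
    congr 1
    have := legendre_step (p := 3) (Fintype.card ι * 3)
    rw [Nat.mul_div_cancel _ (by norm_num : 0 < 3)] at this
    rw [this, add_comm]
  exact not_isPMinimal_alt_of_card (wr 3 H) K1 K2 hcard h1 h2 hK1 hK2 hn1 hn2 hsup hmin

/-- the block case with two levels, `n = 9 m'`, `m' ≥ 2` -/
theorem false_of_nine (m' : ℕ) (hm' : 2 ≤ m') (n : ℕ) (hn : n = 9 * m')
    (h : IsPMinimal 3 ↥(alternatingGroup (Fin n))) : False := by
  obtain ⟨H'⟩ : Nonempty (Sylow 3 (Perm (Fin m'))) := inferInstance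
  have hH' : Nat.card (H' : Subgroup (Perm (Fin m'))) = 3 ^ (m'.factorial).factorization 3 :=
    card_sylow_perm m' H'
  have hcardH : Nat.card (wr 3 (H' : Subgroup (Perm (Fin m')))) =
      3 ^ ((Fintype.card (Fin m' × ZMod 3)).factorial).factorization 3 := by
    rw [card_wr, hH', Fintype.card_prod, ZMod.card, Fintype.card_fin, ← pow_add]
    congr 1
    have := legendre_step (p := 3) (m' * 3)
    rw [Nat.mul_div_cancel _ (by norm_num : 0 < 3)] at this
    rw [this, add_comm]
  have hc : ∀ σ ∈ wr 3 (H' : Subgroup (Perm (Fin m'))), ∀ i j : Fin m' × ZMod 3,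
      (σ i).1 = (σ j).1 ↔ i.1 = j.1 := by
    intro σ hσ i j
    exact wr_le_pres_fst _ hσ i j
  have h01 : ((⟨0, by omega⟩ : Fin m'), (0 : ZMod 3)) ≠ ((⟨0, by omega⟩ : Fin m'), (1 : ZMod 3)) := by
    intro h
    exact zmod_three_zero_ne_one (congrArg Prod.snd h)
  refine false_of_blocks (wr 3 (H' : Subgroup (Perm (Fin m')))) hcardH
    (fun x : Fin m' × ZMod 3 => x.1) hc (i1 := (⟨0, by omega⟩, 0)) (i2 := (⟨0, by omega⟩, 1))
    (k0 := (⟨1, by omega⟩, 0)) h01 rfl ?_ n ?_ h
  · intro h
    have := congrArg Fin.val h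
    simp at this
  · rw [hn, Fintype.card_prod, ZMod.card, Fintype.card_fin]; ring

/-- the case `3 ∣ n` -/
theorem eq_of_dvd (n : ℕ) (hn : 5 ≤ n) (h3 : 3 ∣ n)
    (h : IsPMinimal 3 ↥(alternatingGroup (Fin n))) : n = 6 ∨ n = 9 := by
  obtain ⟨m, hm⟩ := h3
  have hm2 : 2 ≤ m := by omega
  obtain ⟨H0⟩ : Nonempty (Sylow 3 (Perm (Fin m))) := inferInstance
  have hH0 : Nat.card (H0 : Subgroup (Perm (Fin m))) = 3 ^ (m.factorial).factorization 3 :=
    card_sylow_perm m H0
  set H : Subgroup (Perm (Fin m)) := (H0 : Subgroup (Perm (Fin m))) with hHdef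
  let i0 : Fin m := ⟨0, by omega⟩
  by_cases htr : ∀ j : Fin m, j ∈ MulAction.orbit H i0
  · -- transitive: `m` is a power of 3
    obtain ⟨l, hl⟩ := (H0.2 : IsPGroup 3 H).card_orbit i0
    rw [Nat.card_coe_set_eq, Set.eq_univ_of_forall htr, Set.ncard_univ, Nat.card_eq_fintype_card,
      Fintype.card_fin] at hl
    rcases Nat.lt_or_ge l 2 with hl2 | hl2
    · interval_cases l
      · omega
      · right; omega
    · exfalso
      obtain ⟨l', rfl⟩ : ∃ l', l = l' + 1 := ⟨l - 1, by omega⟩
      have h3l : 2 ≤ 3 ^ l' := by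
        calc 2 ≤ 3 ^ 1 := by norm_num
          _ ≤ 3 ^ l' := Nat.pow_le_pow_right (by norm_num) (by omega)
      exact false_of_nine (3 ^ l') h3l n (by rw [hm, hl, pow_succ]; ring) h
  · -- intransitive
    push Not at htr
    obtain ⟨j0, hj0⟩ := htr
    rcases Nat.lt_or_ge m 3 with hm3 | hm3
    · left; omega
    · exfalso
      set c : Fin m → Prop := fun i => i ∈ MulAction.orbit H i0 with hcdef
      have hc : ∀ σ ∈ H, ∀ i j, c (σ i) = c (σ j) ↔ c i = c j := by
        intro σ hσ i j
        have key : ∀ w, c (σ w) = c w := by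
          intro w
          exact propext (le_stab_orbit H i0 hσ w)
        rw [key, key]
      have hci0 : c i0 := MulAction.mem_orbit_self i0
      -- three distinct points
      let a0 : Fin m := ⟨0, by omega⟩
      let a1 : Fin m := ⟨1, by omega⟩
      let a2 : Fin m := ⟨2, by omega⟩
      have h01 : a0 ≠ a1 := by intro h; have := congrArg Fin.val h; simp [a0, a1] at this
      have h02 : a0 ≠ a2 := by intro h; have := congrArg Fin.val h; simp [a0, a2] at this
      have h12 : a1 ≠ a2 := by intro h; have := congrArg Fin.val h; simp [a1, a2] at this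
      have hcardH : Nat.card H = 3 ^ ((Fintype.card (Fin m)).factorial).factorization 3 := by
        rw [Fintype.card_fin]; exact hH0
      have hnm : n = 3 * Fintype.card (Fin m) := by rw [Fintype.card_fin]; exact hm
      -- for a pair with equal colour, find a point of the other colour
      have fin : ∀ i1 i2 : Fin m, i1 ≠ i2 → c i1 = c i2 → False := by
        intro i1 i2 hne heq
        by_cases hv : c i1
        · have hk : c j0 ≠ c i1 := by
            intro h'
            have hcj : c j0 := by rw [h']; exact hv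
            exact hj0 hcj
          exact false_of_blocks H hcardH c hc hne heq hk n hnm h
        · have hk : c i0 ≠ c i1 := by
            intro h'
            have hci : c i1 := by rw [← h']; exact hci0
            exact hv hci
          exact false_of_blocks H hcardH c hc hne heq hk n hnm h
      by_cases e01 : c a0 = c a1
      · exact fin a0 a1 h01 e01
      by_cases e02 : c a0 = c a2
      · exact fin a0 a2 h02 e02
      · apply fin a1 a2 h12
        apply propext
        by_cases hv : c a0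
        · have n1 : ¬ c a1 := fun h' => e01 (propext ⟨fun _ => h', fun _ => hv⟩)
          have n2 : ¬ c a2 := fun h' => e02 (propext ⟨fun _ => h', fun _ => hv⟩)
          exact ⟨fun h' => absurd h' n1, fun h' => absurd h' n2⟩
        · have n1 : c a1 := by
            by_contra h'
            exact e01 (propext ⟨fun h'' => absurd h'' hv, fun h'' => absurd h'' h'⟩)
          have n2 : c a2 := by
            by_contra h'
            exact e02 (propext ⟨fun h'' => absurd h'' hv, fun h'' => absurd h'' h'⟩)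
          exact ⟨fun _ => n2, fun _ => n1⟩

/-- **Main theorem**: if `A_n`, `n ≥ 5`, is 3-minimal then `n ∈ {6, 9}` or `n = 3^a + 1`. -/
theorem mem_list_of_isPMinimal_alt (n : ℕ) (hn : 5 ≤ n)
    (h : IsPMinimal 3 ↥(alternatingGroup (Fin n))) :
    n = 6 ∨ n = 9 ∨ ∃ a : ℕ, 2 ≤ a ∧ n = 3 ^ a + 1 := by
  by_cases h3 : 3 ∣ n
  · rcases eq_of_dvd n hn h3 h with h1 | h1
    · exact Or.inl h1
    · exact Or.inr (Or.inl h1)
  · exact Or.inr (Or.inr (exists_pow_of_not_dvd n hn h3 h))

end Cfsg.Agent.Lib.H15.Min3
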