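import Mathlib
import Cfsg.Prelude.Def_TwoFusion
import Cfsg.Agent.Lib.H4.ZJ
import Cfsg.Agent.Lib.H4.ZJInst
import Cfsg.Agent.Lib.H4.ZJMap

/-!
Glauberman's ZJ-theorem for strongly closed subgroups (helper15's shared library), an adaptation
of helper4's abstract Theorem A (`Cfsg.Agent.Lib.H4.ZJ.thmA`).
-/

set_option autoImplicit false

namespace Cfsg.Agent.Lib.H15.ZJS

open Cfsg.Agent.Lib.H4.ZJ Cfsg.Agent.Lib.H5 Cfsg.Agent.Lib.H15
open scoped commutatorElement

variable {G : Type*} [Group G]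

/-- A strongly closed subgroup of `P` is normalized by `P`. -/
theorem le_normalizer_of_stronglyClosed [Finite G] {E P : Subgroup G}
    (hE : Cfsg.IsStronglyClosed E P) : P ≤ Subgroup.normalizer (E : Set G) := by
  intro g hg
  apply mem_normalizer_of_cj_le
  rintro _ ⟨y, hy, rfl⟩
  exact hE.2 y hy g (P.mul_mem (P.mul_mem hg (hE.1 hy)) (P.inv_mem hg))

/-- The intersection of a normal subgroup of `G` contained in `P` with a strongly closed
subgroup of `P` is normal. -/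
theorem inf_normal_of_stronglyClosed {E P B : Subgroup G} (hE : Cfsg.IsStronglyClosed E P)
    (hBn : B.Normal) (hBP : B ≤ P) : (B ⊓ E).Normal := by
  constructor
  intro y hy g
  have h1 : g * y * g⁻¹ ∈ B := hBn.conj_mem y hy.1 g
  exact ⟨h1, hE.2 y hy.2 g (hBP h1)⟩

section thmA

variable [Finite G] {p : ℕ} [Fact p.Prime]

/-- Core of Glauberman's Theorem A for a strongly closed subgroup `E` of the Sylow subgroup
`P`, by induction on the order of `B`. -/
theorem thmA_sc_aux (𝒞 : SubClass G) (P : Sylow p G) (E : Subgroup G)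
    (hE : Cfsg.IsStronglyClosed E (P : Subgroup G))
    (hR : ∀ B : Subgroup G, B.Normal → IsPGroup p B → B ≤ E → ⁅⁅B, B⁆, B⁆ = ⊥ →
      (∃ U ∈ maxSet 𝒞 E, ⁅B, B⁆ ≤ U ∧ ¬ B ≤ U) →
      ∃ A ∈ maxSet 𝒞 E, ¬ B ≤ A ∧ B ≤ Subgroup.normalizer (A : Set G))
    (hst : ∀ (V : Subgroup G) [V.Normal], IsPGroup p V → Cfsg.IsPStableOn p V) :
    ∀ (n : ℕ) (B : Subgroup G), Nat.card B ≤ n → B.Normal → IsPGroup p B →
      (ZJ 𝒞 E ⊓ B).Normal := by
  intro n
  induction n with
  | zero =>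
    intro B hB _ _
    exact absurd hB (by have : 0 < Nat.card B := Nat.card_pos; omega)
  | succ n ih =>
    intro B hBcard hBn hBp
    haveI := hBn
    obtain ⟨Z, hZ⟩ : ∃ Z, Z = ZJ 𝒞 E := ⟨_, rfl⟩
    rw [← hZ]
    have hBP : B ≤ (P : Subgroup G) := hBp.le_sylow_of_normal P
    have hZE : Z ≤ E := hZ ▸ ZJ_le _
    have hZP : Z ≤ (P : Subgroup G) := hZE.trans hE.1
    have hPZ : (P : Subgroup G) ≤ Subgroup.normalizer (Z : Set G) :=
      hZ ▸ (le_normalizer_of_stronglyClosed hE).trans (normalizer_le_normalizer_ZJ _)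
    -- reduce to `B ≤ E`
    by_cases hBE : B ≤ E
    swap
    · have hB₀n : (B ⊓ E).Normal := inf_normal_of_stronglyClosed hE hBn hBP
      have hlt : B ⊓ E < B := lt_of_le_of_ne inf_le_left (fun h => hBE (h ▸ inf_le_right))
      have hc : Nat.card (B ⊓ E : Subgroup G) < Nat.card B := by
        apply Set.ncard_lt_ncard (SetLike.coe_ssubset_coe.mpr hlt) (Set.toFinite _)
      have := ih (B ⊓ E) (by omega) hB₀n (hBp.to_le inf_le_left)
      rw [← hZ] at this
      have heq : Z ⊓ (B ⊓ E) = Z ⊓ B := by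
        apply le_antisymm (inf_le_inf_left _ inf_le_left)
        exact le_inf inf_le_left (le_inf inf_le_right (inf_le_left.trans hZE))
      rwa [heq] at this
    by_cases hB1 : B = ⊥
    · rw [hB1, inf_bot_eq]; infer_instance
    -- reduce to `B` generated by the conjugates of `Z ⊓ B`
    obtain ⟨B₁, hB₁⟩ : ∃ B₁, B₁ = Subgroup.normalClosure ((Z ⊓ B : Subgroup G) : Set G) := ⟨_, rfl⟩
    have hB₁n : B₁.Normal := hB₁ ▸ Subgroup.normalClosure_normal
    have hB₁B : B₁ ≤ B := hB₁ ▸ Subgroup.normalClosure_le_normal (show ((Z ⊓ B : Subgroup G) : Set G) ⊆ B from inf_le_right)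
    have hZB₁ : Z ⊓ B₁ = Z ⊓ B := by
      apply le_antisymm (inf_le_inf_left _ hB₁B)
      apply le_inf inf_le_left
      rw [hB₁]
      exact Subgroup.le_normalClosure
    by_cases hBB : B₁ = B
    swap
    · have hlt : B₁ < B := lt_of_le_of_ne hB₁B hBB
      have hc : Nat.card B₁ < Nat.card B := by
        apply Set.ncard_lt_ncard (SetLike.coe_ssubset_coe.mpr hlt) (Set.toFinite _)
      have := ih B₁ (by omega) hB₁n (hBp.to_le hB₁B)
      rw [← hZ, hZB₁] at this
      exact this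
    -- now `B` is the normal closure of `Z ⊓ B`
    have hgen : ∀ T : Subgroup G, T.Normal → Z ⊓ B ≤ T → B ≤ T := by
      intro T hT h
      haveI := hT
      rw [← hBB, hB₁]
      exact Subgroup.normalClosure_le_normal h
    obtain ⟨B', hB'⟩ : ∃ B', B' = ⁅B, B⁆ := ⟨_, rfl⟩
    have hB'n : B'.Normal := hB' ▸ Subgroup.commutator_normal B B
    have hB'lt : B' < B :=
      hB' ▸ Cfsg.Agent.S0663.commutator_lt_of_isPGroup hBp hBp Subgroup.le_normalizer hB1
    have hB'p : IsPGroup p B' := hBp.to_le hB'lt.le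
    have hcard' : Nat.card B' < Nat.card B := by
      apply Set.ncard_lt_ncard (SetLike.coe_ssubset_coe.mpr hB'lt) (Set.toFinite _)
    have hYn : (Z ⊓ B').Normal := by
      have := ih B' (by omega) hB'n hB'p
      rwa [← hZ] at this
    -- `[Z ⊓ B, B] ≤ Z ⊓ B'`
    have h1 : ⁅Z ⊓ B, B⁆ ≤ Z ⊓ B' := by
      apply le_inf
      · have : ⁅Z, B⁆ ≤ Z := Subgroup.le_normalizer_iff_commutator_le_left.1 (hBP.trans hPZ)
        exact (Subgroup.commutator_mono inf_le_left le_rfl).trans this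
      · rw [hB']
        exact Subgroup.commutator_mono inf_le_right le_rfl
    -- hence `[B, B] ≤ Z ⊓ B'`
    have h2 : B' ≤ Z ⊓ B' := by
      haveI := hYn
      obtain ⟨T, hT⟩ : ∃ T, T = (Subgroup.centralizer
        ((B.map (QuotientGroup.mk' (Z ⊓ B')) : Subgroup (G ⧸ (Z ⊓ B'))) : Set (G ⧸ (Z ⊓ B')))).comap
          (QuotientGroup.mk' (Z ⊓ B')) := ⟨_, rfl⟩
      have hTn : T.Normal := by
        rw [hT]
        haveI : (B.map (QuotientGroup.mk' (Z ⊓ B'))).Normal :=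
          Subgroup.Normal.map hBn _ (QuotientGroup.mk'_surjective _)
        exact Subgroup.Normal.comap inferInstance _
      have hmem : ∀ x : G, x ∈ T ↔ ∀ b : G, b ∈ B → ⁅x, b⁆ ∈ Z ⊓ B' := by
        intro x
        rw [hT, Subgroup.mem_comap, Subgroup.mem_centralizer_iff]
        constructor
        · intro h b hb
          have := h _ ⟨b, hb, rfl⟩
          rw [← QuotientGroup.eq_one_iff, commutatorElement_def]
          simp only [QuotientGroup.mk'_apply] at this
          simp only [QuotientGroup.mk_mul, QuotientGroup.mk_inv]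
          rw [← this]
          group
        · rintro h _ ⟨b, hb, rfl⟩
          have := h b hb
          rw [← QuotientGroup.eq_one_iff, commutatorElement_def] at this
          simp only [QuotientGroup.mk_mul, QuotientGroup.mk_inv] at this
          simp only [QuotientGroup.mk'_apply]
          have h3 : (x : G ⧸ (Z ⊓ B')) * (b : G ⧸ (Z ⊓ B')) =
              ((x : G ⧸ (Z ⊓ B')) * b * (x : G ⧸ (Z ⊓ B'))⁻¹ * (b : G ⧸ (Z ⊓ B'))⁻¹) * (b * x) := by
            group
          rw [h3, this, one_mul]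
      have hZT : Z ⊓ B ≤ T := by
        intro z hz
        rw [hmem]
        intro b hb
        exact h1 (Subgroup.commutator_mem_commutator hz hb)
      have hBT := hgen T hTn hZT
      have h22 : ⁅B, B⁆ ≤ Z ⊓ B' := by
        rw [Subgroup.commutator_le]
        intro x hx b hb
        exact (hmem x).mp (hBT hx) b hb
      exact hB'.le.trans h22
    have hB'Z : B' ≤ Z := h2.trans inf_le_left
    have hZcomm : ∀ x ∈ Z, ∀ y ∈ Z, x * y = y * x := hZ ▸ 𝒞.comm _ (ZJ_pred _)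
    -- `B'` is central in `B`
    have h3 : ⁅⁅B, B⁆, B⁆ = ⊥ := by
      rw [← hB', Subgroup.commutator_comm, Subgroup.commutator_eq_bot_iff_le_centralizer]
      haveI := hB'n
      apply hgen _ inferInstance
      intro z hz
      rw [Subgroup.mem_centralizer_iff]
      intro y hy
      exact hZcomm y (hB'Z hy) z hz.1
    by_cases hall : ∀ A ∈ maxSet 𝒞 E, B ≤ A
    · have : B ≤ Z := hZ ▸ le_ZJ_of_forall_le hall
      rw [inf_eq_right.mpr this]
      exact hBn
    push Not at hall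
    obtain ⟨U, hU, hBU⟩ := hall
    have hB'U : ⁅B, B⁆ ≤ U := by
      rw [← hB']
      exact hB'Z.trans (hZ ▸ ZJ_le_of_mem_maxSet hU)
    obtain ⟨A, hA, hBA, hBNA⟩ := hR B hBn hBp hBE h3 ⟨U, hU, hB'U, hBU⟩
    exfalso
    apply hBA
    -- `A` acts quadratically on `B`
    obtain ⟨C, hC⟩ : ∃ C, C = Subgroup.centralizer (B : Set G) := ⟨_, rfl⟩
    haveI hCn : C.Normal := hC ▸ inferInstance
    obtain ⟨K, hK⟩ : ∃ K, K = (Cfsg.pCore p (G ⧸ C)).comap (QuotientGroup.mk' C) := ⟨_, rfl⟩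
    haveI hKn : K.Normal := by
      rw [hK]
      haveI := Cfsg.Agent.Lib.H1.pCore_normal p (G ⧸ C)
      exact Subgroup.Normal.comap inferInstance _
    have hAK : A ≤ K := by
      intro a ha
      have hq : ⁅⁅B, Subgroup.zpowers a⁆, Subgroup.zpowers a⁆ = ⊥ := by
        rw [eq_bot_iff]
        have hza : Subgroup.zpowers a ≤ A := by rw [Subgroup.zpowers_le]; exact ha
        have h4 : ⁅B, A⁆ ≤ A := by
          rw [Subgroup.commutator_comm]
          exact Subgroup.le_normalizer_iff_commutator_le_left.1 hBNA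
        have h5 : ⁅A, A⁆ = ⊥ := by
          rw [Subgroup.commutator_eq_bot_iff_le_centralizer]
          intro x hx
          rw [Subgroup.mem_centralizer_iff]
          intro y hy
          exact 𝒞.comm A hA.2.1 y hy x hx
        calc ⁅⁅B, Subgroup.zpowers a⁆, Subgroup.zpowers a⁆ ≤ ⁅⁅B, A⁆, A⁆ :=
              Subgroup.commutator_mono (Subgroup.commutator_mono le_rfl hza) hza
          _ ≤ ⁅A, A⁆ := Subgroup.commutator_mono h4 le_rfl
          _ = ⊥ := h5
      have := hst B hBp a hq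
      rw [hK, Subgroup.mem_comap]
      subst hC
      exact this
    obtain ⟨D, hD⟩ : ∃ D, D = E ⊓ K := ⟨_, rfl⟩
    obtain ⟨D₀, hD₀⟩ : ∃ D₀, D₀ = (P : Subgroup G) ⊓ K := ⟨_, rfl⟩
    have hAD : A ≤ D := hD ▸ le_inf hA.1 hAK
    have hDE : D ≤ E := hD ▸ inf_le_left
    have hZZ : Z ≤ ZJ 𝒞 D := hZ ▸ ZJ_le_ZJ_of hA hAD hDE
    -- `ZJ D ⊓ B` is normal in `G`
    have hCK : C ≤ K := by
      intro c hc
      rw [hK, Subgroup.mem_comap]
      have : QuotientGroup.mk' C c = 1 := by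
        rw [QuotientGroup.mk'_apply, QuotientGroup.eq_one_iff]; exact hc
      rw [this]
      exact Subgroup.one_mem _
    have hKC : IsPGroup p (K.map (QuotientGroup.mk' C)) := by
      rw [hK, Subgroup.map_comap_eq_self_of_surjective (QuotientGroup.mk'_surjective _)]
      exact Cfsg.Agent.Lib.H1.pCore_isPGroup p _
    have hKle : K ≤ C ⊔ D₀ := hD₀ ▸ le_sup_inf_of_isPGroup_map P C K hCK hKC
    have hfr : K ⊔ Subgroup.normalizer (D₀ : Set G) = ⊤ := hD₀ ▸ frattini_inf P K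
    -- `N(P ∩ K) ≤ N(E ∩ K)` by strong closure
    have hNN : Subgroup.normalizer (D₀ : Set G) ≤ Subgroup.normalizer (D : Set G) := by
      intro g hg
      apply mem_normalizer_of_cj_le
      rintro _ ⟨y, hy, rfl⟩
      rw [hD] at hy ⊢
      have hyD₀ : y ∈ D₀ := hD₀ ▸ ⟨hE.1 hy.1, hy.2⟩
      have h5 : g * y * g⁻¹ ∈ D₀ := (Subgroup.mem_normalizer_iff.mp hg y).mp hyD₀
      rw [hD₀] at h5
      exact ⟨hE.2 y hy.1 g h5.1, h5.2⟩
    have hnorm : (ZJ 𝒞 D ⊓ B).Normal := by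
      rw [← Subgroup.normalizer_eq_top_iff, eq_top_iff, ← hfr]
      have hND : Subgroup.normalizer (D : Set G) ≤
          Subgroup.normalizer ((ZJ 𝒞 D ⊓ B : Subgroup G) : Set G) := by
        intro g hg
        have hg1 := normalizer_le_normalizer_ZJ (𝒞 := 𝒞) D hg
        rw [mem_normalizer_iff_cj_eq] at hg1 ⊢
        apply cj_eq_of_cj_le
        rintro _ ⟨y, hy, rfl⟩
        refine Subgroup.mem_inf.mpr ⟨?_, ?_⟩
        · rw [← hg1]; exact ⟨y, hy.1, rfl⟩
        · exact hBn.conj_mem y hy.2 g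
      have hCle : C ≤ Subgroup.normalizer ((ZJ 𝒞 D ⊓ B : Subgroup G) : Set G) := by
        intro c hc
        rw [mem_normalizer_iff_cj_eq]
        apply cj_eq_of_cj_le
        rintro _ ⟨y, hy, rfl⟩
        have hcy : c * y = y * c := by
          rw [hC] at hc
          exact ((Subgroup.mem_centralizer_iff.mp hc) y hy.2).symm
        have : (MulAut.conj c).toMonoidHom y = y := by
          simp only [MulEquiv.coe_toMonoidHom, MulAut.conj_apply]
          rw [hcy, mul_inv_cancel_right]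
        rw [this]
        exact hy
      apply sup_le _ (hNN.trans hND)
      apply hKle.trans
      apply sup_le hCle
      exact (Subgroup.le_normalizer.trans (hNN.trans hND))
    have hBle : B ≤ ZJ 𝒞 D ⊓ B := hgen _ hnorm (inf_le_inf_right _ hZZ)
    exact (hBle.trans inf_le_left).trans (ZJ_le_of_mem_maxSet (mem_maxSet_of_le hA hAD hDE))

/-- **Glauberman's Theorem A** for a strongly closed subgroup, in abstract form. -/
theorem thmA_sc (𝒞 : SubClass G) (P : Sylow p G) (E : Subgroup G)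
    (hE : Cfsg.IsStronglyClosed E (P : Subgroup G))
    (hR : ∀ B : Subgroup G, B.Normal → IsPGroup p B → B ≤ E → ⁅⁅B, B⁆, B⁆ = ⊥ →
      (∃ U ∈ maxSet 𝒞 E, ⁅B, B⁆ ≤ U ∧ ¬ B ≤ U) →
      ∃ A ∈ maxSet 𝒞 E, ¬ B ≤ A ∧ B ≤ Subgroup.normalizer (A : Set G))
    (hst : ∀ (V : Subgroup G) [V.Normal], IsPGroup p V → Cfsg.IsPStableOn p V)
    (B : Subgroup G) (hBn : B.Normal) (hBp : IsPGroup p B) :
    (ZJ 𝒞 E ⊓ B).Normal :=
  thmA_sc_aux 𝒞 P E hE hR hst (Nat.card B) B le_rfl hBn hBp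

/-- With `C_G(O_p(G)) ≤ O_p(G)` and `p`-stability, `ZJ E` is normal in `G` for `E` strongly
closed in the Sylow subgroup `P`. -/
theorem ZJ_normal_sc (𝒞 : SubClass G) (P : Sylow p G) (E : Subgroup G)
    (hE : Cfsg.IsStronglyClosed E (P : Subgroup G))
    (hR : ∀ B : Subgroup G, B.Normal → IsPGroup p B → B ≤ E → ⁅⁅B, B⁆, B⁆ = ⊥ →
      (∃ U ∈ maxSet 𝒞 E, ⁅B, B⁆ ≤ U ∧ ¬ B ≤ U) →
      ∃ A ∈ maxSet 𝒞 E, ¬ B ≤ A ∧ B ≤ Subgroup.normalizer (A : Set G))
    (hc : Subgroup.centralizer (Cfsg.pCore p G : Set G) ≤ Cfsg.pCore p G)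
    (hst : ∀ (V : Subgroup G) [V.Normal], IsPGroup p V → Cfsg.IsPStableOn p V) :
    (ZJ 𝒞 E).Normal := by
  obtain ⟨O, hO⟩ : ∃ O, O = Cfsg.pCore p G := ⟨_, rfl⟩
  have hOn : O.Normal := hO ▸ Cfsg.Agent.Lib.H1.pCore_normal p G
  have hOp : IsPGroup p O := hO ▸ Cfsg.Agent.Lib.H1.pCore_isPGroup p G
  have hOP : O ≤ (P : Subgroup G) := hO ▸ Cfsg.Agent.Lib.H1.pCore_le_sylow P
  have hPZ : (P : Subgroup G) ≤ Subgroup.normalizer (ZJ 𝒞 E : Set G) :=
    (le_normalizer_of_stronglyClosed hE).trans (normalizer_le_normalizer_ZJ _)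
  have hZO : ZJ 𝒞 E ≤ O := by
    intro z hz
    haveI := hOn
    have hq : ⁅⁅O, Subgroup.zpowers z⁆, Subgroup.zpowers z⁆ = ⊥ := by
      rw [eq_bot_iff]
      have hzZ : Subgroup.zpowers z ≤ ZJ 𝒞 E := by
        rw [Subgroup.zpowers_le]; exact hz
      have h4 : ⁅O, ZJ 𝒞 E⁆ ≤ ZJ 𝒞 E := by
        rw [Subgroup.commutator_comm]
        exact Subgroup.le_normalizer_iff_commutator_le_left.1 (hOP.trans hPZ)
      have h5 : ⁅ZJ 𝒞 E, ZJ 𝒞 E⁆ = ⊥ := by
        rw [Subgroup.commutator_eq_bot_iff_le_centralizer]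
        intro x hx
        rw [Subgroup.mem_centralizer_iff]
        intro y hy
        exact 𝒞.comm _ (ZJ_pred _) y hy x hx
      calc ⁅⁅O, Subgroup.zpowers z⁆, Subgroup.zpowers z⁆
          ≤ ⁅⁅O, ZJ 𝒞 E⁆, ZJ 𝒞 E⁆ :=
            Subgroup.commutator_mono (Subgroup.commutator_mono le_rfl hzZ) hzZ
        _ ≤ ⁅ZJ 𝒞 E, ZJ 𝒞 E⁆ := Subgroup.commutator_mono h4 le_rfl
        _ = ⊥ := h5
    have h1 := hst O hOp z hq
    obtain ⟨L, hL⟩ : ∃ L, L = (Cfsg.pCore p (G ⧸ Subgroup.centralizer (O : Set G))).comap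
        (QuotientGroup.mk' (Subgroup.centralizer (O : Set G))) := ⟨_, rfl⟩
    have hLn : L.Normal := by
      rw [hL]
      haveI := Cfsg.Agent.Lib.H1.pCore_normal p (G ⧸ Subgroup.centralizer (O : Set G))
      exact Subgroup.Normal.comap inferInstance _
    have hLp : IsPGroup p ↥L := by
      rw [hL]
      apply (Cfsg.Agent.Lib.H1.pCore_isPGroup p _).comap_of_ker_isPGroup
      rw [QuotientGroup.ker_mk']
      apply hOp.to_le
      rw [hO]
      exact hc
    have hzL : z ∈ L := by rw [hL]; exact h1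
    rw [hO]
    exact Cfsg.Agent.Lib.H1.le_pCore hLn hLp hzL
  have := thmA_sc 𝒞 P E hE hR hst O hOn hOp
  rwa [inf_eq_left.mpr hZO] at this

end thmA

end Cfsg.Agent.Lib.H15.ZJS
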