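import Mathlib
import Cfsg.Prelude.Def_TwoFusion
import Cfsg.Prelude.Def_LocalEven
import Cfsg.Agent.Lib.H15.ZJStrong
import Cfsg.Agent.S0651
import Cfsg.Agent.S0652

/-!
Glauberman's ZJ-theorem for strongly closed subgroups (helper15's shared library), part 2:
the replacement property for subgroups normal in the Sylow subgroup, `p`-stability in the
normalizer form, and the two concrete instances.
-/

set_option autoImplicit false

namespace Cfsg.Agent.Lib.H15.ZJS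

open Cfsg.Agent.Lib.H4.ZJ Cfsg.Agent.Lib.H5 Cfsg.Agent.Lib.H15
open scoped commutatorElement

variable {G : Type*} [Group G]

/-- Transport of a replacement property from the Sylow subgroup as a group to `G`, for the
members of the class inside a subgroup `E` of the Sylow subgroup. -/
theorem hR_sc_of_type_replacement [Finite G] {p : ℕ} [Fact p.Prime] (𝒞 : SubClass G)
    (P : Sylow p G) (E : Subgroup G)
    (𝒜 : Set (Subgroup ↥(P : Subgroup G)))
    (hmax : maxSet 𝒞 E =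
      (fun A : Subgroup ↥(P : Subgroup G) => A.map (P : Subgroup G).subtype) '' 𝒜)
    (hrep : ∀ (B₀ : Subgroup ↥(P : Subgroup G)) [B₀.Normal], ⁅⁅B₀, B₀⁆, B₀⁆ = ⊥ →
      (∃ U ∈ 𝒜, ⁅B₀, B₀⁆ ≤ U ∧ ¬ B₀ ≤ U) →
      ∃ A ∈ 𝒜, ⁅B₀, B₀⁆ ≤ A ∧ ¬ B₀ ≤ A ∧
        B₀ ≤ Subgroup.normalizer (A : Set ↥(P : Subgroup G))) :
    ∀ B : Subgroup G, B.Normal → IsPGroup p B → B ≤ E → ⁅⁅B, B⁆, B⁆ = ⊥ →
      (∃ U ∈ maxSet 𝒞 E, ⁅B, B⁆ ≤ U ∧ ¬ B ≤ U) →
      ∃ A ∈ maxSet 𝒞 E, ¬ B ≤ A ∧ B ≤ Subgroup.normalizer (A : Set G) := by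
  intro B hBn hBp _ h3 ⟨U, hU, hBU1, hBU2⟩
  haveI := hBn
  have hBP : B ≤ (P : Subgroup G) := hBp.le_sylow_of_normal P
  obtain ⟨B₀, hB₀⟩ : ∃ B₀, B₀ = B.subgroupOf (P : Subgroup G) := ⟨_, rfl⟩
  have hB₀map : B₀.map (P : Subgroup G).subtype = B :=
    hB₀ ▸ Subgroup.map_subgroupOf_eq_of_le hBP
  haveI hB₀n : B₀.Normal := hB₀ ▸ Subgroup.Normal.subgroupOf hBn _
  have hinj := (P : Subgroup G).subtype_injective
  have h3' : ⁅⁅B₀, B₀⁆, B₀⁆ = ⊥ := by
    apply (Subgroup.map_eq_bot_iff_of_injective _ hinj).mp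
    rw [Subgroup.map_commutator, Subgroup.map_commutator, hB₀map]
    exact h3
  rw [hmax] at hU
  obtain ⟨U₀, hU₀, rfl⟩ := hU
  have hex : ∃ U ∈ 𝒜, ⁅B₀, B₀⁆ ≤ U ∧ ¬ B₀ ≤ U := by
    refine ⟨U₀, hU₀, ?_, ?_⟩
    · rw [← Subgroup.map_le_map_iff_of_injective hinj, Subgroup.map_commutator, hB₀map]
      exact hBU1
    · rw [← Subgroup.map_le_map_iff_of_injective hinj, hB₀map]
      exact hBU2
  obtain ⟨A₀, hA₀, _, hA2, hA3⟩ := hrep B₀ h3' hex
  refine ⟨A₀.map (P : Subgroup G).subtype, ?_, ?_, ?_⟩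
  · rw [hmax]
    exact ⟨A₀, hA₀, rfl⟩
  · rw [← hB₀map, Subgroup.map_le_map_iff_of_injective hinj]
    exact hA2
  · intro b hb
    apply Cfsg.Agent.Lib.H15.mem_normalizer_of_cj_le
    rintro _ ⟨_, ⟨h₀, hh₀, rfl⟩, rfl⟩
    have hb₀ : (⟨b, hBP hb⟩ : ↥(P : Subgroup G)) ∈ B₀ := by
      rw [hB₀, Subgroup.mem_subgroupOf]
      exact hb
    have := (Subgroup.mem_normalizer_iff.mp (hA3 hb₀) h₀).mp hh₀
    exact ⟨_, this, rfl⟩

/-- The replacement property for the abelian subgroups of largest order of `E`, `E` normalized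
by the Sylow subgroup `P ≥ E`, `p` odd. -/
theorem hR_ab [Finite G] {p : ℕ} [Fact p.Prime] (hp : p ≠ 2) (P : Sylow p G) (E : Subgroup G)
    (hEP : E ≤ (P : Subgroup G)) (hPE : (P : Subgroup G) ≤ Subgroup.normalizer (E : Set G)) :
    ∀ B : Subgroup G, B.Normal → IsPGroup p B → B ≤ E → ⁅⁅B, B⁆, B⁆ = ⊥ →
      (∃ U ∈ maxSet (abClass G) E, ⁅B, B⁆ ≤ U ∧ ¬ B ≤ U) →
      ∃ A ∈ maxSet (abClass G) E, ¬ B ≤ A ∧ B ≤ Subgroup.normalizer (A : Set G) := by
  set D : Subgroup ↥(P : Subgroup G) := E.subgroupOf (P : Subgroup G) with hD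
  haveI hDn : D.Normal := (Subgroup.normal_subgroupOf_iff_le_normalizer hEP).mpr hPE
  have hDmap : D.map (P : Subgroup G).subtype = E := Subgroup.map_subgroupOf_eq_of_le hEP
  have hinjOn : Set.InjOn (P : Subgroup G).subtype (D : Set ↥(P : Subgroup G)) :=
    (P : Subgroup G).subtype_injective.injOn
  apply hR_sc_of_type_replacement (abClass G) P E
    ((fun A : Subgroup ↥D => A.map D.subtype) '' Cfsg.maxAbelianSubgroups ↥D)
  · rw [← hDmap, maxSet_map_of_injOn (abClass ↥(P : Subgroup G)) (abClass G)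
      (P : Subgroup G).subtype D hinjOn (abClass_compat _ D hinjOn), maxSet_abClass]
  · intro B₀ hB₀
    exact Cfsg.Agent.S0651.result P.2 hp D B₀

/-- The replacement property for the elementary abelian subgroups of largest order of `E`. -/
theorem hR_ea [Finite G] {p : ℕ} [Fact p.Prime] (hp : p ≠ 2) (P : Sylow p G) (E : Subgroup G)
    (hEP : E ≤ (P : Subgroup G)) (hPE : (P : Subgroup G) ≤ Subgroup.normalizer (E : Set G)) :
    ∀ B : Subgroup G, B.Normal → IsPGroup p B → B ≤ E → ⁅⁅B, B⁆, B⁆ = ⊥ →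
      (∃ U ∈ maxSet (eaClass p G) E, ⁅B, B⁆ ≤ U ∧ ¬ B ≤ U) →
      ∃ A ∈ maxSet (eaClass p G) E, ¬ B ≤ A ∧ B ≤ Subgroup.normalizer (A : Set G) := by
  set D : Subgroup ↥(P : Subgroup G) := E.subgroupOf (P : Subgroup G) with hD
  haveI hDn : D.Normal := (Subgroup.normal_subgroupOf_iff_le_normalizer hEP).mpr hPE
  have hDmap : D.map (P : Subgroup G).subtype = E := Subgroup.map_subgroupOf_eq_of_le hEP
  have hinjOn : Set.InjOn (P : Subgroup G).subtype (D : Set ↥(P : Subgroup G)) :=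
    (P : Subgroup G).subtype_injective.injOn
  apply hR_sc_of_type_replacement (eaClass p G) P E
    ((fun A : Subgroup ↥D => A.map D.subtype) '' Cfsg.maxElementaryAbelianSubgroups p ↥D)
  · rw [← hDmap, maxSet_map_of_injOn (eaClass p ↥(P : Subgroup G)) (eaClass p G)
      (P : Subgroup G).subtype D hinjOn (eaClass_compat p _ D hinjOn), maxSet_eaClass]
  · intro B₀ hB₀
    exact Cfsg.Agent.S0652.result P.2 hp D B₀

/-- `p`-stability in the normalizer form gives `p`-stability of the action on every normal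
`p`-subgroup. -/
theorem isPStableOn_of_normalizerPStable [Finite G] {p : ℕ} [Fact p.Prime]
    (hst : Cfsg.IsNormalizerPStable p G) (V : Subgroup G) [hV : V.Normal] (hVp : IsPGroup p V) :
    Cfsg.IsPStableOn p V := by
  intro a hq
  have hN : Subgroup.normalizer (V : Set G) = ⊤ := Subgroup.normalizer_eq_top_iff.mpr hV
  have ha : a ∈ Subgroup.normalizer (V : Set G) := by rw [hN]; exact Subgroup.mem_top a
  have h1 := hst V hVp a ha hq
  set N := Subgroup.normalizer (V : Set G) with hNdef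
  set C := Subgroup.centralizer (V : Set G) with hCdef
  let ψ : ↥N ⧸ C.subgroupOf N →* G ⧸ C :=
    QuotientGroup.map (C.subgroupOf N) C N.subtype (fun x hx => hx)
  have hψsurj : Function.Surjective ψ := by
    intro y
    obtain ⟨g, rfl⟩ := QuotientGroup.mk_surjective y
    exact ⟨QuotientGroup.mk (⟨g, by rw [hN]; exact Subgroup.mem_top g⟩ : ↥N), rfl⟩
  have hn : ((Cfsg.pCore p (↥N ⧸ C.subgroupOf N)).map ψ).Normal := by
    haveI := Cfsg.Agent.Lib.H1.pCore_normal p (↥N ⧸ C.subgroupOf N)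
    exact Subgroup.Normal.map inferInstance ψ hψsurj
  have hp' : IsPGroup p ((Cfsg.pCore p (↥N ⧸ C.subgroupOf N)).map ψ) :=
    (Cfsg.Agent.Lib.H1.pCore_isPGroup p _).map ψ
  have hle := Cfsg.Agent.Lib.H1.le_pCore hn hp'
  apply hle
  exact ⟨_, h1, rfl⟩

/-- The elementary abelian version of `ZJ` is `Ω₁(Z(J_e(Q)))`. -/
theorem ZJ_eaClass_eq (p : ℕ) (Q : Subgroup G) :
    ZJ (eaClass p G) Q = Cfsg.omegaOne p (Cfsg.centerThompsonOf p Q) := by
  unfold ZJ Cfsg.omegaOne Cfsg.centerThompsonOf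
  rw [J_eaClass]
  congr 1
  ext x
  simp only [Set.mem_ofPred_eq, Subgroup.mem_inf]
  constructor
  · rintro ⟨h1, h2, h3⟩
    exact ⟨⟨h1, h2⟩, h3.2 x (Subgroup.mem_zpowers x)⟩
  · rintro ⟨⟨h1, h2⟩, h3⟩
    refine ⟨h1, h2, comm_zpowers x, ?_⟩
    intro a ha
    obtain ⟨m, rfl⟩ := Subgroup.mem_zpowers_iff.mp ha
    rw [← zpow_natCast, ← zpow_mul, mul_comm, zpow_mul, zpow_natCast, h3, one_zpow]

/-- **Glauberman's ZJ-theorem for strongly closed subgroups**, `p` odd. -/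
theorem ZJ_normal_stronglyClosed [Finite G] {p : ℕ} [Fact p.Prime] (hp : p ≠ 2) (P : Sylow p G)
    (D : Subgroup G) (hD : Cfsg.IsStronglyClosed D (P : Subgroup G))
    (hst : Cfsg.IsNormalizerPStable p G)
    (hc : Subgroup.centralizer ((Cfsg.pCore p G : Subgroup G) : Set G) ≤ Cfsg.pCore p G) :
    (Cfsg.centerThompsonAOf D).Normal ∧
      (Cfsg.omegaOne p (Cfsg.centerThompsonOf p D)).Normal := by
  have hPD := le_normalizer_of_stronglyClosed hD
  have hst' : ∀ (V : Subgroup G) [V.Normal], IsPGroup p V → Cfsg.IsPStableOn p V :=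
    fun V _ hVp => isPStableOn_of_normalizerPStable hst V hVp
  constructor
  · rw [← ZJ_abClass]
    exact ZJ_normal_sc (abClass G) P D hD (hR_ab hp P D hD.1 hPD) hc hst'
  · rw [← ZJ_eaClass_eq]
    exact ZJ_normal_sc (eaClass p G) P D hD (hR_ea hp P D hD.1 hPD) hc hst'

end Cfsg.Agent.Lib.H15.ZJS
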