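import Cfsg.Agent.Lib.L0.GlaubermanNPC
import Cfsg.Agent.Lib.H15.ZJStrong2
import Cfsg.Agent.Lib.H10.SylowIn
import Cfsg.Agent.Lib.H10.SecLift

/-!
The Glauberman–Thompson normal `p`-complement theorem for strongly closed subgroups
(helper15's shared library), on top of lead's `L0/NPCReduction` framework.
-/

set_option autoImplicit false

universe u

namespace Cfsg.Agent.Lib.H15.NPCS

open Cfsg.Agent.Lib Cfsg.Agent.Lib.L0 Cfsg.Agent.Lib.H4.ZJ Cfsg.Agent.Lib.H15.ZJS

/-- a functorial characteristic-subgroup assignment commuting with homomorphisms injective on `Q` -/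
structure MapFun (W : ∀ (X : Type u) [Group X], Subgroup X → Subgroup X) : Prop where
  le : ∀ {X : Type u} [Group X] (Q : Subgroup X), W X Q ≤ Q
  map : ∀ {X Y : Type u} [Group X] [Group Y] (f : X →* Y) (Q : Subgroup X),
    Set.InjOn f (Q : Set X) → W Y (Q.map f) = (W X Q).map f

/-- `N_X(W(D))` has a normal `p`-complement for some `D` strongly closed in `T` -/
def Hyp1 (p : ℕ) (W : ∀ (X : Type u) [Group X], Subgroup X → Subgroup X) :
    ∀ (X : Type u) [Group X], Subgroup X → Prop := fun X _ T =>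
  ∃ D : Subgroup X, Cfsg.IsStronglyClosed D T ∧
    Cfsg.HasNormalPComplement p (Subgroup.normalizer (W X D : Set X))

variable {p : ℕ} [hp : Fact p.Prime] {W : ∀ (X : Type u) [Group X], Subgroup X → Subgroup X}

theorem hyp1_of_injective (hW : MapFun W) {X Y : Type u} [Group X] [Group Y] [Finite Y]
    (f : X →* Y) (hf : Function.Injective f) (T : Subgroup X) (h : Hyp1 p W Y (T.map f)) :
    Hyp1 p W X T := by
  obtain ⟨D', hD', hN⟩ := h
  have hD'T : D' ≤ T.map f := hD'.1
  refine ⟨D'.comap f, ⟨?_, ?_⟩, ?_⟩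
  · intro d hd
    obtain ⟨t, ht, hte⟩ := hD'T (Subgroup.mem_comap.mp hd)
    rw [← hf hte]; exact ht
  · intro x hx g hg
    rw [Subgroup.mem_comap] at hx ⊢
    have : f g * f x * (f g)⁻¹ ∈ T.map f := by
      rw [← map_inv, ← map_mul, ← map_mul]
      exact Subgroup.mem_map_of_mem f hg
    have := hD'.2 (f x) hx (f g) this
    rwa [← map_inv, ← map_mul, ← map_mul] at this
  · have hmap : (D'.comap f).map f = D' := by
      rw [Subgroup.map_comap_eq, inf_eq_right]
      exact hD'T.trans (Subgroup.map_le_range f T)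
    have hinj : Set.InjOn f ((D'.comap f : Subgroup X) : Set X) := fun a _ b _ hab => hf hab
    have h1 := hW.map f (D'.comap f) hinj
    rw [hmap] at h1
    rw [h1] at hN
    have h3 := HasNormalPComplement.of_le (Subgroup.le_normalizer_map f) hN
    exact HasNormalPComplement.of_mulEquiv (Subgroup.equivMapOfInjective _ f hf).symm h3

theorem hyp1_quotient (hW : MapFun W) {X : Type u} [Group X] [Finite X] (N : Subgroup X) [N.Normal]
    (hN : (Nat.card N).Coprime p) (T : Subgroup X) (hT : IsPGroup p T) (h : Hyp1 p W X T) :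
    Hyp1 p W (X ⧸ N) (T.map (QuotientGroup.mk' N)) := by
  obtain ⟨D, hD, hNPC⟩ := h
  have hDp : IsPGroup p D := hT.to_le hD.1
  refine ⟨D.map (QuotientGroup.mk' N), ⟨Subgroup.map_mono hD.1, ?_⟩, ?_⟩
  · rintro _ ⟨x, hx, rfl⟩ gb hgb
    obtain ⟨g, rfl⟩ := QuotientGroup.mk'_surjective N gb
    -- `y = g x g⁻¹ ∈ T N`
    have hy : g * x * g⁻¹ ∈ T ⊔ N := by
      have h1 : (QuotientGroup.mk' N) (g * x * g⁻¹) ∈ T.map (QuotientGroup.mk' N) := by
        rw [map_mul, map_mul, map_inv]; exact hgb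
      have h2 : g * x * g⁻¹ ∈ (T.map (QuotientGroup.mk' N)).comap (QuotientGroup.mk' N) := h1
      rwa [Subgroup.comap_map_eq, QuotientGroup.ker_mk'] at h2
    have hyp' : IsPGroup p (Subgroup.zpowers (g * x * g⁻¹)) := by
      have hxp : IsPGroup p (Subgroup.zpowers x) := hDp.to_le (Subgroup.zpowers_le.mpr hx)
      have e : Subgroup.zpowers (g * x * g⁻¹) =
          (Subgroup.zpowers x).map (MulAut.conj g).toMonoidHom := by
        rw [MonoidHom.map_zpowers]; rfl
      rw [e]; exact hxp.map _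
    have hVi := H10.not_dvd_relIndex_sup_of_coprime N T hN hT
    obtain ⟨m, hm, hmV⟩ := H10.exists_mem_map_conj_le_of_sylowIn hT le_sup_left hVi hyp'
      (Subgroup.zpowers_le.mpr hy)
    obtain ⟨t, ht, n, hn, htn⟩ := (Subgroup.mem_sup_of_normal_right).1 hm
    have h1 : m * (g * x * g⁻¹) * m⁻¹ ∈ T :=
      hmV ⟨_, Subgroup.mem_zpowers _, rfl⟩
    have h2 : (n * g) * x * (n * g)⁻¹ ∈ T := by
      have e : (n * g) * x * (n * g)⁻¹ = t⁻¹ * (m * (g * x * g⁻¹) * m⁻¹) * t := by
        rw [← htn]; group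
      rw [e]
      exact mul_mem (mul_mem (inv_mem ht) h1) ht
    have h3 := hD.2 x hx (n * g) h2
    refine ⟨_, h3, ?_⟩
    have hn1 : (QuotientGroup.mk' N) n = 1 := by
      rw [← MonoidHom.mem_ker, QuotientGroup.ker_mk']; exact hn
    simp only [map_mul, map_inv, hn1, one_mul]
  · have hinj := injOn_mk_of_coprime N hN D hDp
    have hZp : IsPGroup p (W X D) := hDp.to_le (hW.le D)
    rw [hW.map _ D hinj, ← H7.map_normalizer_of_coprime p hN hZp]
    exact HasNormalPComplement.of_surjective ((QuotientGroup.mk' N).subgroupMap _)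
      ((QuotientGroup.mk' N).subgroupMap_surjective _) hNPC

/-- the two functors of the theorem -/
def WA : ∀ (X : Type u) [Group X], Subgroup X → Subgroup X := fun _ _ Q => Cfsg.centerThompsonAOf Q

def WE (p : ℕ) : ∀ (X : Type u) [Group X], Subgroup X → Subgroup X :=
  fun _ _ Q => Cfsg.omegaOne p (Cfsg.centerThompsonOf p Q)

theorem mapFun_WA : MapFun.{u} WA where
  le := fun Q => centerThompsonAOf_le Q
  map := fun f Q hf => centerThompsonAOf_map f Q hf

theorem mapFun_WE : MapFun.{u} (WE p) where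
  le := by
    intro X _ Q
    show Cfsg.omegaOne p (Cfsg.centerThompsonOf p Q) ≤ Q
    rw [← ZJ_eaClass_eq]; exact ZJ_le Q
  map := by
    intro X Y _ _ f Q hf
    show Cfsg.omegaOne p (Cfsg.centerThompsonOf p (Q.map f)) =
      (Cfsg.omegaOne p (Cfsg.centerThompsonOf p Q)).map f
    rw [← ZJ_eaClass_eq, ← ZJ_eaClass_eq]
    exact ZJ_map_of_injOn (eaClass p X) (eaClass p Y) f Q hf (eaClass_compat p f Q hf)

/-- the hypothesis of the theorem -/
def SCHyp (p : ℕ) : ∀ (X : Type u) [Group X], Subgroup X → Prop := fun X _ T =>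
  Hyp1 p WA X T ∨ Hyp1 p (WE p) X T

theorem stronglyClosed_self {X : Type*} [Group X] (T : Subgroup X) : Cfsg.IsStronglyClosed T T :=
  ⟨le_rfl, fun _ _ _ h => h⟩

theorem scHyp_localHyp : LocalHyp.{u} p (SCHyp p) where
  of_injective := by
    intro X Y _ _ _ f hf T hT
    rcases hT with h | h
    · exact Or.inl (hyp1_of_injective mapFun_WA f hf T h)
    · exact Or.inr (hyp1_of_injective mapFun_WE f hf T h)
  quotient := by
    intro X _ _ N _ hN T hT hHyp
    rcases hHyp with h | h
    · exact Or.inl (hyp1_quotient mapFun_WA N hN T hT h)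
    · exact Or.inr (hyp1_quotient mapFun_WE N hN T hT h)
  of_normalizers := by
    intro X _ _ T hT hTne hU
    left
    exact ⟨T, stronglyClosed_self T, zjaHyp_localHyp.of_normalizers T hT hTne hU⟩

theorem sc_final (hp2 : p ≠ 2) (X : Type u) [Group X] [Finite X]
    (hF : FinalConfig p (SCHyp p) X) : False := by
  obtain ⟨H, K, hS⟩ := hF.exists_struct
  obtain ⟨P⟩ : Nonempty (Sylow p X) := inferInstance
  have hcore := pCore_eq_of_struct hS
  have hc : Subgroup.centralizer (Cfsg.pCore p X : Set X) ≤ Cfsg.pCore p X := by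
    rw [hcore]; exact hS.hcent
  have hst' : ∀ (V : Subgroup X) [V.Normal], IsPGroup p V → Cfsg.IsPStableOn p V :=
    fun B _ hB => isPStableOn_of_struct hp2 hS B hB
  rcases hF.hyp P with ⟨D, hD, hJ⟩ | ⟨D, hD, hJ⟩
  · have hPD := le_normalizer_of_stronglyClosed hD
    have hn : (Cfsg.centerThompsonAOf D).Normal := by
      rw [← ZJ_abClass]
      exact ZJ_normal_sc (abClass X) P D hD (hR_ab hp2 P D hD.1 hPD) hc hst'
    change Cfsg.HasNormalPComplement p
      (Subgroup.normalizer (Cfsg.centerThompsonAOf D : Set X)) at hJ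
    rw [Subgroup.normalizer_eq_top_iff.mpr hn, hasNormalPComplement_top_iff] at hJ
    exact hF.not_npc hJ
  · have hPD := le_normalizer_of_stronglyClosed hD
    have hn : (Cfsg.omegaOne p (Cfsg.centerThompsonOf p D)).Normal := by
      rw [← ZJ_eaClass_eq]
      exact ZJ_normal_sc (eaClass p X) P D hD (hR_ea hp2 P D hD.1 hPD) hc hst'
    change Cfsg.HasNormalPComplement p
      (Subgroup.normalizer (Cfsg.omegaOne p (Cfsg.centerThompsonOf p D) : Set X)) at hJ
    rw [Subgroup.normalizer_eq_top_iff.mpr hn, hasNormalPComplement_top_iff] at hJ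
    exact hF.not_npc hJ

/-- **Glauberman–Thompson normal `p`-complement theorem for strongly closed subgroups.** -/
theorem npc_stronglyClosed (hp2 : p ≠ 2) (G : Type u) [Group G] [Finite G] (P : Sylow p G)
    (D : Subgroup G) (hD : Cfsg.IsStronglyClosed D (P : Subgroup G))
    (h : Cfsg.HasNormalPComplement p ↥(Subgroup.normalizer ((Cfsg.centerThompsonAOf D) : Set G)) ∨
      Cfsg.HasNormalPComplement p
        ↥(Subgroup.normalizer ((Cfsg.omegaOne p (Cfsg.centerThompsonOf p D)) : Set G))) :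
    Cfsg.HasNormalPComplement p G := by
  apply npc_of_localHyp scHyp_localHyp (sc_final hp2) G P
  rcases h with h | h
  · exact Or.inl ⟨D, hD, h⟩
  · exact Or.inr ⟨D, hD, h⟩

end Cfsg.Agent.Lib.H15.NPCS
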