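import Mathlib
import Cfsg.Agent.Lib.H13.ADPEXP
import Cfsg.Agent.Lib.H25.ADPOWHOM

/-!
S4892 piece (NIL): the `p'`-layer of `E ⊔ N` for a nilpotent subgroup `E` and a normal subgroup `N`:
`K = E_{p'} ⊔ N` is normal in `E ⊔ N` of `p`-power index, `K / N` is a solvable `p'`-group.  PURE group theory.
-/

set_option autoImplicit false

namespace Cfsg.Agent.Lib.H15.NT

variable {G : Type*} [Group G] [Finite G] {p : ℕ}

/-- (NIL) the `p'`-layer of `E ⊔ N`, `E` nilpotent: `K = N·E_{p'}`. -/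
theorem exists_pcompl (hp : p.Prime) (N : Subgroup G) [N.Normal] (E : Subgroup G) (hE : Group.IsNilpotent E) :
    ∃ K : Subgroup G, N ≤ K ∧ K ≤ E ⊔ N ∧ (∀ a ∈ E ⊔ N, ∀ b ∈ K, a * b * a⁻¹ ∈ K) ∧
      ¬ p ∣ N.relIndex K ∧ (∃ a : ℕ, K.relIndex (E ⊔ N) = p ^ a) ∧
      Group.IsSolvable (↥K ⧸ N.subgroupOf K) := by
  classical
  have : Fact p.Prime := ⟨hp⟩
  obtain ⟨e, he0, he1, he2, he3⟩ := Cfsg.Agent.Lib.H13.AD.exists_pexp p hp G
  have hpow : ∀ a b : G, a ∈ E → b ∈ E → (a * b) ^ e = a ^ e * b ^ e := fun a b ha hb =>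
    Cfsg.Agent.Lib.H25.AD.pow_mul_of_nilpotent p hp e he1 he2 E hE a b ha hb
  -- the `p'`-part homomorphism on `E`
  let φ : E →* G :=
    { toFun := fun u => (u : G) ^ e
      map_one' := by simp
      map_mul' := fun a b => by simpa using hpow a b a.2 b.2 }
  let K0 : Subgroup G := φ.range
  have hK0mem : ∀ u : E, (u : G) ^ e ∈ K0 := fun u => ⟨u, rfl⟩
  have hK0E : K0 ≤ E := by
    rintro k ⟨u, rfl⟩
    exact E.pow_mem u.2 e
  have hK0reg : ∀ k ∈ K0, ¬ p ∣ orderOf k := by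
    rintro k ⟨u, rfl⟩
    exact he0 (u : G)
  have hK0card : ¬ p ∣ Nat.card K0 := by
    intro hdvd
    obtain ⟨k, hk⟩ := exists_prime_orderOf_dvd_card' p hdvd
    have h1 := hK0reg (k : G) k.2
    rw [Subgroup.orderOf_coe, hk] at h1
    exact h1 dvd_rfl
  have hK0nil : Group.IsNilpotent K0 :=
    Group.nilpotent_of_surjective φ.rangeRestrict φ.rangeRestrict_surjective
  have hK0sol : Group.IsSolvable K0 := inferInstance
  -- `E` normalises `K0`
  have hK0conj : ∀ a ∈ E, ∀ b ∈ K0, a * b * a⁻¹ ∈ K0 := by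
    rintro a ha b ⟨u, rfl⟩
    have h1 : a * (u : G) * a⁻¹ ∈ E := E.mul_mem (E.mul_mem ha u.2) (E.inv_mem ha)
    have h2 : a * (u : G) ^ e * a⁻¹ = (a * (u : G) * a⁻¹) ^ e := (conj_pow (i := e)).symm
    show a * (u : G) ^ e * a⁻¹ ∈ K0
    rw [h2]
    exact hK0mem ⟨_, h1⟩
  refine ⟨K0 ⊔ N, le_sup_right, sup_le (hK0E.trans le_sup_left) le_sup_right, ?_, ?_, ?_, ?_⟩
  · -- normality in `E ⊔ N`
    have hE' : ∀ a ∈ E, ∀ b ∈ K0 ⊔ N, a * b * a⁻¹ ∈ K0 ⊔ N := by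
      intro a ha b hb
      rw [← SetLike.mem_coe, Subgroup.mul_normal] at hb
      obtain ⟨k, hk, n, hn, rfl⟩ := Set.mem_mul.1 hb
      have h1 : a * (k * n) * a⁻¹ = (a * k * a⁻¹) * (a * n * a⁻¹) := by group
      rw [h1]
      exact (K0 ⊔ N).mul_mem (Subgroup.mem_sup_left (hK0conj a ha k hk))
        (Subgroup.mem_sup_right (Subgroup.Normal.conj_mem inferInstance n hn a))
    intro a ha b hb
    rw [← SetLike.mem_coe, Subgroup.mul_normal] at ha
    obtain ⟨u, hu, n, hn, rfl⟩ := Set.mem_mul.1 ha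
    have h1 : u * n * b * (u * n)⁻¹ = u * (n * b * n⁻¹) * u⁻¹ := by group
    rw [h1]
    apply hE' u hu
    exact (K0 ⊔ N).mul_mem ((K0 ⊔ N).mul_mem (Subgroup.mem_sup_right hn) hb)
      ((K0 ⊔ N).inv_mem (Subgroup.mem_sup_right hn))
  · rw [Subgroup.relIndex_sup_right]
    intro h
    exact hK0card (dvd_trans h (Subgroup.relIndex_dvd_card N K0))
  · -- `p`-power index
    have hKH : K0 ⊔ N ≤ E ⊔ N := sup_le (hK0E.trans le_sup_left) le_sup_right
    have hconj : ∀ a ∈ E ⊔ N, ∀ b ∈ K0 ⊔ N, a * b * a⁻¹ ∈ K0 ⊔ N := by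
      have hE' : ∀ a ∈ E, ∀ b ∈ K0 ⊔ N, a * b * a⁻¹ ∈ K0 ⊔ N := by
        intro a ha b hb
        rw [← SetLike.mem_coe, Subgroup.mul_normal] at hb
        obtain ⟨k, hk, n, hn, rfl⟩ := Set.mem_mul.1 hb
        have h1 : a * (k * n) * a⁻¹ = (a * k * a⁻¹) * (a * n * a⁻¹) := by group
        rw [h1]
        exact (K0 ⊔ N).mul_mem (Subgroup.mem_sup_left (hK0conj a ha k hk))
          (Subgroup.mem_sup_right (Subgroup.Normal.conj_mem inferInstance n hn a))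
      intro a ha b hb
      rw [← SetLike.mem_coe, Subgroup.mul_normal] at ha
      obtain ⟨u, hu, n, hn, rfl⟩ := Set.mem_mul.1 ha
      have h1 : u * n * b * (u * n)⁻¹ = u * (n * b * n⁻¹) * u⁻¹ := by group
      rw [h1]
      apply hE' u hu
      exact (K0 ⊔ N).mul_mem ((K0 ⊔ N).mul_mem (Subgroup.mem_sup_right hn) hb)
        ((K0 ⊔ N).inv_mem (Subgroup.mem_sup_right hn))
    have hnorm : ((K0 ⊔ N).subgroupOf (E ⊔ N)).Normal := by
      constructor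
      intro b hb a
      rw [Subgroup.mem_subgroupOf] at hb ⊢
      simpa using hconj (a : G) a.2 (b : G) hb
    have hpg : IsPGroup p (↥(E ⊔ N) ⧸ (K0 ⊔ N).subgroupOf (E ⊔ N)) := by
      intro x
      obtain ⟨h, rfl⟩ := QuotientGroup.mk_surjective x
      have hh := h.2
      rw [← SetLike.mem_coe, Subgroup.mul_normal] at hh
      obtain ⟨u, hu, n, hn, hun⟩ := Set.mem_mul.1 hh
      obtain ⟨k, hk⟩ := he3 u
      refine ⟨k, ?_⟩
      have hue : u ^ e ∈ E := E.pow_mem hu e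
      have hg0 : u * (u ^ e)⁻¹ ∈ E ⊔ N :=
        Subgroup.mem_sup_left (E.mul_mem hu (E.inv_mem hue))
      have heq : (QuotientGroup.mk h : ↥(E ⊔ N) ⧸ (K0 ⊔ N).subgroupOf (E ⊔ N))
          = QuotientGroup.mk (⟨u * (u ^ e)⁻¹, hg0⟩ : ↥(E ⊔ N)) := by
        rw [QuotientGroup.eq, Subgroup.mem_subgroupOf]
        have h1 : (((h⁻¹ * ⟨u * (u ^ e)⁻¹, hg0⟩ : ↥(E ⊔ N))) : G)
            = (n⁻¹ * (u ^ e)⁻¹ * n) * n⁻¹ := by
          rw [Subgroup.coe_mul, Subgroup.coe_inv, Subgroup.coe_mk, ← hun]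
          group
        rw [h1]
        have h2 : (u ^ e)⁻¹ ∈ K0 ⊔ N :=
          (K0 ⊔ N).inv_mem (Subgroup.mem_sup_left (hK0mem ⟨u, hu⟩))
        have h3 : n⁻¹ * (u ^ e)⁻¹ * n ∈ K0 ⊔ N := by
          have := hconj n⁻¹ (Subgroup.mem_sup_right (N.inv_mem hn)) _ h2
          simpa using this
        exact (K0 ⊔ N).mul_mem h3 ((K0 ⊔ N).inv_mem (Subgroup.mem_sup_right hn))
      rw [heq, ← QuotientGroup.mk_pow]
      have h1 : (⟨u * (u ^ e)⁻¹, hg0⟩ : ↥(E ⊔ N)) ^ p ^ k = 1 := by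
        apply Subtype.ext
        rw [Subgroup.coe_pow, Subgroup.coe_mk, Subgroup.coe_one, ← hk]
        exact pow_orderOf_eq_one _
      rw [h1, QuotientGroup.mk_one]
    obtain ⟨a, ha⟩ := IsPGroup.iff_card.1 hpg
    refine ⟨a, ?_⟩
    rw [← ha]
    exact Subgroup.index_eq_card _
  · have h1 : Group.IsSolvable (↥K0 ⧸ N.subgroupOf K0) := inferInstance
    exact Group.isSolvable_of_surjective
      (f := (QuotientGroup.quotientInfEquivProdNormalQuotient K0 N).toMonoidHom)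
      (QuotientGroup.quotientInfEquivProdNormalQuotient K0 N).surjective

end Cfsg.Agent.Lib.H15.NT
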