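import Mathlib
import Cfsg.Prelude.Def_Sporadic_a
import Cfsg.Agent.Lib.H28.Steiner
import Cfsg.Agent.Lib.H28.GolayConcrete

/-!
S1572 step 3, sub-lemma of (CNTB): there are exactly 77 octads through two given points.
-/

set_option autoImplicit false

namespace Cfsg.Agent.Lib.H15.NX

open Cfsg Finset Cfsg.Agent.Lib.H28

/-- the number of octads through two distinct points is `77` (`λ₂ * C(6,3) = C(22,3)`) -/
theorem card_blocksF_octads_through (p q : GolayPt) (hpq : p ≠ q) :
    ((blocksF octads).filter (({p, q} : Finset GolayPt) ⊆ ·)).card = 77 := by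
  have h := steiner_count octads_isSteinerSystem ({p, q} : Finset GolayPt)
    (by rw [Finset.card_pair hpq]; norm_num)
  rw [Finset.card_pair hpq] at h
  have hcard : Fintype.card GolayPt = 24 := by
    rw [Fintype.card_option, ZMod.card]
  rw [hcard] at h
  have h1 : Nat.choose (8 - 2) (5 - 2) = 20 := by decide
  have h2 : Nat.choose (24 - 2) (5 - 2) = 1540 := by decide
  rw [h1, h2] at h
  omega

/-- instance-generic `Finset.filter` form -/
theorem card_octads_through (p q : GolayPt) (hpq : p ≠ q)
    [DecidablePred fun O : Finset GolayPt => O ∈ octads ∧ p ∈ O ∧ q ∈ O] :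
    ((Finset.univ : Finset (Finset GolayPt)).filter
      fun O => O ∈ octads ∧ p ∈ O ∧ q ∈ O).card = 77 := by
  rw [← card_blocksF_octads_through p q hpq]
  congr 1
  ext O
  simp only [Finset.mem_filter, Finset.mem_univ, true_and, mem_blocksF, Finset.insert_subset_iff,
    Finset.singleton_subset_iff]

/-- `Set.ncard` form -/
theorem ncard_octads_through (p q : GolayPt) (hpq : p ≠ q) :
    {O : Finset GolayPt | O ∈ octads ∧ p ∈ O ∧ q ∈ O}.ncard = 77 := by
  classical
  rw [← card_octads_through p q hpq, ← Set.ncard_coe_finset]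
  congr 1
  ext O
  simp

end Cfsg.Agent.Lib.H15.NX
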