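import Mathlib
import Cfsg.Agent.Lib.H15.Nat2

/-!
helper15 library: quadratic irreducible `SL₂(F)`-modules, part 2: the relations
`D_t E_{-1/t} = -1`, the field action `μ_a = D_a E_1` on `M₀`, and `E_t = E_1 μ_t`.
-/

set_option autoImplicit false

namespace Cfsg.Agent.Lib.H15.Nat

open Matrix Cfsg.Agent.Lib.H2.SL2

variable {F : Type*} [Field F] {M : Type*} [AddCommGroup M]
variable (α : SpecialLinearGroup (Fin 2) F →* AddMonoid.End M)
variable (hirr : ∀ N : AddSubgroup M, (∀ g, ∀ m ∈ N, α g m ∈ N) → N = ⊥ ∨ N = ⊤)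
variable (hnt : ∃ g m, α g m ≠ m)
variable (hQ : ∀ s t m, α (uSL s) (Dm α t m) = Dm α t m)

include hQ in
lemma Dm_mem (t : F) (m : M) : Dm α t m ∈ fixU α := fun s => hQ s t m

include hQ in
lemma Em_mem (t : F) (m : M) : Em α t m ∈ fixL α := by
  have h1 : (1 : F) ≠ 0 := one_ne_zero
  have hm : m = α (nSL 1) (α (nSL 1)⁻¹ m) := (act_act_inv α _ m).symm
  have h2 : α (lSL t) m = α (nSL 1) (α (uSL (-t * 1 ^ 2)) (α (nSL 1)⁻¹ m)) := by
    conv_lhs => rw [hm]
    rw [← act_mul, lSL_mul_nSL h1, act_mul]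
  have h3 : Em α t m = α (nSL 1) (Dm α (-t * 1 ^ 2) (α (nSL 1)⁻¹ m)) := by
    unfold Em Dm
    rw [map_sub, ← h2, act_act_inv]
  rw [h3]
  exact nSL_fixU α h1 (Dm_mem α hQ _ _)

include hQ in
lemma Dm_add_param (s t : F) (m : M) : Dm α (s + t) m = Dm α s m + Dm α t m := by
  have h1 : α (uSL (s + t)) m = α (uSL s) m + Dm α t m := by
    rw [uSL_add, act_mul, uSL_act α t m, map_add, hQ]
  unfold Dm at *
  rw [h1]; abel

include hQ in
lemma Em_add_param (s t : F) (m : M) : Em α (s + t) m = Em α s m + Em α t m := by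
  have h1 : α (lSL (s + t)) m = α (lSL s) m + Em α t m := by
    rw [lSL_add, act_mul, lSL_act α t m, map_add, (Em_mem α hQ t m) s]
  unfold Em at *
  rw [h1]; abel

include hirr hnt hQ in
lemma sup_eq_top : fixU α ⊔ fixL α = ⊤ := by
  have hu : ∀ t, ∀ m ∈ fixU α ⊔ fixL α, α (uSL t) m ∈ fixU α ⊔ fixL α := by
    intro t m hm
    obtain ⟨a, ha, b, hb, rfl⟩ := AddSubgroup.mem_sup.mp hm
    rw [map_add, ha t, uSL_act α t b, ← add_assoc]
    refine AddSubgroup.add_mem _ (AddSubgroup.add_mem _ ?_ ?_) ?_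
    · exact AddSubgroup.mem_sup_left ha
    · exact AddSubgroup.mem_sup_right hb
    · exact AddSubgroup.mem_sup_left (Dm_mem α hQ t b)
  have hl : ∀ t, ∀ m ∈ fixU α ⊔ fixL α, α (lSL t) m ∈ fixU α ⊔ fixL α := by
    intro t m hm
    obtain ⟨a, ha, b, hb, rfl⟩ := AddSubgroup.mem_sup.mp hm
    rw [map_add, hb t, lSL_act α t a]
    refine AddSubgroup.add_mem _ (AddSubgroup.add_mem _ ?_ ?_) ?_
    · exact AddSubgroup.mem_sup_left ha
    · exact AddSubgroup.mem_sup_right (Em_mem α hQ t a)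
    · exact AddSubgroup.mem_sup_right hb
  rcases hirr (fixU α ⊔ fixL α) (inv_of_gens α _ hu hl) with h | h
  · exfalso
    have h0 : fixU α = ⊥ := by
      rw [eq_bot_iff, ← h]; exact le_sup_left
    obtain ⟨g, m, hgm⟩ := hnt
    have hm : ∀ m : M, m = 0 := by
      intro m
      have h1 : m ∈ fixU α := by
        intro t
        have := Dm_mem α hQ t m
        rw [h0, AddSubgroup.mem_bot] at this
        unfold Dm at this
        exact sub_eq_zero.mp this
      rw [h0] at h1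
      exact h1
    apply hgm
    rw [hm m, map_zero]
  · exact h

include hirr hnt hQ in
lemma decomp (m : M) : ∃ a ∈ fixU α, ∃ b ∈ fixL α, m = a + b := by
  have : m ∈ fixU α ⊔ fixL α := by rw [sup_eq_top α hirr hnt hQ]; trivial
  obtain ⟨a, ha, b, hb, h⟩ := AddSubgroup.mem_sup.mp this
  exact ⟨a, ha, b, hb, h.symm⟩

include hirr hnt hQ in
/-- (R1) -/
lemma rel1 {t : F} (ht : t ≠ 0) {m : M} (hm : m ∈ fixU α) :
    Dm α t (Em α (-t⁻¹) m) = -m ∧ α (nSL t) m = Em α (-t⁻¹) m := by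
  set e := Em α (-t⁻¹) m with he
  have h1 : α (nSL t) m = (m + Dm α t e) + e := by
    unfold nSL
    rw [act_mul, act_mul, hm t, lSL_act α (-t⁻¹) m, ← he, uSL_act α t (m + e), Dm_add,
      Dm_of_mem α hm, zero_add]
    abel
  have h2 : α (nSL t) m ∈ fixL α := nSL_fixU α ht hm
  have h3 : m + Dm α t e ∈ fixL α := by
    have := AddSubgroup.sub_mem _ h2 (Em_mem α hQ (-t⁻¹) m)
    rw [h1, ← he, add_sub_cancel_right] at this
    exact this
  have h4 : m + Dm α t e ∈ fixU α := AddSubgroup.add_mem _ hm (Dm_mem α hQ t e)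
  have h5 := eq_zero_of_mem_both α hirr hnt h4 h3
  constructor
  · exact (neg_eq_of_add_eq_zero_right h5).symm
  · rw [h1, h5, zero_add]

include hirr hnt hQ in
/-- (R2) -/
lemma rel2 {t : F} (ht : t ≠ 0) {b : M} (hb : b ∈ fixL α) :
    Em α (-t⁻¹) (Dm α t b) = -b ∧ α (nSL t) b = Dm α t b := by
  set d := Dm α t b with hd
  set e' := Em α (-t⁻¹) d with he'
  have hdU : d ∈ fixU α := Dm_mem α hQ t b
  have h1 : α (nSL t) b = (d + d + Dm α t e') + (b + e') := by
    unfold nSL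
    rw [act_mul, act_mul, uSL_act α t b, ← hd, map_add, hb (-t⁻¹), lSL_act α (-t⁻¹) d, ← he',
      uSL_act α t (b + (d + e')), Dm_add, Dm_add, ← hd, Dm_of_mem α hdU, zero_add]
    abel
  have h2 : α (nSL t) b ∈ fixU α := nSL_fixL α ht hb
  have h3 : d + d + Dm α t e' ∈ fixU α :=
    AddSubgroup.add_mem _ (AddSubgroup.add_mem _ hdU hdU) (Dm_mem α hQ t e')
  have h4 : b + e' ∈ fixU α := by
    have := AddSubgroup.sub_mem _ h2 h3
    rw [h1, add_sub_cancel_left] at this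
    exact this
  have h5 : b + e' ∈ fixL α := AddSubgroup.add_mem _ hb (Em_mem α hQ _ d)
  have h6 := eq_zero_of_mem_both α hirr hnt h4 h5
  have h7 : e' = -b := (neg_eq_of_add_eq_zero_right h6).symm
  constructor
  · exact h7
  · rw [h1, h6, add_zero, h7, Dm_neg, ← hd]
    abel

/-- the field action on `M₀`. -/
def mu (t : F) (m : M) : M := Dm α t (Em α 1 m)

include hQ in
lemma mu_mem (t : F) (m : M) : mu α t m ∈ fixU α := Dm_mem α hQ _ _

include hQ in
lemma mu_add_param (s t : F) (m : M) : mu α (s + t) m = mu α s m + mu α t m :=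
  Dm_add_param α hQ s t _

lemma mu_add (t : F) (m m' : M) : mu α t (m + m') = mu α t m + mu α t m' := by
  unfold mu; rw [Em_add, Dm_add]

lemma mu_zero (m : M) : mu α 0 m = 0 := Dm_zero α _

lemma mu_zero_arg (t : F) : mu α t (0 : M) = 0 := by
  unfold mu; rw [Em_zero_arg, Dm_zero_arg]

include hirr hnt hQ in
lemma hSL_act {a : F} (ha : a ≠ 0) {m : M} (hm : m ∈ fixU α) : α (hSL a) m = mu α a m := by
  have h1 : (-1 : F) ≠ 0 := by simp
  unfold hSL
  rw [act_mul, (rel1 α hirr hnt hQ h1 hm).2]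
  have h2 : -(-1 : F)⁻¹ = 1 := by simp
  rw [h2, (rel2 α hirr hnt hQ ha (Em_mem α hQ 1 m)).2]
  rfl

include hirr hnt hQ in
lemma mu_one {m : M} (hm : m ∈ fixU α) : mu α 1 m = m := by
  rw [← hSL_act α hirr hnt hQ one_ne_zero hm, hSL_one, act_one]

include hirr hnt hQ in
lemma mu_mul (a b : F) {m : M} (hm : m ∈ fixU α) : mu α (a * b) m = mu α a (mu α b m) := by
  by_cases ha : a = 0
  · subst ha; rw [zero_mul, mu_zero, mu_zero]
  by_cases hb : b = 0
  · subst hb; rw [mul_zero, mu_zero, mu_zero_arg]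
  rw [← hSL_act α hirr hnt hQ (mul_ne_zero ha hb) hm, hSL_mul ha hb, act_mul,
    hSL_act α hirr hnt hQ hb hm, hSL_act α hirr hnt hQ ha (mu_mem α hQ b m)]

include hirr hnt hQ in
lemma mu_neg_one {m : M} (hm : m ∈ fixU α) : mu α (-1) m = -m := by
  have h := mu_add_param α hQ (-1) 1 m
  rw [neg_add_cancel, mu_zero, mu_one α hirr hnt hQ hm] at h
  exact (neg_eq_of_add_eq_zero_left h.symm).symm

include hirr hnt hQ in
/-- (R3) `E_t = E_1 μ_t` on `M₀`. -/
lemma rel3 (t : F) {m : M} (hm : m ∈ fixU α) : Em α t m = Em α 1 (mu α t m) := by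
  by_cases ht : t = 0
  · subst ht; rw [Em_zero, mu_zero, Em_zero_arg]
  have ht' : -t⁻¹ ≠ 0 := neg_ne_zero.mpr (inv_ne_zero ht)
  have hinv : -(-t⁻¹)⁻¹ = t := by
    rw [inv_neg, inv_inv, neg_neg]
  set z := Em α t m - Em α 1 (mu α t m) with hz
  have hzL : z ∈ fixL α := AddSubgroup.sub_mem _ (Em_mem α hQ _ _) (Em_mem α hQ _ _)
  have h1 : Dm α (-t⁻¹) (Em α t m) = -m := by
    have := (rel1 α hirr hnt hQ ht' hm).1
    rwa [hinv] at this
  have h2 : Dm α (-t⁻¹) (Em α 1 (mu α t m)) = -m := by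
    change mu α (-t⁻¹) (mu α t m) = -m
    rw [← mu_mul α hirr hnt hQ _ _ hm]
    have : -t⁻¹ * t = -1 := by
      rw [neg_mul, inv_mul_cancel₀ ht]
    rw [this, mu_neg_one α hirr hnt hQ hm]
  have h3 : Dm α (-t⁻¹) z = 0 := by
    rw [hz, sub_eq_add_neg, Dm_add, Dm_neg, h1, h2]; abel
  have h4 := (rel2 α hirr hnt hQ ht' hzL).1
  rw [h3, Em_zero_arg] at h4
  have hz0 : z = 0 := by
    have := neg_eq_zero.mp h4.symm
    exact this
  exact sub_eq_zero.mp hz0

end Cfsg.Agent.Lib.H15.Nat
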