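import Mathlib
import Cfsg.Agent.Lib.H15.Nat3

/-!
helper15 library: quadratic irreducible `SL₂(F)`-modules, part 3: the equivariant isomorphism
with the natural module.
-/

set_option autoImplicit false

namespace Cfsg.Agent.Lib.H15.Nat

open Matrix Cfsg.Agent.Lib.H2.SL2

variable {F : Type*} [Field F] {M : Type*} [AddCommGroup M]
variable (α : SpecialLinearGroup (Fin 2) F →* AddMonoid.End M)
variable (hirr : ∀ N : AddSubgroup M, (∀ g, ∀ m ∈ N, α g m ∈ N) → N = ⊥ ∨ N = ⊤)
variable (hnt : ∃ g m, α g m ≠ m)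
variable (hQ : ∀ s t m, α (uSL s) (Dm α t m) = Dm α t m)

/-- the parametrisation of `M` by `F²`. -/
def Phi (e : M) (v : Fin 2 → F) : M := mu α (v 0) e + Em α 1 (mu α (v 1) e)

include hQ in
lemma Phi_add (e : M) (v w : Fin 2 → F) : Phi α e (v + w) = Phi α e v + Phi α e w := by
  unfold Phi
  rw [Pi.add_apply, Pi.add_apply, mu_add_param α hQ, mu_add_param α hQ, Em_add]
  abel

lemma uSL_mulVec (t : F) (v : Fin 2 → F) :
    ((uSL t : SpecialLinearGroup (Fin 2) F) : Matrix (Fin 2) (Fin 2) F).mulVec v =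
      ![v 0 + t * v 1, v 1] := by
  ext i
  fin_cases i <;> simp [uSL_val, Matrix.mulVec, dotProduct, Fin.sum_univ_two]

lemma lSL_mulVec (t : F) (v : Fin 2 → F) :
    ((lSL t : SpecialLinearGroup (Fin 2) F) : Matrix (Fin 2) (Fin 2) F).mulVec v =
      ![v 0, t * v 0 + v 1] := by
  ext i
  fin_cases i <;> simp [lSL_val, Matrix.mulVec, dotProduct, Fin.sum_univ_two]

include hirr hnt hQ in
lemma Phi_uSL {e : M} (he : e ∈ fixU α) (t : F) (v : Fin 2 → F) :
    α (uSL t) (Phi α e v) =
      Phi α e (((uSL t : SpecialLinearGroup (Fin 2) F) : Matrix (Fin 2) (Fin 2) F).mulVec v) := by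
  rw [uSL_mulVec]
  unfold Phi
  simp only [Matrix.cons_val_zero, Matrix.cons_val_one]
  rw [map_add, (mu_mem α hQ (v 0) e) t, uSL_act α t (Em α 1 (mu α (v 1) e)),
    mu_add_param α hQ, mu_mul α hirr hnt hQ t (v 1) he]
  change _ + (_ + mu α t (mu α (v 1) e)) = _
  abel

include hirr hnt hQ in
lemma Phi_lSL {e : M} (he : e ∈ fixU α) (t : F) (v : Fin 2 → F) :
    α (lSL t) (Phi α e v) =
      Phi α e (((lSL t : SpecialLinearGroup (Fin 2) F) : Matrix (Fin 2) (Fin 2) F).mulVec v) := by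
  rw [lSL_mulVec]
  unfold Phi
  simp only [Matrix.cons_val_zero, Matrix.cons_val_one]
  rw [map_add, (Em_mem α hQ 1 _) t, lSL_act α t (mu α (v 0) e),
    rel3 α hirr hnt hQ t (mu_mem α hQ (v 0) e), mu_add_param α hQ, Em_add,
    mu_mul α hirr hnt hQ t (v 0) he]
  abel

include hirr hnt hQ in
lemma Phi_equivariant {e : M} (he : e ∈ fixU α) (g : SpecialLinearGroup (Fin 2) F) :
    ∀ v : Fin 2 → F, α g (Phi α e v) =
      Phi α e ((g : Matrix (Fin 2) (Fin 2) F).mulVec v) := by
  refine sl2_induction (fun g => ∀ v : Fin 2 → F, α g (Phi α e v) =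
      Phi α e ((g : Matrix (Fin 2) (Fin 2) F).mulVec v)) (Phi_uSL α hirr hnt hQ he)
    (Phi_lSL α hirr hnt hQ he) ?_ g
  intro A B hA hB v
  rw [act_mul, hB, hA, Matrix.mulVec_mulVec]
  rfl

include hirr hnt hQ in
lemma exists_ne_zero_fixU : ∃ e ∈ fixU α, e ≠ 0 := by
  by_contra hcon
  push Not at hcon
  obtain ⟨g, m, hgm⟩ := hnt
  have hm : ∀ m : M, m = 0 := by
    intro m
    apply hcon
    intro t
    have := hcon _ (Dm_mem α hQ t m)
    unfold Dm at this
    exact sub_eq_zero.mp this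
  apply hgm
  rw [hm m, map_zero]

include hirr hnt hQ in
lemma Phi_injective {e : M} (he : e ∈ fixU α) (he0 : e ≠ 0) (v : Fin 2 → F)
    (hv : Phi α e v = 0) : v = 0 := by
  unfold Phi at hv
  have h1 : mu α (v 0) e ∈ fixU α := mu_mem α hQ _ _
  have h2 : Em α 1 (mu α (v 1) e) ∈ fixL α := Em_mem α hQ _ _
  have h3 : mu α (v 0) e = -Em α 1 (mu α (v 1) e) := eq_neg_of_add_eq_zero_left hv
  have h4 : mu α (v 0) e = 0 :=
    eq_zero_of_mem_both α hirr hnt h1 (by rw [h3]; exact AddSubgroup.neg_mem _ h2)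
  have h5 : Em α 1 (mu α (v 1) e) = 0 := by
    rw [h4, zero_add] at hv; exact hv
  have hne : ∀ a : F, mu α a e = 0 → a = 0 := by
    intro a ha
    by_contra ha0
    apply he0
    have := mu_mul α hirr hnt hQ a⁻¹ a he
    rw [inv_mul_cancel₀ ha0, mu_one α hirr hnt hQ he, ha, mu_zero_arg] at this
    exact this
  have h6 : mu α (v 1) e = 0 := by
    have h1' : (-1 : F) ≠ 0 := by simp
    have := (rel1 α hirr hnt hQ h1' (mu_mem α hQ (v 1) e)).1
    have h2' : -(-1 : F)⁻¹ = 1 := by simp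
    rw [h2', h5, Dm_zero_arg] at this
    exact neg_eq_zero.mp this.symm
  ext i
  fin_cases i
  · exact hne _ h4
  · exact hne _ h6

include hirr hnt hQ in
/-- an irreducible nontrivial `SL₂(F)`-module on which the unitriangular group acts
quadratically is the natural module. -/
theorem natural_of_quadratic :
    ∃ ψ : M ≃+ (Fin 2 → F), ∀ (g : SpecialLinearGroup (Fin 2) F) (m : M),
      ψ (α g m) = (g : Matrix (Fin 2) (Fin 2) F).mulVec (ψ m) := by
  obtain ⟨e, he, he0⟩ := exists_ne_zero_fixU α hirr hnt hQ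
  let Φ : (Fin 2 → F) →+ M :=
    { toFun := Phi α e
      map_zero' := by
        unfold Phi
        simp [mu_zero, Em_zero_arg]
      map_add' := Phi_add α hQ e }
  have hinj : Function.Injective Φ := by
    rw [injective_iff_map_eq_zero]
    intro v hv
    exact Phi_injective α hirr hnt hQ he he0 v hv
  have hsurj : Function.Surjective Φ := by
    have hr : Φ.range = ⊤ := by
      rcases hirr Φ.range (by
        rintro g m ⟨v, rfl⟩
        exact ⟨_, (Phi_equivariant α hirr hnt hQ he g v).symm⟩) with h | h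
      · exfalso
        apply he0
        have h1 : e ∈ Φ.range := by
          refine ⟨![1, 0], ?_⟩
          change Phi α e ![1, 0] = e
          unfold Phi
          simp only [Matrix.cons_val_zero, Matrix.cons_val_one]
          rw [mu_one α hirr hnt hQ he, mu_zero, Em_zero_arg, add_zero]
        rw [h] at h1
        exact h1
      · exact h
    intro m
    have : m ∈ Φ.range := by rw [hr]; trivial
    exact this
  refine ⟨(AddEquiv.ofBijective Φ ⟨hinj, hsurj⟩).symm, ?_⟩
  intro g m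
  obtain ⟨v, rfl⟩ := hsurj m
  rw [AddEquiv.symm_apply_eq]
  change _ = Φ _
  rw [show (AddEquiv.ofBijective Φ ⟨hinj, hsurj⟩).symm (Φ v) = v from
    (AddEquiv.ofBijective Φ ⟨hinj, hsurj⟩).symm_apply_apply v]
  exact Phi_equivariant α hirr hnt hQ he g v

end Cfsg.Agent.Lib.H15.Nat
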