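import Mathlib
import Cfsg.Agent.Lib.H15.Nat4
import Cfsg.Agent.Lib.H15.Nat5

/-!
helper15 library: an irreducible `SL₂(F)`-module `M` with `|M| ≤ |C_M(U)|²` is quadratic.
-/

set_option autoImplicit false

namespace Cfsg.Agent.Lib.H15.Nat

open Matrix Cfsg.Agent.Lib.H2.SL2

variable {F : Type*} [Field F] {M : Type*} [AddCommGroup M]
variable (α : SpecialLinearGroup (Fin 2) F →* AddMonoid.End M)

lemma act_injective (g : SpecialLinearGroup (Fin 2) F) : Function.Injective (α g) := by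
  intro a b h
  have := congrArg (α g⁻¹) h
  rwa [act_inv_act, act_inv_act] at this

/-- `h(a)` preserves `M₀`. -/
lemma hSL_fixU {a : F} (ha : a ≠ 0) {m : M} (hm : m ∈ fixU α) : α (hSL a) m ∈ fixU α := by
  intro t
  rw [← act_mul, uSL_mul_hSL ha, act_mul, hm]

/-- `h(a)` preserves `M∞`. -/
lemma hSL_fixL {a : F} (ha : a ≠ 0) {m : M} (hm : m ∈ fixL α) : α (hSL a) m ∈ fixL α := by
  intro t
  rw [← act_mul, lSL_mul_hSL ha, act_mul, hm]

lemma Dm_hSL {a : F} (ha : a ≠ 0) (t : F) (m : M) :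
    Dm α t (α (hSL a) m) = α (hSL a) (Dm α ((a ^ 2)⁻¹ * t) m) := by
  unfold Dm
  rw [map_sub, ← act_mul, uSL_mul_hSL ha, act_mul]

/-- the elements fixed by `U` modulo `M₀`. -/
def fixU2 : AddSubgroup M where
  carrier := {m | ∀ t, Dm α t m ∈ fixU α}
  zero_mem' := fun t => by rw [Dm_zero_arg]; exact AddSubgroup.zero_mem _
  add_mem' := fun {a b} ha hb t => by rw [Dm_add]; exact AddSubgroup.add_mem _ (ha t) (hb t)
  neg_mem' := fun {a} ha t => by rw [Dm_neg]; exact AddSubgroup.neg_mem _ (ha t)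

lemma fixU_le_fixU2 : fixU α ≤ fixU2 α := by
  intro m hm t
  rw [Dm_of_mem α hm]; exact AddSubgroup.zero_mem _

lemma hSL_fixU2 {a : F} (ha : a ≠ 0) {m : M} (hm : m ∈ fixU2 α) : α (hSL a) m ∈ fixU2 α := by
  intro t
  rw [Dm_hSL α ha]
  exact hSL_fixU α ha (hm _)

section finite
variable [Fintype F] [Finite M]
variable (hirr : ∀ N : AddSubgroup M, (∀ g, ∀ m ∈ N, α g m ∈ N) → N = ⊥ ∨ N = ⊤)
variable (hnt : ∃ g m, α g m ≠ m)

lemma card_fixL : Nat.card (fixL α) = Nat.card (fixU α) := by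
  have h1 : (1 : F) ≠ 0 := one_ne_zero
  apply le_antisymm
  · let f : fixL α → fixU α := fun m => ⟨α (nSL 1) m, nSL_fixL α h1 m.2⟩
    apply Nat.card_le_card_of_injective f
    intro a b hab
    apply Subtype.ext
    exact act_injective α _ (congrArg Subtype.val hab)
  · let f : fixU α → fixL α := fun m => ⟨α (nSL 1) m, nSL_fixU α h1 m.2⟩
    apply Nat.card_le_card_of_injective f
    intro a b hab
    apply Subtype.ext
    exact act_injective α _ (congrArg Subtype.val hab)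

include hirr hnt in
lemma decompB (hB : Nat.card M ≤ Nat.card (fixU α) ^ 2) (m : M) :
    ∃ a ∈ fixU α, ∃ b ∈ fixL α, m = a + b := by
  let f : fixU α × fixL α → M := fun x => (x.1 : M) + (x.2 : M)
  have hinj : Function.Injective f := by
    rintro ⟨a, b⟩ ⟨a', b'⟩ h
    change (a : M) + b = a' + b' at h
    have h1 : (a : M) - a' = b' - b := by
      rw [sub_eq_sub_iff_add_eq_add, h, add_comm]
    have h2 : (a : M) - a' ∈ fixU α := AddSubgroup.sub_mem _ a.2 a'.2
    have h3 : (a : M) - a' ∈ fixL α := by rw [h1]; exact AddSubgroup.sub_mem _ b'.2 b.2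
    have h4 := eq_zero_of_mem_both α hirr hnt h2 h3
    have h5 : (b' : M) - b = 0 := by rw [← h1, h4]
    ext
    · exact sub_eq_zero.mp h4
    · exact (sub_eq_zero.mp h5).symm
  have hcard : Nat.card M ≤ Nat.card (fixU α × fixL α) := by
    rw [Nat.card_prod, card_fixL, ← sq]; exact hB
  obtain ⟨⟨a, b⟩, hab⟩ := (hinj.bijective_of_nat_card_le hcard).2 m
  exact ⟨a, a.2, b, b.2, hab.symm⟩

end finite

end Cfsg.Agent.Lib.H15.Nat
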