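import Mathlib
import Cfsg.Agent.Lib.H15.Nat6

/-!
helper15 library: an irreducible `SL₂(F)`-module `M` with `|M| ≤ |C_M(U)|²` is quadratic
(part 2: the fixed point on `M / M₀` and the Bruhat argument).
-/

set_option autoImplicit false

namespace Cfsg.Agent.Lib.H15.Nat

open Matrix Cfsg.Agent.Lib.H2.SL2

variable {F : Type*} [Field F] [Fintype F] {M : Type*} [AddCommGroup M] [Finite M]
variable (α : SpecialLinearGroup (Fin 2) F →* AddMonoid.End M)

/-- `x(t)` as an additive homomorphism. -/
def uHomM (t : F) : M →+ M where
  toFun m := α (uSL t) m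
  map_zero' := map_zero _
  map_add' := map_add _

lemma uHomM_apply (t : F) (m : M) : uHomM α t m = α (uSL t) m := rfl

/-- a nontrivial fixed point of `U` on `M / M₀`. -/
lemma exists_fixU2 (p : ℕ) [Fact p.Prime] (n k : ℕ) (hF : Fintype.card F = p ^ n)
    (hM : Nat.card M = p ^ k) (hne : fixU α ≠ ⊤) : ∃ m ∈ fixU2 α, m ∉ fixU α := by
  have hle : ∀ t : F, fixU α ≤ (fixU α).comap (uHomM α t) := by
    intro t m hm
    rw [AddSubgroup.mem_comap]
    change α (uSL t) m ∈ fixU α
    rw [hm t]; exact hm
  letI : MulAction (Multiplicative F) (M ⧸ fixU α) :=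
    { smul := fun t q => QuotientAddGroup.map _ _ (uHomM α (Multiplicative.toAdd t))
        (hle _) q
      one_smul := by
        intro q
        induction q using QuotientAddGroup.induction_on with
        | H m =>
          change QuotientAddGroup.map _ _ (uHomM α (Multiplicative.toAdd 1)) (hle _)
            (m : M ⧸ fixU α) = _
          rw [QuotientAddGroup.map_mk]
          change ((α (uSL (0 : F)) m : M) : M ⧸ fixU α) = _
          rw [uSL_zero, act_one]
      mul_smul := by
        intro s t q
        induction q using QuotientAddGroup.induction_on with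
        | H m =>
          change QuotientAddGroup.map _ _ (uHomM α (Multiplicative.toAdd (s * t)))
            (hle _) (m : M ⧸ fixU α) =
            QuotientAddGroup.map _ _ (uHomM α (Multiplicative.toAdd s)) (hle _)
              (QuotientAddGroup.map _ _ (uHomM α (Multiplicative.toAdd t)) (hle _)
                (m : M ⧸ fixU α))
          rw [QuotientAddGroup.map_mk, QuotientAddGroup.map_mk, QuotientAddGroup.map_mk]
          change ((α (uSL (Multiplicative.toAdd s + Multiplicative.toAdd t)) m : M) :
            M ⧸ fixU α) = ((α (uSL (Multiplicative.toAdd s))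
              (α (uSL (Multiplicative.toAdd t)) m) : M) : M ⧸ fixU α)
          rw [uSL_add, act_mul] }
  have hsmul : ∀ (t : Multiplicative F) (m : M),
      t • (m : M ⧸ fixU α) = ((α (uSL (Multiplicative.toAdd t)) m : M) : M ⧸ fixU α) :=
    fun t m => rfl
  have hP : IsPGroup p (Multiplicative F) := by
    apply IsPGroup.of_card (n := n)
    rw [Nat.card_eq_fintype_card, Fintype.card_multiplicative, hF]
  have hcard : p ∣ Nat.card (M ⧸ fixU α) := by
    have h1 := AddSubgroup.card_eq_card_quotient_mul_card_addSubgroup (fixU α)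
    have h2 : Nat.card (M ⧸ fixU α) ∣ p ^ k := by
      rw [← hM, h1]; exact dvd_mul_right _ _
    obtain ⟨j, -, hj⟩ := (Nat.dvd_prime_pow (Fact.out : p.Prime)).1 h2
    rcases Nat.eq_zero_or_pos j with h0 | h0
    · exfalso
      apply hne
      rw [h0, pow_zero] at hj
      rw [← AddSubgroup.index_eq_one, AddSubgroup.index_eq_card, hj]
    · rw [hj]; exact dvd_pow_self p (by omega)
  have h0 : (0 : M ⧸ fixU α) ∈ MulAction.fixedPoints (Multiplicative F) (M ⧸ fixU α) := by
    intro t
    change t • ((0 : M) : M ⧸ fixU α) = _
    rw [hsmul, map_zero]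
    rfl
  obtain ⟨q, hq, hq0⟩ := hP.exists_fixed_point_of_prime_dvd_card_of_fixed_point _ hcard h0
  induction q using QuotientAddGroup.induction_on with
  | H m =>
    refine ⟨m, ?_, ?_⟩
    · intro t
      have := hq (Multiplicative.ofAdd t)
      rw [hsmul, toAdd_ofAdd, QuotientAddGroup.eq] at this
      unfold Dm
      have h2 := AddSubgroup.neg_mem _ this
      rw [neg_add, neg_neg] at h2
      rw [sub_eq_add_neg]
      exact h2
    · intro hm
      apply hq0
      exact ((QuotientAddGroup.eq_zero_iff m).2 hm).symm

end Cfsg.Agent.Lib.H15.Nat
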