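import Mathlib
import Cfsg.Agent.Lib.H15.Nat7

/-!
helper15 library: an irreducible `SL₂(F)`-module `M` with `|M| ≤ |C_M(U)|²` is quadratic
(part 3), and the combined recognition theorem of the natural module.
-/

set_option autoImplicit false

namespace Cfsg.Agent.Lib.H15.Nat

open Matrix Cfsg.Agent.Lib.H2.SL2

variable {F : Type*} [Field F] [Fintype F] {M : Type*} [AddCommGroup M] [Finite M]
variable (α : SpecialLinearGroup (Fin 2) F →* AddMonoid.End M)
variable (hirr : ∀ N : AddSubgroup M, (∀ g, ∀ m ∈ N, α g m ∈ N) → N = ⊥ ∨ N = ⊤)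
variable (hnt : ∃ g m, α g m ≠ m)

/-- the action of `g` as an additive homomorphism. -/
def actHom (g : SpecialLinearGroup (Fin 2) F) : M →+ M where
  toFun m := α g m
  map_zero' := map_zero _
  map_add' := map_add _

include hirr hnt in
theorem quadratic_of_card (p : ℕ) [Fact p.Prime] (n k : ℕ) (hF : Fintype.card F = p ^ n)
    (hM : Nat.card M = p ^ k) (hB : Nat.card M ≤ Nat.card (fixU α) ^ 2) :
    ∀ (s t : F) (m : M), α (uSL s) (Dm α t m) = Dm α t m := by
  have h1 : (1 : F) ≠ 0 := one_ne_zero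
  by_cases hne : fixU α = ⊤
  · intro s t m
    have hm : m ∈ fixU α := by rw [hne]; trivial
    rw [Dm_of_mem α hm, map_zero]
  -- a nonzero element of Z
  obtain ⟨m, hm2, hmU⟩ := exists_fixU2 α p n k hF hM hne
  obtain ⟨a, ha, b, hb, hab⟩ := decompB α hirr hnt hB m
  have hb2 : b ∈ fixU2 α := by
    have : b = m - a := by rw [hab]; abel
    rw [this]
    exact AddSubgroup.sub_mem _ hm2 (fixU_le_fixU2 α ha)
  have hb0 : b ≠ 0 := by
    intro h0
    apply hmU
    rw [hab, h0, add_zero]; exact ha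
  -- Z and Y₀
  have hZH : ∀ {a : F}, a ≠ 0 → ∀ {z : M}, z ∈ fixU2 α ⊓ fixL α →
      α (hSL a) z ∈ fixU2 α ⊓ fixL α := by
    intro a ha z hz
    exact ⟨hSL_fixU2 α ha hz.1, hSL_fixL α ha hz.2⟩
  let Y₀ : AddSubgroup M := (fixU2 α ⊓ fixL α).comap (actHom α (nSL 1))
  have hY₀ : ∀ y, y ∈ Y₀ ↔ α (nSL 1) y ∈ fixU2 α ⊓ fixL α := fun y => Iff.rfl
  have hY₀U : ∀ y ∈ Y₀, y ∈ fixU α := by
    intro y hy t
    apply act_injective α (nSL 1)
    have hrel : nSL (1 : F) * uSL t = lSL (-t) * nSL 1 := by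
      rw [lSL_mul_nSL h1]; congr 2; ring
    rw [← act_mul, hrel, act_mul, ((hY₀ y).1 hy).2 (-t)]
  have hY₀H : ∀ {a : F}, a ≠ 0 → ∀ y ∈ Y₀, α (hSL a) y ∈ Y₀ := by
    intro a ha y hy
    rw [hY₀, ← act_mul, nSL_one_mul_hSL ha, act_mul]
    exact hZH (inv_ne_zero ha) ((hY₀ y).1 hy)
  -- the G-span of Y₀
  let N : AddSubgroup M := AddSubgroup.closure {x | ∃ g, ∃ y ∈ Y₀, x = α g y}
  have hNinv : ∀ g, ∀ x ∈ N, α g x ∈ N := by
    intro g x hx
    induction hx using AddSubgroup.closure_induction with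
    | mem x hx =>
      obtain ⟨g', y, hy, rfl⟩ := hx
      apply AddSubgroup.subset_closure
      exact ⟨g * g', y, hy, (act_mul α g g' y).symm⟩
    | zero => rw [map_zero]; exact AddSubgroup.zero_mem _
    | add x y _ _ hx hy => rw [map_add]; exact AddSubgroup.add_mem _ hx hy
    | neg x _ hx => rw [map_neg]; exact AddSubgroup.neg_mem _ hx
  have hy₀ : α (nSL 1)⁻¹ b ∈ Y₀ := by
    rw [hY₀, act_act_inv]; exact ⟨hb2, hb⟩
  have hNtop : N = ⊤ := by
    rcases hirr N hNinv with h | h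
    · exfalso
      have h2 : α (nSL 1)⁻¹ b ∈ N :=
        AddSubgroup.subset_closure ⟨1, _, hy₀, (act_one α _).symm⟩
      rw [h, AddSubgroup.mem_bot] at h2
      apply hb0
      have := congrArg (α (nSL 1)) h2
      rwa [act_act_inv, map_zero] at this
    · exact h
  have hNle : N ≤ fixU α ⊔ (fixU2 α ⊓ fixL α) := by
    apply (AddSubgroup.closure_le _).2
    rintro x ⟨g, y, hy, rfl⟩
    rcases bruhat g with ⟨s, a, ha, rfl⟩ | ⟨s, s', a, ha, rfl⟩
    · rw [act_mul, hY₀U _ (hY₀H ha y hy) s]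
      exact AddSubgroup.mem_sup_left (hY₀U _ (hY₀H ha y hy))
    · rw [act_mul, act_mul, act_mul, hY₀U _ (hY₀H ha y hy) s']
      have hz := (hY₀ _).1 (hY₀H ha y hy)
      rw [uSL_act α s, add_comm]
      exact AddSubgroup.add_mem _ (AddSubgroup.mem_sup_left (hz.1 s))
        (AddSubgroup.mem_sup_right hz)
  have hLle : fixL α ≤ fixU2 α := by
    intro b' hb'
    have : b' ∈ fixU α ⊔ (fixU2 α ⊓ fixL α) := hNle (by rw [hNtop]; trivial)
    obtain ⟨a', ha', z', hz', h⟩ := AddSubgroup.mem_sup.mp this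
    have h2 : a' = b' - z' := by rw [← h]; abel
    have h3 : a' ∈ fixL α := by rw [h2]; exact AddSubgroup.sub_mem _ hb' hz'.2
    have h4 := eq_zero_of_mem_both α hirr hnt ha' h3
    rw [h4, zero_add] at h
    rw [← h]; exact hz'.1
  intro s t m
  obtain ⟨a, ha, b, hb, rfl⟩ := decompB α hirr hnt hB m
  have : a + b ∈ fixU2 α := AddSubgroup.add_mem _ (fixU_le_fixU2 α ha) (hLle hb)
  exact this t s

include hirr hnt in
/-- recognition of the natural module. -/
theorem natural (p : ℕ) [Fact p.Prime] (n k : ℕ) (hF : Fintype.card F = p ^ n)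
    (hM : Nat.card M = p ^ k)
    (hyp : (∀ (s t : F) (m : M), α (uSL s) (Dm α t m) = Dm α t m) ∨
      Nat.card M ≤ Nat.card (fixU α) ^ 2) :
    ∃ ψ : M ≃+ (Fin 2 → F), ∀ (g : SpecialLinearGroup (Fin 2) F) (m : M),
      ψ (α g m) = (g : Matrix (Fin 2) (Fin 2) F).mulVec (ψ m) := by
  rcases hyp with h | h
  · exact natural_of_quadratic α hirr hnt h
  · exact natural_of_quadratic α hirr hnt (quadratic_of_card α hirr hnt p n k hF hM h)

end Cfsg.Agent.Lib.H15.Nat
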