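import Mathlib
import Cfsg.Prelude.Def_BaumannBlocks
import Cfsg.Agent.Lib.H15.Nat8

/-!
helper15 library: the conjugation module `Additive V` of a subgroup `G ≤ N_X(V)` with `V` abelian,
and the translation of the recognition theorem of the natural `SL₂(F)`-module.
-/

set_option autoImplicit false

namespace Cfsg.Agent.Lib.H15.Nat

open Matrix Cfsg.Agent.Lib.H2.SL2
open scoped IsMulCommutative

section
variable {X : Type*} [Group X] (G V : Subgroup X) [IsMulCommutative V]
variable (hGV : G ≤ Subgroup.normalizer (V : Set X))

include hGV in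
lemma conj_mem (g : G) (v : V) : (g : X) * (v : X) * (g : X)⁻¹ ∈ V :=
  (Subgroup.mem_normalizer_iff.mp (hGV g.2) v).mp v.2

/-- conjugation by `g` on `Additive V`. -/
def conjEnd (g : G) : AddMonoid.End (Additive V) :=
  AddMonoidHom.mk' (fun m => Additive.ofMul ⟨(g : X) * ((Additive.toMul m : V) : X) * (g : X)⁻¹,
    conj_mem G V hGV g _⟩) (by
    intro a b
    apply Additive.toMul.injective
    apply Subtype.ext
    simp [mul_assoc])

lemma conjEnd_apply (g : G) (m : Additive V) :
    ((Additive.toMul (conjEnd G V hGV g m) : V) : X) =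
      (g : X) * ((Additive.toMul m : V) : X) * (g : X)⁻¹ := rfl

/-- the conjugation action as a monoid homomorphism. -/
def conjAct : G →* AddMonoid.End (Additive V) where
  toFun := conjEnd G V hGV
  map_one' := by
    ext m
    change ((1 : G) : X) * ((Additive.toMul m : V) : X) * ((1 : G) : X)⁻¹ =
      ((Additive.toMul m : V) : X)
    simp
  map_mul' := by
    intro g h
    ext m
    change ((g * h : G) : X) * ((Additive.toMul m : V) : X) * ((g * h : G) : X)⁻¹ =
      (g : X) * ((h : X) * ((Additive.toMul m : V) : X) * (h : X)⁻¹) * (g : X)⁻¹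
    simp [mul_assoc]

lemma conjAct_apply (g : G) (m : Additive V) :
    ((Additive.toMul (conjAct G V hGV g m) : V) : X) =
      (g : X) * ((Additive.toMul m : V) : X) * (g : X)⁻¹ := rfl

end

end Cfsg.Agent.Lib.H15.Nat
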