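import Mathlib
import Cfsg.Prelude.Def_BaumannBlocks
import Cfsg.Agent.Lib.H15.Nat9

/-!
helper15 library: recognition of the natural `SL₂(F)`-module inside an ambient group
(the Sylow subgroup already normalised to the upper unitriangular group).
-/

set_option autoImplicit false

namespace Cfsg.Agent.Lib.H15.Nat

open Matrix Cfsg.Agent.Lib.H2.SL2
open scoped IsMulCommutative commutatorElement

theorem wrap {X : Type*} [Group X] [Finite X] {p : ℕ} [Fact p.Prime] (G V : Subgroup X)
    (hV : Cfsg.IsElementaryAbelian p V) (hGV : G ≤ Subgroup.normalizer (V : Set X))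
    (F : Type) [Field F] [Fintype F] (n : ℕ) (hF : Fintype.card F = p ^ n)
    (ι : ↥G ≃* SpecialLinearGroup (Fin 2) F)
    (hirr : ∀ U : Subgroup X, U ≤ V → G ≤ Subgroup.normalizer (U : Set X) → U = ⊥ ∨ U = V)
    (hnt : ⁅V, G⁆ ≠ ⊥) (S : Subgroup ↥G) (hS : ∀ x : ↥G, x ∈ S ↔ ι x ∈ U F)
    (hyp : ⁅⁅V, S.map G.subtype⁆, S.map G.subtype⁆ = ⊥ ∨
      Nat.card ↥V ≤
        Nat.card ↥(V ⊓ Subgroup.centralizer ((S.map G.subtype : Subgroup X) : Set X)) ^ 2) :
    Cfsg.ActsAsSL2OnSection F ⊤ G V ⊥ := by
  haveI : IsMulCommutative V := hV.1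
  set α₀ := conjAct G V hGV with hα₀
  set α : SpecialLinearGroup (Fin 2) F →* AddMonoid.End (Additive V) :=
    α₀.comp ι.symm.toMonoidHom with hα
  have hαι : ∀ (g : G) (m : Additive V), α (ι g) m = α₀ g m := by
    intro g m
    change α₀ (ι.symm (ι g)) m = _
    rw [ι.symm_apply_apply]
  -- value of the action
  have hval : ∀ (g : G) (m : Additive V), ((Additive.toMul (α₀ g m) : V) : X) =
      (g : X) * ((Additive.toMul m : V) : X) * (g : X)⁻¹ := fun g m => rfl
  -- the elements x(t)
  have hxS : ∀ t : F, ι.symm (uSL t) ∈ S := by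
    intro t
    rw [hS, ι.apply_symm_apply]; exact uSL_mem t
  have hSx : ∀ s ∈ S, ∃ t : F, s = ι.symm (uSL t) := by
    intro s hs
    obtain ⟨t, ht⟩ := (mem_U_iff _).1 ((hS s).1 hs)
    exact ⟨t, by rw [ht, ι.symm_apply_apply]⟩
  -- (i) irreducibility
  have hirr' : ∀ N : AddSubgroup (Additive V), (∀ g, ∀ m ∈ N, α g m ∈ N) → N = ⊥ ∨ N = ⊤ := by
    intro N hN
    let U' : Subgroup X :=
      { carrier := {x | ∃ h : x ∈ V, Additive.ofMul (⟨x, h⟩ : V) ∈ N}
        one_mem' := ⟨V.one_mem, N.zero_mem⟩
        mul_mem' := by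
          rintro x y ⟨hx, hxN⟩ ⟨hy, hyN⟩
          exact ⟨V.mul_mem hx hy, N.add_mem hxN hyN⟩
        inv_mem' := by
          rintro x ⟨hx, hxN⟩
          exact ⟨V.inv_mem hx, N.neg_mem hxN⟩ }
    have hU'V : U' ≤ V := fun x hx => hx.1
    have hfwd : ∀ g ∈ G, ∀ x ∈ U', g * x * g⁻¹ ∈ U' := by
      rintro g hg x ⟨hx, hxN⟩
      have := hN (ι ⟨g, hg⟩) _ hxN
      rw [hαι] at this
      exact ⟨conj_mem G V hGV ⟨g, hg⟩ ⟨x, hx⟩, this⟩
    have hnorm : G ≤ Subgroup.normalizer (U' : Set X) := by
      intro g hg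
      rw [Subgroup.mem_normalizer_iff]
      intro x
      constructor
      · exact hfwd g hg x
      · intro h
        have := hfwd g⁻¹ (G.inv_mem hg) _ h
        simpa [mul_assoc] using this
    rcases hirr U' hU'V hnorm with h | h
    · left
      rw [eq_bot_iff]
      intro m hm
      have : ((Additive.toMul m : V) : X) ∈ U' := ⟨(Additive.toMul m).2, hm⟩
      rw [h, Subgroup.mem_bot] at this
      rw [AddSubgroup.mem_bot]
      apply Additive.toMul.injective
      apply Subtype.ext
      exact this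
    · right
      rw [eq_top_iff]
      intro m _
      have : ((Additive.toMul m : V) : X) ∈ U' := by rw [h]; exact (Additive.toMul m).2
      obtain ⟨_, h2⟩ := this
      exact h2
  -- (ii) nontriviality
  have hnt' : ∃ g m, α g m ≠ m := by
    by_contra hcon
    push Not at hcon
    apply hnt
    rw [Subgroup.commutator_eq_bot_iff_le_centralizer]
    intro v hv
    rw [Subgroup.mem_centralizer_iff]
    intro g hg
    have h1 := hcon (ι ⟨g, hg⟩) (Additive.ofMul ⟨v, hv⟩)
    rw [hαι] at h1
    have h2 := congrArg (fun m => ((Additive.toMul m : V) : X)) h1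
    simp only [hval] at h2
    change g * v * g⁻¹ = v at h2
    calc g * v = (g * v * g⁻¹) * g := by group
      _ = v * g := by rw [h2]
  -- (iii) order
  have hP : IsPGroup p V := by
    intro v
    refine ⟨1, ?_⟩
    rw [pow_one]
    apply Subtype.ext
    rw [Subgroup.coe_pow]
    exact hV.2 _ v.2
  obtain ⟨k, hk⟩ := IsPGroup.iff_card.mp hP
  have hM : Nat.card (Additive V) = p ^ k := by
    rw [← hk]; exact Nat.card_congr Additive.toMul
  -- (iv) the hypothesis
  have hfix : ∀ m : Additive V, m ∈ fixU α ↔ ((Additive.toMul m : V) : X) ∈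
      V ⊓ Subgroup.centralizer ((S.map G.subtype : Subgroup X) : Set X) := by
    intro m
    constructor
    · intro hm
      refine Subgroup.mem_inf.mpr ⟨(Additive.toMul m).2, ?_⟩
      rw [Subgroup.mem_centralizer_iff]
      rintro _ ⟨s, hs, rfl⟩
      obtain ⟨t, rfl⟩ := hSx s hs
      have h1 := hm t
      change α₀ (ι.symm (uSL t)) m = m at h1
      have h2 := congrArg (fun m => ((Additive.toMul m : V) : X)) h1
      simp only [hval] at h2
      change _ * _ = _ * _
      rw [Subgroup.coe_subtype]
      conv_rhs => rw [← h2]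
      group
    · intro hm t
      change α₀ (ι.symm (uSL t)) m = m
      apply Additive.toMul.injective
      apply Subtype.ext
      rw [hval]
      have h1 := Subgroup.mem_centralizer_iff.mp (Subgroup.mem_inf.mp hm).2 (ι.symm (uSL t) : X)
        ⟨ι.symm (uSL t), hxS t, rfl⟩
      rw [h1]; group
  have hyp' : (∀ (s t : F) (m : Additive V), α (uSL s) (Dm α t m) = Dm α t m) ∨
      Nat.card (Additive V) ≤ Nat.card (fixU α) ^ 2 := by
    rcases hyp with h | h
    · left
      intro s t m
      apply Additive.toMul.injective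
      apply Subtype.ext
      change ((Additive.toMul (α₀ (ι.symm (uSL s)) (Dm α t m)) : V) : X) = _
      rw [hval]
      set b : X := (ι.symm (uSL s) : X) with hb
      set a : X := (ι.symm (uSL t) : X) with ha
      set v : X := ((Additive.toMul m : V) : X) with hv
      have hc : ((Additive.toMul (Dm α t m) : V) : X) = ⁅a, v⁆ := by
        change ((Additive.toMul (α₀ (ι.symm (uSL t)) m - m) : V) : X) = _
        rw [toMul_sub, Subgroup.coe_div, hval, commutatorElement_def, div_eq_mul_inv]
      rw [hc]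
      have haS : a ∈ S.map G.subtype := ⟨_, hxS t, rfl⟩
      have hbS : b ∈ S.map G.subtype := ⟨_, hxS s, rfl⟩
      have h1 : ⁅a, v⁆ ∈ ⁅V, S.map G.subtype⁆ := by
        rw [Subgroup.commutator_comm]
        exact Subgroup.commutator_mem_commutator haS (Additive.toMul m).2
      have h2 : ⁅⁅a, v⁆, b⁆ ∈ ⁅⁅V, S.map G.subtype⁆, S.map G.subtype⁆ :=
        Subgroup.commutator_mem_commutator h1 hbS
      rw [h, Subgroup.mem_bot, commutatorElement_eq_one_iff_mul_comm] at h2
      rw [← h2]; group
    · right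
      have e : fixU α ≃
          ↥(V ⊓ Subgroup.centralizer ((S.map G.subtype : Subgroup X) : Set X)) :=
        { toFun := fun m => ⟨((Additive.toMul (m : Additive V) : V) : X), (hfix m).1 m.2⟩
          invFun := fun x => ⟨Additive.ofMul ⟨x.1, x.2.1⟩, (hfix _).2 x.2⟩
          left_inv := fun m => by
            apply Subtype.ext
            rfl
          right_inv := fun x => by
            apply Subtype.ext
            rfl }
      rw [Nat.card_congr e, Nat.card_congr (Additive.toMul (α := V))]
      exact h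
  obtain ⟨ψ₀, hψ₀⟩ := natural α hirr' hnt' p n k hF hM hyp'
  refine ⟨hGV, bot_le, ι.toMonoidHom, AddMonoidHom.toMultiplicativeRight ψ₀.toAddMonoidHom,
    ?_, ?_, ?_, ?_⟩
  · exact MonoidHom.range_eq_top.mpr ι.surjective
  · intro y
    obtain ⟨m, hm⟩ := ψ₀.surjective (Multiplicative.toAdd y)
    exact ⟨Additive.toMul m, by
      apply Multiplicative.toAdd.injective
      exact hm⟩
  · intro u
    rw [Subgroup.mem_bot]
    constructor
    · intro h
      have h1 : ψ₀ (Additive.ofMul u) = 0 := congrArg Multiplicative.toAdd h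
      have h2 : Additive.ofMul u = 0 := by
        apply ψ₀.injective
        rw [h1, map_zero]
      have h3 : u = 1 := congrArg Additive.toMul h2
      rw [h3]; rfl
    · intro h
      have h3 : u = 1 := Subtype.ext h
      rw [h3, map_one]
  · intro e u
    refine ⟨Additive.toMul (α₀ e (Additive.ofMul u)), rfl, ?_⟩
    have := hψ₀ (ι e) (Additive.ofMul u)
    rw [hαι] at this
    exact this

end Cfsg.Agent.Lib.H15.Nat
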