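import Mathlib
import Cfsg.Agent.Lib.H20.FrobeniusDiv
import Cfsg.Agent.Lib.H20.OrderCount1

/-!
# Numbers of elements of each order (helper15 library, part A)

`cnt G m` is the number of elements of order `m` of `G`.  `NseData N s` collects the arithmetic
facts satisfied by `N = |G|`, `s = cnt G` for every finite group `G`
(Frobenius divisibility, totient divisibility, Cauchy, Sylow counting for cyclic Sylow subgroups).
-/

set_option autoImplicit false

namespace Cfsg.Agent.Lib.H15.Nse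

/-- number of elements of order `m` -/
noncomputable def cnt (G : Type*) [Group G] (m : ℕ) : ℕ := Nat.card {g : G // orderOf g = m}

/-- The arithmetic facts about the order `N` of a finite group and the numbers `s m` of its
elements of order `m`. -/
structure NseData (N : ℕ) (s : ℕ → ℕ) : Prop where
  pos : 0 < N
  one : s 1 = 1
  tot : ∀ m, Nat.totient m ∣ s m
  frob : ∀ m, m ∣ N → m ∣ ∑ d ∈ m.divisors, s d
  ndvd : ∀ m, ¬ m ∣ N → s m = 0
  mul : ∀ m k, s m = 0 → s (m * k) = 0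
  cauchy : ∀ p, p.Prime → p ∣ N → s p ≠ 0
  total : N = ∑ d ∈ N.divisors, s d
  syl : ∀ p k, p.Prime → p ^ k ∣ N → ¬ p ^ (k + 1) ∣ N → s (p ^ k) ≠ 0 →
    ∃ n, n % p = 1 ∧ n ∣ N ∧ s (p ^ k) = Nat.totient (p ^ k) * n ∧
      ∀ j, j ≤ k → s (p ^ j) ≤ Nat.totient (p ^ j) * n

variable {G : Type*} [Group G]

theorem cnt_ne_zero_iff [Finite G] (m : ℕ) : cnt G m ≠ 0 ↔ ∃ g : G, orderOf g = m := by
  unfold cnt
  rw [Nat.card_ne_zero]
  constructor
  · rintro ⟨⟨g, hg⟩, _⟩
    exact ⟨g, hg⟩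
  · rintro ⟨g, hg⟩
    exact ⟨⟨⟨g, hg⟩⟩, inferInstance⟩

theorem cnt_one : cnt G 1 = 1 := by
  unfold cnt
  rw [Nat.card_eq_one_iff_unique]
  refine ⟨⟨?_⟩, ⟨⟨1, orderOf_one⟩⟩⟩
  rintro ⟨a, ha⟩ ⟨b, hb⟩
  rw [orderOf_eq_one_iff] at ha hb
  subst ha; subst hb; rfl

theorem totient_dvd_cnt [Finite G] (m : ℕ) : Nat.totient m ∣ cnt G m := by
  unfold cnt
  rw [Cfsg.Agent.Lib.H20.OrdCnt.card_orderOf_eq_totient_mul]
  exact Dvd.intro _ rfl

theorem cnt_eq_zero_of_not_dvd [Finite G] (m : ℕ) (h : ¬ m ∣ Nat.card G) : cnt G m = 0 := by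
  by_contra h0
  obtain ⟨g, hg⟩ := (cnt_ne_zero_iff m).1 h0
  exact h (hg ▸ orderOf_dvd_natCard g)

theorem cnt_mul_eq_zero [Finite G] (m k : ℕ) (h : cnt G m = 0) : cnt G (m * k) = 0 := by
  by_contra h0
  obtain ⟨g, hg⟩ := (cnt_ne_zero_iff (m * k)).1 h0
  have hpos : 0 < orderOf g := orderOf_pos g
  have hk : 0 < k := by
    rcases Nat.eq_zero_or_pos k with h | h
    · subst h; omega
    · exact h
  have hm : 0 < m := by
    rcases Nat.eq_zero_or_pos m with h | h
    · subst h; omega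
    · exact h
  have : (cnt G m ≠ 0) := by
    rw [cnt_ne_zero_iff]
    refine ⟨g ^ k, ?_⟩
    rw [orderOf_pow' g hk.ne', hg, Nat.gcd_eq_right (Dvd.intro_left m rfl),
      Nat.mul_div_cancel _ hk]
  exact this h

theorem cnt_prime_ne_zero [Finite G] (p : ℕ) (hp : p.Prime) (h : p ∣ Nat.card G) :
    cnt G p ≠ 0 := by
  haveI : Fact p.Prime := ⟨hp⟩
  rw [cnt_ne_zero_iff]
  exact exists_prime_orderOf_dvd_card' p h

/-- partition of the solutions of `g ^ m = 1` by order -/
theorem card_pow_eq_one_eq_sum [Finite G] (m : ℕ) (hm : 0 < m) :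
    Nat.card {g : G // g ^ m = 1} = ∑ d ∈ m.divisors, cnt G d := by
  classical
  haveI : Fintype G := Fintype.ofFinite G
  have h1 : Nat.card {g : G // g ^ m = 1} = (Finset.univ.filter (fun g : G => g ^ m = 1)).card := by
    rw [Nat.card_eq_fintype_card, Fintype.card_subtype]
  rw [h1, Finset.card_eq_sum_card_fiberwise (f := fun g : G => orderOf g) (t := m.divisors)]
  · apply Finset.sum_congr rfl
    intro d hd
    unfold cnt
    rw [Nat.card_eq_fintype_card, Fintype.card_subtype]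
    congr 1
    ext g
    simp only [Finset.mem_filter, Finset.mem_univ, true_and]
    constructor
    · rintro ⟨_, h⟩; exact h
    · intro h
      refine ⟨?_, h⟩
      rw [← orderOf_dvd_iff_pow_eq_one, h]
      exact Nat.dvd_of_mem_divisors hd
  · intro g hg
    simp only [Finset.mem_coe, Finset.mem_filter, Finset.mem_univ, true_and] at hg
    simp only [Finset.mem_coe, Nat.mem_divisors]
    exact ⟨orderOf_dvd_of_pow_eq_one hg, hm.ne'⟩

theorem dvd_sum_cnt [Finite G] (m : ℕ) (h : m ∣ Nat.card G) :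
    m ∣ ∑ d ∈ m.divisors, cnt G d := by
  have hm : 0 < m := Nat.pos_of_dvd_of_pos h Nat.card_pos
  rw [← card_pow_eq_one_eq_sum m hm]
  exact Cfsg.Agent.Lib.H20.frobenius_dvd m h

theorem card_eq_sum_cnt [Finite G] : Nat.card G = ∑ d ∈ (Nat.card G).divisors, cnt G d := by
  rw [← card_pow_eq_one_eq_sum (Nat.card G) Nat.card_pos]
  symm
  apply Nat.card_congr
  exact Equiv.subtypeUnivEquiv (fun g => pow_card_eq_one')

end Cfsg.Agent.Lib.H15.Nse
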