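import Mathlib
import Cfsg.Agent.Lib.H15.NseA

/-!
# Numbers of elements of each order (helper15 library, part B): Sylow counting and `nseData`
-/

set_option autoImplicit false

namespace Cfsg.Agent.Lib.H15.Nse

variable {G : Type*} [Group G]

theorem factorization_eq_of_pow {N p k : ℕ} (hp : p.Prime) (hN : 0 < N) (h1 : p ^ k ∣ N)
    (h2 : ¬ p ^ (k + 1) ∣ N) : N.factorization p = k := by
  have a1 : k ≤ N.factorization p := (hp.pow_dvd_iff_le_factorization hN.ne').1 h1
  have a2 : ¬ (k + 1 ≤ N.factorization p) := fun h =>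
    h2 ((hp.pow_dvd_iff_le_factorization hN.ne').2 h)
  omega

/-- every Sylow subgroup has an element of order `p ^ k` when some element has this order and
`p ^ k` is the full `p`-part. -/
theorem sylow_exists_orderOf [Finite G] (p k : ℕ) [Fact p.Prime]
    (hk : (Nat.card G).factorization p = k) (g0 : G) (hg0 : orderOf g0 = p ^ k) (P : Sylow p G) :
    ∃ x : G, x ∈ (P : Subgroup G) ∧ orderOf x = p ^ k := by
  have hpg : IsPGroup p (Subgroup.zpowers g0) := by
    apply IsPGroup.of_card (n := k)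
    rw [Nat.card_zpowers, hg0]
  obtain ⟨Q, hQ⟩ := hpg.exists_le_sylow
  obtain ⟨c, hc⟩ := MulAction.exists_smul_eq G Q P
  refine ⟨c * g0 * c⁻¹, ?_, ?_⟩
  · rw [← hc, Sylow.smul_def, Sylow.pointwise_smul_def]
    exact Subgroup.smul_mem_pointwise_smul g0 (MulAut.conj c) Q (hQ (Subgroup.mem_zpowers g0))
  · rw [← hg0, ← MulAut.conj_apply]
    exact MulEquiv.orderOf_eq (MulAut.conj c) g0

theorem sylow_isCyclic [Finite G] (p k : ℕ) [Fact p.Prime]
    (hk : (Nat.card G).factorization p = k) (g0 : G) (hg0 : orderOf g0 = p ^ k) (P : Sylow p G) :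
    IsCyclic (P : Subgroup G) := by
  obtain ⟨x, hxP, hx⟩ := sylow_exists_orderOf p k hk g0 hg0 P
  apply isCyclic_of_orderOf_eq_card (⟨x, hxP⟩ : (P : Subgroup G))
  rw [Subgroup.orderOf_mk, hx, Sylow.card_eq_multiplicity, hk]

/-- the sigma type of pairs (Sylow subgroup, element of order `p^j` in it) -/
abbrev SylPairs (G : Type*) [Group G] (p j : ℕ) :=
  Σ P : Sylow p G, {g : (P : Subgroup G) // orderOf g = p ^ j}

/-- forgetting the Sylow subgroup -/
def sylPairsMap (p j : ℕ) : SylPairs G p j → {g : G // orderOf g = p ^ j} :=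
  fun x => ⟨(x.2.1 : G), by rw [Subgroup.orderOf_coe]; exact x.2.2⟩

theorem sylPairsMap_surjective [Finite G] (p j : ℕ) [Fact p.Prime] :
    Function.Surjective (sylPairsMap (G := G) p j) := by
  rintro ⟨g, hg⟩
  have hpg : IsPGroup p (Subgroup.zpowers g) := by
    apply IsPGroup.of_card (n := j)
    rw [Nat.card_zpowers, hg]
  obtain ⟨Q, hQ⟩ := hpg.exists_le_sylow
  refine ⟨⟨Q, ⟨⟨g, hQ (Subgroup.mem_zpowers g)⟩, ?_⟩⟩, ?_⟩
  · rw [Subgroup.orderOf_mk]; exact hg
  · rfl

theorem sylPairsMap_injective [Finite G] (p k : ℕ) [Fact p.Prime]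
    (hk : (Nat.card G).factorization p = k) :
    Function.Injective (sylPairsMap (G := G) p k) := by
  rintro ⟨P, ⟨⟨g, hgP⟩, hg⟩⟩ ⟨P', ⟨⟨g', hgP'⟩, hg'⟩⟩ h
  have hgg : g = g' := by
    have := congrArg Subtype.val h
    exact this
  subst hgg
  rw [Subgroup.orderOf_mk] at hg
  have e1 : Subgroup.zpowers g = (P : Subgroup G) := by
    apply Subgroup.eq_of_le_of_card_ge
    · rw [Subgroup.zpowers_le]; exact hgP
    · rw [Nat.card_zpowers, hg, Sylow.card_eq_multiplicity, hk]
  have e2 : Subgroup.zpowers g = (P' : Subgroup G) := by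
    apply Subgroup.eq_of_le_of_card_ge
    · rw [Subgroup.zpowers_le]; exact hgP'
    · rw [Nat.card_zpowers, hg, Sylow.card_eq_multiplicity, hk]
  have e3 : P = P' := Sylow.ext (e1.symm.trans e2)
  subst e3
  rfl

theorem card_sylPairs [Finite G] (p k : ℕ) [Fact p.Prime]
    (hk : (Nat.card G).factorization p = k) (g0 : G) (hg0 : orderOf g0 = p ^ k) (j : ℕ)
    (hj : j ≤ k) :
    Nat.card (SylPairs G p j) = Nat.totient (p ^ j) * Nat.card (Sylow p G) := by
  classical
  haveI : Fintype (Sylow p G) := Fintype.ofFinite _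
  rw [Nat.card_sigma]
  have : ∀ P : Sylow p G, Nat.card {g : (P : Subgroup G) // orderOf g = p ^ j}
      = Nat.totient (p ^ j) := by
    intro P
    haveI : IsCyclic (P : Subgroup G) := sylow_isCyclic p k hk g0 hg0 P
    haveI : Fintype (P : Subgroup G) := Fintype.ofFinite _
    rw [Nat.card_eq_fintype_card, Fintype.card_subtype]
    apply IsCyclic.card_orderOf_eq_totient
    rw [← Nat.card_eq_fintype_card, Sylow.card_eq_multiplicity, hk]
    exact pow_dvd_pow p hj
  simp only [this]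
  rw [Finset.sum_const, Finset.card_univ, Nat.card_eq_fintype_card, smul_eq_mul, mul_comm]

theorem syl_count [Finite G] (p k : ℕ) (hp : p.Prime) (h1 : p ^ k ∣ Nat.card G)
    (h2 : ¬ p ^ (k + 1) ∣ Nat.card G) (hne : cnt G (p ^ k) ≠ 0) :
    ∃ n, n % p = 1 ∧ n ∣ Nat.card G ∧ cnt G (p ^ k) = Nat.totient (p ^ k) * n ∧
      ∀ j, j ≤ k → cnt G (p ^ j) ≤ Nat.totient (p ^ j) * n := by
  haveI : Fact p.Prime := ⟨hp⟩
  have hk : (Nat.card G).factorization p = k := factorization_eq_of_pow hp Nat.card_pos h1 h2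
  obtain ⟨g0, hg0⟩ := (cnt_ne_zero_iff (p ^ k)).1 hne
  refine ⟨Nat.card (Sylow p G), ?_, ?_, ?_, ?_⟩
  · have := card_sylow_modEq_one p G
    rw [Nat.ModEq, Nat.mod_eq_of_lt hp.one_lt] at this
    exact this
  · obtain ⟨P⟩ : Nonempty (Sylow p G) := inferInstance
    exact (Sylow.card_dvd_index P).trans (Subgroup.index_dvd_card _)
  · rw [← card_sylPairs p k hk g0 hg0 k le_rfl]
    unfold cnt
    symm
    apply Nat.card_congr
    exact Equiv.ofBijective _ ⟨sylPairsMap_injective p k hk, sylPairsMap_surjective p k⟩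
  · intro j hj
    rw [← card_sylPairs p k hk g0 hg0 j hj]
    unfold cnt
    exact Nat.card_le_card_of_surjective _ (sylPairsMap_surjective p j)

/-- the arithmetic data of a finite group -/
theorem nseData (G : Type*) [Group G] [Finite G] : NseData (Nat.card G) (cnt G) where
  pos := Nat.card_pos
  one := cnt_one
  tot := totient_dvd_cnt
  frob := dvd_sum_cnt
  ndvd := cnt_eq_zero_of_not_dvd
  mul := cnt_mul_eq_zero
  cauchy := cnt_prime_ne_zero
  total := card_eq_sum_cnt
  syl := syl_count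

end Cfsg.Agent.Lib.H15.Nse
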