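import Mathlib
import Cfsg.Agent.Lib.H15.NseA

/-!
# Numbers of elements of each order (helper15 library, part C): general arithmetic lemmas
and the arithmetic determination for `nse = {1, 3, 8}`.
-/

set_option autoImplicit false

namespace Cfsg.Agent.Lib.H15.Nse

variable {N : ℕ} {s : ℕ → ℕ}

theorem NseData.s_zero (D : NseData N s) : s 0 = 0 :=
  D.ndvd 0 (by rw [zero_dvd_iff]; exact D.pos.ne')

theorem NseData.dvd_of_ne_zero (D : NseData N s) {m : ℕ} (h : s m ≠ 0) : m ∣ N := by
  by_contra h'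
  exact h (D.ndvd m h')

theorem NseData.even_of_gt (D : NseData N s) {m : ℕ} (h : 2 < m) : 2 ∣ s m :=
  (Nat.totient_even h).two_dvd.trans (D.tot m)

theorem NseData.eq_two_of_odd (D : NseData N s) {m : ℕ} (h : ¬ 2 ∣ s m) (h1 : s m ≠ 1) :
    m = 2 := by
  have h3 : ¬ 2 < m := fun h' => h (D.even_of_gt h')
  have h0 : m ≠ 0 := by
    rintro rfl
    rw [D.s_zero] at h
    exact h (dvd_zero 2)
  have h1' : m ≠ 1 := by
    rintro rfl
    exact h1 D.one
  omega

theorem NseData.frob_prime (D : NseData N s) {p : ℕ} (hp : p.Prime) (h : p ∣ N) :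
    p ∣ 1 + s p := by
  have := D.frob p h
  rw [hp.divisors, Finset.sum_pair hp.one_lt.ne, D.one] at this
  exact this

theorem NseData.pred_dvd (D : NseData N s) {p : ℕ} (hp : p.Prime) : (p - 1) ∣ s p := by
  have := D.tot p
  rwa [Nat.totient_prime hp] at this

theorem NseData.sum_le (D : NseData N s) (T : Finset ℕ) : ∑ d ∈ T, s d ≤ N := by
  calc ∑ d ∈ T, s d = ∑ d ∈ T.filter (fun d => d ∣ N), s d := by
        rw [Finset.sum_filter]
        apply Finset.sum_congr rfl
        intro d _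
        split_ifs with h
        · rfl
        · exact D.ndvd d h
    _ ≤ ∑ d ∈ N.divisors, s d := by
        apply Finset.sum_le_sum_of_subset
        intro d hd
        rw [Finset.mem_filter] at hd
        rw [Nat.mem_divisors]
        exact ⟨hd.2, D.pos.ne'⟩
    _ = N := D.total.symm

theorem decomp235 {N : ℕ} (hN : 0 < N) (h : ∀ p, p.Prime → p ∣ N → p = 2 ∨ p = 3 ∨ p = 5) :
    ∃ a b c, N = 2 ^ a * 3 ^ b * 5 ^ c := by
  obtain ⟨a, N1, h2, e1⟩ := Nat.exists_eq_pow_mul_and_not_dvd hN.ne' 2 (by norm_num)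
  have hN1 : N1 ≠ 0 := by
    rintro rfl
    exact h2 (dvd_zero 2)
  obtain ⟨b, N2, h3, e2⟩ := Nat.exists_eq_pow_mul_and_not_dvd hN1 3 (by norm_num)
  have hN2 : N2 ≠ 0 := by
    rintro rfl
    exact h3 (dvd_zero 3)
  obtain ⟨c, N3, h5, e3⟩ := Nat.exists_eq_pow_mul_and_not_dvd hN2 5 (by norm_num)
  have hN3 : N3 = 1 := by
    rw [Nat.eq_one_iff_not_exists_prime_dvd]
    intro p hp hpN
    have d2 : N3 ∣ N2 := e3 ▸ Dvd.intro_left _ rfl
    have d1 : N2 ∣ N1 := e2 ▸ Dvd.intro_left _ rfl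
    have d0 : N1 ∣ N := e1 ▸ Dvd.intro_left _ rfl
    rcases h p hp (hpN.trans (d2.trans (d1.trans d0))) with rfl | rfl | rfl
    · exact h2 (hpN.trans (d2.trans d1))
    · exact h3 (hpN.trans d2)
    · exact h5 hpN
  refine ⟨a, b, c, ?_⟩
  rw [e1, e2, e3, hN3]
  ring

/-- The arithmetic determination for `nse = {1, 3, 8}`. -/
theorem arith_A4 (D : NseData N s) (hV : ∀ m, s m = 0 ∨ s m = 1 ∨ s m = 3 ∨ s m = 8)
    (e3 : ∃ m, s m = 3) (e8 : ∃ m, s m = 8) : N = 12 ∧ s 6 = 0 := by
  have h2 : s 2 = 3 := by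
    obtain ⟨m, hm⟩ := e3
    have : m = 2 := D.eq_two_of_odd (by rw [hm]; decide) (by rw [hm]; decide)
    rw [← this]; exact hm
  have hev : ∀ m, 2 < m → s m = 0 ∨ s m = 8 := by
    intro m hm
    have := D.even_of_gt hm
    rcases hV m with h | h | h | h <;> rw [h] at this <;> omega
  have d2 : 2 ∣ N := D.dvd_of_ne_zero (by rw [h2]; decide)
  have hpr3 : ∀ p, p.Prime → p ∣ N → p = 2 ∨ p = 3 := by
    intro p hp hpN
    by_cases hp2 : p = 2
    · left; exact hp2
    right
    have hgt : 2 < p := lt_of_le_of_ne hp.two_le (Ne.symm hp2)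
    have h1 := D.frob_prime hp hpN
    have h0 := D.cauchy p hp hpN
    rcases hev p hgt with h | h
    · exact absurd h h0
    rw [h] at h1
    have : p ∣ 3 ^ 2 := by norm_num; exact h1
    exact (Nat.prime_dvd_prime_iff_eq hp Nat.prime_three).1 (hp.dvd_of_dvd_pow this)
  have hpr : ∀ p, p.Prime → p ∣ N → p = 2 ∨ p = 3 ∨ p = 5 := by
    intro p hp hpN
    rcases hpr3 p hp hpN with h | h
    · left; exact h
    · right; left; exact h
  have h3 : 3 ∣ N → s 3 = 8 := by
    intro h
    have h0 := D.cauchy 3 Nat.prime_three h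
    rcases hev 3 (by norm_num) with h' | h'
    · exact absurd h' h0
    · exact h'
  -- 8 ∤ N
  have n8 : ¬ 8 ∣ N := by
    intro h
    have f8 := D.frob 8 h
    simp [Nat.divisors_ofNat] at f8
    rw [D.one, h2] at f8
    rcases hev 4 (by norm_num) with h4 | h4 <;> rcases hev 8 (by norm_num) with h8 | h8 <;>
      rw [h4, h8] at f8 <;> omega
  -- 9 ∣ N → s 9 = 0
  have h9 : 9 ∣ N → s 9 = 0 := by
    intro h
    have f9 := D.frob 9 h
    simp [Nat.divisors_ofNat] at f9
    rw [D.one, h3 (Dvd.dvd.trans (by norm_num) h)] at f9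
    rcases hev 9 (by norm_num) with h9 | h9
    · exact h9
    · rw [h9] at f9; omega
  have n27 : ¬ 27 ∣ N := by
    intro h
    have d9 : 9 ∣ N := Dvd.dvd.trans (by norm_num) h
    have f27 := D.frob 27 h
    simp [Nat.divisors_ofNat] at f27
    have s27 : s 27 = 0 := D.mul 9 3 (h9 d9)
    rw [D.one, h3 (Dvd.dvd.trans (by norm_num) h), h9 d9, s27] at f27
    omega
  -- lower bound
  have hge : 12 ≤ N := by
    obtain ⟨m, hm⟩ := e8
    have hm1 : m ≠ 1 := by rintro rfl; rw [D.one] at hm; omega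
    have hm2 : m ≠ 2 := by rintro rfl; rw [h2] at hm; omega
    have := D.sum_le {1, 2, m}
    rw [Finset.sum_insert (by simp; omega), Finset.sum_insert (by simp; omega),
      Finset.sum_singleton, D.one, h2, hm] at this
    omega
  obtain ⟨a, b, c, hN⟩ := decomp235 D.pos hpr
  have hc : c = 0 := by
    by_contra hc
    have : 5 ∣ N := by
      rw [hN]
      exact Dvd.dvd.mul_left (dvd_pow_self 5 hc) _
    rcases hpr3 5 (by norm_num) this with h | h <;> omega
  subst hc
  have ha : a ≤ 2 := by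
    by_contra ha
    apply n8
    rw [hN]
    have : (8 : ℕ) ∣ 2 ^ a := by
      have : (2 : ℕ) ^ 3 ∣ 2 ^ a := pow_dvd_pow 2 (by omega)
      simpa using this
    exact Dvd.dvd.mul_right (Dvd.dvd.mul_right this _) _
  have hb : b ≤ 2 := by
    by_contra hb
    apply n27
    rw [hN]
    have : (27 : ℕ) ∣ 3 ^ b := by
      have : (3 : ℕ) ^ 3 ∣ 3 ^ b := pow_dvd_pow 3 (by omega)
      simpa using this
    exact Dvd.dvd.mul_right (Dvd.dvd.mul_left this _) _
  -- s 4 = 0
  have h4 : s 4 = 0 := by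
    by_contra h4
    have d4 : 4 ∣ N := D.dvd_of_ne_zero h4
    obtain ⟨n, hn1, _, hn3, _⟩ := D.syl 2 2 Nat.prime_two (by norm_num; exact d4)
      (by norm_num; exact n8) (by norm_num; exact h4)
    norm_num at hn3
    rw [show Nat.totient 4 = 2 from by decide] at hn3
    rcases hev 4 (by norm_num) with h | h
    · exact h4 h
    · rw [h] at hn3; omega
  interval_cases a <;> interval_cases b <;> norm_num at hN <;> subst hN <;>
    first
    | omega
    | (exfalso
       have f := D.total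
       simp [Nat.divisors_ofNat] at f
       have t3 := h3 (by norm_num)
       have t9 := h9 (by norm_num)
       have t18 : s 18 = 0 := D.mul 9 2 t9
       have t36 : s 36 = 0 := D.mul 9 4 t9
       have t12 : s 12 = 0 := D.mul 4 3 h4
       rcases hev 6 (by norm_num) with h6 | h6 <;> rw [D.one, h2, t3, h6] at f <;> omega)
    | (exfalso
       have f := D.total
       simp [Nat.divisors_ofNat] at f
       have t3 := h3 (by norm_num)
       have t9 := h9 (by norm_num)
       have t18 : s 18 = 0 := D.mul 9 2 t9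
       rcases hev 6 (by norm_num) with h6 | h6 <;> rw [D.one, h2, t3, h6] at f <;> omega)
    | skip
  refine ⟨rfl, ?_⟩
  have f := D.total
  simp [Nat.divisors_ofNat] at f
  have t3 := h3 (by norm_num)
  rw [D.one, h2, t3, h4] at f
  omega

end Cfsg.Agent.Lib.H15.Nse

namespace Cfsg.Agent.Lib.H15.Nse

variable {N : ℕ} {s : ℕ → ℕ}

theorem NseData.total_sub (D : NseData N s) (T : Finset ℕ) (hT : T ⊆ N.divisors)
    (hz : ∀ x ∈ N.divisors, x ∉ T → s x = 0) : N = ∑ d ∈ T, s d := by
  rw [Finset.sum_subset hT hz]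
  exact D.total

theorem NseData.zero_of_sum_eq (D : NseData N s) (T : Finset ℕ) (hT : T ⊆ N.divisors)
    (h : ∑ d ∈ T, s d = N) : ∀ m, m ∉ T → s m = 0 := by
  intro m hm
  by_cases hd : m ∣ N
  · have h1 := Finset.sum_sdiff (f := s) hT
    rw [← D.total, h] at h1
    have h2 : ∑ d ∈ N.divisors \ T, s d = 0 := by omega
    rw [Finset.sum_eq_zero_iff] at h2
    apply h2
    rw [Finset.mem_sdiff, Nat.mem_divisors]
    exact ⟨⟨hd, D.pos.ne'⟩, hm⟩
  · exact D.ndvd m hd

theorem NseData.zero_of_dvd (D : NseData N s) {k : ℕ} (h : s k = 0) : ∀ m, k ∣ m → s m = 0 := by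
  rintro m ⟨j, rfl⟩
  exact D.mul k j h

end Cfsg.Agent.Lib.H15.Nse
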