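import Mathlib
import Cfsg.Agent.Lib.H15.NseC

/-!
# Numbers of elements of each order (helper15 library, part D):
the arithmetic determination for `nse = {1, 45, 80, 90, 144}`.
-/

set_option autoImplicit false

namespace Cfsg.Agent.Lib.H15.Nse

variable {N : ℕ} {s : ℕ → ℕ}

/-- hypotheses shared by the steps of the `A6` arithmetic -/
structure A6Hyp (N : ℕ) (s : ℕ → ℕ) : Prop where
  D : NseData N s
  hV : ∀ m, s m = 0 ∨ s m = 1 ∨ s m = 45 ∨ s m = 80 ∨ s m = 90 ∨ s m = 144
  e45 : ∃ m, s m = 45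
  e80 : ∃ m, s m = 80
  e90 : ∃ m, s m = 90
  e144 : ∃ m, s m = 144

namespace A6Hyp

variable (H : A6Hyp N s)
include H

theorem h2 : s 2 = 45 := by
  obtain ⟨m, hm⟩ := H.e45
  have : m = 2 := H.D.eq_two_of_odd (by rw [hm]; decide) (by rw [hm]; decide)
  rw [← this]; exact hm

theorem hev : ∀ m, 2 < m → s m = 0 ∨ s m = 80 ∨ s m = 90 ∨ s m = 144 := by
  intro m hm
  have := H.D.even_of_gt hm
  rcases H.hV m with h | h | h | h | h | h <;> rw [h] at this <;> omega

theorem d2 : 2 ∣ N := H.D.dvd_of_ne_zero (by rw [H.h2]; decide)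

theorem h3 (h : 3 ∣ N) : s 3 = 80 := by
  have h0 := H.D.cauchy 3 Nat.prime_three h
  have h1 := H.D.frob_prime Nat.prime_three h
  rcases H.hev 3 (by norm_num) with h' | h' | h' | h' <;> rw [h'] at h1 <;> omega

theorem h5 (h : 5 ∣ N) : s 5 = 144 := by
  have h0 := H.D.cauchy 5 Nat.prime_five h
  have h1 := H.D.frob_prime Nat.prime_five h
  rcases H.hev 5 (by norm_num) with h' | h' | h' | h' <;> rw [h'] at h1 <;> omega

theorem h7 (h : 7 ∣ N) : s 7 = 90 := by
  have h0 := H.D.cauchy 7 (by norm_num) h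
  have h1 := H.D.frob_prime (by norm_num : Nat.Prime 7) h
  rcases H.hev 7 (by norm_num) with h' | h' | h' | h' <;> rw [h'] at h1 <;> omega

theorem n7 : ¬ 7 ∣ N := by
  intro h
  have s7 := H.h7 h
  have n49 : ¬ 49 ∣ N := by
    intro h49
    have f := H.D.frob 49 h49
    simp [Nat.divisors_ofNat] at f
    rw [H.D.one, s7] at f
    rcases H.hev 49 (by norm_num) with h' | h' | h' | h' <;> rw [h'] at f <;> omega
  obtain ⟨n, _, hn2, hn3, _⟩ := H.D.syl 7 1 (by norm_num) (by norm_num; exact h)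
    (by norm_num; exact n49) (by norm_num; rw [s7]; decide)
  norm_num at hn3
  rw [s7, Nat.totient_prime (by norm_num : Nat.Prime 7)] at hn3
  have hn : n = 15 := by omega
  subst hn
  have d5 : 5 ∣ N := Dvd.dvd.trans (by norm_num) hn2
  have s5 := H.h5 d5
  have d35 : 35 ∣ N := Nat.Coprime.mul_dvd_of_dvd_of_dvd (by norm_num : Nat.Coprime 5 7) d5 h
  have f := H.D.frob 35 d35
  simp [Nat.divisors_ofNat] at f
  have t := H.D.tot 35
  rw [show Nat.totient 35 = 24 from by decide] at t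
  rw [H.D.one, s5, s7] at f
  rcases H.hev 35 (by norm_num) with h' | h' | h' | h' <;> rw [h'] at f t <;> omega

theorem hpr : ∀ p, p.Prime → p ∣ N → p = 2 ∨ p = 3 ∨ p = 5 := by
  intro p hp hpN
  by_cases hp2 : p = 2
  · left; exact hp2
  right
  have hgt : 2 < p := lt_of_le_of_ne hp.two_le (Ne.symm hp2)
  have h1 := H.D.frob_prime hp hpN
  have h0 := H.D.cauchy p hp hpN
  have hd := H.D.pred_dvd hp
  rcases H.hev p hgt with h | h | h | h
  · exact absurd h h0
  · left
    rw [h] at h1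
    have : p ∣ 3 ^ 4 := by norm_num; exact h1
    exact (Nat.prime_dvd_prime_iff_eq hp Nat.prime_three).1 (hp.dvd_of_dvd_pow this)
  · exfalso
    rw [h] at h1 hd
    have : p ∣ 7 * 13 := by norm_num; exact h1
    rcases (Nat.Prime.dvd_mul hp).1 this with h' | h'
    · have := (Nat.prime_dvd_prime_iff_eq hp (by norm_num)).1 h'
      subst this
      exact H.n7 hpN
    · have := (Nat.prime_dvd_prime_iff_eq hp (by norm_num)).1 h'
      subst this
      omega
  · right
    rw [h] at h1 hd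
    have : p ∣ 5 * 29 := by norm_num; exact h1
    rcases (Nat.Prime.dvd_mul hp).1 this with h' | h'
    · exact (Nat.prime_dvd_prime_iff_eq hp (by norm_num)).1 h'
    · have := (Nat.prime_dvd_prime_iff_eq hp (by norm_num)).1 h'
      subst this
      omega

theorem h4 (h : 4 ∣ N) : s 4 = 90 := by
  have f := H.D.frob 4 h
  simp [Nat.divisors_ofNat] at f
  rw [H.D.one, H.h2] at f
  rcases H.hev 4 (by norm_num) with h' | h' | h' | h' <;> rw [h'] at f <;> omega

theorem n16 : ¬ 16 ∣ N := by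
  intro h
  have d4 : 4 ∣ N := Dvd.dvd.trans (by norm_num) h
  have f := H.D.frob 16 h
  simp [Nat.divisors_ofNat] at f
  have t8 := H.D.tot 8
  rw [show Nat.totient 8 = 4 from by decide] at t8
  have t16 := H.D.tot 16
  rw [show Nat.totient 16 = 8 from by decide] at t16
  rw [H.D.one, H.h2, H.h4 d4] at f
  rcases H.hev 8 (by norm_num) with h8 | h8 | h8 | h8 <;>
    rcases H.hev 16 (by norm_num) with h16 | h16 | h16 | h16 <;>
    rw [h8] at f t8 <;> rw [h16] at f t16 <;> omega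

theorem h8 : s 8 = 0 := by
  by_contra h8
  have d8 : 8 ∣ N := H.D.dvd_of_ne_zero h8
  obtain ⟨n, hn1, _, hn3, _⟩ := H.D.syl 2 3 Nat.prime_two (by norm_num; exact d8)
    (by norm_num; exact H.n16) (by norm_num; exact h8)
  norm_num at hn3
  rw [show Nat.totient 8 = 4 from by decide] at hn3
  rcases H.hev 8 (by norm_num) with h | h | h | h
  · exact h8 h
  all_goals (rw [h] at hn3; omega)

theorem n25 : ¬ 25 ∣ N := by
  intro h
  have d5 : 5 ∣ N := Dvd.dvd.trans (by norm_num) h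
  have s5 := H.h5 d5
  have f := H.D.frob 25 h
  simp [Nat.divisors_ofNat] at f
  have t25 := H.D.tot 25
  rw [show Nat.totient 25 = 20 from by decide] at t25
  rw [H.D.one, s5] at f
  have s25 : s 25 = 80 := by
    rcases H.hev 25 (by norm_num) with h' | h' | h' | h' <;> rw [h'] at f t25 <;> omega
  have n125 : ¬ 125 ∣ N := by
    intro h125
    have f := H.D.frob 125 h125
    simp [Nat.divisors_ofNat] at f
    have t125 := H.D.tot 125
    rw [show Nat.totient 125 = 100 from by decide] at t125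
    rw [H.D.one, s5, s25] at f
    rcases H.hev 125 (by norm_num) with h' | h' | h' | h' <;> rw [h'] at f t125 <;> omega
  obtain ⟨n, hn1, _, hn3, _⟩ := H.D.syl 5 2 Nat.prime_five (by norm_num; exact h)
    (by norm_num; exact n125) (by norm_num; rw [s25]; decide)
  norm_num at hn3
  rw [show Nat.totient 25 = 20 from by decide, s25] at hn3
  omega

theorem h27 (h : 27 ∣ N) : s 9 = 0 ∧ s 27 = 0 := by
  have d3 : 3 ∣ N := Dvd.dvd.trans (by norm_num) h
  have f := H.D.frob 27 h
  simp [Nat.divisors_ofNat] at f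
  have t9 := H.D.tot 9
  rw [show Nat.totient 9 = 6 from by decide] at t9
  have t27 := H.D.tot 27
  rw [show Nat.totient 27 = 18 from by decide] at t27
  rw [H.D.one, H.h3 d3] at f
  rcases H.hev 9 (by norm_num) with h9 | h9 | h9 | h9 <;>
    rcases H.hev 27 (by norm_num) with h27 | h27 | h27 | h27 <;>
    rw [h9] at f t9 <;> rw [h27] at f t27 <;> omega

theorem n243 : ¬ 243 ∣ N := by
  intro h
  have d3 : 3 ∣ N := Dvd.dvd.trans (by norm_num) h
  obtain ⟨s9, s27⟩ := H.h27 (Dvd.dvd.trans (by norm_num) h)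
  have f := H.D.frob 243 h
  simp [Nat.divisors_ofNat] at f
  rw [H.D.one, H.h3 d3, s9, s27, H.D.zero_of_dvd s9 81 (by norm_num),
    H.D.zero_of_dvd s9 243 (by norm_num)] at f
  omega

theorem hge : 360 ≤ N := by
  obtain ⟨m1, hm1⟩ := H.e80
  obtain ⟨m2, hm2⟩ := H.e90
  obtain ⟨m3, hm3⟩ := H.e144
  have a1 : m1 ≠ 1 := by rintro rfl; rw [H.D.one] at hm1; omega
  have a2 : m1 ≠ 2 := by rintro rfl; rw [H.h2] at hm1; omega
  have b1 : m2 ≠ 1 := by rintro rfl; rw [H.D.one] at hm2; omega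
  have b2 : m2 ≠ 2 := by rintro rfl; rw [H.h2] at hm2; omega
  have c1 : m3 ≠ 1 := by rintro rfl; rw [H.D.one] at hm3; omega
  have c2 : m3 ≠ 2 := by rintro rfl; rw [H.h2] at hm3; omega
  have ab : m1 ≠ m2 := by rintro rfl; omega
  have ac : m1 ≠ m3 := by rintro rfl; omega
  have bc : m2 ≠ m3 := by rintro rfl; omega
  have := H.D.sum_le {1, 2, m1, m2, m3}
  rw [Finset.sum_insert (by simp; omega), Finset.sum_insert (by simp; omega),
    Finset.sum_insert (by simp; omega), Finset.sum_insert (by simp; omega),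
    Finset.sum_singleton, H.D.one, H.h2, hm1, hm2, hm3] at this
  omega

/-- consequences of `5 ∣ N` -/
theorem five (h : 5 ∣ N) : 36 ∣ N ∧ s 10 = 0 ∧ s 15 = 0 := by
  have s5 := H.h5 h
  obtain ⟨n, _, hn2, hn3, _⟩ := H.D.syl 5 1 Nat.prime_five (by norm_num; exact h)
    (by norm_num; exact H.n25) (by norm_num; rw [s5]; decide)
  norm_num at hn3
  rw [s5, Nat.totient_prime Nat.prime_five] at hn3
  have hn : n = 36 := by omega
  subst hn
  have d3 : 3 ∣ N := Dvd.dvd.trans (by norm_num) hn2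
  have d4 : 4 ∣ N := Dvd.dvd.trans (by norm_num) hn2
  have d2 : 2 ∣ N := Dvd.dvd.trans (by norm_num) hn2
  have d15 : 15 ∣ N := Nat.Coprime.mul_dvd_of_dvd_of_dvd (by norm_num : Nat.Coprime 3 5) d3 h
  have d10 : 10 ∣ N := Nat.Coprime.mul_dvd_of_dvd_of_dvd (by norm_num : Nat.Coprime 2 5) d2 h
  have d6 : 6 ∣ N := Nat.Coprime.mul_dvd_of_dvd_of_dvd (by norm_num : Nat.Coprime 2 3) d2 d3
  have d20 : 20 ∣ N := Nat.Coprime.mul_dvd_of_dvd_of_dvd (by norm_num : Nat.Coprime 4 5) d4 h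
  have d30 : 30 ∣ N := Nat.Coprime.mul_dvd_of_dvd_of_dvd (by norm_num : Nat.Coprime 2 15) d2 d15
  have s15 : s 15 = 0 := by
    have f := H.D.frob 15 d15
    simp [Nat.divisors_ofNat] at f
    have t := H.D.tot 15
    rw [show Nat.totient 15 = 8 from by decide] at t
    rw [H.D.one, H.h3 d3, s5] at f
    rcases H.hev 15 (by norm_num) with h' | h' | h' | h' <;> rw [h'] at f t <;> omega
  have s30 : s 30 = 0 := H.D.zero_of_dvd s15 30 (by norm_num)
  have f6 := H.D.frob 6 d6
  simp [Nat.divisors_ofNat] at f6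
  have f10 := H.D.frob 10 d10
  simp [Nat.divisors_ofNat] at f10
  have f20 := H.D.frob 20 d20
  simp [Nat.divisors_ofNat] at f20
  have f30 := H.D.frob 30 d30
  simp [Nat.divisors_ofNat] at f30
  have t20 := H.D.tot 20
  rw [show Nat.totient 20 = 8 from by decide] at t20
  rw [H.D.one, H.h2, H.h3 d3] at f6
  rw [H.D.one, H.h2, s5] at f10
  rw [H.D.one, H.h2, H.h4 d4, s5] at f20
  rw [H.D.one, H.h2, H.h3 d3, s5, s15, s30] at f30
  refine ⟨hn2, ?_, s15⟩
  rcases H.hev 6 (by norm_num) with h6 | h6 | h6 | h6 <;>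
    rcases H.hev 10 (by norm_num) with h10 | h10 | h10 | h10 <;>
    rcases H.hev 20 (by norm_num) with h20 | h20 | h20 | h20 <;>
    rw [h6] at f6 f30 <;> rw [h10] at f10 f20 f30 <;> rw [h20] at f20 t20 <;> omega

theorem not648 (hN : N = 648) : False := by
  subst hN
  obtain ⟨s9, _⟩ := H.h27 (by norm_num)
  have s8 := H.h8
  have s3 := H.h3 (by norm_num)
  have s4 := H.h4 (by norm_num)
  have f := H.D.total_sub {1, 2, 3, 4, 6, 12} (by simp only [Nat.divisors_ofNat]; decide) (by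
    simp only [Nat.divisors_ofNat]
    intro x hx hx'
    have : 8 ∣ x ∨ 9 ∣ x := by
      revert x
      decide
    rcases this with h | h
    · exact H.D.zero_of_dvd s8 x h
    · exact H.D.zero_of_dvd s9 x h)
  simp at f
  rw [H.D.one, H.h2, s3, s4] at f
  rcases H.hev 6 (by norm_num) with h6 | h6 | h6 | h6 <;>
    rcases H.hev 12 (by norm_num) with h12 | h12 | h12 | h12 <;>
    rw [h6, h12] at f <;> omega

/-- the common part of the cases `N = 540, 1080, 1620, 3240` -/
theorem notBig (d5 : 5 ∣ N) (d27 : 27 ∣ N)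
    (hdiv : ∀ x ∈ N.divisors, x ∉ ({1, 2, 3, 4, 5, 6, 12} : Finset ℕ) →
      8 ∣ x ∨ 9 ∣ x ∨ 10 ∣ x ∨ 15 ∣ x)
    (hsub : ({1, 2, 3, 4, 5, 6, 12} : Finset ℕ) ⊆ N.divisors) (hbig : 360 < N) : False := by
  obtain ⟨s9, _⟩ := H.h27 d27
  obtain ⟨d36, s10, s15⟩ := H.five d5
  have s8 := H.h8
  have s3 := H.h3 (Dvd.dvd.trans (by norm_num) d27)
  have s4 := H.h4 (Dvd.dvd.trans (by norm_num) d36)
  have s5 := H.h5 d5
  have f := H.D.total_sub {1, 2, 3, 4, 5, 6, 12} hsub (by
    intro x hx hx'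
    rcases hdiv x hx hx' with h | h | h | h
    · exact H.D.zero_of_dvd s8 x h
    · exact H.D.zero_of_dvd s9 x h
    · exact H.D.zero_of_dvd s10 x h
    · exact H.D.zero_of_dvd s15 x h)
  simp at f
  have t12 := H.D.tot 12
  rw [show Nat.totient 12 = 4 from by decide] at t12
  have d6 : 6 ∣ N := Nat.Coprime.mul_dvd_of_dvd_of_dvd (by norm_num : Nat.Coprime 2 3) H.d2
    (Dvd.dvd.trans (by norm_num) d27)
  have f6 := H.D.frob 6 d6
  simp [Nat.divisors_ofNat] at f6
  rw [H.D.one, H.h2, s3] at f6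
  rw [H.D.one, H.h2, s3, s4, s5] at f
  rcases H.hev 6 (by norm_num) with h6 | h6 | h6 | h6 <;>
    rcases H.hev 12 (by norm_num) with h12 | h12 | h12 | h12 <;>
    rw [h6] at f f6 <;> rw [h12] at f t12 <;> omega

theorem is360 (hN : N = 360) :
    s 2 = 45 ∧ s 3 = 80 ∧ s 4 = 90 ∧ s 5 = 144 ∧ ∀ m, 5 < m → s m = 0 := by
  subst hN
  have s3 := H.h3 (by norm_num)
  have s4 := H.h4 (by norm_num)
  have s5 := H.h5 (by norm_num)
  refine ⟨H.h2, s3, s4, s5, ?_⟩
  intro m hm
  apply H.D.zero_of_sum_eq {1, 2, 3, 4, 5} (by simp only [Nat.divisors_ofNat]; decide)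
  · simp
    have h1 := H.D.one
    have h2 := H.h2
    omega
  · simp
    omega

end A6Hyp

/-- The arithmetic determination for `nse = {1, 45, 80, 90, 144}`. -/
theorem arith_A6 (H : A6Hyp N s) :
    N = 360 ∧ s 2 = 45 ∧ s 3 = 80 ∧ s 4 = 90 ∧ s 5 = 144 ∧ ∀ m, 5 < m → s m = 0 := by
  obtain ⟨a, b, c, hN⟩ := decomp235 H.D.pos H.hpr
  have ha : a ≤ 3 := by
    by_contra ha
    apply H.n16
    rw [hN]
    have : (16 : ℕ) ∣ 2 ^ a := by
      have : (2 : ℕ) ^ 4 ∣ 2 ^ a := pow_dvd_pow 2 (by omega)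
      simpa using this
    exact Dvd.dvd.mul_right (Dvd.dvd.mul_right this _) _
  have hb : b ≤ 4 := by
    by_contra hb
    apply H.n243
    rw [hN]
    have : (243 : ℕ) ∣ 3 ^ b := by
      have : (3 : ℕ) ^ 5 ∣ 3 ^ b := pow_dvd_pow 3 (by omega)
      simpa using this
    exact Dvd.dvd.mul_right (Dvd.dvd.mul_left this _) _
  have hc : c ≤ 1 := by
    by_contra hc
    apply H.n25
    rw [hN]
    have : (25 : ℕ) ∣ 5 ^ c := by
      have : (5 : ℕ) ^ 2 ∣ 5 ^ c := pow_dvd_pow 5 (by omega)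
      simpa using this
    exact Dvd.dvd.mul_left this _
  have hge := H.hge
  have hd2 := H.d2
  have h36 : 5 ∣ N → 36 ∣ N := fun h => (H.five h).1
  interval_cases a <;> interval_cases b <;> interval_cases c <;> norm_num at hN <;>
    first
    | (exfalso; omega)
    | (exfalso; have := h36 (by rw [hN]; norm_num); omega)
    | (exfalso; exact H.not648 hN)
    | exact ⟨hN, H.is360 hN⟩
    | (exfalso
       refine H.notBig (by rw [hN]; norm_num) (by rw [hN]; norm_num) ?_ ?_ (by omega)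
       · rw [hN]
         simp only [Nat.divisors_ofNat]
         decide
       · rw [hN]
         simp only [Nat.divisors_ofNat]
         decide)

end Cfsg.Agent.Lib.H15.Nse
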