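import Mathlib
import Cfsg.Agent.Lib.H15.NseB
import Cfsg.Agent.Lib.H15.NseC

/-!
# Numbers of elements of each order (helper15 library, part E):
group-theoretic lemmas (normal subgroups, fixed-point-free conjugation) and the simplicity of the
groups with the order statistics of `A5` and `A6`.
-/

set_option autoImplicit false

namespace Cfsg.Agent.Lib.H15.Nse

variable {N : ℕ} {s : ℕ → ℕ}

theorem NseData.total_of_support (D : NseData N s) (T : Finset ℕ)
    (h : ∀ d, d ∉ T → s d = 0) : N = ∑ d ∈ T, s d := by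
  have e1 : ∑ d ∈ T, s d = ∑ d ∈ T.filter (fun d => d ∣ N), s d := by
    rw [Finset.sum_filter]
    apply Finset.sum_congr rfl
    intro d _
    split_ifs with h'
    · rfl
    · exact D.ndvd d h'
  have e2 : ∑ d ∈ N.divisors, s d = ∑ d ∈ N.divisors.filter (fun d => d ∈ T), s d := by
    rw [Finset.sum_filter]
    apply Finset.sum_congr rfl
    intro d _
    split_ifs with h'
    · rfl
    · exact h d h'
  have e3 : T.filter (fun d => d ∣ N) = N.divisors.filter (fun d => d ∈ T) := by
    ext d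
    simp only [Finset.mem_filter, Nat.mem_divisors]
    constructor
    · rintro ⟨h1, h2⟩
      exact ⟨⟨h2, D.pos.ne'⟩, h1⟩
    · rintro ⟨⟨h1, _⟩, h2⟩
      exact ⟨h2, h1⟩
  rw [e1, e3, ← e2]
  exact D.total

variable {G : Type*} [Group G]

/-- a normal subgroup of index prime to `p` contains all elements of `p`-power order -/
theorem mem_of_not_dvd_index [Finite G] (K : Subgroup G) [K.Normal] {p : ℕ} (hpp : p.Prime)
    (hp : ¬ p ∣ K.index) (g : G) (j : ℕ) (hg : orderOf g = p ^ j) : g ∈ K := by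
  rw [← QuotientGroup.eq_one_iff, ← orderOf_eq_one_iff]
  have h1 : orderOf (g : G ⧸ K) ∣ p ^ j := hg ▸ orderOf_map_dvd (QuotientGroup.mk' K) g
  have h2 : orderOf (g : G ⧸ K) ∣ K.index := by
    rw [Subgroup.index_eq_card]
    exact orderOf_dvd_natCard _
  have hc : Nat.Coprime (p ^ j) K.index :=
    Nat.Coprime.pow_left j ((Nat.Prime.coprime_iff_not_dvd hpp).2 hp)
  exact Nat.eq_one_of_dvd_one (hc ▸ Nat.dvd_gcd h1 h2)

/-- counting in a subgroup containing all elements of order `m` -/
theorem cnt_subgroup_eq (K : Subgroup G) (m : ℕ) (h : ∀ g : G, orderOf g = m → g ∈ K) :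
    cnt K m = cnt G m := by
  unfold cnt
  apply Nat.card_congr
  refine ⟨fun t => ⟨(t.1 : G), by rw [Subgroup.orderOf_coe]; exact t.2⟩,
    fun t => ⟨⟨t.1, h t.1 t.2⟩, by rw [Subgroup.orderOf_mk]; exact t.2⟩, ?_, ?_⟩
  · intro t; rfl
  · intro t; rfl

theorem cnt_subgroup_eq_zero [Finite G] (K : Subgroup G) (m : ℕ) (h : cnt G m = 0) :
    cnt K m = 0 := by
  by_contra h0
  obtain ⟨g, hg⟩ := (cnt_ne_zero_iff m).1 h0
  have : cnt G m ≠ 0 := by
    rw [cnt_ne_zero_iff]
    exact ⟨(g : G), by rw [Subgroup.orderOf_coe]; exact hg⟩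
  exact this h

/-- conjugation by `x` on the elements of order `m` of a normal subgroup -/
def conjEnd (K : Subgroup G) [K.Normal] (x : G) (m : ℕ) :
    Function.End {t : K // orderOf t = m} :=
  fun t => ⟨⟨x * (t.1 : G) * x⁻¹, ‹K.Normal›.conj_mem _ t.1.2 x⟩, by
    rw [Subgroup.orderOf_mk, ← MulAut.conj_apply, MulEquiv.orderOf_eq, Subgroup.orderOf_coe]
    exact t.2⟩

theorem conjEnd_pow (K : Subgroup G) [K.Normal] (x : G) (m : ℕ) (k : ℕ)
    (t : {t : K // orderOf t = m}) :
    ((((conjEnd K x m) ^ k) t).1 : G) = x ^ k * (t.1 : G) * (x ^ k)⁻¹ := by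
  induction k generalizing t with
  | zero =>
    simp only [pow_zero, one_mul, inv_one, mul_one]
    rfl
  | succ k ih =>
    rw [pow_succ]
    change ((((conjEnd K x m) ^ k) (conjEnd K x m t)).1 : G) = _
    rw [ih]
    change x ^ k * (x * (t.1 : G) * x⁻¹) * (x ^ k)⁻¹ = _
    rw [pow_succ]
    group

/-- if `x` of prime order `p` commutes with no element of order `m` of the normal subgroup `K`,
then `p` divides the number of these elements -/
theorem dvd_cnt_of_free [Finite G] (K : Subgroup G) [K.Normal] (x : G) (p : ℕ) [Fact p.Prime]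
    (hx : orderOf x = p) (m : ℕ) (hfree : ∀ t ∈ K, orderOf t = m → x * t ≠ t * x) :
    p ∣ cnt K m := by
  classical
  haveI : Fintype {t : K // orderOf t = m} := Fintype.ofFinite _
  have hf : (conjEnd K x m) ^ p ^ 1 = 1 := by
    funext t
    apply Subtype.ext
    apply Subtype.ext
    rw [pow_one, conjEnd_pow, ← hx, pow_orderOf_eq_one]
    simp only [one_mul, inv_one, mul_one]
    rfl
  have h1 := Equiv.Perm.card_fixedPoints_modEq (p := p) (n := 1) hf
  have h2 : IsEmpty (Function.fixedPoints (conjEnd K x m)) := by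
    constructor
    rintro ⟨t, ht⟩
    have e : x * (t.1 : G) * x⁻¹ = (t.1 : G) := by
      have := congrArg (fun u : {t : K // orderOf t = m} => ((u.1 : K) : G)) ht
      exact this
    apply hfree (t.1 : G) t.1.2 (by rw [Subgroup.orderOf_coe]; exact t.2)
    calc x * (t.1 : G) = x * (t.1 : G) * x⁻¹ * x := by group
      _ = (t.1 : G) * x := by rw [e]
  have h3 : Fintype.card {t : K // orderOf t = m} ≡ 0 [MOD p] := by
    refine h1.trans ?_
    unfold Nat.ModEq
    congr 1
    exact Fintype.card_eq_nat_card.trans Nat.card_of_isEmpty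
  unfold cnt
  rw [Nat.card_eq_fintype_card]
  exact (Nat.modEq_zero_iff_dvd).1 h3

end Cfsg.Agent.Lib.H15.Nse
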