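import Mathlib
import Cfsg.Agent.Lib.H15.NseE

/-!
# Numbers of elements of each order (helper15 library, part F):
simplicity of the groups with the order statistics of `A5` and `A6`.
-/

set_option autoImplicit false

namespace Cfsg.Agent.Lib.H15.Nse

variable {G : Type*} [Group G]

theorem five_dvd_cnt [Finite G] (K : Subgroup G) [K.Normal] (x : G) (hx : orderOf x = 5) (m : ℕ)
    (hm : Nat.Coprime 5 m) (h5m : cnt G (5 * m) = 0) : 5 ∣ cnt K m := by
  haveI : Fact (Nat.Prime 5) := ⟨Nat.prime_five⟩
  apply dvd_cnt_of_free K x 5 hx m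
  intro t _ hto hcomm
  have hc : Commute x t := hcomm
  have := hc.orderOf_mul_eq_mul_orderOf_of_coprime (by rw [hx, hto]; exact hm)
  rw [hx, hto] at this
  have h0 : cnt G (5 * m) ≠ 0 := by
    rw [cnt_ne_zero_iff]
    exact ⟨x * t, this⟩
  exact h0 h5m

theorem exists_orderOf_of_cnt [Finite G] (m : ℕ) (h : cnt G m ≠ 0) : ∃ x : G, orderOf x = m :=
  (cnt_ne_zero_iff m).1 h

/-- A group with the order statistics of `A5` is simple. -/
theorem simple_of_stats60 [Finite G] (hN : Nat.card G = 60) (h3 : cnt G 3 = 20)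
    (h5 : cnt G 5 = 24)
    (hz : ∀ m, m ≠ 1 → m ≠ 2 → m ≠ 3 → m ≠ 5 → cnt G m = 0) : IsSimpleGroup G := by
  haveI : Nontrivial G := by
    rw [← Finite.one_lt_card_iff_nontrivial, hN]
    norm_num
  refine ⟨fun K hK => ?_⟩
  haveI := hK
  have hki := K.card_mul_index
  rw [hN] at hki
  set k := Nat.card K with hk
  set i := K.index with hi
  have DK := nseData K
  rw [← hk] at DK
  have c1 : cnt K 1 = 1 := cnt_one
  by_cases hk5 : 5 ∣ k
  · right
    have hi5 : ¬ 5 ∣ i := by
      intro h
      have := Nat.mul_dvd_mul hk5 h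
      rw [hki] at this
      omega
    have all5 : ∀ g : G, orderOf g = 5 → g ∈ K := fun g hg =>
      mem_of_not_dvd_index K Nat.prime_five hi5 g 1 (by rw [hg]; norm_num)
    have c5 : cnt K 5 = 24 := by rw [cnt_subgroup_eq K 5 all5, h5]
    have b1 := DK.sum_le {1, 5}
    rw [Finset.sum_pair (by norm_num), c1, c5] at b1
    have hipos : 0 < i := Nat.pos_of_ne_zero (by rw [hi]; exact Subgroup.FiniteIndex.index_ne_zero)
    have hi2 : i ≤ 2 := by
      by_contra h
      have : 3 * 25 ≤ i * k := Nat.mul_le_mul (by omega) b1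
      rw [mul_comm i k, hki] at this
      omega
    interval_cases i
    · exact Subgroup.index_eq_one.1 hi.symm
    · exfalso
      have all3 : ∀ g : G, orderOf g = 3 → g ∈ K := fun g hg =>
        mem_of_not_dvd_index K Nat.prime_three (by rw [← hi]; norm_num) g 1 (by rw [hg]; norm_num)
      have c3 : cnt K 3 = 20 := by rw [cnt_subgroup_eq K 3 all3, h3]
      have b2 := DK.sum_le {1, 3, 5}
      rw [Finset.sum_insert (by simp), Finset.sum_pair (by norm_num), c1, c3, c5] at b2
      omega
  · left
    obtain ⟨x, hx⟩ := exists_orderOf_of_cnt (G := G) 5 (by rw [h5]; norm_num)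
    have d2 : 5 ∣ cnt K 2 := five_dvd_cnt K x hx 2 (by norm_num) (hz 10 (by norm_num) (by norm_num)
      (by norm_num) (by norm_num))
    have d3 : 5 ∣ cnt K 3 := five_dvd_cnt K x hx 3 (by norm_num) (hz 15 (by norm_num) (by norm_num)
      (by norm_num) (by norm_num))
    have tot := DK.total_of_support {1, 2, 3} (by
      intro d hd
      simp only [Finset.mem_insert, Finset.mem_singleton, not_or] at hd
      by_cases h5' : d = 5
      · subst h5'
        exact DK.ndvd 5 hk5
      · exact cnt_subgroup_eq_zero K d (hz d hd.1 hd.2.1 hd.2.2 h5'))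
    rw [Finset.sum_insert (by simp), Finset.sum_pair (by norm_num), c1] at tot
    have e2 : 2 ∣ k → cnt K 2 ≠ 0 := DK.cauchy 2 Nat.prime_two
    have e3 : 3 ∣ k → cnt K 3 ≠ 0 := DK.cauchy 3 Nat.prime_three
    have hk12 : k ∣ 12 := by
      have h1 : k ∣ 12 * 5 := ⟨i, by rw [hki]⟩
      exact Nat.Coprime.dvd_of_dvd_mul_right
        ((Nat.coprime_comm.1 ((Nat.Prime.coprime_iff_not_dvd Nat.prime_five).2 hk5))) h1
    have hk1 : k = 1 := by
      have hle : k ≤ 12 := Nat.le_of_dvd (by norm_num) hk12
      have hpos : 0 < k := Nat.card_pos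
      interval_cases k <;> first | rfl | (exfalso; omega)
    exact Subgroup.eq_bot_of_card_eq K hk1

/-- A group with the order statistics of `A6` is simple. -/
theorem simple_of_stats360 [Finite G] (hN : Nat.card G = 360) (h3 : cnt G 3 = 80)
    (h5 : cnt G 5 = 144) (hz : ∀ m, 5 < m → cnt G m = 0) : IsSimpleGroup G := by
  haveI : Nontrivial G := by
    rw [← Finite.one_lt_card_iff_nontrivial, hN]
    norm_num
  refine ⟨fun K hK => ?_⟩
  haveI := hK
  have hki := K.card_mul_index
  rw [hN] at hki
  set k := Nat.card K with hk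
  set i := K.index with hi
  have DK := nseData K
  rw [← hk] at DK
  have c1 : cnt K 1 = 1 := cnt_one
  have hipos : 0 < i := Nat.pos_of_ne_zero (by rw [hi]; exact Subgroup.FiniteIndex.index_ne_zero)
  by_cases hk5 : 5 ∣ k
  · right
    have hi5 : ¬ 5 ∣ i := by
      intro h
      have := Nat.mul_dvd_mul hk5 h
      rw [hki] at this
      omega
    have all5 : ∀ g : G, orderOf g = 5 → g ∈ K := fun g hg =>
      mem_of_not_dvd_index K Nat.prime_five hi5 g 1 (by rw [hg]; norm_num)
    have c5 : cnt K 5 = 144 := by rw [cnt_subgroup_eq K 5 all5, h5]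
    have b1 := DK.sum_le {1, 5}
    rw [Finset.sum_pair (by norm_num), c1, c5] at b1
    have hi2 : i ≤ 2 := by
      by_contra h
      have : 3 * 145 ≤ i * k := Nat.mul_le_mul (by omega) b1
      rw [mul_comm i k, hki] at this
      omega
    interval_cases i
    · exact Subgroup.index_eq_one.1 hi.symm
    · exfalso
      have all3 : ∀ g : G, orderOf g = 3 → g ∈ K := fun g hg =>
        mem_of_not_dvd_index K Nat.prime_three (by rw [← hi]; norm_num) g 1 (by rw [hg]; norm_num)
      have c3 : cnt K 3 = 80 := by rw [cnt_subgroup_eq K 3 all3, h3]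
      have b2 := DK.sum_le {1, 3, 5}
      rw [Finset.sum_insert (by simp), Finset.sum_pair (by norm_num), c1, c3, c5] at b2
      omega
  · left
    obtain ⟨x, hx⟩ := exists_orderOf_of_cnt (G := G) 5 (by rw [h5]; norm_num)
    have d2 : 5 ∣ cnt K 2 := five_dvd_cnt K x hx 2 (by norm_num) (hz 10 (by norm_num))
    have d3 : 5 ∣ cnt K 3 := five_dvd_cnt K x hx 3 (by norm_num) (hz 15 (by norm_num))
    have d4 : 5 ∣ cnt K 4 := five_dvd_cnt K x hx 4 (by norm_num) (hz 20 (by norm_num))
    have tot := DK.total_of_support {1, 2, 3, 4} (by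
      intro d hd
      simp only [Finset.mem_insert, Finset.mem_singleton, not_or] at hd
      by_cases h5' : d = 5
      · subst h5'
        exact DK.ndvd 5 hk5
      · by_cases h0 : d = 0
        · subst h0
          exact DK.s_zero
        · exact cnt_subgroup_eq_zero K d (hz d (by omega)))
    rw [Finset.sum_insert (by simp), Finset.sum_insert (by simp), Finset.sum_pair (by norm_num),
      c1] at tot
    have e2 : 2 ∣ k → cnt K 2 ≠ 0 := DK.cauchy 2 Nat.prime_two
    have e3 : 3 ∣ k → cnt K 3 ≠ 0 := DK.cauchy 3 Nat.prime_three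
    have hk72 : k ∣ 72 := by
      have h1 : k ∣ 72 * 5 := ⟨i, by rw [hki]⟩
      exact Nat.Coprime.dvd_of_dvd_mul_right
        ((Nat.coprime_comm.1 ((Nat.Prime.coprime_iff_not_dvd Nat.prime_five).2 hk5))) h1
    have h36 : k = 36 → False := by
      intro h36
      have hi10 : i = 10 := by
        rw [h36] at hki
        omega
      have all3 : ∀ g : G, orderOf g = 3 → g ∈ K := fun g hg =>
        mem_of_not_dvd_index K Nat.prime_three (by rw [← hi, hi10]; norm_num) g 1
          (by rw [hg]; norm_num)
      have c3 : cnt K 3 = 80 := by rw [cnt_subgroup_eq K 3 all3, h3]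
      omega
    have hk1 : k = 1 := by
      have hle : k ≤ 72 := Nat.le_of_dvd (by norm_num) hk72
      have hpos : 0 < k := Nat.card_pos
      interval_cases k <;> first | rfl | (exfalso; omega) | exact (h36 rfl).elim
    exact Subgroup.eq_bot_of_card_eq K hk1

end Cfsg.Agent.Lib.H15.Nse
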