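import Mathlib
import Cfsg.Agent.Lib.H15.NseD
import Cfsg.Agent.Lib.H15.NseF
import Cfsg.Agent.Lib.H18.NseA5
import Cfsg.Agent.S0228
import Cfsg.Agent.S0494
import Cfsg.Agent.S0497

/-!
# Numbers of elements of each order (helper15 library, part G):
recognition of `A4`, `A5`, `A6` from the set of numbers of elements of each order.
-/

set_option autoImplicit false

namespace Cfsg.Agent.Lib.H15.Nse

variable {G : Type*} [Group G]

/-- values of `cnt` lie in the `nse` set (or vanish) -/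
theorem cnt_mem_of_nse [Finite G] (S : Set ℕ)
    (h : ((fun m : ℕ => Nat.card {g : G // orderOf g = m}) '' Set.range (orderOf : G → ℕ)) = S)
    (m : ℕ) : cnt G m = 0 ∨ cnt G m ∈ S := by
  by_cases h0 : cnt G m = 0
  · left; exact h0
  · right
    obtain ⟨g, hg⟩ := (cnt_ne_zero_iff m).1 h0
    rw [← h]
    exact ⟨m, ⟨g, hg⟩, rfl⟩

theorem exists_cnt_of_nse [Finite G] (S : Set ℕ)
    (h : ((fun m : ℕ => Nat.card {g : G // orderOf g = m}) '' Set.range (orderOf : G → ℕ)) = S)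
    (v : ℕ) (hv : v ∈ S) : ∃ m, cnt G m = v := by
  rw [← h] at hv
  obtain ⟨m, _, hm⟩ := hv
  exact ⟨m, hm⟩

theorem main4 [Finite G]
    (h : ((fun m : ℕ => Nat.card {g : G // orderOf g = m}) '' Set.range (orderOf : G → ℕ)) =
      ({1, 3, 8} : Set ℕ)) : Nonempty (G ≃* alternatingGroup (Fin 4)) := by
  have hV : ∀ m, cnt G m = 0 ∨ cnt G m = 1 ∨ cnt G m = 3 ∨ cnt G m = 8 := by
    intro m
    rcases cnt_mem_of_nse _ h m with h0 | h0
    · left; exact h0
    · right
      simpa using h0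
  obtain ⟨hN, h6⟩ := arith_A4 (nseData G) hV (exists_cnt_of_nse _ h 3 (by simp))
    (exists_cnt_of_nse _ h 8 (by simp))
  apply Cfsg.Agent.S0228.result hN
  intro z hz hzc
  haveI : Fact (Nat.Prime 3) := ⟨Nat.prime_three⟩
  obtain ⟨x, hx⟩ := exists_prime_orderOf_dvd_card' (G := G) 3 (by rw [hN]; norm_num)
  have hc : Commute z x := (Subgroup.mem_center_iff.1 hzc x).symm
  have := hc.orderOf_mul_eq_mul_orderOf_of_coprime (by rw [hz, hx]; norm_num)
  rw [hz, hx] at this
  have h0 : cnt G 6 ≠ 0 := by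
    rw [cnt_ne_zero_iff]
    exact ⟨z * x, this⟩
  exact h0 h6

theorem main5 [Finite G]
    (h : ((fun m : ℕ => Nat.card {g : G // orderOf g = m}) '' Set.range (orderOf : G → ℕ)) =
      ({1, 15, 20, 24} : Set ℕ)) : Nonempty (G ≃* alternatingGroup (Fin 5)) := by
  have hV : ∀ m, cnt G m = 0 ∨ cnt G m = 1 ∨ cnt G m = 15 ∨ cnt G m = 20 ∨ cnt G m = 24 := by
    intro m
    rcases cnt_mem_of_nse _ h m with h0 | h0
    · left; exact h0
    · right
      simpa using h0
  obtain ⟨hN, _, h3, h5, hz⟩ := Cfsg.Agent.Lib.H18.NseA5.arith_A5 (nseData G) hV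
    (exists_cnt_of_nse _ h 15 (by simp)) (exists_cnt_of_nse _ h 20 (by simp))
    (exists_cnt_of_nse _ h 24 (by simp))
  haveI := simple_of_stats60 hN h3 h5 hz
  exact Cfsg.Agent.S0494.result hN

theorem main6 [Finite G]
    (h : ((fun m : ℕ => Nat.card {g : G // orderOf g = m}) '' Set.range (orderOf : G → ℕ)) =
      ({1, 45, 80, 90, 144} : Set ℕ)) : Nonempty (G ≃* alternatingGroup (Fin 6)) := by
  have hV : ∀ m, cnt G m = 0 ∨ cnt G m = 1 ∨ cnt G m = 45 ∨ cnt G m = 80 ∨ cnt G m = 90 ∨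
      cnt G m = 144 := by
    intro m
    rcases cnt_mem_of_nse _ h m with h0 | h0
    · left; exact h0
    · right
      simpa using h0
  obtain ⟨hN, _, h3, _, h5, hz⟩ := arith_A6 ⟨nseData G, hV,
    exists_cnt_of_nse _ h 45 (by simp), exists_cnt_of_nse _ h 80 (by simp),
    exists_cnt_of_nse _ h 90 (by simp), exists_cnt_of_nse _ h 144 (by simp)⟩
  haveI := simple_of_stats360 hN h3 h5 hz
  exact Cfsg.Agent.S0497.result hN

end Cfsg.Agent.Lib.H15.Nse
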