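import Cfsg.Agent.Lib.H24.CharOrth
import Cfsg.Agent.Lib.H8.GaloisClassFun

/-!
S0977 piece (O2) `b0_structure`, exact signature of `tools/blueprints/S0977_sigs.lean` (helper15):
the "principal 5-block" of a group with a self-centralizing subgroup `K` of order 5 all of whose nonidentity elements are
conjugate, from column orthogonality only.
-/

set_option autoImplicit false

namespace Cfsg.Agent.Lib.H15.O4320

open Cfsg Cfsg.Agent.Lib.H24 Cfsg.Agent.Lib.L0
open scoped BigOperators ComplexConjugate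
universe u

/-- integers whose squares sum to `4` over a finset, all nonzero: all `±1` and four of them, or a single `±2`. -/
theorem sq_sum_four {ι : Type*} (S : Finset ι) (m : ι → ℤ) (h0 : ∀ i ∈ S, m i ≠ 0)
    (h : ∑ i ∈ S, m i ^ 2 = 4) :
    (S.card = 4 ∧ ∀ i ∈ S, m i = 1 ∨ m i = -1) ∨
      ∃ i ∈ S, (m i = 2 ∨ m i = -2) ∧ ∀ j ∈ S, j = i := by
  classical
  by_cases hbig : ∃ i ∈ S, 4 ≤ m i ^ 2
  · right
    obtain ⟨i, hi, hi4⟩ := hbig
    have hsplit : m i ^ 2 + ∑ j ∈ S.erase i, m j ^ 2 = 4 := by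
      rw [Finset.add_sum_erase S (fun j => m j ^ 2) hi]; exact h
    have hrest : ∑ j ∈ S.erase i, m j ^ 2 = 0 := by
      have hnn : 0 ≤ ∑ j ∈ S.erase i, m j ^ 2 := Finset.sum_nonneg fun j _ => sq_nonneg _
      linarith
    have hmi : m i ^ 2 = 4 := by linarith
    refine ⟨i, hi, ?_, ?_⟩
    · have h2 : (m i - 2) * (m i + 2) = 0 := by ring_nf; linarith
      rcases mul_eq_zero.1 h2 with h3 | h3
      · left; linarith
      · right; linarith
    · intro j hj
      by_contra hne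
      have hj' : j ∈ S.erase i := Finset.mem_erase.2 ⟨hne, hj⟩
      have h4 := (Finset.sum_eq_zero_iff_of_nonneg (fun k _ => sq_nonneg (m k))).1 hrest j hj'
      exact h0 j hj ((pow_eq_zero_iff (two_ne_zero)).1 h4)
  · left
    push Not at hbig
    have hone : ∀ i ∈ S, m i = 1 ∨ m i = -1 := by
      intro i hi
      have h1 := hbig i hi
      have h2 := h0 i hi
      have h3 : -2 < m i := by nlinarith
      have h4 : m i < 2 := by nlinarith
      omega
    refine ⟨?_, hone⟩
    have h5 : ∑ i ∈ S, m i ^ 2 = ∑ i ∈ S, (1 : ℤ) := by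
      refine Finset.sum_congr rfl fun i hi => ?_
      rcases hone i hi with h6 | h6 <;> rw [h6] <;> norm_num
    rw [h5, Finset.sum_const, nsmul_eq_mul, mul_one] at h
    exact_mod_cast h

/-- (O2) -/
theorem b0_structure {G : Type u} [Group G] [Fintype G] (K : Subgroup G) (hK : Nat.card K = 5)
    (hC : Subgroup.centralizer (K : Set G) = K) {x : G} (hx : x ∈ K) (hx1 : x ≠ 1)
    (hconj : ∀ k ∈ K, k ≠ 1 → IsConj x k) :
    ∃ (χ : Fin 4 → IrrCharacter G) (ε : Fin 4 → ℤ), Function.Injective χ ∧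
      (∀ i, (χ i : G → ℂ) ≠ 1) ∧ (∀ i, ε i = 1 ∨ ε i = -1) ∧
      (∀ i, (χ i : G → ℂ) x = (ε i : ℂ)) ∧
      (∀ ψ : IrrCharacter G, (ψ : G → ℂ) ≠ 1 → (∀ i, ψ ≠ χ i) → (ψ : G → ℂ) x = 0) ∧
      ∀ g : G, ¬ IsConj g x → 1 + ∑ i, (ε i : ℂ) * (χ i : G → ℂ) g = 0 := by
  classical
  have hfi : Fintype (IrrCharacter G) := Fintype.ofFinite (IrrCharacter G)
  -- the order of `x`
  have hox : orderOf x = 5 := by
    have h1 : orderOf (⟨x, hx⟩ : K) ∣ Nat.card K := orderOf_dvd_natCard _
    rw [hK, Subgroup.orderOf_mk] at h1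
    rcases (Nat.Prime.eq_one_or_self_of_dvd (by norm_num : Nat.Prime 5) _ h1) with h2 | h2
    · exact absurd (orderOf_eq_one_iff.1 h2) hx1
    · exact h2
  have h5G : 5 ∣ Nat.card G := by rw [← hox]; exact orderOf_dvd_natCard x
  -- `K` is generated by `x`
  have hKx : ∀ k ∈ K, ∃ n : ℕ, k = x ^ n := by
    have hle : Subgroup.zpowers x ≤ K := (Subgroup.zpowers_le).2 hx
    have hcard : Nat.card (Subgroup.zpowers x) = Nat.card K := by
      rw [Nat.card_zpowers, hox, hK]
    have heq : Subgroup.zpowers x = K := Subgroup.eq_of_le_of_card_ge hle (le_of_eq hcard.symm)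
    intro k hk
    rw [← heq] at hk
    obtain ⟨n, hn⟩ := (mem_zpowers_iff_mem_range_orderOf (x := x) (y := k)).1 hk |> fun h => by
      simpa using h
    exact ⟨n, hn.2.symm⟩
  -- the centralizer of `x`
  have hcent : Nat.card (Subgroup.centralizer ({x} : Set G)) = 5 := by
    have h1 : Subgroup.centralizer ({x} : Set G) = Subgroup.centralizer (K : Set G) := by
      apply le_antisymm
      · intro g hg
        rw [Subgroup.mem_centralizer_iff] at hg ⊢
        intro k hk
        obtain ⟨n, rfl⟩ := hKx k hk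
        have h2 : x * g = g * x := hg x (Set.mem_singleton x)
        exact ((Commute.pow_left (show Commute x g from h2) n)).eq
      · exact Subgroup.centralizer_le (Set.singleton_subset_iff.2 hx)
    rw [h1, hC, hK]
  -- character values at `x` are integers
  have hint : ∀ ψ : IrrCharacter G, ∃ m : ℤ, (ψ : G → ℂ) x = m := by
    intro ψ
    apply Cfsg.Agent.Lib.H8.exists_int_of_forall_pow_eq (Or.inl ψ.2) x
    intro n hn
    have hn5 : ¬ 5 ∣ n := by
      intro h
      have h1 : 5 ∣ Nat.gcd n (Nat.card G) := Nat.dvd_gcd h h5G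
      rw [Nat.Coprime] at hn
      rw [hn] at h1
      omega
    have hne : x ^ n ≠ 1 := by
      intro h
      apply hn5
      rw [← hox]
      exact orderOf_dvd_of_pow_eq_one h
    obtain ⟨c, hc⟩ := isConj_iff.1 (hconj (x ^ n) (K.pow_mem hx n) hne)
    rw [← hc]
    exact isClassFunction_of_isCharacter (isCharacter_of_irr ψ.2) x c
  choose m hm using hint
  -- the trivial character
  set T : IrrCharacter G := trivialIrr G with hT
  have hmT : m T = 1 := by
    have h1 : ((m T : ℤ) : ℂ) = 1 := by rw [← hm T]; rfl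
    exact_mod_cast h1
  have hT1 : ∀ ψ : IrrCharacter G, (ψ : G → ℂ) = 1 → ψ = T := by
    intro ψ h
    apply Subtype.ext
    rw [h]; rfl
  -- second orthogonality at `(x, x)`: the sum of the squares is `5`
  have hsq : ∑ ψ : IrrCharacter G, m ψ ^ 2 = 5 := by
    have h1 := second_orthogonality x x
    rw [if_pos (IsConj.refl x), hcent] at h1
    have h2 : ∀ ψ : IrrCharacter G, (ψ : G → ℂ) x * conj ((ψ : G → ℂ) x) = ((m ψ ^ 2 : ℤ) : ℂ) := by
      intro ψ
      rw [hm ψ, map_intCast]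
      push_cast
      ring
    rw [Finset.sum_congr rfl (fun ψ _ => h2 ψ)] at h1
    have h3 : ((∑ ψ : IrrCharacter G, m ψ ^ 2 : ℤ) : ℂ) = ((5 : ℤ) : ℂ) := by
      push_cast
      push_cast at h1
      exact h1
    exact_mod_cast h3
  -- the support
  set S : Finset (IrrCharacter G) := Finset.univ.filter (fun ψ => ψ ≠ T ∧ m ψ ≠ 0) with hS
  have hSsum : ∑ ψ ∈ S, m ψ ^ 2 = 4 := by
    have h1 : ∑ ψ : IrrCharacter G, m ψ ^ 2 = m T ^ 2 + ∑ ψ ∈ Finset.univ.erase T, m ψ ^ 2 := by
      rw [Finset.add_sum_erase Finset.univ (fun ψ => m ψ ^ 2) (Finset.mem_univ T)]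
    have h2 : ∑ ψ ∈ Finset.univ.erase T, m ψ ^ 2 = ∑ ψ ∈ S, m ψ ^ 2 := by
      symm
      apply Finset.sum_subset
      · intro ψ hψ
        rw [hS, Finset.mem_filter] at hψ
        exact Finset.mem_erase.2 ⟨hψ.2.1, Finset.mem_univ _⟩
      · intro ψ hψ hψS
        rw [Finset.mem_erase] at hψ
        have h3 : m ψ = 0 := by
          by_contra h4
          exact hψS (by rw [hS, Finset.mem_filter]; exact ⟨Finset.mem_univ _, hψ.1, h4⟩)
        rw [h3]; norm_num
    rw [h1, h2, hmT] at hsq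
    linarith
  have hS0 : ∀ ψ ∈ S, m ψ ≠ 0 := fun ψ hψ => by
    rw [hS, Finset.mem_filter] at hψ; exact hψ.2.2
  have hSprop : ∀ ψ ∈ S, ψ ≠ T := fun ψ hψ => by
    rw [hS, Finset.mem_filter] at hψ; exact hψ.2.1
  have hSmem : ∀ ψ : IrrCharacter G, ψ ≠ T → m ψ ≠ 0 → ψ ∈ S := fun ψ h1 h2 => by
    rw [hS, Finset.mem_filter]; exact ⟨Finset.mem_univ _, h1, h2⟩
  -- a general column relation: `∑ ψ, ψ(g) * m ψ = 0` for `g` not conjugate to `x`
  have hcol : ∀ g : G, ¬ IsConj g x → ∑ ψ : IrrCharacter G, (ψ : G → ℂ) g * (m ψ : ℂ) = 0 := by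
    intro g hg
    have h1 := second_orthogonality g x
    rw [if_neg hg] at h1
    rw [← h1]
    refine Finset.sum_congr rfl fun ψ _ => ?_
    rw [hm ψ, map_intCast]
  have hcolS : ∀ g : G, ¬ IsConj g x → 1 + ∑ ψ ∈ S, (m ψ : ℂ) * (ψ : G → ℂ) g = 0 := by
    intro g hg
    have h1 := hcol g hg
    rw [← Finset.add_sum_erase _ _ (Finset.mem_univ T)] at h1
    have h2 : ∑ ψ ∈ Finset.univ.erase T, (ψ : G → ℂ) g * (m ψ : ℂ) =
        ∑ ψ ∈ S, (m ψ : ℂ) * (ψ : G → ℂ) g := by
      symm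
      rw [Finset.sum_congr rfl (fun ψ _ => mul_comm (m ψ : ℂ) ((ψ : G → ℂ) g))]
      apply Finset.sum_subset
      · intro ψ hψ
        rw [hS, Finset.mem_filter] at hψ
        exact Finset.mem_erase.2 ⟨hψ.2.1, Finset.mem_univ _⟩
      · intro ψ hψ hψS
        rw [Finset.mem_erase] at hψ
        have h3 : m ψ = 0 := by
          by_contra h4
          exact hψS (hSmem ψ hψ.1 h4)
        rw [h3]; simp
    rw [h2, hmT] at h1
    have h4 : (T : G → ℂ) g = 1 := rfl
    rw [h4] at h1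
    simpa using h1
  have h1x : ¬ IsConj (1 : G) x := by
    intro h
    exact hx1 (isConj_one_right.1 h)
  rcases sq_sum_four S m hS0 hSsum with ⟨hcard, hone⟩ | ⟨ψ₀, hψ₀, h2, hall⟩
  · -- four characters with values `±1`
    let e : S ≃ Fin 4 := Finset.equivFinOfCardEq hcard
    refine ⟨fun i => (e.symm i).1, fun i => m (e.symm i).1, ?_, ?_, ?_, ?_, ?_, ?_⟩
    · intro i j hij
      exact e.symm.injective (Subtype.ext hij)
    · intro i h
      exact hSprop _ (e.symm i).2 (hT1 _ h)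
    · intro i
      exact hone _ (e.symm i).2
    · intro i
      exact hm _
    · intro ψ hψ1 hψ
      have hψT : ψ ≠ T := fun h => hψ1 (by rw [h]; rfl)
      have h3 : m ψ = 0 := by
        by_contra h4
        have h5 : ψ ∈ S := hSmem ψ hψT h4
        apply hψ (e ⟨ψ, h5⟩)
        simp
      rw [hm ψ, h3]
      simp
    · intro g hg
      have h3 := hcolS g hg
      rw [← h3]
      congr 1
      rw [← Finset.sum_coe_sort S (fun ψ => (m ψ : ℂ) * (ψ : G → ℂ) g)]
      exact (Equiv.sum_comp e.symm (fun ψ : S => (m ψ.1 : ℂ) * (ψ.1 : G → ℂ) g))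
  · -- a single character with value `±2`: impossible by parity
    exfalso
    have h3 := hcolS 1 h1x
    have h4 : S = {ψ₀} := by
      ext ψ
      rw [Finset.mem_singleton]
      exact ⟨fun h => hall ψ h, fun h => h ▸ hψ₀⟩
    rw [h4, Finset.sum_singleton] at h3
    obtain ⟨d, -, hd⟩ := irr_one_eq ψ₀
    rw [hd] at h3
    have h5 : (1 : ℤ) + m ψ₀ * (d : ℤ) = 0 := by
      have : (((1 : ℤ) + m ψ₀ * (d : ℤ) : ℤ) : ℂ) = 0 := by
        push_cast
        exact h3
      exact_mod_cast this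
    rcases h2 with h6 | h6 <;> rw [h6] at h5 <;> omega

end Cfsg.Agent.Lib.H15.O4320
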