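import Cfsg.Agent.Lib.H15.O5760A

/-!
S0980 pieces (E1) `eig_list` and (E2) `real_values`, exact signatures of `tools/blueprints/S0980_sigs.lean` (helper15).
-/

set_option autoImplicit false

namespace Cfsg.Agent.Lib.H15.O5760

open Cfsg
open scoped BigOperators
universe u

/-- (E1) -/
theorem eig_list {G : Type u} [Group G] [Finite G] (ψ : IrrCharacter G) (x : G) (hx : orderOf x = 5) :
    ∃ (n : ℕ) (a : Fin n → ℂ), (∀ k, a k ^ 5 = 1) ∧ ∀ j : ℕ, (ψ : G → ℂ) (x ^ j) = ∑ k, a k ^ j := by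
  obtain ⟨d, R, htr, -, -, -, -⟩ := Cfsg.Agent.Lib.H15.B60.exists_isometric_model ψ.1 ψ.2
  obtain ⟨a, hpow, hroot, -, -⟩ := Cfsg.Agent.Lib.H9.B60.exists_eigen_list_rep R ψ.1 htr
    (finrank_euclideanSpace_fin) x
  rw [hx] at hroot
  exact ⟨d, a, hroot, hpow⟩

/-- (E2) -/
theorem real_values {n : ℕ} (ζ : ℂ) (hζ : IsPrimitiveRoot ζ 5) (a : Fin n → ℂ) (ha : ∀ k, a k ^ 5 = 1)
    (h14 : ∑ k, a k ^ 1 = ∑ k, a k ^ 4) (h23 : ∑ k, a k ^ 2 = ∑ k, a k ^ 3) :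
    ∃ A m : ℤ, ∑ k, a k ^ 1 = (A : ℂ) + m * (ζ + ζ ^ 4) ∧ ∑ k, a k ^ 2 = (A : ℂ) + m * (ζ ^ 2 + ζ ^ 3) := by
  classical
  have h5 := zeta_pow_five hζ
  have hs := zeta_sum hζ
  have hidx : ∀ k, ∃ i, i < 5 ∧ ζ ^ i = a k := fun k => hζ.eq_pow_of_pow_eq_one (ha k)
  choose idx hidx5 hidxa using hidx
  set m : ℕ → ℕ := fun i => (Finset.univ.filter (fun k => idx k = i)).card with hm
  have hval : ∀ j : ℕ, ∑ k, a k ^ j = ∑ i ∈ Finset.range 5, (m i : ℂ) * ζ ^ (i * j) := by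
    intro j
    have h1 : ∀ k, a k ^ j = ζ ^ (idx k * j) := fun k => by rw [← hidxa k, pow_mul]
    rw [Finset.sum_congr rfl (fun k _ => h1 k)]
    rw [← Finset.sum_fiberwise_of_maps_to (s := Finset.univ) (t := Finset.range 5) (g := idx)
      (fun k _ => Finset.mem_range.2 (hidx5 k))]
    refine Finset.sum_congr rfl fun i _ => ?_
    rw [Finset.sum_congr rfl (fun k hk => by rw [(Finset.mem_filter.1 hk).2]), Finset.sum_const,
      nsmul_eq_mul]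
  have hv1 : ∑ k, a k ^ 1 = m 0 + m 1 * ζ + m 2 * ζ ^ 2 + m 3 * ζ ^ 3 + m 4 * ζ ^ 4 := by
    have := hval 1
    simp only [Finset.sum_range_succ, Finset.sum_range_zero, mul_one, zero_add, pow_zero] at this
    rw [this]
    ring
  have hv2 : ∑ k, a k ^ 2 = m 0 + m 1 * ζ ^ 2 + m 2 * ζ ^ 4 + m 3 * ζ + m 4 * ζ ^ 3 := by
    have := hval 2
    simp only [Finset.sum_range_succ, Finset.sum_range_zero, zero_add, zero_mul, pow_zero, mul_one,
      one_mul] at this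
    rw [this]
    have e6 : ζ ^ (3 * 2) = ζ := by
      calc ζ ^ (3 * 2) = ζ ^ 5 * ζ := by ring
        _ = ζ := by rw [h5]; ring
    have e8 : ζ ^ (4 * 2) = ζ ^ 3 := by
      calc ζ ^ (4 * 2) = ζ ^ 5 * ζ ^ 3 := by ring
        _ = ζ ^ 3 := by rw [h5]; ring
    rw [e6, e8]
  have hv4 : ∑ k, a k ^ 4 = m 0 + m 1 * ζ ^ 4 + m 2 * ζ ^ 3 + m 3 * ζ ^ 2 + m 4 * ζ := by
    have := hval 4
    simp only [Finset.sum_range_succ, Finset.sum_range_zero, zero_add, zero_mul, pow_zero, mul_one,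
      one_mul] at this
    rw [this]
    have e8 : ζ ^ (2 * 4) = ζ ^ 3 := by
      calc ζ ^ (2 * 4) = ζ ^ 5 * ζ ^ 3 := by ring
        _ = ζ ^ 3 := by rw [h5]; ring
    have e12 : ζ ^ (3 * 4) = ζ ^ 2 := by
      calc ζ ^ (3 * 4) = (ζ ^ 5) ^ 2 * ζ ^ 2 := by ring
        _ = ζ ^ 2 := by rw [h5]; ring
    have e16 : ζ ^ (4 * 4) = ζ := by
      calc ζ ^ (4 * 4) = (ζ ^ 5) ^ 3 * ζ := by ring
        _ = ζ := by rw [h5]; ring
    rw [e8, e12, e16]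
  have huv := uv_zero hζ ((m 1 : ℤ) - m 4) ((m 2 : ℤ) - m 3) (by
    push_cast
    have h1 := h14
    rw [hv1, hv4] at h1
    linear_combination h1)
  have h14' : (m 1 : ℂ) = m 4 := by
    have : (m 1 : ℤ) = m 4 := by linarith [huv.1]
    exact_mod_cast this
  have h23' : (m 2 : ℂ) = m 3 := by
    have : (m 2 : ℤ) = m 3 := by linarith [huv.2]
    exact_mod_cast this
  refine ⟨(m 0 : ℤ) - m 2, (m 1 : ℤ) - m 2, ?_, ?_⟩
  · rw [hv1, ← h14', ← h23']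
    push_cast
    linear_combination (m 2 : ℂ) * hs
  · rw [hv2, ← h14', ← h23']
    push_cast
    linear_combination (m 2 : ℂ) * hs

end Cfsg.Agent.Lib.H15.O5760
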