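import Cfsg.Agent.Lib.H15.O5760E4Core
import Cfsg.Agent.Lib.H12.O5760E3

/-!
S0980 piece (E4) `b0_structure` in the exact signature of `tools/blueprints/S0980_sigs_h16.lean` (helper15):
`b0_structure_core` (this seat) fed with helper12's (E3) `arith_three`.
-/

set_option autoImplicit false

namespace Cfsg.Agent.Lib.H15.O5760

open Cfsg
open scoped BigOperators
universe u

theorem b0_structure {G : Type u} [Group G] [Fintype G] (hperf : commutator G = ⊤)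
    (K : Subgroup G) (hK : Nat.card K = 5) (hC : Subgroup.centralizer (K : Set G) = K)
    {x : G} (hx : x ∈ K) (hx1 : x ≠ 1) (hinv : IsConj x x⁻¹) (hsq : ¬ IsConj x (x ^ 2))
    (ζ : ℂ) (hζ : IsPrimitiveRoot ζ 5) :
    ∃ (χ θ θ' : IrrCharacter G) (ε δ : ℤ), (ε = 1 ∨ ε = -1) ∧ (δ = 1 ∨ δ = -1) ∧
      (χ : G → ℂ) ≠ 1 ∧ (θ : G → ℂ) ≠ 1 ∧ (θ' : G → ℂ) ≠ 1 ∧ χ ≠ θ ∧ χ ≠ θ' ∧ θ ≠ θ' ∧
      (χ : G → ℂ) x = ε ∧ (θ : G → ℂ) x = δ * (ζ + ζ ^ 4) ∧ (θ' : G → ℂ) x = δ * (ζ ^ 2 + ζ ^ 3) ∧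
      (∀ ψ : IrrCharacter G, (ψ : G → ℂ) ≠ 1 → ψ ≠ χ → ψ ≠ θ → ψ ≠ θ' → (ψ : G → ℂ) x = 0) ∧
      ∀ g : G, ¬ IsConj g x → ¬ IsConj g (x ^ 2) →
        (θ : G → ℂ) g = (θ' : G → ℂ) g ∧
          1 + (ε : ℂ) * (χ : G → ℂ) g - (δ : ℂ) * (θ : G → ℂ) g = 0 :=
  b0_structure_core hperf K hK hC hx hx1 hinv hsq ζ hζ
    (fun A m i₁ h1 h2 h3 h4 => Cfsg.Agent.Lib.H12.O5760.arith_three A m i₁ h1 h2 h3 h4)

end Cfsg.Agent.Lib.H15.O5760
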