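import Cfsg.Agent.Lib.H15.O5760A
import Cfsg.Agent.Lib.H24.CharOrth
import Cfsg.Agent.Lib.H24.BrauerP4

/-!
S0980 piece (E4), core: `b0_structure` with the integer combinatorics (E3) `arith_three` as a hypothesis (helper15).
-/

set_option autoImplicit false

namespace Cfsg.Agent.Lib.H15.O5760

open Cfsg Cfsg.Agent.Lib.H24 Cfsg.Agent.Lib.L0
open scoped BigOperators ComplexConjugate
universe u

/-- `1, ζ + ζ⁴` are linearly independent over `ℤ`. -/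
theorem al_lin_indep {ζ : ℂ} (hζ : IsPrimitiveRoot ζ 5) (a b : ℤ)
    (h : (a : ℂ) + b * (ζ + ζ ^ 4) = 0) : a = 0 ∧ b = 0 := by
  by_cases hb : b = 0
  · subst hb
    refine ⟨?_, rfl⟩
    have : (a : ℂ) = 0 := by simpa using h
    exact_mod_cast this
  · exfalso
    have hbc : (b : ℂ) ≠ 0 := by exact_mod_cast hb
    apply al_irrational hζ ((-a : ℤ) / (b : ℤ) : ℚ)
    have h1 : ((((-a : ℤ) : ℚ) / ((b : ℤ) : ℚ) : ℚ) : ℂ) = (-(a : ℂ)) / (b : ℂ) := by push_cast; ring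
    rw [h1, eq_div_iff hbc]
    linear_combination h

/-- `ζ + ζ⁴ ≠ ζ² + ζ³`. -/
theorem al_ne_be {ζ : ℂ} (hζ : IsPrimitiveRoot ζ 5) : ζ + ζ ^ 4 ≠ ζ ^ 2 + ζ ^ 3 := by
  intro h
  have h1 := al_add_be hζ
  rw [← h] at h1
  -- `2 α = -1`
  have h2 := al_lin_indep hζ 1 2 (by push_cast; linear_combination h1)
  omega

/-- a sum over a fintype of a function supported on four distinct points -/
theorem sum_four {ι : Type*} [Fintype ι] [DecidableEq ι] (f : ι → ℂ) (a b c d : ι) (hab : a ≠ b)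
    (hac : a ≠ c) (had : a ≠ d) (hbc : b ≠ c) (hbd : b ≠ d) (hcd : c ≠ d)
    (h0 : ∀ i, i ≠ a → i ≠ b → i ≠ c → i ≠ d → f i = 0) :
    ∑ i, f i = f a + f b + f c + f d := by
  have h1 : ∑ i, f i = ∑ i ∈ ({a, b, c, d} : Finset ι), f i := by
    symm
    apply Finset.sum_subset (Finset.subset_univ _)
    intro i _ hi
    simp only [Finset.mem_insert, Finset.mem_singleton, not_or] at hi
    exact h0 i hi.1 hi.2.1 hi.2.2.1 hi.2.2.2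
  rw [h1, Finset.sum_insert, Finset.sum_insert, Finset.sum_insert, Finset.sum_singleton]
  · ring
  · simp [hcd]
  · simp [hbc, hbd]
  · simp [hab, hac, had]

/-- (E4) with (E3) as a hypothesis. -/
theorem b0_structure_core {G : Type u} [Group G] [Fintype G] (hperf : commutator G = ⊤)
    (K : Subgroup G) (hK : Nat.card K = 5) (hC : Subgroup.centralizer (K : Set G) = K)
    {x : G} (hx : x ∈ K) (hx1 : x ≠ 1) (hinv : IsConj x x⁻¹) (hsq : ¬ IsConj x (x ^ 2))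
    (ζ : ℂ) (hζ : IsPrimitiveRoot ζ 5)
    (harith : ∀ [Fintype (IrrCharacter G)] [DecidableEq (IrrCharacter G)]
      (A m : IrrCharacter G → ℤ) (i₁ : IrrCharacter G), A i₁ = 1 → m i₁ = 0 →
      ∑ i, (2 * A i ^ 2 - 2 * A i * m i + 3 * m i ^ 2) = 10 →
      ∑ i, (A i ^ 2 - A i * m i - m i ^ 2) = 0 →
      ∃ i₀ j₁ j₂ : IrrCharacter G, i₀ ≠ i₁ ∧ j₁ ≠ i₁ ∧ j₂ ≠ i₁ ∧ i₀ ≠ j₁ ∧ i₀ ≠ j₂ ∧ j₁ ≠ j₂ ∧
        ((A i₀ = 1 ∧ m i₀ = 0) ∨ (A i₀ = -1 ∧ m i₀ = 0)) ∧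
        ((A j₁ = 0 ∧ m j₁ = 1) ∨ (A j₁ = 0 ∧ m j₁ = -1) ∨ (A j₁ = 1 ∧ m j₁ = 1) ∨
          (A j₁ = -1 ∧ m j₁ = -1)) ∧
        ((A j₂ = 0 ∧ m j₂ = 1) ∨ (A j₂ = 0 ∧ m j₂ = -1) ∨ (A j₂ = 1 ∧ m j₂ = 1) ∨
          (A j₂ = -1 ∧ m j₂ = -1)) ∧
        ∀ i, i ≠ i₁ → i ≠ i₀ → i ≠ j₁ → i ≠ j₂ → A i = 0 ∧ m i = 0) :
    ∃ (χ θ θ' : IrrCharacter G) (ε δ : ℤ), (ε = 1 ∨ ε = -1) ∧ (δ = 1 ∨ δ = -1) ∧
      (χ : G → ℂ) ≠ 1 ∧ (θ : G → ℂ) ≠ 1 ∧ (θ' : G → ℂ) ≠ 1 ∧ χ ≠ θ ∧ χ ≠ θ' ∧ θ ≠ θ' ∧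
      (χ : G → ℂ) x = ε ∧ (θ : G → ℂ) x = δ * (ζ + ζ ^ 4) ∧ (θ' : G → ℂ) x = δ * (ζ ^ 2 + ζ ^ 3) ∧
      (∀ ψ : IrrCharacter G, (ψ : G → ℂ) ≠ 1 → ψ ≠ χ → ψ ≠ θ → ψ ≠ θ' → (ψ : G → ℂ) x = 0) ∧
      ∀ g : G, ¬ IsConj g x → ¬ IsConj g (x ^ 2) →
        (θ : G → ℂ) g = (θ' : G → ℂ) g ∧
          1 + (ε : ℂ) * (χ : G → ℂ) g - (δ : ℂ) * (θ : G → ℂ) g = 0 := by
  classical
  have hfi : Fintype (IrrCharacter G) := Fintype.ofFinite (IrrCharacter G)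
  have hab := al_add_be hζ
  have hmul := al_mul_be hζ
  have hne := al_ne_be hζ
  -- the order of `x` and of `x ^ 2`
  have hox : orderOf x = 5 := by
    have h1 : orderOf (⟨x, hx⟩ : K) ∣ Nat.card K := orderOf_dvd_natCard _
    rw [hK, Subgroup.orderOf_mk] at h1
    rcases (Nat.Prime.eq_one_or_self_of_dvd (by norm_num : Nat.Prime 5) _ h1) with h2 | h2
    · exact absurd (orderOf_eq_one_iff.1 h2) hx1
    · exact h2
  have hx5 : x ^ 5 = 1 := by rw [← hox]; exact pow_orderOf_eq_one x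
  have hx2K : x ^ 2 ∈ K := K.pow_mem hx 2
  have hx21 : x ^ 2 ≠ 1 := by
    intro h
    have := orderOf_dvd_of_pow_eq_one h
    rw [hox] at this
    omega
  -- centralizers
  have hcent : ∀ y : G, y ∈ K → y ≠ 1 → Nat.card (Subgroup.centralizer ({y} : Set G)) = 5 := by
    intro y hy hy1
    have hoy : orderOf y = 5 := by
      have h1 : orderOf (⟨y, hy⟩ : K) ∣ Nat.card K := orderOf_dvd_natCard _
      rw [hK, Subgroup.orderOf_mk] at h1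
      rcases (Nat.Prime.eq_one_or_self_of_dvd (by norm_num : Nat.Prime 5) _ h1) with h2 | h2
      · exact absurd (orderOf_eq_one_iff.1 h2) hy1
      · exact h2
    have hKy : ∀ k ∈ K, ∃ n : ℕ, k = y ^ n := by
      have hle : Subgroup.zpowers y ≤ K := (Subgroup.zpowers_le).2 hy
      have hcard : Nat.card (Subgroup.zpowers y) = Nat.card K := by
        rw [Nat.card_zpowers, hoy, hK]
      have heq : Subgroup.zpowers y = K :=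
        Subgroup.eq_of_le_of_card_ge hle (le_of_eq hcard.symm)
      intro k hk
      rw [← heq] at hk
      obtain ⟨n, hn⟩ := (mem_zpowers_iff_mem_range_orderOf (x := y) (y := k)).1 hk |> fun h => by
        simpa using h
      exact ⟨n, hn.2.symm⟩
    have h1 : Subgroup.centralizer ({y} : Set G) = Subgroup.centralizer (K : Set G) := by
      apply le_antisymm
      · intro g hg
        rw [Subgroup.mem_centralizer_iff] at hg ⊢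
        intro k hk
        obtain ⟨n, rfl⟩ := hKy k hk
        have h2 : y * g = g * y := hg y (Set.mem_singleton y)
        exact ((Commute.pow_left (show Commute y g from h2) n)).eq
      · exact Subgroup.centralizer_le (Set.singleton_subset_iff.2 hy)
    rw [h1, hC, hK]
  -- integer coordinates of the values at `x`, `x ^ 2`
  have hint : ∀ ψ : IrrCharacter G, ∃ A n : ℤ, (ψ : G → ℂ) x = A + n * (ζ + ζ ^ 4) ∧
      (ψ : G → ℂ) (x ^ 2) = A + n * (ζ ^ 2 + ζ ^ 3) :=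
    fun ψ => char_values_order5 ψ.1 ψ.2 x hox hinv ζ hζ
  choose A m hAx hAx2 using hint
  have hconjx : ∀ ψ : IrrCharacter G, conj ((ψ : G → ℂ) x) = (ψ : G → ℂ) x := by
    intro ψ
    rw [hAx ψ, map_add, map_mul, map_intCast, map_intCast, conj_al hζ]
  have hconjx2 : ∀ ψ : IrrCharacter G, conj ((ψ : G → ℂ) (x ^ 2)) = (ψ : G → ℂ) (x ^ 2) := by
    intro ψ
    rw [hAx2 ψ, map_add, map_mul, map_intCast, map_intCast, conj_be hζ]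
  -- the trivial character
  set T : IrrCharacter G := trivialIrr G with hT
  have hT1 : ∀ ψ : IrrCharacter G, (ψ : G → ℂ) = 1 → ψ = T := by
    intro ψ h
    apply Subtype.ext
    rw [h]; rfl
  have hTval : ∀ g : G, (T : G → ℂ) g = 1 := fun g => rfl
  have hAT : A T = 1 ∧ m T = 0 := by
    have h1 := hAx T
    rw [hTval] at h1
    have h2 := al_lin_indep hζ (A T - 1) (m T) (by push_cast; linear_combination -h1)
    exact ⟨by omega, h2.2⟩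
  -- second orthogonality
  have hxx2 : ¬ IsConj (x ^ 2) x := fun h => hsq h.symm
  have hS1 : ∑ ψ : IrrCharacter G, ((A ψ : ℂ) + m ψ * (ζ + ζ ^ 4)) ^ 2 = 5 := by
    have h1 := second_orthogonality x x
    rw [if_pos (IsConj.refl x), hcent x hx hx1] at h1
    rw [← (by norm_num : ((5 : ℕ) : ℂ) = 5), ← h1]
    refine Finset.sum_congr rfl fun ψ _ => ?_
    rw [hconjx ψ, hAx ψ]; ring
  have hS2 : ∑ ψ : IrrCharacter G, ((A ψ : ℂ) + m ψ * (ζ ^ 2 + ζ ^ 3)) ^ 2 = 5 := by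
    have h1 := second_orthogonality (x ^ 2) (x ^ 2)
    rw [if_pos (IsConj.refl _), hcent _ hx2K hx21] at h1
    rw [← (by norm_num : ((5 : ℕ) : ℂ) = 5), ← h1]
    refine Finset.sum_congr rfl fun ψ _ => ?_
    rw [hconjx2 ψ, hAx2 ψ]; ring
  have hS3 : ∑ ψ : IrrCharacter G,
      ((A ψ : ℂ) + m ψ * (ζ + ζ ^ 4)) * ((A ψ : ℂ) + m ψ * (ζ ^ 2 + ζ ^ 3)) = 0 := by
    have h1 := second_orthogonality x (x ^ 2)
    rw [if_neg hsq] at h1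
    rw [← h1]
    refine Finset.sum_congr rfl fun ψ _ => ?_
    rw [hconjx2 ψ, hAx ψ, hAx2 ψ]
  have hf : ∑ ψ : IrrCharacter G, (2 * A ψ ^ 2 - 2 * A ψ * m ψ + 3 * m ψ ^ 2) = 10 := by
    have h1 : ((∑ ψ : IrrCharacter G, (2 * A ψ ^ 2 - 2 * A ψ * m ψ + 3 * m ψ ^ 2) : ℤ) : ℂ) =
        ((10 : ℤ) : ℂ) := by
      push_cast
      have h2 : ∀ ψ : IrrCharacter G, (2 * (A ψ : ℂ) ^ 2 - 2 * (A ψ : ℂ) * (m ψ : ℂ) + 3 * (m ψ : ℂ) ^ 2) =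
          ((A ψ : ℂ) + m ψ * (ζ + ζ ^ 4)) ^ 2 + ((A ψ : ℂ) + m ψ * (ζ ^ 2 + ζ ^ 3)) ^ 2 := by
        intro ψ
        linear_combination (-(2 : ℂ) * (A ψ : ℂ) * (m ψ : ℂ) -
          (m ψ : ℂ) ^ 2 * ((ζ + ζ ^ 4) + (ζ ^ 2 + ζ ^ 3)) + (m ψ : ℂ) ^ 2) * hab +
          (2 * (m ψ : ℂ) ^ 2) * hmul
      rw [Finset.sum_congr rfl (fun ψ _ => h2 ψ), Finset.sum_add_distrib, hS1, hS2]
      norm_num
    exact_mod_cast h1
  have hN : ∑ ψ : IrrCharacter G, (A ψ ^ 2 - A ψ * m ψ - m ψ ^ 2) = 0 := by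
    have h1 : ((∑ ψ : IrrCharacter G, (A ψ ^ 2 - A ψ * m ψ - m ψ ^ 2) : ℤ) : ℂ) = ((0 : ℤ) : ℂ) := by
      push_cast
      have h2 : ∀ ψ : IrrCharacter G, ((A ψ : ℂ) ^ 2 - (A ψ : ℂ) * (m ψ : ℂ) - (m ψ : ℂ) ^ 2) =
          ((A ψ : ℂ) + m ψ * (ζ + ζ ^ 4)) * ((A ψ : ℂ) + m ψ * (ζ ^ 2 + ζ ^ 3)) := by
        intro ψ
        linear_combination (-(A ψ : ℂ) * (m ψ : ℂ)) * hab - ((m ψ : ℂ) ^ 2) * hmul
      rw [Finset.sum_congr rfl (fun ψ _ => h2 ψ), hS3]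
    exact_mod_cast h1
  obtain ⟨χ, j₁, j₂, hχT, hj₁T, hj₂T, hχj₁, hχj₂, hj₁j₂, hχv, hj₁v, hj₂v, hrest⟩ :=
    harith A m T hAT.1 hAT.2 hf hN
  -- column relations for `g` not conjugate to `x`, `x ^ 2`
  have hcol : ∀ g : G, ¬ IsConj g x → ¬ IsConj g (x ^ 2) →
      (1 + (χ : G → ℂ) g * (A χ : ℂ) + (j₁ : G → ℂ) g * ((A j₁ : ℂ) + m j₁ * (ζ + ζ ^ 4)) +
        (j₂ : G → ℂ) g * ((A j₂ : ℂ) + m j₂ * (ζ + ζ ^ 4)) = 0) ∧
      (1 + (χ : G → ℂ) g * (A χ : ℂ) + (j₁ : G → ℂ) g * ((A j₁ : ℂ) + m j₁ * (ζ ^ 2 + ζ ^ 3)) +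
        (j₂ : G → ℂ) g * ((A j₂ : ℂ) + m j₂ * (ζ ^ 2 + ζ ^ 3)) = 0) := by
    intro g hg1 hg2
    have hmχ : (m χ : ℂ) = 0 := by
      rcases hχv with h | h <;> rw [h.2] <;> simp
    constructor
    · have h1 := second_orthogonality g x
      rw [if_neg hg1] at h1
      rw [sum_four (fun ψ : IrrCharacter G => (ψ : G → ℂ) g * conj ((ψ : G → ℂ) x)) T χ j₁ j₂
        (Ne.symm hχT) (Ne.symm hj₁T) (Ne.symm hj₂T) hχj₁ hχj₂ hj₁j₂ ?_] at h1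
      · have e : ∀ ψ : IrrCharacter G, (ψ : G → ℂ) g * conj ((ψ : G → ℂ) x) =
            (ψ : G → ℂ) g * ((A ψ : ℂ) + m ψ * (ζ + ζ ^ 4)) := fun ψ => by
          rw [hconjx ψ, hAx ψ]
        simp only [e] at h1
        rw [hTval, hAT.1, hAT.2, hmχ] at h1
        push_cast at h1
        linear_combination h1
      · intro ψ h1 h2 h3 h4
        obtain ⟨h5, h6⟩ := hrest ψ h1 h2 h3 h4
        show (ψ : G → ℂ) g * conj ((ψ : G → ℂ) x) = 0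
        rw [hconjx ψ, hAx ψ, h5, h6]
        simp
    · have h1 := second_orthogonality g (x ^ 2)
      rw [if_neg hg2] at h1
      rw [sum_four (fun ψ : IrrCharacter G => (ψ : G → ℂ) g * conj ((ψ : G → ℂ) (x ^ 2))) T χ j₁ j₂
        (Ne.symm hχT) (Ne.symm hj₁T) (Ne.symm hj₂T) hχj₁ hχj₂ hj₁j₂ ?_] at h1
      · have e : ∀ ψ : IrrCharacter G, (ψ : G → ℂ) g * conj ((ψ : G → ℂ) (x ^ 2)) =
            (ψ : G → ℂ) g * ((A ψ : ℂ) + m ψ * (ζ ^ 2 + ζ ^ 3)) := fun ψ => by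
          rw [hconjx2 ψ, hAx2 ψ]
        simp only [e] at h1
        rw [hTval, hAT.1, hAT.2, hmχ] at h1
        push_cast at h1
        linear_combination h1
      · intro ψ h1 h2 h3 h4
        obtain ⟨h5, h6⟩ := hrest ψ h1 h2 h3 h4
        show (ψ : G → ℂ) g * conj ((ψ : G → ℂ) (x ^ 2)) = 0
        rw [hconjx2 ψ, hAx2 ψ, h5, h6]
        simp
  -- `m j₁ ψ₁(g) + m j₂ ψ₂(g) = 0`
  have hdiff : ∀ g : G, ¬ IsConj g x → ¬ IsConj g (x ^ 2) →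
      (m j₁ : ℂ) * (j₁ : G → ℂ) g + (m j₂ : ℂ) * (j₂ : G → ℂ) g = 0 := by
    intro g hg1 hg2
    obtain ⟨h1, h2⟩ := hcol g hg1 hg2
    have h3 : ((ζ + ζ ^ 4) - (ζ ^ 2 + ζ ^ 3)) *
        ((m j₁ : ℂ) * (j₁ : G → ℂ) g + (m j₂ : ℂ) * (j₂ : G → ℂ) g) = 0 := by
      linear_combination h1 - h2
    rcases mul_eq_zero.1 h3 with h4 | h4
    · exact absurd (sub_eq_zero.1 h4) hne
    · exact h4
  have h1x : ¬ IsConj (1 : G) x := fun h => hx1 (isConj_one_right.1 h)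
  have h1x2 : ¬ IsConj (1 : G) (x ^ 2) := fun h => hx21 (isConj_one_right.1 h)
  obtain ⟨d₁, hd₁0, hd₁⟩ := irr_one_eq j₁
  obtain ⟨d₂, hd₂0, hd₂⟩ := irr_one_eq j₂
  obtain ⟨dχ, hdχ0, hdχ⟩ := irr_one_eq χ
  have hdeg : m j₁ * (d₁ : ℤ) + m j₂ * (d₂ : ℤ) = 0 := by
    have h1 := hdiff 1 h1x h1x2
    rw [hd₁, hd₂] at h1
    have h2 : ((m j₁ * (d₁ : ℤ) + m j₂ * (d₂ : ℤ) : ℤ) : ℂ) = ((0 : ℤ) : ℂ) := by
      push_cast; exact h1
    exact_mod_cast h2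
  -- the general finishing step: `ψ₁` of type `m = 1`, `ψ₂` of type `m = -1`
  have hχ1 : (χ : G → ℂ) ≠ 1 := fun h => hχT (hT1 χ h)
  have hj₁1 : (j₁ : G → ℂ) ≠ 1 := fun h => hj₁T (hT1 j₁ h)
  have hj₂1 : (j₂ : G → ℂ) ≠ 1 := fun h => hj₂T (hT1 j₂ h)
  have hχx : (χ : G → ℂ) x = (A χ : ℂ) := by
    rw [hAx χ]
    rcases hχv with h | h <;> rw [h.2] <;> simp
  have hAχ : A χ = 1 ∨ A χ = -1 := by
    rcases hχv with h | h
    · exact Or.inl h.1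
    · exact Or.inr h.1
  have hvan : ∀ ψ : IrrCharacter G, (ψ : G → ℂ) ≠ 1 → ψ ≠ χ → ψ ≠ j₁ → ψ ≠ j₂ →
      (ψ : G → ℂ) x = 0 := by
    intro ψ h1 h2 h3 h4
    have hψT : ψ ≠ T := fun h => h1 (by rw [h]; rfl)
    obtain ⟨h5, h6⟩ := hrest ψ hψT h2 h3 h4
    rw [hAx ψ, h5, h6]; simp
  -- no nontrivial linear character
  have hnolin : (1 : ℤ) + A χ * (dχ : ℤ) ≠ 0 := by
    intro h
    have h2 : dχ = 1 := by
      rcases hAχ with h3 | h3 <;> rw [h3] at h <;> omega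
    apply hχ1
    apply Cfsg.Agent.Lib.H24.BrP.linear_eq_one_of_perfect hperf χ.1 χ.2
    rw [hdχ, h2]; simp
  -- degree relation at `g = 1`
  have hdegsum : (1 : ℤ) + A χ * (dχ : ℤ) + (A j₁ + A j₂) * (d₁ : ℤ) = 0 ∧ d₁ = d₂ ∧
      m j₂ = - m j₁ := by
    have hm1 : m j₁ = 1 ∨ m j₁ = -1 := by
      rcases hj₁v with h | h | h | h <;> simp [h.2]
    have hm2 : m j₂ = 1 ∨ m j₂ = -1 := by
      rcases hj₂v with h | h | h | h <;> simp [h.2]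
    have hd12 : d₁ = d₂ ∧ m j₂ = - m j₁ := by
      rcases hm1 with h1 | h1 <;> rcases hm2 with h2 | h2 <;> rw [h1, h2] at hdeg <;>
        refine ⟨by omega, by omega⟩
    refine ⟨?_, hd12.1, hd12.2⟩
    obtain ⟨h1, -⟩ := hcol 1 h1x h1x2
    rw [hd₁, hd₂, hdχ, ← hd12.1, hd12.2] at h1
    push_cast at h1
    have h2 : (((1 : ℤ) + A χ * (dχ : ℤ) + (A j₁ + A j₂) * (d₁ : ℤ) : ℤ) : ℂ) = ((0 : ℤ) : ℂ) := by
      push_cast
      linear_combination h1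
    exact_mod_cast h2
  obtain ⟨hdeq, hd12, hm12⟩ := hdegsum
  -- `ψ₁ g = ψ₂ g`
  have heqg : ∀ g : G, ¬ IsConj g x → ¬ IsConj g (x ^ 2) → (j₁ : G → ℂ) g = (j₂ : G → ℂ) g := by
    intro g hg1 hg2
    have h1 := hdiff g hg1 hg2
    rw [hm12] at h1
    have hm1 : (m j₁ : ℂ) ≠ 0 := by
      rcases hj₁v with h | h | h | h <;> rw [h.2] <;> norm_num
    have h2 : (m j₁ : ℂ) * ((j₁ : G → ℂ) g - (j₂ : G → ℂ) g) = 0 := by
      push_cast at h1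
      linear_combination h1
    rcases mul_eq_zero.1 h2 with h3 | h3
    · exact absurd h3 hm1
    · exact sub_eq_zero.1 h3
  have hrelg : ∀ g : G, ¬ IsConj g x → ¬ IsConj g (x ^ 2) →
      1 + (A χ : ℂ) * (χ : G → ℂ) g + ((A j₁ : ℂ) + A j₂) * (j₁ : G → ℂ) g = 0 := by
    intro g hg1 hg2
    obtain ⟨h1, -⟩ := hcol g hg1 hg2
    rw [← heqg g hg1 hg2, hm12] at h1
    push_cast at h1
    linear_combination h1
  -- case analysis on the types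
  have hbe : ζ ^ 2 + ζ ^ 3 = -1 - (ζ + ζ ^ 4) := by linear_combination hab
  rcases hj₁v with h1 | h1 | h1 | h1 <;> rcases hj₂v with h2 | h2 | h2 | h2 <;>
    (try (exfalso; rw [h1.2, h2.2] at hm12; omega))
  · -- `(0,1)`, `(0,-1)`: excluded
    exfalso
    rw [h1.1, h2.1] at hdeq
    exact hnolin (by linarith)
  · -- `(0,1)`, `(-1,-1)`: `δ = 1`, `θ = j₁`, `θ' = j₂`
    refine ⟨χ, j₁, j₂, A χ, 1, hAχ, Or.inl rfl, hχ1, hj₁1, hj₂1, hχj₁, hχj₂, hj₁j₂, hχx, ?_, ?_,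
      hvan, ?_⟩
    · rw [hAx j₁, h1.1, h1.2]; push_cast; ring
    · rw [hAx j₂, h2.1, h2.2, hbe]; push_cast; ring
    · intro g hg1 hg2
      refine ⟨heqg g hg1 hg2, ?_⟩
      have h3 := hrelg g hg1 hg2
      rw [h1.1, h2.1] at h3
      push_cast at h3 ⊢
      linear_combination h3
  · -- `(0,-1)`, `(0,1)`: excluded
    exfalso
    rw [h1.1, h2.1] at hdeq
    exact hnolin (by linarith)
  · -- `(0,-1)`, `(1,1)`: `δ = -1`, `θ = j₁`, `θ' = j₂`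
    refine ⟨χ, j₁, j₂, A χ, -1, hAχ, Or.inr rfl, hχ1, hj₁1, hj₂1, hχj₁, hχj₂, hj₁j₂, hχx, ?_, ?_,
      hvan, ?_⟩
    · rw [hAx j₁, h1.1, h1.2]; push_cast; ring
    · rw [hAx j₂, h2.1, h2.2, hbe]; push_cast; ring
    · intro g hg1 hg2
      refine ⟨heqg g hg1 hg2, ?_⟩
      have h3 := hrelg g hg1 hg2
      rw [h1.1, h2.1] at h3
      push_cast at h3 ⊢
      linear_combination h3
  · -- `(1,1)`, `(0,-1)`: `δ = -1`, `θ = j₂`, `θ' = j₁`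
    refine ⟨χ, j₂, j₁, A χ, -1, hAχ, Or.inr rfl, hχ1, hj₂1, hj₁1, hχj₂, hχj₁, Ne.symm hj₁j₂, hχx,
      ?_, ?_, ?_, ?_⟩
    · rw [hAx j₂, h2.1, h2.2]; push_cast; ring
    · rw [hAx j₁, h1.1, h1.2, hbe]; push_cast; ring
    · intro ψ h3 h4 h5 h6
      exact hvan ψ h3 h4 h6 h5
    · intro g hg1 hg2
      refine ⟨(heqg g hg1 hg2).symm, ?_⟩
      have h3 := hrelg g hg1 hg2
      rw [h1.1, h2.1, heqg g hg1 hg2] at h3
      push_cast at h3 ⊢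
      linear_combination h3
  · -- `(1,1)`, `(-1,-1)`: excluded
    exfalso
    rw [h1.1, h2.1] at hdeq
    exact hnolin (by linarith)
  · -- `(-1,-1)`, `(0,1)`: `δ = 1`, `θ = j₂`, `θ' = j₁`
    refine ⟨χ, j₂, j₁, A χ, 1, hAχ, Or.inl rfl, hχ1, hj₂1, hj₁1, hχj₂, hχj₁, Ne.symm hj₁j₂, hχx,
      ?_, ?_, ?_, ?_⟩
    · rw [hAx j₂, h2.1, h2.2]; push_cast; ring
    · rw [hAx j₁, h1.1, h1.2, hbe]; push_cast; ring
    · intro ψ h3 h4 h5 h6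
      exact hvan ψ h3 h4 h6 h5
    · intro g hg1 hg2
      refine ⟨(heqg g hg1 hg2).symm, ?_⟩
      have h3 := hrelg g hg1 hg2
      rw [h1.1, h2.1, heqg g hg1 hg2] at h3
      push_cast at h3 ⊢
      linear_combination h3
  · -- `(-1,-1)`, `(1,1)`: excluded
    exfalso
    rw [h1.1, h2.1] at hdeq
    exact hnolin (by linarith)

end Cfsg.Agent.Lib.H15.O5760
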