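import Mathlib

/-!
S0983 filler tools (helper15): a Sylow `q`-subgroup generated by an element of order `q` centralising a given subgroup.
-/

set_option autoImplicit false

namespace Cfsg.Agent.Lib.H15.O983

open Subgroup

/-- If `q ∥ |G|` and `y` of order `q` centralises the subgroup `P`, then `⟨y⟩` is a Sylow `q`-subgroup `Q` with
`P ≤ C(Q)`. -/
theorem exists_sylow_of_mem_centralizer {G : Type*} [Group G] [Finite G] {q : ℕ} [hq : Fact q.Prime] {m : ℕ}
    (hcard : Nat.card G = q * m) (hqm : ¬ q ∣ m) (P : Subgroup G) (y : G) (hy : orderOf y = q)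
    (hyP : y ∈ centralizer (P : Set G)) :
    ∃ Q : Sylow q G, P ≤ centralizer ((Q : Subgroup G) : Set G) ∧ Nat.card (Q : Subgroup G) = q := by
  have hm0 : m ≠ 0 := fun h => hqm (h ▸ dvd_zero q)
  have hfac : (Nat.card G).factorization q = 1 := by
    rw [hcard, Nat.factorization_mul hq.out.ne_zero hm0, Finsupp.add_apply,
      hq.out.factorization_self, Nat.factorization_eq_zero_of_not_dvd hqm]
  have hZ : Nat.card (zpowers y) = q ^ (Nat.card G).factorization q := by
    rw [hfac, pow_one, Nat.card_zpowers, hy]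
  refine ⟨Sylow.ofCard (zpowers y) hZ, ?_, ?_⟩
  · intro p hp
    rw [mem_centralizer_iff]
    intro z hz
    have hz' : z ∈ zpowers y := hz
    obtain ⟨k, rfl⟩ := mem_zpowers_iff.mp hz'
    have h1 : Commute p y := by
      rw [mem_centralizer_iff] at hyP
      exact (hyP p hp)
    exact ((h1.zpow_right k).eq).symm
  · show Nat.card (zpowers y) = q
    rw [Nat.card_zpowers, hy]

/-- An element of prime order `q` in the centraliser of `P`, when `q ∣ |C(P)|`. -/
theorem exists_orderOf_eq_in_centralizer {G : Type*} [Group G] [Finite G] (q : ℕ) [Fact q.Prime]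
    (P : Subgroup G) (h : q ∣ Nat.card (centralizer (P : Set G))) :
    ∃ y : G, orderOf y = q ∧ y ∈ centralizer (P : Set G) := by
  obtain ⟨w, hw⟩ := exists_prime_orderOf_dvd_card' q (G := centralizer (P : Set G)) h
  exact ⟨w, by rw [Subgroup.orderOf_coe]; exact hw, w.2⟩

end Cfsg.Agent.Lib.H15.O983
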