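import Cfsg.Agent.Lib.H5.Ord.GenTests3
import Cfsg.Agent.Lib.H15.O983Tools

/-!
S0983 filler (helper15): no simple group of order 3696 = 2^4 * 3 * 7 * 11 (helper26's blueprint).
`n_11 ∈ {12, 56}`; `12` dies by the fixed-point test at `7`; `56` gives `|C(P_11)| = 33`, an element `y` of order 3 there, `⟨y⟩` a
Sylow 3 with `11 ∣ |C(P_3)|`, and the Sylow-3 data leave no candidate.
-/

set_option autoImplicit false

namespace Cfsg.Agent.Lib.H15.O983

open Subgroup MulAction Cfsg.Agent.Lib.H5 Cfsg.Agent.Lib.H5.SylPrime Cfsg.Agent.Lib.H5.GenTests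

theorem not_simple_3696 {G : Type*} [Group G] [Finite G] [IsSimpleGroup G] : Nat.card G ≠ 3696 := by
  intro hn
  have hnc : ¬ IsMulCommutative G :=
    not_isMulCommutative_of_card_not_prime (by rw [hn]; norm_num)
  have hp11 : Fact (Nat.Prime 11) := ⟨by norm_num⟩
  have hp3 : Fact (Nat.Prime 3) := ⟨by norm_num⟩
  let P : Sylow 11 G := default
  obtain ⟨h1, h2, h3, -, h5, h6, h7, -, hP, -, -, -, -, hfp⟩ :=
    prime_data_explicit hnc hn (p := 11) (m := 336) (by norm_num) (by norm_num) (by norm_num) P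
  set r := (centralizer ((P : Subgroup G) : Set G)).relIndex (normalizer ((P : Subgroup G) : Set G))
  set c₀ := Nat.card (centralizer ((P : Subgroup G) : Set G)) with hc₀
  set d := Nat.card (Sylow 11 G) with hd
  have hr10 : r ≤ 10 := Nat.le_of_dvd (by norm_num) h5
  have hd336 : d ≤ 336 := Nat.le_of_dvd (by norm_num) h1
  obtain ⟨e, he⟩ := h1
  have hcases : (d = 12 ∧ c₀ = 154) ∨ (d = 56 ∧ c₀ = 33) := by
    have hd' : d = 12 ∨ d = 56 := by
      have he336 : e ≤ 336 := by
        apply Nat.le_of_dvd (by norm_num); exact ⟨d, by rw [he]; ring⟩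
      interval_cases e <;> omega
    rcases hd' with h | h
    · left
      refine ⟨h, ?_⟩
      rw [h] at h7
      interval_cases r <;> omega
    · right
      refine ⟨h, ?_⟩
      rw [h] at h7
      interval_cases r <;> omega
  rcases hcases with ⟨hd12, hc⟩ | ⟨hd56, hc⟩
  · -- fixed-point test at 7
    obtain ⟨f, hf1, hf2, hf3, -⟩ := hfp 7 (by norm_num) (by rw [hc]; norm_num)
    rw [hd12] at hf2 hf3
    omega
  · -- an element of order 3 in `C(P_11)`
    obtain ⟨y, hy, hyP⟩ := exists_orderOf_eq_in_centralizer 3 (P : Subgroup G)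
      (by rw [← hc₀, hc]; norm_num)
    obtain ⟨Q, hPQ, -⟩ := exists_sylow_of_mem_centralizer (q := 3) (m := 1232) (by rw [hn]) (by norm_num)
      (P : Subgroup G) y hy hyP
    have h11 : 11 ∣ Nat.card (centralizer ((Q : Subgroup G) : Set G)) := by
      rw [← hP]; exact card_dvd_of_le hPQ
    obtain ⟨g1, g2, g3, g4, g5, g6, g7, g8, -, -, -, -, -, gfp⟩ :=
      prime_data_explicit hnc hn (p := 3) (m := 1232) (by norm_num) (by norm_num) (by norm_num) Q
    set r' := (centralizer ((Q : Subgroup G) : Set G)).relIndex (normalizer ((Q : Subgroup G) : Set G))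
    set c' := Nat.card (centralizer ((Q : Subgroup G) : Set G)) with hc'
    set d' := Nat.card (Sylow 3 G) with hd'
    have hr2 : r' = 2 := by
      have : r' ≤ 2 := Nat.le_of_dvd (by norm_num) g5
      interval_cases r' <;> simp_all
    obtain ⟨k, hk⟩ : 33 ∣ c' :=
      Nat.Coprime.mul_dvd_of_dvd_of_dvd (by norm_num : Nat.Coprime 3 11) g8 h11
    rw [hr2, hk] at g7
    have hkd : k * d' = 56 := by nlinarith
    have hd56 : d' ≤ 56 := Nat.le_of_dvd (by norm_num) ⟨k, by rw [← hkd]; ring⟩
    have hdcases : d' = 4 ∨ d' = 7 ∨ d' = 28 := by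
      interval_cases d' <;> omega
    rcases hdcases with h | h | h
    · rw [h] at g4
      exact absurd g4 (by decide)
    · rw [h] at g4
      exact absurd g4 (by decide)
    · obtain ⟨f, hf1, hf2, hf3, -⟩ := gfp 11 (by norm_num) h11
      rw [h] at hf2 hf3
      omega

end Cfsg.Agent.Lib.H15.O983
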