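import Cfsg.Agent.Lib.H5.Ord.GenTests3
import Cfsg.Agent.Lib.H15.O983Tools

/-!
S0983 filler (helper15): no simple group of order 3780 = 2^2 * 3^3 * 5 * 7 (helper26's blueprint).
`n_7 ∈ {15, 36, 540}`; `540` forces `N = C`; `15` dies by the fixed-point test at `3`; `36` gives `|C(P_7)| = 35`, an element of
order 5 there generates a Sylow 5 with `7 ∣ |C(P_5)|`, and the Sylow-5 data leave no candidate.
-/

set_option autoImplicit false

namespace Cfsg.Agent.Lib.H15.O983

open Subgroup MulAction Cfsg.Agent.Lib.H5 Cfsg.Agent.Lib.H5.SylPrime Cfsg.Agent.Lib.H5.GenTests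

theorem not_simple_3780 {G : Type*} [Group G] [Finite G] [IsSimpleGroup G] : Nat.card G ≠ 3780 := by
  intro hn
  have hnc : ¬ IsMulCommutative G :=
    not_isMulCommutative_of_card_not_prime (by rw [hn]; norm_num)
  have hp7 : Fact (Nat.Prime 7) := ⟨by norm_num⟩
  have hp5 : Fact (Nat.Prime 5) := ⟨by norm_num⟩
  let P : Sylow 7 G := default
  obtain ⟨h1, h2, h3, -, h5, h6, h7, -, hP, -, -, -, -, hfp⟩ :=
    prime_data_explicit hnc hn (p := 7) (m := 540) (by norm_num) (by norm_num) (by norm_num) P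
  set r := (centralizer ((P : Subgroup G) : Set G)).relIndex (normalizer ((P : Subgroup G) : Set G))
  set c₀ := Nat.card (centralizer ((P : Subgroup G) : Set G)) with hc₀
  set d := Nat.card (Sylow 7 G) with hd
  have hr6 : r ≤ 6 := Nat.le_of_dvd (by norm_num) h5
  obtain ⟨e, he⟩ := h1
  have hd' : d = 15 ∨ d = 36 ∨ d = 540 := by
    have he540 : e ≤ 540 := by
      apply Nat.le_of_dvd (by norm_num); exact ⟨d, by rw [he]; ring⟩
    interval_cases e <;> omega
  rcases hd' with hd15 | hd36 | hd540
  · -- fixed-point test at 3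
    have h3c : 3 ∣ c₀ := by
      rw [hd15] at h7
      interval_cases r <;> omega
    obtain ⟨f, hf1, hf2, hf3, -⟩ := hfp 3 (by norm_num) h3c
    rw [hd15] at hf2 hf3
    omega
  · have hc : c₀ = 35 := by
      rw [hd36] at h7
      interval_cases r <;> omega
    obtain ⟨y, hy, hyP⟩ := exists_orderOf_eq_in_centralizer 5 (P : Subgroup G)
      (by rw [← hc₀, hc]; norm_num)
    obtain ⟨Q, hPQ, -⟩ := exists_sylow_of_mem_centralizer (q := 5) (m := 756) (by rw [hn]) (by norm_num)
      (P : Subgroup G) y hy hyP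
    have h7c : 7 ∣ Nat.card (centralizer ((Q : Subgroup G) : Set G)) := by
      rw [← hP]; exact card_dvd_of_le hPQ
    obtain ⟨g1, g2, g3, g4, g5, g6, g7, g8, -, -, -, -, -, -⟩ :=
      prime_data_explicit hnc hn (p := 5) (m := 756) (by norm_num) (by norm_num) (by norm_num) Q
    set r' := (centralizer ((Q : Subgroup G) : Set G)).relIndex (normalizer ((Q : Subgroup G) : Set G))
    set c' := Nat.card (centralizer ((Q : Subgroup G) : Set G)) with hc'
    set d' := Nat.card (Sylow 5 G) with hd'
    have hr4 : r' ≤ 4 := Nat.le_of_dvd (by norm_num) g5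
    obtain ⟨k, hk⟩ : 35 ∣ c' :=
      Nat.Coprime.mul_dvd_of_dvd_of_dvd (by norm_num : Nat.Coprime 5 7) g8 h7c
    rw [hk] at g7
    have hkd : k * r' * d' = 108 := by nlinarith
    have hd108 : d' ≤ 108 := Nat.le_of_dvd (by norm_num) ⟨k * r', by rw [← hkd]; ring⟩
    have hdcases : d' = 6 := by
      interval_cases r' <;> first | omega | (interval_cases d' <;> omega)
    rw [hdcases] at g4
    exact absurd g4 (by decide)
  · rw [hd540] at h7
    interval_cases r <;> omega

end Cfsg.Agent.Lib.H15.O983
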