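import Mathlib
import Cfsg.Agent.Lib.H5.SimpleTools
import Cfsg.Agent.Lib.H5.Ord.GenTests
import Cfsg.Agent.Lib.L0.CyclicSylowTwo

/-!
S0983 filler, order 5400 (helper26's short route), the **H-step** (helper15):
in a simple group of order `5400` two distinct Sylow 5-subgroups `P ≠ R` with `P ⊓ R ≠ ⊥` are not both
normalized by an element `y` of order 3.  (`H = N(P ⊓ R) ⊇ P, R, y` has index `≥ 10`, so `|H| = 75 c n₅(H)`
forces `n₅(H) = 1` or `|H| = 450`; a group of order `450` has an odd part of order `225` with one Sylow 5.)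
-/

set_option autoImplicit false

namespace Cfsg.Agent.Lib.H15.O983

open Subgroup

/-- a group of order `50 j`, `j ∣ 9`, has only one Sylow 5-subgroup. -/
theorem subsingleton_sylow_five_of_card {H : Type*} [Group H] [Finite H] {j : ℕ}
    (hH : Nat.card H = 50 * j) (hj : j ∣ 9) : Subsingleton (Sylow 5 H) := by
  haveI : Fact (Nat.Prime 2) := ⟨Nat.prime_two⟩
  haveI : Fact (Nat.Prime 5) := ⟨by norm_num⟩
  have hj' : j = 1 ∨ j = 3 ∨ j = 9 := by
    have hle : j ≤ 9 := Nat.le_of_dvd (by norm_num) hj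
    interval_cases j <;> simp_all
  have hodd : ¬ 2 ∣ 25 * j := by rcases hj' with h | h | h <;> subst h <;> norm_num
  have h5j : ¬ 5 ∣ j := by rcases hj' with h | h | h <;> subst h <;> norm_num
  have h2 : 2 ∣ Nat.card H := ⟨25 * j, by rw [hH]; ring⟩
  let Q : Sylow 2 H := default
  have hQ2 : Nat.card (Q : Subgroup H) = 2 := by
    have := (Cfsg.Agent.Lib.H5.sylow_card_and_index Q (k := 1) (m := 25 * j)
      (by rw [hH]; ring) hodd).1
    simpa using this
  have hQc : IsCyclic (Q : Subgroup H) := by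
    haveI : Fact (Nat.card (Q : Subgroup H)).Prime := ⟨by rw [hQ2]; exact Nat.prime_two⟩
    exact isCyclic_of_prime_card hQ2
  obtain ⟨K, hKn, hKc, hKmem⟩ :=
    Cfsg.Agent.Lib.L0.exists_odd_normal_complement_of_cyclic_sylow Q hQc h2
  have hKcard : Nat.card K = 5 ^ 2 * j := by
    have := hKc.card_mul_card
    rw [hQ2, hH] at this
    omega
  -- `K` has one Sylow 5-subgroup
  haveI hKsub : Subsingleton (Sylow 5 K) := by
    let T : Sylow 5 K := default
    have hT := (Cfsg.Agent.Lib.H5.sylow_card_and_index T (k := 2) (m := j) hKcard h5j).2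
    have hdvd : Nat.card (Sylow 5 K) ∣ j := hT ▸ T.card_dvd_index
    have hmod : Nat.card (Sylow 5 K) ≡ 1 [MOD 5] := card_sylow_modEq_one 5 K
    have hone : Nat.card (Sylow 5 K) = 1 := by
      have h9 : Nat.card (Sylow 5 K) ∣ 9 := hdvd.trans hj
      have hle : Nat.card (Sylow 5 K) ≤ 9 := Nat.le_of_dvd (by norm_num) h9
      unfold Nat.ModEq at hmod
      interval_cases (Nat.card (Sylow 5 K)) <;> omega
    exact (Nat.card_eq_one_iff_unique.mp hone).1
  -- every Sylow 5-subgroup of `H` lies in `K`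
  have hle : ∀ S : Sylow 5 H, (S : Subgroup H) ≤ K := by
    intro S x hx
    rw [hKmem]
    obtain ⟨k, hk⟩ := (IsPGroup.iff_orderOf.mp S.2) ⟨x, hx⟩
    rw [Subgroup.orderOf_mk] at hk
    rw [hk]
    exact Nat.Coprime.pow_left _ (by norm_num)
  refine ⟨fun S₁ S₂ => ?_⟩
  have h := Subsingleton.elim (S₁.subtype (hle S₁)) (S₂.subtype (hle S₂))
  have h' := congrArg (fun S : Sylow 5 K => (S : Subgroup K)) h
  simp only [Sylow.coe_subtype] at h'
  rw [subgroupOf_inj, inf_of_le_left (hle S₁), inf_of_le_left (hle S₂)] at h'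
  exact Sylow.ext h'

/-- **H-step**: two distinct Sylow 5-subgroups with nontrivial intersection are not both normalized by an
element of order 3. -/
theorem no_common_normalizing_three {G : Type*} [Group G] [Finite G] [IsSimpleGroup G]
    (hG : Nat.card G = 5400) (P R : Sylow 5 G) (hPR : P ≠ R)
    (hD : (P : Subgroup G) ⊓ (R : Subgroup G) ≠ ⊥) (y : G) (hy : orderOf y = 3)
    (hyP : y ∈ normalizer ((P : Subgroup G) : Set G))
    (hyR : y ∈ normalizer ((R : Subgroup G) : Set G)) : False := by
  have : Fact (Nat.Prime 5) := ⟨by norm_num⟩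
  have hnc : ¬ IsMulCommutative G :=
    Cfsg.Agent.Lib.H5.not_isMulCommutative_of_card_not_prime (by rw [hG]; norm_num)
  have hcard25 : ∀ S : Sylow 5 G, Nat.card (S : Subgroup G) = 25 := by
    intro S
    have := (Cfsg.Agent.Lib.H5.sylow_card_and_index S (k := 2) (m := 216)
      (by rw [hG]; norm_num) (by norm_num)).1
    simpa using this
  have hcomm : ∀ S : Sylow 5 G, ∀ a ∈ (S : Subgroup G), ∀ b ∈ (S : Subgroup G), a * b = b * a := by
    intro S a ha b hb
    have h := IsPGroup.commutative_of_card_eq_prime_sq (p := 5) (G := (S : Subgroup G))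
      (by rw [hcard25 S]; norm_num) ⟨a, ha⟩ ⟨b, hb⟩
    exact congrArg Subtype.val h
  set D : Subgroup G := (P : Subgroup G) ⊓ (R : Subgroup G) with hDdef
  set H : Subgroup G := normalizer (D : Set G) with hHdef
  have hSH : ∀ S : Sylow 5 G, D ≤ (S : Subgroup G) → (S : Subgroup G) ≤ H := by
    intro S hDS
    refine le_trans ?_ (centralizer_le_normalizer (D : Set G))
    intro x hx
    rw [mem_centralizer_iff]
    intro d hd
    exact hcomm S d (hDS hd) x hx
  have hPH : (P : Subgroup G) ≤ H := hSH P inf_le_left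
  have hRH : (R : Subgroup G) ≤ H := hSH R inf_le_right
  have hyH : y ∈ H := by
    rw [hHdef, mem_normalizer_iff]
    intro h
    rw [mem_normalizer_iff] at hyP hyR
    rw [hDdef, mem_inf, mem_inf, ← hyP h, ← hyR h]
  have hHtop : H ≠ ⊤ := by
    intro htop
    have hn : D.Normal := normalizer_eq_top_iff.mp htop
    rcases hn.eq_bot_or_eq_top with h | h
    · exact hD h
    · have h1 : Nat.card D ≤ 25 := by
        rw [← hcard25 P]
        exact Nat.le_of_dvd Nat.card_pos (card_dvd_of_le inf_le_left)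
      rw [h, card_top, hG] at h1
      omega
  have hfact := Cfsg.Agent.Lib.H5.two_mul_card_dvd_factorial_index hnc H hHtop
  have hidx : 10 ≤ H.index := by
    by_contra hlt
    push Not at hlt
    have h9 : H.index ≤ 9 := by omega
    have := hfact.trans (Nat.factorial_dvd_factorial h9)
    rw [hG] at this
    norm_num [Nat.factorial] at this
  have hmul := H.card_mul_index
  rw [hG] at hmul
  have hHle : Nat.card H ≤ 540 := by nlinarith
  -- inside `H`
  let PH : Sylow 5 H := P.subtype hPH
  let RH : Sylow 5 H := R.subtype hRH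
  have hPHcoe : (PH : Subgroup H) = (P : Subgroup G).subgroupOf H := Sylow.coe_subtype P hPH
  have hRHcoe : (RH : Subgroup H) = (R : Subgroup G).subgroupOf H := Sylow.coe_subtype R hRH
  have hne : PH ≠ RH := by
    intro h
    have h' := congrArg (fun S : Sylow 5 H => (S : Subgroup H)) h
    simp only [hPHcoe, hRHcoe] at h'
    rw [subgroupOf_inj, inf_of_le_left hPH, inf_of_le_left hRH] at h'
    exact hPR (Sylow.ext h')
  have hnsub : ¬ Subsingleton (Sylow 5 H) := fun h => hne (Subsingleton.elim _ _)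
  set NH : Subgroup H := normalizer ((PH : Subgroup H) : Set H) with hNH
  have hn1 : Nat.card (Sylow 5 H) = NH.index := Sylow.card_eq_index_normalizer PH
  have hmod : Nat.card (Sylow 5 H) ≡ 1 [MOD 5] := card_sylow_modEq_one 5 H
  have hNmul := NH.card_mul_index
  rw [← hn1] at hNmul
  have h25 : 25 ∣ Nat.card NH := by
    have h1 : Nat.card (PH : Subgroup H) = 25 := by
      rw [hPHcoe, Nat.card_congr (Subgroup.subgroupOfEquivOfLe hPH).toEquiv]
      exact hcard25 P
    have h2 := card_dvd_of_le (le_normalizer (H := (PH : Subgroup H)))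
    rwa [h1] at h2
  have h3 : 3 ∣ Nat.card NH := by
    have hmem : (⟨y, hyH⟩ : H) ∈ NH := by
      rw [hNH, mem_normalizer_iff]
      intro h
      rw [hPHcoe, mem_subgroupOf, mem_subgroupOf]
      rw [mem_normalizer_iff] at hyP
      simpa using hyP (h : G)
    have := Subgroup.orderOf_dvd_natCard _ hmem
    rwa [Subgroup.orderOf_mk, hy] at this
  obtain ⟨c, hc⟩ : 75 ∣ Nat.card NH :=
    Nat.Coprime.mul_dvd_of_dvd_of_dvd (by norm_num : Nat.Coprime 25 3) h25 h3
  set n := Nat.card (Sylow 5 H) with hn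
  have hn0 : n ≠ 0 := by
    intro h0
    rw [h0, mul_zero] at hNmul
    have : 0 < Nat.card H := Nat.card_pos
    omega
  have hc0 : c ≠ 0 := by
    intro h0
    rw [hc, h0] at hNmul
    have : 0 < Nat.card H := Nat.card_pos
    omega
  rw [hc] at hNmul
  -- `75 c n = |H| ≤ 540`, `|H| ∣ 5400`
  have hcn : c * n ≤ 7 := by nlinarith
  have hnle : n ≤ 7 := by
    have : 1 ≤ c := Nat.one_le_iff_ne_zero.mpr hc0
    nlinarith
  unfold Nat.ModEq at hmod
  have hn16 : n = 1 ∨ n = 6 := by
    interval_cases n <;> omega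
  rcases hn16 with h1 | h6
  · exact hnsub (Nat.card_eq_one_iff_unique.mp (hn ▸ h1)).1
  · rw [h6] at hcn hNmul
    have hc1 : c = 1 := by omega
    rw [hc1] at hNmul
    exact hnsub (subsingleton_sylow_five_of_card (j := 9) (by omega) (by norm_num))

end Cfsg.Agent.Lib.H15.O983
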