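import Mathlib
import Cfsg.Agent.Lib.H5.SimpleTools
import Cfsg.Agent.Lib.H5.Ord.GenTests

/-!
S0983 filler, order 5400 (helper26's short route), the **Sylow 5 count** (helper15):
a simple group of order `5400 = 2^3 3^3 5^2` has `n_5 = 36` and `|N(P_5)| = 150`
(`n_5 ∈ {1, 6, 36, 216}`; `6`: index 6; `216`: `N(P) = P` abelian, Burnside).
-/

set_option autoImplicit false

namespace Cfsg.Agent.Lib.H15.O983

open Subgroup

theorem card_sylow_five_5400 {G : Type*} [Group G] [Finite G] [IsSimpleGroup G]
    (hG : Nat.card G = 5400) :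
    Nat.card (Sylow 5 G) = 36 ∧
      ∀ P : Sylow 5 G, Nat.card (normalizer ((P : Subgroup G) : Set G)) = 150 := by
  have : Fact (Nat.Prime 5) := ⟨by norm_num⟩
  have hnc : ¬ IsMulCommutative G :=
    Cfsg.Agent.Lib.H5.not_isMulCommutative_of_card_not_prime (by rw [hG]; norm_num)
  have h5 : 5 ∣ Nat.card G := by rw [hG]; norm_num
  have hnp : ¬ IsPGroup 5 G :=
    Cfsg.Agent.Lib.H5.not_isPGroup_of_prime_dvd (q := 2) Nat.prime_two (by norm_num)
      (by rw [hG]; norm_num)
  have hmulN : ∀ P : Sylow 5 G,
      Nat.card (normalizer ((P : Subgroup G) : Set G)) * Nat.card (Sylow 5 G) = 5400 := by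
    intro P
    rw [← hG]
    exact Cfsg.Agent.Lib.H5.card_normalizer_mul_card_sylow P
  have key : Nat.card (Sylow 5 G) = 36 := by
    let P : Sylow 5 G := default
    obtain ⟨hP25, hidx⟩ := Cfsg.Agent.Lib.H5.sylow_card_and_index P (k := 2) (m := 216)
      (by rw [hG]; norm_num) (by norm_num)
    have hdvd : Nat.card (Sylow 5 G) ∣ 216 := hidx ▸ P.card_dvd_index
    have hmod : Nat.card (Sylow 5 G) ≡ 1 [MOD 5] := card_sylow_modEq_one 5 G
    have hne1 : Nat.card (Sylow 5 G) ≠ 1 := Cfsg.Agent.Lib.H5.card_sylow_ne_one_of_simple h5 hnp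
    have hmul := hmulN P
    have hidxN := Cfsg.Agent.Lib.H5.index_normalizer_eq_card_sylow P
    set n := Nat.card (Sylow 5 G) with hn
    set N := normalizer ((P : Subgroup G) : Set G) with hN
    have hle : n ≤ 216 := Nat.le_of_dvd (by norm_num) hdvd
    unfold Nat.ModEq at hmod
    have hcases : n = 6 ∨ n = 36 ∨ n = 216 := by
      obtain ⟨e, he⟩ := hdvd
      have he216 : e ≤ 216 := by
        apply Nat.le_of_dvd (by norm_num); exact ⟨n, by rw [he]; ring⟩
      interval_cases e <;> omega
    rcases hcases with h | h | h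
    · exfalso
      have hNtop : N ≠ ⊤ := by
        intro htop
        rw [htop, index_top] at hidxN
        omega
      have := Cfsg.Agent.Lib.H5.two_mul_card_dvd_factorial_index hnc N hNtop
      rw [hidxN, h, hG] at this
      norm_num [Nat.factorial] at this
    · exact h
    · exfalso
      rw [h] at hmul
      have hN25 : Nat.card N = 25 := by omega
      have hPN : (P : Subgroup G) ≤ N := le_normalizer
      have hPeq : (P : Subgroup G) = N := by
        apply Subgroup.eq_of_le_of_card_ge hPN
        rw [hN25, hP25]; norm_num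
      have hgoal : N ≤ centralizer ((P : Subgroup G) : Set G) := by
        rw [← hPeq]
        intro x hx
        rw [mem_centralizer_iff]
        intro d hd
        have hc := IsPGroup.commutative_of_card_eq_prime_sq (p := 5) (G := (P : Subgroup G))
          (by rw [hP25]) ⟨d, hd⟩ ⟨x, hx⟩
        exact congrArg Subtype.val hc
      exact Cfsg.Agent.Lib.H5.not_normalizer_le_centralizer_of_simple h5 hnp P hgoal
  refine ⟨key, fun P => ?_⟩
  have := hmulN P
  rw [key] at this
  omega

end Cfsg.Agent.Lib.H15.O983
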