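import Cfsg.Agent.Lib.H15.OD3A

/-!
S4930 pieces (P3a) `exists_invariant_constituent`, (P3b) `eq_one_of_invariant`, (P3ab) `odd_trivial_on_complement` in the
exact signatures of `tools/blueprints/S4930_sigs.lean` (helper15), wrappers of the general forms in `OD3A`.
-/

set_option autoImplicit false

universe u

namespace Cfsg.Agent.Lib.H15.OD

open Cfsg Cfsg.Agent.Lib.L0 Cfsg.Agent.Lib.H23 Cfsg.Agent.Lib.H8 Cfsg.Agent.Lib.H24
open Cfsg.Agent.Lib.H24.Glaub

/-- `χ` transported to `⊤`. -/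
theorem isIrrCharacter_top {G : Type u} [Group G] (χ : IrrCharacter G) :
    IsIrrCharacter (⊤ : Subgroup G) (fun g : (⊤ : Subgroup G) => (χ : G → ℂ) g) :=
  isIrrCharacter_comp_of_surjective (Subgroup.topEquiv (G := G)).toMonoidHom
    (Subgroup.topEquiv (G := G)).surjective χ.2

/-- (P3a), any prime. -/
theorem exists_invariant_constituent_prime {G : Type u} [Group G] [Fintype G] {p : ℕ} [hp : Fact p.Prime]
    (P : Sylow p G) (K : Subgroup G)
    [hK : K.Normal] [Fintype ↥K] (χ : IrrCharacter G) (hχ : ¬ p ∣ charDegree (χ : G → ℂ)) :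
    ∃ θ : IrrCharacter ↥K, classInner (fun k : ↥K => (χ : G → ℂ) (k : G)) (θ : ↥K → ℂ) ≠ 0 ∧
      ∀ x ∈ (P : Subgroup G), ∀ k k' : ↥K, (k' : G) = x * (k : G) * x⁻¹ →
        (θ : ↥K → ℂ) k' = (θ : ↥K → ℂ) k := by
  classical
  have hPp : IsPGroup p (P : Subgroup G) := P.isPGroup'
  have hnorm : ∀ s ∈ (P : Subgroup G), ∀ g ∈ K, s * g * s⁻¹ ∈ K := fun s _ g hg => hK.conj_mem g hg s
  set χ' : IrrCharacter (⊤ : Subgroup G) := ⟨_, isIrrCharacter_top χ⟩ with hχ'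
  have hdeg : charDegree (χ' : (⊤ : Subgroup G) → ℂ) = charDegree (χ : G → ℂ) := by
    apply charDegree_eq_of_apply_one
    show (χ : G → ℂ) (((1 : (⊤ : Subgroup G)) : G)) = _
    rw [Subgroup.coe_one]
    exact apply_one_eq_charDegree _ χ.2
  have hcf := isClassFunction_of_isCharacter (isCharacter_of_irr χ.2)
  have hinv : ∀ q ∈ (P : Subgroup G), InvUnder (⊤ : Subgroup G) q (χ' : (⊤ : Subgroup G) → ℂ) := by
    intro q _ g g' hgg'
    show (χ : G → ℂ) (g' : G) = (χ : G → ℂ) (g : G)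
    rw [hgg']
    exact hcf _ _
  obtain ⟨θ, hθinv, hθ⟩ := exists_inv_constituent_of_not_dvd (Q := (P : Subgroup G)) hp.out hnorm
    (le_top : K ≤ ⊤) hPp χ' (by rw [hdeg]; exact hχ) hinv
  have h4 := (resMult_ne_zero_iff (le_top : K ≤ ⊤) χ' θ).mp hθ
  exact ⟨θ, h4, fun x hx k k' hkk' => hθinv x hx k k' hkk'⟩

/-- (P3a) exact sig. -/
theorem exists_invariant_constituent {G : Type u} [Group G] [Fintype G] (P : Sylow 2 G) (K : Subgroup G)
    [K.Normal] [Fintype ↥K] (χ : IrrCharacter G) (hχ : ¬ 2 ∣ charDegree (χ : G → ℂ)) :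
    ∃ θ : IrrCharacter ↥K, classInner (fun k : ↥K => (χ : G → ℂ) (k : G)) (θ : ↥K → ℂ) ≠ 0 ∧
      ∀ x ∈ (P : Subgroup G), ∀ k k' : ↥K, (k' : G) = x * (k : G) * x⁻¹ →
        (θ : ↥K → ℂ) k' = (θ : ↥K → ℂ) k :=
  exists_invariant_constituent_prime P K χ hχ

/-- (P3b), any prime. -/
theorem eq_one_of_invariant_prime {G : Type u} [Group G] [Finite G] {p : ℕ} [hp : Fact p.Prime] (P : Sylow p G)
    (K : Subgroup G) [hKn : K.Normal]
    (hK : ¬ p ∣ Nat.card K) (hC : K ⊓ Subgroup.centralizer ((P : Subgroup G) : Set G) = ⊥)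
    (θ : IrrCharacter ↥K)
    (hθ : ∀ x ∈ (P : Subgroup G), ∀ k k' : ↥K, (k' : G) = x * (k : G) * x⁻¹ →
      (θ : ↥K → ℂ) k' = (θ : ↥K → ℂ) k) : ∀ k : ↥K, (θ : ↥K → ℂ) k = 1 := by
  classical
  letI : Fintype G := Fintype.ofFinite G
  have hPp : IsPGroup p (P : Subgroup G) := P.isPGroup'
  have hcop : (Nat.card K).Coprime (Nat.card (P : Subgroup G)) := by
    obtain ⟨n, hn⟩ := IsPGroup.iff_card.mp hPp
    rw [hn]
    apply Nat.Coprime.pow_right
    exact (Nat.Coprime.symm ((Nat.Prime.coprime_iff_not_dvd hp.out).mpr hK))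
  have hsolv : Group.IsSolvable (P : Subgroup G) := by
    haveI := hPp.isNilpotent
    infer_instance
  have hnorm : ∀ s ∈ (P : Subgroup G), ∀ g ∈ K, s * g * s⁻¹ ∈ K := fun s _ g hg => hKn.conj_mem g hg s
  have h1 := eq_trivial_of_invariant K (P : Subgroup G) hnorm hcop hsolv hC θ
    (fun x hx k k' hkk' => hθ x hx k k' hkk')
  intro k
  rw [h1]

/-- (P3b) exact sig. -/
theorem eq_one_of_invariant {G : Type u} [Group G] [Finite G] (P : Sylow 2 G) (K : Subgroup G) [K.Normal]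
    (hK : ¬ 2 ∣ Nat.card K) (hC : K ⊓ Subgroup.centralizer ((P : Subgroup G) : Set G) = ⊥)
    (θ : IrrCharacter ↥K)
    (hθ : ∀ x ∈ (P : Subgroup G), ∀ k k' : ↥K, (k' : G) = x * (k : G) * x⁻¹ →
      (θ : ↥K → ℂ) k' = (θ : ↥K → ℂ) k) : ∀ k : ↥K, (θ : ↥K → ℂ) k = 1 :=
  eq_one_of_invariant_prime P K hK hC θ hθ

/-- A normal subgroup meeting a Sylow `p`-subgroup trivially has order prime to `p`. -/
theorem not_dvd_card_of_inf_sylow_eq_bot {G : Type u} [Group G] [Finite G] {p : ℕ} [hp : Fact p.Prime]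
    (P : Sylow p G) (K : Subgroup G) [hKn : K.Normal] (hKP : K ⊓ (P : Subgroup G) = ⊥) :
    ¬ p ∣ Nat.card K := by
  intro hdvd
  obtain ⟨k, hk⟩ := exists_prime_orderOf_dvd_card' p hdvd
  have hk' : orderOf (k : G) = p := by rw [Subgroup.orderOf_coe]; exact hk
  have hZ : IsPGroup p (Subgroup.zpowers (k : G)) := by
    apply IsPGroup.of_card (n := 1)
    rw [Nat.card_zpowers, hk', pow_one]
  obtain ⟨Q, hQ⟩ := hZ.exists_le_sylow
  obtain ⟨g, hg⟩ := MulAction.exists_smul_eq G Q P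
  have h1 : (k : G) ∈ (Q : Subgroup G) := hQ (Subgroup.mem_zpowers _)
  have h2 : g * (k : G) * g⁻¹ ∈ (P : Subgroup G) := by
    rw [← hg, Sylow.coe_subgroup_smul]
    have := Subgroup.smul_mem_pointwise_smul (k : G) (MulAut.conj g) (Q : Subgroup G) h1
    simpa [MulAut.smul_def] using this
  have h3 : g * (k : G) * g⁻¹ ∈ K := hKn.conj_mem _ k.2 g
  have h4 : g * (k : G) * g⁻¹ ∈ K ⊓ (P : Subgroup G) := ⟨h3, h2⟩
  rw [hKP, Subgroup.mem_bot] at h4
  have h5 : (k : G) = 1 := by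
    have : (k : G) = g⁻¹ * (g * (k : G) * g⁻¹) * g := by group
    rw [this, h4]; group
  rw [h5, orderOf_one] at hk'
  exact hp.out.one_lt.ne hk'

/-- (P3ab), any prime. -/
theorem trivial_on_complement_prime {G : Type u} [Group G] [Finite G] {p : ℕ} [hp : Fact p.Prime]
    (P : Sylow p G) (K : Subgroup G) [hKn : K.Normal]
    (hKN : K ⊓ Subgroup.normalizer ((P : Subgroup G) : Set G) = ⊥) (χ : IrrCharacter G)
    (hχ : ¬ p ∣ charDegree (χ : G → ℂ)) : ∀ k ∈ K, (χ : G → ℂ) k = (χ : G → ℂ) 1 := by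
  classical
  letI : Fintype G := Fintype.ofFinite G
  have hKP : K ⊓ (P : Subgroup G) = ⊥ := by
    apply le_antisymm _ bot_le
    rw [← hKN]
    exact inf_le_inf_left K Subgroup.le_normalizer
  have hpK := not_dvd_card_of_inf_sylow_eq_bot P K hKP
  have hC : K ⊓ Subgroup.centralizer (((P : Subgroup G)) : Set G) = ⊥ := by
    apply le_antisymm _ bot_le
    rw [← hKN]
    exact inf_le_inf_left K (Subgroup.centralizer_le_normalizer _)
  obtain ⟨θ, hθ, hθinv⟩ := exists_invariant_constituent_prime P K χ hχ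
  have hθ1 : (θ : ↥K → ℂ) = fun _ => 1 := by
    funext k
    exact eq_one_of_invariant_prime P K hpK hC θ hθinv k
  rw [hθ1] at hθ
  exact Cfsg.Agent.Lib.H24.KPP.eq_of_trivial_constituent K (χ : G → ℂ) χ.2 hθ

/-- (P3ab) exact sig. -/
theorem odd_trivial_on_complement {G : Type u} [Group G] [Finite G] (P : Sylow 2 G) (K : Subgroup G) [K.Normal]
    (hKN : K ⊓ Subgroup.normalizer ((P : Subgroup G) : Set G) = ⊥) (χ : IrrCharacter G)
    (hχ : ¬ 2 ∣ charDegree (χ : G → ℂ)) : ∀ k ∈ K, (χ : G → ℂ) k = (χ : G → ℂ) 1 :=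
  trivial_on_complement_prime P K hKN χ hχ

end Cfsg.Agent.Lib.H15.OD
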