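import Cfsg.Agent.Lib.H24.GlaubOver4
import Cfsg.Agent.Lib.H24.KPPTRIV

/-!
S4930 pieces (P3a) + (P3b) (helper15): a normal complement `K` of `N_G(P)` (`P` a Sylow `p`-subgroup) lies in the kernel of
every irreducible character of `G` of degree prime to `p`.

* `exists_inv_constituent_of_not_dvd`: `χ ∈ Irr(G)`, `p ∤ χ(1)`, `Q` a `p`-group normalising `N ≤ G`, `χ` `Q`-invariant:
  some `Q`-invariant `θ ∈ Irr(N)` lies under `χ` (orbit counting mod `p`; copy of helper24's `exists_inv_constituent`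
  with the hypothesis on `|G|` replaced by the one on `χ(1)`).
* `eq_trivial_of_invariant`: coprime action with `C_K(P) = 1`: the only `P`-invariant irreducible character of `K` is `1_K`
  (helper24's `solv_count_cent`).
* `le_ker_of_complement`.
-/

set_option autoImplicit false

universe u

namespace Cfsg.Agent.Lib.H15.OD

open Cfsg Cfsg.Agent.Lib.L0 Cfsg.Agent.Lib.H23 Cfsg.Agent.Lib.H8 Cfsg.Agent.Lib.H24
open Cfsg.Agent.Lib.H24.Glaub

section amb

variable {Γ : Type u} [Group Γ] [Fintype Γ]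
variable {p : ℕ} {G N Q : Subgroup Γ} [Fintype G] [Fintype N]

theorem exists_inv_constituent_of_not_dvd (hp : p.Prime)
    (hQN : ∀ q ∈ Q, ∀ n ∈ N, q * n * q⁻¹ ∈ N)
    (hNG : N ≤ G) (hQ : IsPGroup p Q)
    (χ : IrrCharacter G) (hpχ : ¬ p ∣ charDegree (χ : G → ℂ))
    (hχ : ∀ q ∈ Q, InvUnder G q (χ : G → ℂ)) :
    ∃ θ₁ : IrrCharacter N, (∀ q ∈ Q, InvUnder N q (θ₁ : N → ℂ)) ∧
      resMult hNG (χ : G → ℂ) (θ₁ : N → ℂ) ≠ 0 := by
  classical
  letI : Fintype (IrrCharacter N) := Fintype.ofFinite _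
  set g : IrrCharacter N → ℤ := fun φ =>
    (resMult hNG (χ : G → ℂ) (φ : N → ℂ) : ℤ) * (charDegree (φ : N → ℂ) : ℤ) with hg
  have hginv : ∀ (q : Q) (φ : IrrCharacter N), g ((irrAct N Q hQN).smul q φ) = g φ := by
    intro q φ
    have hq' : (q : Γ)⁻¹ ∈ Q := Q.inv_mem q.2
    show (resMult hNG (χ : G → ℂ) (((irrAct N Q hQN).smul q φ : IrrCharacter N) : N → ℂ) : ℤ) *
      (charDegree (((irrAct N Q hQN).smul q φ : IrrCharacter N) : N → ℂ) : ℤ) = _
    have h1 : charDegree (((irrAct N Q hQN).smul q φ : IrrCharacter N) : N → ℂ) =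
        charDegree (φ : N → ℂ) := by
      apply charDegree_eq_of_apply_one
      rw [irrAct_smul_coe, Function.comp_apply, map_one]
      exact apply_one_eq_charDegree _ φ.2
    rw [h1, irrAct_smul_coe,
      resMult_conj_right hNG (hQN _ hq') (inv_norm_of_norm (hQN _ hq')) (hχ _ hq')]
  have h1 := sum_irr_modEq N Q hQN hp hQ g hginv
  have h2 : (∑ φ : IrrCharacter N, g φ) = (charDegree (χ : G → ℂ) : ℤ) := by
    rw [charDegree_eq_sum_resMult hNG χ]
    push_cast
    rfl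
  have h3 : ¬ (p : ℤ) ∣ (charDegree (χ : G → ℂ) : ℤ) := by
    intro h
    exact hpχ (Int.natCast_dvd_natCast.mp h)
  by_contra hcon
  push Not at hcon
  apply h3
  rw [← h2]
  apply (Int.ModEq.dvd_iff h1).mpr
  apply Finset.dvd_sum
  intro φ _
  by_cases hinv : ∀ q ∈ Q, InvUnder N q (φ : N → ℂ)
  · rw [if_pos hinv]
    show (p : ℤ) ∣ (resMult hNG (χ : G → ℂ) (φ : N → ℂ) : ℤ) * (charDegree (φ : N → ℂ) : ℤ)
    rw [hcon φ hinv, Nat.cast_zero, zero_mul]
    exact dvd_zero _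
  · rw [if_neg hinv]
    exact dvd_zero _

/-- Coprime action with trivial fixed points: the only invariant irreducible character is the trivial one. -/
theorem eq_trivial_of_invariant (K S : Subgroup Γ) (hnorm : ∀ s ∈ S, ∀ g ∈ K, s * g * s⁻¹ ∈ K)
    (hcop : (Nat.card K).Coprime (Nat.card S)) (hsolv : Group.IsSolvable S)
    (hC : K ⊓ Subgroup.centralizer (S : Set Γ) = ⊥)
    (θ : IrrCharacter K) (hθ : ∀ s ∈ S, InvUnder K s (θ : K → ℂ)) :
    (θ : K → ℂ) = fun _ => 1 := by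
  have h1 := solv_count_cent K S hnorm hcop hsolv
  have h2 : Nat.card (ConjClasses ↥(K ⊓ Subgroup.centralizer (S : Set Γ))) = 1 := by
    rw [hC]
    rw [Nat.card_eq_one_iff_unique]
    refine ⟨⟨?_⟩, ⟨1⟩⟩
    intro a b
    obtain ⟨a, rfl⟩ := ConjClasses.mk_surjective a
    obtain ⟨b, rfl⟩ := ConjClasses.mk_surjective b
    rw [Subsingleton.elim a b]
  rw [h2, Nat.card_eq_one_iff_unique] at h1
  obtain ⟨hss, -⟩ := h1
  have htriv : ∀ s ∈ S, InvUnder K s (fun _ : K => (1 : ℂ)) := fun _ _ _ _ _ => rfl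
  have h3 := @Subsingleton.elim _ hss
    (⟨θ, hθ⟩ : {χ : IrrCharacter K // ∀ s ∈ S, InvUnder K s (χ : K → ℂ)})
    ⟨⟨fun _ => 1, Cfsg.Agent.Lib.H24.isIrrCharacter_one (G := K)⟩, htriv⟩
  exact congrArg (fun x => (x.1 : K → ℂ)) h3

end amb

/-- (P3a) + (P3b): a normal complement of `N_G(P)` lies in the kernel of every irreducible character of degree prime
to `p`. -/
theorem le_ker_of_complement {G : Type u} [Group G] [Finite G] {p : ℕ} [hp : Fact p.Prime] (P : Sylow p G)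
    (K : Subgroup G) [hK : K.Normal]
    (hKN : K ⊓ Subgroup.normalizer ((P : Subgroup G) : Set G) = ⊥)
    (hsup : K ⊔ Subgroup.normalizer ((P : Subgroup G) : Set G) = ⊤)
    (χ : IrrCharacter G) (hχ : ¬ p ∣ charDegree (χ : G → ℂ)) :
    ∀ k ∈ K, (χ : G → ℂ) k = (χ : G → ℂ) 1 := by
  classical
  letI : Fintype G := Fintype.ofFinite G
  set N := Subgroup.normalizer ((P : Subgroup G) : Set G) with hN
  -- `|K| = |G : N|` is prime to `p`
  have hcompl : K.IsComplement' N := by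
    apply Subgroup.isComplement'_of_disjoint_and_mul_eq_univ (disjoint_iff.mpr hKN)
    rw [← Subgroup.normal_mul, hsup]
    rfl
  have hpK : ¬ p ∣ Nat.card K := by
    rw [← hcompl.index_eq_card]
    intro h
    exact P.not_dvd_index (h.trans (Subgroup.index_dvd_of_le Subgroup.le_normalizer))
  have hPp : IsPGroup p (P : Subgroup G) := P.isPGroup'
  have hcop : (Nat.card K).Coprime (Nat.card (P : Subgroup G)) := by
    obtain ⟨n, hn⟩ := IsPGroup.iff_card.mp hPp
    rw [hn]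
    apply Nat.Coprime.pow_right
    exact (Nat.Coprime.symm ((Nat.Prime.coprime_iff_not_dvd hp.out).mpr hpK))
  have hsolv : Group.IsSolvable (P : Subgroup G) := by
    haveI := hPp.isNilpotent
    infer_instance
  have hnorm : ∀ s ∈ (P : Subgroup G), ∀ g ∈ K, s * g * s⁻¹ ∈ K := fun s _ g hg => hK.conj_mem g hg s
  have hC : K ⊓ Subgroup.centralizer (((P : Subgroup G)) : Set G) = ⊥ := by
    apply le_antisymm _ bot_le
    rw [← hKN]
    exact inf_le_inf_left K (Subgroup.centralizer_le_normalizer _)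
  -- `χ` as a character of `⊤`
  have hχ'irr : IsIrrCharacter (⊤ : Subgroup G) (fun g : (⊤ : Subgroup G) => (χ : G → ℂ) g) :=
    isIrrCharacter_comp_of_surjective (Subgroup.topEquiv (G := G)).toMonoidHom
      (Subgroup.topEquiv (G := G)).surjective χ.2
  set χ' : IrrCharacter (⊤ : Subgroup G) := ⟨_, hχ'irr⟩ with hχ'
  have hdeg : charDegree (χ' : (⊤ : Subgroup G) → ℂ) = charDegree (χ : G → ℂ) := by
    apply charDegree_eq_of_apply_one
    show (χ : G → ℂ) (((1 : (⊤ : Subgroup G)) : G)) = _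
    rw [Subgroup.coe_one]
    exact apply_one_eq_charDegree _ χ.2
  have hcf := isClassFunction_of_isCharacter (isCharacter_of_irr χ.2)
  have hinv : ∀ q ∈ (P : Subgroup G), InvUnder (⊤ : Subgroup G) q (χ' : (⊤ : Subgroup G) → ℂ) := by
    intro q _ g g' hgg'
    show (χ : G → ℂ) (g' : G) = (χ : G → ℂ) (g : G)
    rw [hgg']
    exact hcf _ _
  obtain ⟨θ, hθinv, hθ⟩ := exists_inv_constituent_of_not_dvd (Q := (P : Subgroup G)) hp.out hnorm
    (le_top : K ≤ ⊤) hPp χ' (by rw [hdeg]; exact hχ) hinv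
  have hθ1 := eq_trivial_of_invariant K (P : Subgroup G) hnorm hcop hsolv hC θ hθinv
  have h4 := (resMult_ne_zero_iff (le_top : K ≤ ⊤) χ' θ).mp hθ
  rw [hθ1] at h4
  exact Cfsg.Agent.Lib.H24.KPP.eq_of_trivial_constituent K (χ : G → ℂ) χ.2 h4

end Cfsg.Agent.Lib.H15.OD
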