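import Mathlib
import Cfsg.Agent.Lib.H21.SplitAut
import Cfsg.Agent.Lib.H22.UniqueInvolution
import Cfsg.Agent.Lib.H22.QuatSylowSL23
import Cfsg.Agent.Lib.H16.AutIndexTwo
import Cfsg.Agent.Lib.H5.AutQ8

/-!
helper15: automorphism groups of odd order acting on 2-groups (towards S2934), part 1:
invariant subgroups, restricted actions, generation by fixed points, small cases.
-/

set_option autoImplicit false

namespace Cfsg.Agent.Lib.H15.OO

open Cfsg.Agent.Lib.H21 (fixSub mem_fixSub gen_abs)
open Cfsg.Agent.Lib.H22 (AtMostOneOrderP)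

universe u

variable {W : Type u} [Group W]

/-- `K` is invariant under the group `E` of automorphisms. -/
def Inv (E : Subgroup (MulAut W)) (K : Subgroup W) : Prop := ∀ e ∈ E, ∀ k ∈ K, e k ∈ K

/-- the action of `E` on an invariant subgroup. -/
def resHom (E : Subgroup (MulAut W)) (K : Subgroup W) (hK : Inv E K) : ↥E →* MulAut ↥K where
  toFun e :=
    { toFun := fun k => ⟨(e : MulAut W) k, hK e e.2 k k.2⟩
      invFun := fun k => ⟨((e : MulAut W)⁻¹) k, hK _ (E.inv_mem e.2) k k.2⟩
      left_inv := fun k => Subtype.ext (by simp)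
      right_inv := fun k => Subtype.ext (by simp)
      map_mul' := fun k l => Subtype.ext (by simp) }
  map_one' := by
    ext k
    simp
  map_mul' e f := by
    ext k
    simp

@[simp] theorem resHom_apply (E : Subgroup (MulAut W)) (K : Subgroup W) (hK : Inv E K) (e : ↥E)
    (k : ↥K) : ((resHom E K hK e) k : W) = (e : MulAut W) k := rfl

theorem inv_top (E : Subgroup (MulAut W)) : Inv E ⊤ := fun _ _ _ _ => Subgroup.mem_top _

theorem inv_inf {E : Subgroup (MulAut W)} {K L : Subgroup W} (hK : Inv E K) (hL : Inv E L) :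
    Inv E (K ⊓ L) := fun e he k hk => ⟨hK e he k hk.1, hL e he k hk.2⟩

theorem inv_center (E : Subgroup (MulAut W)) : Inv E (Subgroup.center W) := by
  intro e _ k hk
  rw [Subgroup.mem_center_iff] at hk ⊢
  intro g
  have := congrArg e (hk (e⁻¹ g))
  simpa using this

/-- the fixed points of `s` are invariant under automorphisms commuting with `s`. -/
theorem inv_fixSub {E : Subgroup (MulAut W)} (s : MulAut W)
    (hs : ∀ e ∈ E, e * s = s * e) : Inv E (fixSub s) := by
  intro e he k hk
  rw [mem_fixSub] at hk ⊢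
  have h1 : (s * e) k = (e * s) k := by rw [hs e he]
  rw [MulAut.mul_apply, MulAut.mul_apply, hk] at h1
  exact h1

theorem inv_centralizer {E : Subgroup (MulAut W)} {K : Subgroup W} (hK : Inv E K) :
    Inv E (Subgroup.centralizer (K : Set W)) := by
  intro e he c hc
  rw [Subgroup.mem_centralizer_iff] at hc ⊢
  intro k hk
  have h1 : e⁻¹ k ∈ K := hK _ (E.inv_mem he) k hk
  have := congrArg e (hc _ h1)
  simpa using this

/-- the common fixed points. -/
def fixAll (E : Subgroup (MulAut W)) : Subgroup W where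
  carrier := {x | ∀ e ∈ E, e x = x}
  one_mem' := fun e _ => map_one e
  mul_mem' := fun {x y} hx hy e he => by rw [map_mul, hx e he, hy e he]
  inv_mem' := fun {x} hx e he => by rw [map_inv, hx e he]

theorem mem_fixAll {E : Subgroup (MulAut W)} {x : W} : x ∈ fixAll E ↔ ∀ e ∈ E, e x = x := Iff.rfl

theorem fixAll_le_fixSub {E : Subgroup (MulAut W)} {s : MulAut W} (hs : s ∈ E) :
    fixAll E ≤ fixSub s := fun _ hx => hx s hs

instance [Finite W] : Finite (MulAut W) := inferInstance

/-- generation of an invariant subgroup by fixed points. -/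
theorem gen_inv [Finite W] {p : ℕ} [Fact p.Prime] (E : Subgroup (MulAut W)) (hE : IsPGroup p ↥E)
    (hW : (Nat.card W).Coprime p) (a b : MulAut W) (ha : a ∈ E) (hb : b ∈ E)
    (hab : a * b = b * a) (hap : a ^ p = 1) (hbp : b ^ p = 1)
    (K : Subgroup W) (hK : Inv E K) (H : Subgroup W)
    (h1 : ∀ k ∈ K, a k = k → k ∈ H)
    (h2 : ∀ (i : ℕ), ∀ k ∈ K, (a ^ i * b) k = k → k ∈ H) : K ≤ H := by
  have hKc : (Nat.card ↥K).Coprime p :=
    Nat.Coprime.coprime_dvd_left (Subgroup.card_subgroup_dvd_card K) hW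
  have := gen_abs (resHom E K hK) hE hKc ⟨a, ha⟩ ⟨b, hb⟩ (Subtype.ext hab) (Subtype.ext hap)
    (Subtype.ext hbp) (H.subgroupOf K) ?_ ?_
  · exact Subgroup.subgroupOf_eq_top.mp this
  · intro k hk
    rw [Subgroup.mem_subgroupOf]
    apply h1 _ k.2
    have := congrArg Subtype.val hk
    simpa using this
  · intro i k hk
    rw [Subgroup.mem_subgroupOf]
    apply h2 i _ k.2
    have := congrArg Subtype.val hk
    simpa using this

/-- an automorphism of odd order lying in a 2-group is trivial. -/
theorem eq_one_of_isPGroup_two {A : Type*} [Group A] (hA : IsPGroup 2 A) {σ : A}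
    (hodd : (orderOf σ).Coprime 2) : σ = 1 := by
  obtain ⟨k, hk⟩ := hA σ
  have h1 : orderOf σ ∣ 2 ^ k := orderOf_dvd_of_pow_eq_one hk
  have h2 : (orderOf σ).Coprime (2 ^ k) := Nat.Coprime.pow_right k hodd
  have h3 : orderOf σ = 1 := Nat.eq_one_of_dvd_coprimes h2 dvd_rfl h1
  exact orderOf_eq_one_iff.mp h3

end Cfsg.Agent.Lib.H15.OO
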