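import Mathlib
import Cfsg.Agent.Lib.H15.OO1

/-!
helper15: automorphisms of odd order of 2-groups with at most one involution (towards S2934),
part 2.
-/

set_option autoImplicit false

namespace Cfsg.Agent.Lib.H15.OO

open Cfsg.Agent.Lib.H21 (fixSub mem_fixSub gen_abs)
open Cfsg.Agent.Lib.H22 (AtMostOneOrderP)

universe u

variable {W : Type u} [Group W]

/-- at most one involution in `R`. -/
def OneInv (R : Subgroup W) : Prop :=
  ∀ x ∈ R, ∀ y ∈ R, orderOf x = 2 → orderOf y = 2 → x = y

theorem OneInv.mono {R K : Subgroup W} (h : OneInv R) (hKR : K ≤ R) : OneInv K :=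
  fun x hx y hy => h x (hKR hx) y (hKR hy)

theorem exists_zpowers_of_card_two {G : Type*} [Group G] (H : Subgroup G) (hH : Nat.card H = 2) :
    ∃ h : G, orderOf h = 2 ∧ H = Subgroup.zpowers h := by
  have hfin : Finite H := Nat.finite_of_card_ne_zero (by rw [hH]; norm_num)
  have hne : H ≠ ⊥ := by
    intro h
    rw [h, Subgroup.card_bot] at hH
    norm_num at hH
  obtain ⟨h, hh, hh1⟩ : ∃ h : G, h ∈ H ∧ h ≠ 1 := by
    obtain ⟨⟨h, hh⟩, hne1⟩ := (Subgroup.ne_bot_iff_exists_ne_one).mp hne
    exact ⟨h, hh, fun e => hne1 (Subtype.ext e)⟩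
  have hord : orderOf h = 2 := by
    have h1 : orderOf (⟨h, hh⟩ : H) ∣ 2 := hH ▸ orderOf_dvd_natCard _
    rw [Subgroup.orderOf_mk] at h1
    rcases (Nat.dvd_prime Nat.prime_two).mp h1 with h2 | h2
    · exact absurd (orderOf_eq_one_iff.mp h2) hh1
    · exact h2
  refine ⟨h, hord, ?_⟩
  symm
  apply Subgroup.eq_of_le_of_card_ge
  · rw [Subgroup.zpowers_le]; exact hh
  · rw [Nat.card_zpowers, hord, hH]

theorem OneInv.atMostOne {R : Subgroup W} (h : OneInv R) : AtMostOneOrderP 2 ↥R := by
  intro H K hH hK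
  obtain ⟨x, hx, rfl⟩ := exists_zpowers_of_card_two H hH
  obtain ⟨y, hy, rfl⟩ := exists_zpowers_of_card_two K hK
  have hx' : orderOf (x : W) = 2 := by rw [Subgroup.orderOf_coe]; exact hx
  have hy' : orderOf (y : W) = 2 := by rw [Subgroup.orderOf_coe]; exact hy
  have := h x x.2 y y.2 hx' hy'
  rw [Subtype.ext this]

/-- invariance under the cyclic group generated by `t`. -/
theorem inv_zpowers [Finite W] (t : MulAut W) (K : Subgroup W) (h : ∀ k ∈ K, t k ∈ K) :
    Inv (Subgroup.zpowers t) K := by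
  intro e he k hk
  rw [← mem_powers_iff_mem_zpowers] at he
  obtain ⟨n, rfl⟩ := he
  show (t ^ n) k ∈ K
  induction n with
  | zero => simpa using hk
  | succ n ih =>
    rw [pow_succ', MulAut.mul_apply]
    exact h _ ih

/-- an automorphism of odd order preserving `K` with `Aut(K)` a 2-group fixes `K` pointwise. -/
theorem fix_of_isPGroup_mulAut [Finite W] (t : MulAut W) (hodd : (orderOf t).Coprime 2)
    (K : Subgroup W) (hK : ∀ k ∈ K, t k ∈ K) (hA : IsPGroup 2 (MulAut ↥K)) :
    ∀ k ∈ K, t k = k := by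
  intro k hk
  have hinv := inv_zpowers t K hK
  set σ := resHom (Subgroup.zpowers t) K hinv ⟨t, Subgroup.mem_zpowers t⟩ with hσ
  have h1 : orderOf σ ∣ orderOf t := by
    have := orderOf_map_dvd (resHom (Subgroup.zpowers t) K hinv) ⟨t, Subgroup.mem_zpowers t⟩
    rwa [Subgroup.orderOf_mk] at this
  have h2 : σ = 1 := eq_one_of_isPGroup_two hA (Nat.Coprime.coprime_dvd_left h1 hodd)
  have h3 : (σ ⟨k, hk⟩ : W) = t k := rfl
  rw [h2] at h3
  exact h3.symm

theorem fix_of_isCyclic [Finite W] (t : MulAut W) (hodd : (orderOf t).Coprime 2)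
    (K : Subgroup W) (hK : ∀ k ∈ K, t k ∈ K) (h2 : IsPGroup 2 ↥K) [IsCyclic ↥K] :
    ∀ k ∈ K, t k = k :=
  fix_of_isPGroup_mulAut t hodd K hK (Cfsg.Agent.Lib.H16.isPGroup_mulAut_of_isCyclic h2)

/-- an automorphism of odd order of a 2-group fixing a subgroup of index at most 2 pointwise is
trivial. -/
theorem fix_of_index_two [Finite W] (t : MulAut W) (hodd : (orderOf t).Coprime 2)
    (R F : Subgroup W) (hR2 : IsPGroup 2 ↥R) (htR : ∀ x ∈ R, t x ∈ R) (hFR : F ≤ R)
    (hF : ∀ f ∈ F, t f = f) (hidx : Nat.card R ≤ 2 * Nat.card F) : ∀ x ∈ R, t x = x := by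
  by_contra hcon
  push Not at hcon
  obtain ⟨x, hxR, hx⟩ := hcon
  have hxF : x ∉ F := fun h => hx (hF x h)
  have htxF : t x ∉ F := by
    intro h
    apply hx
    have := hF _ h
    exact t.injective this
  -- index two
  have hidx2 : (F.subgroupOf R).index = 2 := by
    have h1 : (F.subgroupOf R).index * Nat.card F = Nat.card R := by
      have := Subgroup.card_mul_index (F.subgroupOf R)
      rw [Nat.card_congr (Subgroup.subgroupOfEquivOfLe hFR).toEquiv, mul_comm] at this
      exact this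
    have h2 : (F.subgroupOf R).index ≠ 1 := by
      intro h
      have : F.relIndex R = 1 := h
      rw [Subgroup.relIndex_eq_one] at this
      exact hxF (this hxR)
    have h3 : (F.subgroupOf R).index ≠ 0 := by
      intro h
      rw [h, zero_mul] at h1
      exact (Nat.card_pos (α := R)).ne h1
    have hF0 : 0 < Nat.card F := Nat.card_pos
    have h4 : (F.subgroupOf R).index ≤ 2 := by
      by_contra h5
      push Not at h5
      have : 3 * Nat.card F ≤ (F.subgroupOf R).index * Nat.card F :=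
        Nat.mul_le_mul_right _ h5
      omega
    omega
  have hmem : (⟨x, hxR⟩ : R)⁻¹ * ⟨t x, htR x hxR⟩ ∈ F.subgroupOf R := by
    rw [Subgroup.mul_mem_iff_of_index_two hidx2]
    constructor
    · intro h
      exfalso
      apply hxF
      have h' : (⟨x, hxR⟩ : R) ∈ F.subgroupOf R := by
        have := (F.subgroupOf R).inv_mem h
        simpa using this
      exact h'
    · intro h
      exact absurd h htxF
  have hf : x⁻¹ * t x ∈ F := hmem
  set f := x⁻¹ * t x with hfdef
  have htx : t x = x * f := by rw [hfdef]; group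
  have hpow : ∀ k : ℕ, (t ^ k) x = x * f ^ k := by
    intro k
    induction k with
    | zero => simp
    | succ k ih =>
      rw [pow_succ', MulAut.mul_apply, ih, map_mul, map_pow, hF f hf, htx, pow_succ']
      group
  have h1 := hpow (orderOf t)
  rw [pow_orderOf_eq_one, MulAut.one_apply] at h1
  have h2 : f ^ orderOf t = 1 := by
    have := congrArg (fun w => x⁻¹ * w) h1
    simpa using this.symm
  have h3 : orderOf f ∣ orderOf t := orderOf_dvd_of_pow_eq_one h2
  obtain ⟨j, hj⟩ := hR2 ⟨f, hFR hf⟩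
  have h4 : f ^ 2 ^ j = 1 := by
    have := congrArg Subtype.val hj
    simpa using this
  have h5 : orderOf f ∣ 2 ^ j := orderOf_dvd_of_pow_eq_one h4
  have h6 : orderOf f = 1 :=
    Nat.eq_one_of_dvd_coprimes (Nat.Coprime.pow_right j hodd) h3 h5
  have h7 : f = 1 := orderOf_eq_one_iff.mp h6
  apply hx
  rw [htx, h7, mul_one]

end Cfsg.Agent.Lib.H15.OO
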