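import Mathlib
import Cfsg.Agent.Lib.H15.OO2

/-!
helper15: automorphisms of odd order of 2-groups with at most one involution (towards S2934),
part 3: the quaternion group of order 8.
-/

set_option autoImplicit false

namespace Cfsg.Agent.Lib.H15.OO

open Cfsg.Agent.Lib.H21 (fixSub mem_fixSub gen_abs)
open Cfsg.Agent.Lib.H22 (AtMostOneOrderP)

universe u

variable {W : Type u} [Group W]

/-- a 2-subgroup with at most one involution moved by an automorphism of odd order is a
quaternion group of order 8, and the automorphism has order divisible by 3. -/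
theorem card_eq_eight_of_moved [Finite W] (t : MulAut W) (hodd : (orderOf t).Coprime 2)
    (R : Subgroup W) (hR : ∀ x ∈ R, t x ∈ R) (h2 : IsPGroup 2 ↥R) (h1 : OneInv R)
    {x : W} (hx : x ∈ R) (htx : t x ≠ x) :
    Nat.card R = 8 ∧ 3 ∣ orderOf t ∧ Nonempty (↥R ≃* QuaternionGroup 2) := by
  rcases Cfsg.Agent.Lib.H22.cyclic_or_quaternion_of_atMostOne h2 h1.atMostOne with
    hc | ⟨n, hn, ⟨f⟩⟩
  · exact absurd (fix_of_isCyclic t hodd R hR h2 x hx) htx
  · by_cases hn2 : 2 ≤ n
    · have hA : IsPGroup 2 (MulAut ↥R) :=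
        (Cfsg.Agent.Lib.H22.isPGroup_mulAut_quaternion n hn2).of_equiv (MulAut.congr f).symm
      exact absurd (fix_of_isPGroup_mulAut t hodd R hR hA x hx) htx
    · have hn1 : n = 1 := by omega
      subst hn1
      have f' : ↥R ≃* QuaternionGroup 2 := f
      have hcard : Nat.card R = 8 := by
        rw [Nat.card_congr f'.toEquiv, Nat.card_eq_fintype_card, QuaternionGroup.card]
      refine ⟨hcard, ?_, ⟨f'⟩⟩
      have hinv := inv_zpowers t R hR
      set σ := resHom (Subgroup.zpowers t) R hinv ⟨t, Subgroup.mem_zpowers t⟩ with hσ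
      have hd : orderOf σ ∣ orderOf t := by
        have := orderOf_map_dvd (resHom (Subgroup.zpowers t) R hinv) ⟨t, Subgroup.mem_zpowers t⟩
        rwa [Subgroup.orderOf_mk] at this
      have hσ1 : σ ≠ 1 := by
        intro h
        apply htx
        have h3 : (σ ⟨x, hx⟩ : W) = t x := rfl
        rw [h] at h3
        exact h3.symm
      have h24 : orderOf σ ∣ 24 :=
        (orderOf_dvd_natCard σ).trans (Cfsg.Agent.Lib.H5.AutQ8.card_mulAut_dvd_of_equiv f')
      have hcop : (orderOf σ).Coprime 8 := by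
        have : (orderOf σ).Coprime 2 := Nat.Coprime.coprime_dvd_left hd hodd
        exact Nat.Coprime.pow_right 3 this
      have h3 : orderOf σ ∣ 3 := by
        have e : (24 : ℕ) = 8 * 3 := by norm_num
        rw [e] at h24
        exact hcop.dvd_of_dvd_mul_left h24
      rcases (Nat.dvd_prime Nat.prime_three).mp h3 with h4 | h4
      · exact absurd (orderOf_eq_one_iff.mp h4) hσ1
      · rw [← h4]; exact hd

/-- in a group of order 8 with at most one involution on which `t` (of odd order) acts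
nontrivially, the only `t`-invariant subgroup of order at least 4 is the whole group. -/
theorem eq_of_four_le_card [Finite W] (t : MulAut W) (hodd : (orderOf t).Coprime 2)
    (R K : Subgroup W) (hcard : Nat.card R = 8) (h1 : OneInv R) (hR : ∀ x ∈ R, t x ∈ R)
    (hmove : ∃ x ∈ R, t x ≠ x) (hKR : K ≤ R) (hK : ∀ k ∈ K, t k ∈ K) (h4 : 4 ≤ Nat.card K) :
    K = R := by
  by_contra hne
  have hR2 : IsPGroup 2 ↥R := IsPGroup.of_card (n := 3) (by rw [hcard]; norm_num)
  have hdvd : Nat.card K ∣ 8 := hcard ▸ Subgroup.card_dvd_of_le hKR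
  have hlt : Nat.card K < 8 := by
    by_contra h
    push Not at h
    apply hne
    exact Subgroup.eq_of_le_of_card_ge hKR (hcard ▸ h)
  have hK4 : Nat.card K = 4 := by
    have : Nat.card K ∈ Nat.divisors 8 := Nat.mem_divisors.mpr ⟨hdvd, by norm_num⟩
    have e : Nat.divisors 8 = {1, 2, 4, 8} := by decide
    rw [e] at this
    simp only [Finset.mem_insert, Finset.mem_singleton] at this
    omega
  have hK2 : IsPGroup 2 ↥K := hR2.to_le hKR
  have hab : ∀ a b : ↥K, a * b = b * a :=
    IsPGroup.commutative_of_card_eq_prime_sq (p := 2) (by rw [hK4]; norm_num)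
  have hcyc : IsCyclic ↥K :=
    Cfsg.Agent.Lib.H22.isCyclic_of_comm_of_atMostOne hK2 (h1.mono hKR).atMostOne hab
  have hfixK := fix_of_isCyclic t hodd K hK hK2
  have := fix_of_index_two t hodd R K hR2 hR hKR hfixK (by rw [hcard, hK4])
  obtain ⟨x, hx, hx'⟩ := hmove
  exact hx' (this x hx)

/-- if `x` is fixed by `s`, and all commutators of `x` with elements of `R'` (of order 8, one
involution, `s` acting nontrivially) lie in a central subgroup of order 2 fixed by `s`, then `x`
centralizes `R'`. (Centrality of the subgroup is not needed.) -/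
theorem commute_of_comm_mem [Finite W] (s : MulAut W) (hodd : (orderOf s).Coprime 2)
    (R' : Subgroup W) (hcard : Nat.card R' = 8) (h1 : OneInv R') (hR' : ∀ y ∈ R', s y ∈ R')
    (hmove : ∃ y ∈ R', s y ≠ y) (Z : Subgroup W)
    (hZcard : Nat.card Z = 2) {x : W} (hx : s x = x)
    (hcomm : ∀ y ∈ R', x * y * x⁻¹ * y⁻¹ ∈ Z) : ∀ y ∈ R', x * y = y * x := by
  set K : Subgroup W := R' ⊓ Subgroup.centralizer {x} with hKdef
  have hKR : K ≤ R' := inf_le_left
  have hmemK : ∀ y, y ∈ K ↔ y ∈ R' ∧ x * y = y * x := by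
    intro y
    rw [hKdef, Subgroup.mem_inf, Subgroup.mem_centralizer_iff]
    constructor
    · rintro ⟨h, h'⟩
      exact ⟨h, h' x rfl⟩
    · rintro ⟨h, h'⟩
      refine ⟨h, ?_⟩
      intro w hw
      rw [Set.mem_singleton_iff] at hw
      rw [hw]; exact h'
  have hKs : ∀ k ∈ K, s k ∈ K := by
    intro k hk
    rw [hmemK] at hk ⊢
    refine ⟨hR' k hk.1, ?_⟩
    have := congrArg s hk.2
    rwa [map_mul, map_mul, hx] at this
  -- the two nonidentity commutators coincide
  have hZ2 : ∀ c₁ ∈ Z, ∀ c₂ ∈ Z, c₁ ≠ 1 → c₂ ≠ 1 → c₁ = c₂ := by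
    obtain ⟨h, hh2, hh⟩ := exists_zpowers_of_card_two Z hZcard
    have hsq : h ^ 2 = 1 := by rw [← hh2]; exact pow_orderOf_eq_one h
    have key : ∀ c ∈ Z, c ≠ 1 → c = h := by
      intro c hc hc1
      rw [hh] at hc
      obtain ⟨k, rfl⟩ := Subgroup.mem_zpowers_iff.mp hc
      rcases Int.emod_two_eq_zero_or_one k with hk | hk
      · exfalso
        apply hc1
        have : k = 2 * (k / 2) := by omega
        rw [this, zpow_mul, zpow_ofNat, hsq, one_zpow]
      · have : k = 2 * (k / 2) + 1 := by omega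
        rw [this, zpow_add, zpow_mul, zpow_ofNat, hsq, one_zpow, one_mul, zpow_one]
    intro c₁ h₁ c₂ h₂ n₁ n₂
    rw [key c₁ h₁ n₁, key c₂ h₂ n₂]
  have hidx : 4 ≤ Nat.card K := by
    by_cases hKtop : K = R'
    · rw [hKtop, hcard]; norm_num
    · -- index two
      obtain ⟨a, haR, haK⟩ : ∃ a ∈ R', a ∉ K := by
        by_contra hcon
        push Not at hcon
        exact hKtop (le_antisymm hKR hcon)
      have hprod : ∀ y₁ ∈ R', ∀ y₂ ∈ R', y₁ ∉ K → y₂ ∉ K → y₁⁻¹ * y₂ ∈ K := by
        intro y₁ hy₁ y₂ hy₂ n₁ n₂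
        rw [hmemK]
        refine ⟨R'.mul_mem (R'.inv_mem hy₁) hy₂, ?_⟩
        have c₁ := hcomm y₁ hy₁
        have c₂ := hcomm y₂ hy₂
        have e : x * y₁ * x⁻¹ * y₁⁻¹ = x * y₂ * x⁻¹ * y₂⁻¹ := by
          apply hZ2 _ c₁ _ c₂
          · intro h
            apply n₁
            rw [hmemK]
            refine ⟨hy₁, ?_⟩
            have := congrArg (fun w => w * y₁ * x) h
            simpa [mul_assoc] using this
          · intro h
            apply n₂
            rw [hmemK]
            refine ⟨hy₂, ?_⟩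
            have := congrArg (fun w => w * y₂ * x) h
            simpa [mul_assoc] using this
        have f1 : x * y₁ * x⁻¹ = (x * y₁ * x⁻¹ * y₁⁻¹) * y₁ := by group
        have f2 : x * y₂ * x⁻¹ = (x * y₁ * x⁻¹ * y₁⁻¹) * y₂ := by rw [e]; group
        have f3 : x * (y₁⁻¹ * y₂) * x⁻¹ = y₁⁻¹ * y₂ := by
          calc x * (y₁⁻¹ * y₂) * x⁻¹ = (x * y₁ * x⁻¹)⁻¹ * (x * y₂ * x⁻¹) := by group
            _ = ((x * y₁ * x⁻¹ * y₁⁻¹) * y₁)⁻¹ * ((x * y₁ * x⁻¹ * y₁⁻¹) * y₂) := by
              rw [← f1, ← f2]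
            _ = y₁⁻¹ * y₂ := by group
        calc x * (y₁⁻¹ * y₂) = (x * (y₁⁻¹ * y₂) * x⁻¹) * x := by group
          _ = y₁⁻¹ * y₂ * x := by rw [f3]
      have hidx2 : (K.subgroupOf R').index = 2 := by
        rw [Subgroup.index_eq_two_iff]
        refine ⟨⟨a, haR⟩, fun b => ?_⟩
        by_cases hb : (b : W) ∈ K
        · refine Or.inr ⟨?_, ?_⟩
          · exact hb
          · intro h
            apply haK
            have h' : (b : W) * a ∈ K := h
            have := K.mul_mem (K.inv_mem hb) h'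
            simpa using this
        · refine Or.inl ⟨?_, hb⟩
          have hbi : (b : W)⁻¹ ∉ K := fun h => hb (by simpa using K.inv_mem h)
          have := hprod _ (R'.inv_mem b.2) a haR hbi haK
          rw [inv_inv] at this
          exact this
      have h1' := Subgroup.card_mul_index (K.subgroupOf R')
      rw [Nat.card_congr (Subgroup.subgroupOfEquivOfLe hKR).toEquiv, hidx2, hcard] at h1'
      omega
  have hKeq := eq_of_four_le_card s hodd R' K hcard h1 hR' hmove hKR hKs hidx
  intro y hy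
  have : y ∈ K := by rw [hKeq]; exact hy
  exact ((hmemK y).mp this).2

end Cfsg.Agent.Lib.H15.OO
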