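import Mathlib
import Cfsg.Agent.Lib.H15.OO3

/-!
helper15: towards S2934, part 4: the hypothesis and the first consequences.
-/

set_option autoImplicit false

namespace Cfsg.Agent.Lib.H15.OO

open Cfsg.Agent.Lib.H21 (fixSub mem_fixSub gen_abs)
open Cfsg.Agent.Lib.H22 (AtMostOneOrderP)

universe u

variable {W : Type u} [Group W]

/-- the hypothesis: `E = ⟨a, b⟩` elementary abelian of order `p²` acting on the 2-group `W`. -/
structure Hyp (p : ℕ) (E : Subgroup (MulAut W)) (a b : MulAut W) : Prop where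
  hW : IsPGroup 2 W
  hp2 : p ≠ 2
  hcomm : ∀ e ∈ E, ∀ f ∈ E, e * f = f * e
  hexp : ∀ e ∈ E, e ^ p = 1
  ha : a ∈ E
  hb : b ∈ E
  ha1 : a ≠ 1
  hba : b ∉ Subgroup.zpowers a
  hfix : ∀ e ∈ E, e ≠ 1 → OneInv (fixSub e)
  hgen : ∀ s ∈ E, ∀ s' ∈ E, s ≠ 1 → s' ∉ Subgroup.zpowers s → fixSub s ⊓ fixSub s' ≤ fixAll E

namespace Hyp

variable [Finite W] {p : ℕ} [hp : Fact p.Prime] {E : Subgroup (MulAut W)} {a b : MulAut W}

theorem isPGroup (h : Hyp p E a b) : IsPGroup p ↥E := by
  intro e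
  refine ⟨1, ?_⟩
  rw [pow_one]
  exact Subtype.ext (h.hexp e e.2)

theorem odd (h : Hyp p E a b) {e : MulAut W} (he : e ∈ E) : (orderOf e).Coprime 2 := by
  have h1 : orderOf e ∣ p := orderOf_dvd_of_pow_eq_one (h.hexp e he)
  have h2 : p.Coprime 2 := by
    rw [Nat.coprime_primes hp.out Nat.prime_two]
    exact h.hp2
  exact Nat.Coprime.coprime_dvd_left h1 h2

theorem coprimeW (h : Hyp p E a b) : (Nat.card W).Coprime p := by
  obtain ⟨n, hn⟩ := IsPGroup.iff_card.mp h.hW
  rw [hn]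
  apply Nat.Coprime.pow_left
  rw [Nat.coprime_primes Nat.prime_two hp.out]
  exact fun e => h.hp2 e.symm

theorem inv_fix (h : Hyp p E a b) {s : MulAut W} (hs : s ∈ E) : Inv E (fixSub s) :=
  inv_fixSub s (fun e he => h.hcomm e he s hs)

/-- generation of invariant subgroups by the fixed points of nonidentity elements. -/
theorem gen (h : Hyp p E a b) (K : Subgroup W) (hK : Inv E K) (H : Subgroup W)
    (hH : ∀ s ∈ E, s ≠ 1 → K ⊓ fixSub s ≤ H) : K ≤ H := by
  apply gen_inv E h.isPGroup h.coprimeW a b h.ha h.hb (h.hcomm a h.ha b h.hb) (h.hexp a h.ha)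
    (h.hexp b h.hb) K hK H
  · intro k hk hak
    exact hH a h.ha h.ha1 ⟨hk, hak⟩
  · intro i k hk hak
    refine hH (a ^ i * b) (E.mul_mem (E.pow_mem h.ha i) h.hb) ?_ ⟨hk, hak⟩
    intro e
    apply h.hba
    have : b = (a ^ i)⁻¹ := by
      have := congrArg (fun w => (a ^ i)⁻¹ * w) e
      simpa using this
    rw [this]
    exact Subgroup.inv_mem _ (Subgroup.pow_mem _ (Subgroup.mem_zpowers a) i)

/-- invariant abelian subgroups are fixed pointwise. -/
theorem abelian_le_fixAll (h : Hyp p E a b) (K : Subgroup W) (hK : Inv E K)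
    (hab : ∀ x ∈ K, ∀ y ∈ K, x * y = y * x) : K ≤ fixAll E := by
  apply h.gen K hK
  intro s hs hs1
  set C := K ⊓ fixSub s with hC
  have hCinv : Inv E C := inv_inf hK (h.inv_fix hs)
  have hC2 : IsPGroup 2 ↥C := h.hW.to_subgroup C
  have hCone : OneInv C := (h.hfix s hs hs1).mono inf_le_right
  have hCab : ∀ x y : ↥C, x * y = y * x := by
    intro x y
    apply Subtype.ext
    exact hab x x.2.1 y y.2.1
  haveI : IsCyclic ↥C :=
    Cfsg.Agent.Lib.H22.isCyclic_of_comm_of_atMostOne hC2 hCone.atMostOne hCab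
  intro x hx e he
  exact fix_of_isCyclic e (h.odd he) C (fun k hk => hCinv e he k hk) hC2 x hx

theorem center_le_fixAll (h : Hyp p E a b) : Subgroup.center W ≤ fixAll E := by
  apply h.abelian_le_fixAll _ (inv_center E)
  intro x hx y _
  exact (Subgroup.mem_center_iff.mp hx y).symm

theorem nontrivial (h : Hyp p E a b) : Nontrivial W := by
  by_contra hcon
  rw [not_nontrivial_iff_subsingleton] at hcon
  apply h.ha1
  ext w
  exact Subsingleton.elim _ _

/-- the central involution. -/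
theorem exists_z (h : Hyp p E a b) : ∃ z : W, z ∈ Subgroup.center W ∧ orderOf z = 2 ∧
    z ∈ fixAll E ∧ ∀ e ∈ E, e ≠ 1 → ∀ x : W, e x = x → orderOf x = 2 → x = z := by
  haveI := h.nontrivial
  have hc := h.hW.center_nontrivial
  have h2 : 2 ∣ Nat.card (Subgroup.center W) := by
    obtain ⟨n, hn⟩ := IsPGroup.iff_card.mp (h.hW.to_subgroup (Subgroup.center W))
    have hn0 : n ≠ 0 := by
      rintro rfl
      rw [pow_zero] at hn
      have := Finite.one_lt_card (α := Subgroup.center W)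
      omega
    rw [hn]
    exact dvd_pow_self 2 hn0
  haveI : Fact (Nat.Prime 2) := ⟨Nat.prime_two⟩
  obtain ⟨z, hz⟩ := exists_prime_orderOf_dvd_card' 2 h2
  have hz' : orderOf (z : W) = 2 := by rw [Subgroup.orderOf_coe]; exact hz
  have hzf : (z : W) ∈ fixAll E := h.center_le_fixAll z.2
  refine ⟨z, z.2, hz', hzf, ?_⟩
  intro e he he1 x hex hx
  exact h.hfix e he he1 x hex z (hzf e he) hx hz'

/-- some nonidentity element has fixed points moved by `E`. -/
theorem exists_moved (h : Hyp p E a b) : ∃ s ∈ E, s ≠ 1 ∧ ∃ e ∈ E, ∃ x ∈ fixSub s, e x ≠ x := by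
  by_contra hcon
  push Not at hcon
  have : (⊤ : Subgroup W) ≤ fixAll E := by
    apply h.gen ⊤ (inv_top E)
    intro s hs hs1 x hx e he
    exact hcon s hs hs1 e he x hx.2
  apply h.ha1
  ext w
  exact this (Subgroup.mem_top w) a h.ha

theorem moved_data (h : Hyp p E a b) {s : MulAut W} (hs : s ∈ E) (hs1 : s ≠ 1) {e : MulAut W}
    (he : e ∈ E) {x : W} (hx : x ∈ fixSub s) (hex : e x ≠ x) :
    Nat.card (fixSub s) = 8 ∧ p = 3 ∧ Nonempty (↥(fixSub s) ≃* QuaternionGroup 2) := by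
  obtain ⟨h8, h3, hQ⟩ := card_eq_eight_of_moved e (h.odd he) (fixSub s)
    (fun k hk => h.inv_fix hs e he k hk) (h.hW.to_subgroup _) (h.hfix s hs hs1) hx hex
  refine ⟨h8, ?_, hQ⟩
  have h1 : orderOf e ∣ p := orderOf_dvd_of_pow_eq_one (h.hexp e he)
  have h2 : 3 ∣ p := h3.trans h1
  exact ((Nat.prime_dvd_prime_iff_eq Nat.prime_three hp.out).mp h2).symm

theorem p_eq (h : Hyp p E a b) : p = 3 := by
  obtain ⟨s, hs, hs1, e, he, x, hx, hex⟩ := h.exists_moved
  exact (h.moved_data hs hs1 he hx hex).2.1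

/-- the common fixed points have order 2. -/
theorem card_fixAll (h : Hyp p E a b) : Nat.card (fixAll E) = 2 := by
  obtain ⟨s, hs, hs1, e, he, x, hx, hex⟩ := h.exists_moved
  obtain ⟨h8, -, -⟩ := h.moved_data hs hs1 he hx hex
  obtain ⟨z, -, hz2, hzf, -⟩ := h.exists_z
  have hle : fixAll E ≤ fixSub s := fixAll_le_fixSub hs
  have hdvd : Nat.card (fixAll E) ∣ 8 := h8 ▸ Subgroup.card_dvd_of_le hle
  have hlt : Nat.card (fixAll E) < 4 := by
    by_contra hcon
    push Not at hcon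
    have := fix_of_index_two e (h.odd he) (fixSub s) (fixAll E) (h.hW.to_subgroup _)
      (fun k hk => h.inv_fix hs e he k hk) hle (fun f hf => hf e he) (by rw [h8]; omega)
    exact hex (this x hx)
  have h2 : 2 ∣ Nat.card (fixAll E) := by
    have := orderOf_dvd_natCard (⟨z, hzf⟩ : fixAll E)
    rwa [Subgroup.orderOf_mk, hz2] at this
  have hpos : 0 < Nat.card (fixAll E) := Nat.card_pos
  have := Nat.le_of_dvd hpos h2
  interval_cases (Nat.card (fixAll E)) <;> simp_all

theorem center_eq_fixAll (h : Hyp p E a b) : Subgroup.center W = fixAll E := by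
  apply Subgroup.eq_of_le_of_card_ge h.center_le_fixAll
  rw [h.card_fixAll]
  haveI := h.nontrivial
  haveI := h.hW.center_nontrivial
  exact Finite.one_lt_card

theorem card_center (h : Hyp p E a b) : Nat.card (Subgroup.center W) = 2 := by
  rw [h.center_eq_fixAll, h.card_fixAll]

/-- the dichotomy for the fixed points of a nonidentity element. -/
theorem dich (h : Hyp p E a b) {s : MulAut W} (hs : s ∈ E) (hs1 : s ≠ 1) :
    fixSub s = Subgroup.center W ∨ (Nat.card (fixSub s) = 8 ∧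
      Nonempty (↥(fixSub s) ≃* QuaternionGroup 2) ∧ ∃ e ∈ E, ∃ x ∈ fixSub s, e x ≠ x) := by
  by_cases hm : ∃ e ∈ E, ∃ x ∈ fixSub s, e x ≠ x
  · obtain ⟨e, he, x, hx, hex⟩ := hm
    obtain ⟨h8, -, hQ⟩ := h.moved_data hs hs1 he hx hex
    exact Or.inr ⟨h8, hQ, e, he, x, hx, hex⟩
  · left
    push Not at hm
    rw [h.center_eq_fixAll]
    apply le_antisymm
    · intro x hx e he
      exact hm e he x hx
    · exact fixAll_le_fixSub hs

/-- an independent element moves fixed points of order 8. -/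
theorem mover (h : Hyp p E a b) {s s' : MulAut W} (hs : s ∈ E) (hs' : s' ∈ E) (hs1 : s ≠ 1)
    (hind : s' ∉ Subgroup.zpowers s) (h8 : Nat.card (fixSub s) = 8) :
    ∃ x ∈ fixSub s, s' x ≠ x := by
  by_contra hcon
  push Not at hcon
  have h1 : fixSub s ≤ fixAll E := by
    refine le_trans ?_ (h.hgen s hs s' hs' hs1 hind)
    exact le_inf le_rfl (fun x hx => hcon x hx)
  have := Subgroup.card_le_of_le h1
  rw [h8, h.card_fixAll] at this
  omega

end Hyp

end Cfsg.Agent.Lib.H15.OO
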