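import Mathlib
import Cfsg.Agent.Lib.H15.OO4
import Cfsg.Agent.Lib.H1.NilpotentBasic
import Cfsg.Agent.Lib.H27.Extraspecial

/-!
helper15: towards S2934, part 5: the preimage of `Ω₁(Z(W/Z(W)))` and extraspeciality.
-/

set_option autoImplicit false

namespace Cfsg.Agent.Lib.H15.OO

open Cfsg.Agent.Lib.H21 (fixSub mem_fixSub gen_abs)
open Cfsg.Agent.Lib.H22 (AtMostOneOrderP)

universe u

variable {W : Type u} [Group W]

/-- the central elements of square one. -/
def omegaCenter (Q : Type*) [Group Q] : Subgroup Q where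
  carrier := {u | u ∈ Subgroup.center Q ∧ u * u = 1}
  one_mem' := ⟨Subgroup.one_mem _, by simp⟩
  mul_mem' := by
    rintro u v ⟨hu, hu2⟩ ⟨hv, hv2⟩
    refine ⟨Subgroup.mul_mem _ hu hv, ?_⟩
    have h1 : v * u = u * v := (Subgroup.mem_center_iff.mp hu v)
    calc u * v * (u * v) = u * (v * u) * v := by group
      _ = u * (u * v) * v := by rw [h1]
      _ = (u * u) * (v * v) := by group
      _ = 1 := by rw [hu2, hv2, one_mul]
  inv_mem' := by
    rintro u ⟨hu, hu2⟩
    refine ⟨Subgroup.inv_mem _ hu, ?_⟩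
    have : u⁻¹ * u⁻¹ = (u * u)⁻¹ := by group
    rw [this, hu2, inv_one]

instance (Q : Type*) [Group Q] : (omegaCenter Q).Normal := by
  constructor
  rintro u ⟨hu, hu2⟩ g
  have : g * u * g⁻¹ = u := by
    rw [Subgroup.mem_center_iff.mp hu g]; group
  rw [this]
  exact ⟨hu, hu2⟩

/-- the preimage of `Ω₁(Z(W/Z(W)))`. -/
def ysub (W : Type u) [Group W] : Subgroup W :=
  (omegaCenter (W ⧸ Subgroup.center W)).comap (QuotientGroup.mk' (Subgroup.center W))

instance : (ysub W).Normal := by
  unfold ysub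
  infer_instance

theorem mem_ysub {y : W} : y ∈ ysub W ↔
    (∀ w : W, y * w * y⁻¹ * w⁻¹ ∈ Subgroup.center W) ∧ y * y ∈ Subgroup.center W := by
  unfold ysub
  rw [Subgroup.mem_comap]
  show (_ ∈ Subgroup.center _ ∧ _) ↔ _
  constructor
  · rintro ⟨h1, h2⟩
    constructor
    · intro w
      rw [← QuotientGroup.eq_one_iff]
      have := Subgroup.mem_center_iff.mp h1 (QuotientGroup.mk' (Subgroup.center W) w)
      simp only [QuotientGroup.mk'_apply] at this
      rw [QuotientGroup.mk_mul, QuotientGroup.mk_mul, QuotientGroup.mk_mul, QuotientGroup.mk_inv,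
        QuotientGroup.mk_inv, ← this]
      group
    · rw [← QuotientGroup.eq_one_iff]
      simpa using h2
  · rintro ⟨h1, h2⟩
    constructor
    · rw [Subgroup.mem_center_iff]
      intro u
      obtain ⟨w, rfl⟩ := QuotientGroup.mk'_surjective _ u
      have := (QuotientGroup.eq_one_iff _).mpr (h1 w)
      simp only [QuotientGroup.mk'_apply]
      rw [QuotientGroup.mk_mul, QuotientGroup.mk_mul, QuotientGroup.mk_mul, QuotientGroup.mk_inv,
        QuotientGroup.mk_inv] at this
      have h3 := congrArg (fun t => t * (w : W ⧸ Subgroup.center W) * (y : W ⧸ Subgroup.center W)) this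
      simpa [mul_assoc] using h3.symm
    · have := (QuotientGroup.eq_one_iff _).mpr h2
      simpa using this

theorem center_le_ysub : Subgroup.center W ≤ ysub W := by
  intro z hz
  rw [mem_ysub]
  refine ⟨fun w => ?_, Subgroup.mul_mem _ hz hz⟩
  have : z * w * z⁻¹ * w⁻¹ = 1 := by
    rw [← Subgroup.mem_center_iff.mp hz w]; group
  rw [this]; exact Subgroup.one_mem _

theorem inv_ysub (E : Subgroup (MulAut W)) : Inv E (ysub W) := by
  intro e he y hy
  rw [mem_ysub] at hy ⊢
  constructor
  · intro w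
    have h1 := inv_center E e he _ (hy.1 (e⁻¹ w))
    simpa using h1
  · have h1 := inv_center E e he _ hy.2
    simpa using h1

/-- a normal subgroup of a finite `2`-group not contained in the centre meets `ysub` outside the
centre. -/
theorem exists_mem_ysub_of_not_le [Finite W] (hW : IsPGroup 2 W) (D : Subgroup W) [D.Normal]
    (hD : ¬ D ≤ Subgroup.center W) : ∃ d ∈ D, d ∈ ysub W ∧ d ∉ Subgroup.center W := by
  set π := QuotientGroup.mk' (Subgroup.center W) with hπ
  have hsurj : Function.Surjective π := QuotientGroup.mk'_surjective _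
  haveI : (D.map π).Normal := Subgroup.Normal.map inferInstance π hsurj
  have hne : D.map π ≠ ⊥ := by
    intro h
    apply hD
    rw [Subgroup.map_eq_bot_iff, QuotientGroup.ker_mk'] at h
    exact h
  have hQ2 : IsPGroup 2 (W ⧸ Subgroup.center W) := hW.to_quotient _
  haveI : Fact (Nat.Prime 2) := ⟨Nat.prime_two⟩
  haveI : Group.IsNilpotent (W ⧸ Subgroup.center W) := hQ2.isNilpotent
  have h1 := Cfsg.Agent.Lib.H1.normal_inf_center_ne_bot (D.map π) hne
  set M := D.map π ⊓ Subgroup.center (W ⧸ Subgroup.center W) with hM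
  have hM2 : IsPGroup 2 ↥M := hQ2.to_subgroup M
  have h2 : 2 ∣ Nat.card M := by
    obtain ⟨n, hn⟩ := IsPGroup.iff_card.mp hM2
    have hn0 : n ≠ 0 := by
      rintro rfl
      rw [pow_zero] at hn
      exact h1 (Subgroup.card_eq_one.mp hn)
    rw [hn]
    exact dvd_pow_self 2 hn0
  obtain ⟨u, hu⟩ := exists_prime_orderOf_dvd_card' 2 h2
  have hu' : orderOf (u : W ⧸ Subgroup.center W) = 2 := by rw [Subgroup.orderOf_coe]; exact hu
  obtain ⟨d, hdD, hdu⟩ := u.2.1
  refine ⟨d, hdD, ?_, ?_⟩
  · unfold ysub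
    rw [Subgroup.mem_comap]
    show π d ∈ omegaCenter _
    rw [hdu]
    refine ⟨u.2.2, ?_⟩
    rw [← pow_two, ← hu']
    exact pow_orderOf_eq_one _
  · intro hd
    have : π d = 1 := (QuotientGroup.eq_one_iff _).mpr hd
    rw [hdu] at this
    rw [this, orderOf_one] at hu'
    norm_num at hu'

end Cfsg.Agent.Lib.H15.OO
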