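import Mathlib
import Cfsg.Agent.Lib.H15.OO5
import Cfsg.Agent.Lib.H15.MCL
import Cfsg.Agent.S0095

/-!
helper15: towards S2934, part 6: `W` is extraspecial of order `2^5`, `2^7` or `2^9`.
-/

set_option autoImplicit false

namespace Cfsg.Agent.Lib.H15.OO

open Cfsg.Agent.Lib.H21 (fixSub mem_fixSub gen_abs)
open Cfsg.Agent.Lib.H22 (AtMostOneOrderP)
open scoped commutatorElement

universe u

variable {W : Type u} [Group W]

theorem fix_le_of_mem_zpowers {s s' : MulAut W} (hs' : s' ∈ Subgroup.zpowers s) :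
    fixSub s ≤ fixSub s' := by
  intro x hx
  rw [mem_fixSub] at hx ⊢
  have h1 : Subgroup.zpowers s ≤ MulAction.stabilizer (MulAut W) x := by
    rw [Subgroup.zpowers_le, MulAction.mem_stabilizer_iff]
    exact hx
  have := h1 hs'
  rw [MulAction.mem_stabilizer_iff] at this
  exact this

namespace Hyp

variable [Finite W] {p : ℕ} [hp : Fact p.Prime] {E : Subgroup (MulAut W)} {a b : MulAut W}

theorem orderOf_eq (h : Hyp p E a b) {s : MulAut W} (hs : s ∈ E) (hs1 : s ≠ 1) : orderOf s = p :=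
  orderOf_eq_prime (h.hexp s hs) hs1

theorem mem_zpowers_symm (h : Hyp p E a b) {s s' : MulAut W} (hs : s ∈ E) (hs' : s' ∈ E)
    (hs1 : s ≠ 1) (hs'1 : s' ≠ 1) (hmem : s ∈ Subgroup.zpowers s') : s' ∈ Subgroup.zpowers s := by
  have hle : Subgroup.zpowers s ≤ Subgroup.zpowers s' := by
    rw [Subgroup.zpowers_le]; exact hmem
  have heq : Subgroup.zpowers s = Subgroup.zpowers s' := by
    apply Subgroup.eq_of_le_of_card_ge hle
    rw [Nat.card_zpowers, Nat.card_zpowers, h.orderOf_eq hs hs1, h.orderOf_eq hs' hs'1]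
  rw [heq]
  exact Subgroup.mem_zpowers s'

theorem center_le_fix (h : Hyp p E a b) {s : MulAut W} (hs : s ∈ E) :
    Subgroup.center W ≤ fixSub s := by
  rw [h.center_eq_fixAll]; exact fixAll_le_fixSub hs

/-- an invariant subgroup of a fixed-point group of order 8, containing the centre, is the
centre or the whole group. -/
theorem inv_sub_eq (h : Hyp p E a b) {s : MulAut W} (hs : s ∈ E) (hs1 : s ≠ 1)
    (h8 : Nat.card (fixSub s) = 8) (hmove : ∃ e ∈ E, ∃ x ∈ fixSub s, e x ≠ x)
    (K : Subgroup W) (hK : Inv E K) (hKR : K ≤ fixSub s) (hZK : Subgroup.center W ≤ K) :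
    K = Subgroup.center W ∨ K = fixSub s := by
  obtain ⟨e, he, x, hx, hex⟩ := hmove
  by_cases h4 : 4 ≤ Nat.card K
  · right
    exact eq_of_four_le_card e (h.odd he) (fixSub s) K h8 (h.hfix s hs hs1)
      (fun k hk => h.inv_fix hs e he k hk) ⟨x, hx, hex⟩ hKR (fun k hk => hK e he k hk) h4
  · left
    symm
    apply Subgroup.eq_of_le_of_card_ge hZK
    rw [h.card_center]
    have hdvd : Nat.card K ∣ 8 := h8 ▸ Subgroup.card_dvd_of_le hKR
    have h2 : 2 ≤ Nat.card K := h.card_center ▸ Subgroup.card_le_of_le hZK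
    have : Nat.card K ∈ Nat.divisors 8 := Nat.mem_divisors.mpr ⟨hdvd, by norm_num⟩
    have e8 : Nat.divisors 8 = {1, 2, 4, 8} := by decide
    rw [e8] at this
    simp only [Finset.mem_insert, Finset.mem_singleton] at this
    omega

/-- every fixed-point group lies in `ysub`. -/
theorem fix_le_ysub (h : Hyp p E a b) {s₀ : MulAut W} (hs₀ : s₀ ∈ E) (hs₀1 : s₀ ≠ 1) :
    fixSub s₀ ≤ ysub W := by
  by_contra hnot
  rcases h.dich hs₀ hs₀1 with hc | ⟨h8, -, hmove⟩
  · exact hnot (hc ▸ center_le_ysub)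
  -- `ysub ⊓ fixSub s₀` is the centre
  have hK0 : ysub W ⊓ fixSub s₀ = Subgroup.center W := by
    rcases h.inv_sub_eq hs₀ hs₀1 h8 hmove (ysub W ⊓ fixSub s₀)
      (inv_inf (inv_ysub E) (h.inv_fix hs₀)) inf_le_right
      (le_inf center_le_ysub (h.center_le_fix hs₀)) with h1 | h1
    · exact h1
    · exact absurd (h1 ▸ inf_le_left : fixSub s₀ ≤ ysub W) hnot
  have hcentral : ∀ y ∈ Subgroup.center W, ∀ x : W, x * y = y * x := fun y hy x =>
    Subgroup.mem_center_iff.mp hy x
  -- `fixSub s₀` centralizes `ysub`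
  have hRD : fixSub s₀ ≤ Subgroup.centralizer (ysub W : Set W) := by
    intro x hx
    have hx' : s₀ x = x := hx
    have key : ysub W ≤ Subgroup.centralizer ({x} : Set W) := by
      apply h.gen (ysub W) (inv_ysub E)
      intro s hs hs1 y hy
      rw [Subgroup.mem_centralizer_iff]
      intro w hw
      rw [Set.mem_singleton_iff] at hw
      subst hw
      by_cases hin : s ∈ Subgroup.zpowers s₀
      · have h1 : fixSub s ≤ fixSub s₀ :=
          fix_le_of_mem_zpowers (h.mem_zpowers_symm hs hs₀ hs1 hs₀1 hin)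
        have h2 : y ∈ ysub W ⊓ fixSub s₀ := ⟨hy.1, h1 hy.2⟩
        rw [hK0] at h2
        exact hcentral y h2 w
      · rcases h.dich hs hs1 with hc | ⟨h8', -, hmove'⟩
        · have h2 : y ∈ Subgroup.center W := hc ▸ hy.2
          exact hcentral y h2 w
        · rcases h.inv_sub_eq hs hs1 h8' hmove' (ysub W ⊓ fixSub s)
            (inv_inf (inv_ysub E) (h.inv_fix hs)) inf_le_right
            (le_inf center_le_ysub (h.center_le_fix hs)) with h1 | h1
          · have h2 : y ∈ Subgroup.center W := h1 ▸ hy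
            exact hcentral y h2 w
          · have hle : fixSub s ≤ ysub W := h1 ▸ inf_le_left
            have hind : s₀ ∉ Subgroup.zpowers s := fun hm =>
              hin (h.mem_zpowers_symm hs₀ hs hs₀1 hs1 hm)
            have := commute_of_comm_mem s₀ (h.odd hs₀) (fixSub s) h8' (h.hfix s hs hs1)
              (fun k hk => h.inv_fix hs s₀ hs₀ k hk) (h.mover hs hs₀ hs1 hind h8')
              (Subgroup.center W) h.card_center hx' ?_ y hy.2
            · exact this
            · intro y' hy'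
              have h3 := (mem_ysub.mp (hle hy')).1 w
              have h4 := Subgroup.inv_mem _ h3
              have e : (y' * w * y'⁻¹ * w⁻¹)⁻¹ = w * y' * w⁻¹ * y'⁻¹ := by group
              rwa [e] at h4
    rw [Subgroup.mem_centralizer_iff]
    intro y hy
    have := Subgroup.mem_centralizer_iff.mp (key hy) x rfl
    exact this.symm
  -- contradiction
  have hDnot : ¬ Subgroup.centralizer (ysub W : Set W) ≤ Subgroup.center W := by
    intro hle
    have := Subgroup.card_le_of_le (hRD.trans hle)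
    rw [h8, h.card_center] at this
    omega
  obtain ⟨d, hdD, hdY, hdZ⟩ := exists_mem_ysub_of_not_le h.hW _ hDnot
  apply hdZ
  rw [h.center_eq_fixAll]
  apply h.abelian_le_fixAll (ysub W ⊓ Subgroup.centralizer (ysub W : Set W))
    (inv_inf (inv_ysub E) (inv_centralizer (inv_ysub E)))
  · intro x hx y hy
    exact (Subgroup.mem_centralizer_iff.mp hx.2 y hy.1).symm
  · exact ⟨hdY, hdD⟩

theorem ysub_eq_top (h : Hyp p E a b) : ysub W = ⊤ := by
  rw [eq_top_iff]
  apply h.gen ⊤ (inv_top E)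
  intro s hs hs1
  exact inf_le_right.trans (h.fix_le_ysub hs hs1)

theorem comm_mem_center (h : Hyp p E a b) (x w : W) : x * w * x⁻¹ * w⁻¹ ∈ Subgroup.center W :=
  (mem_ysub.mp (h.ysub_eq_top ▸ Subgroup.mem_top x)).1 w

theorem sq_mem_center (h : Hyp p E a b) (x : W) : x * x ∈ Subgroup.center W :=
  (mem_ysub.mp (h.ysub_eq_top ▸ Subgroup.mem_top x)).2

theorem eight_le_card (h : Hyp p E a b) : 8 ≤ Nat.card W := by
  obtain ⟨s, hs, hs1, e, he, x, hx, hex⟩ := h.exists_moved
  obtain ⟨h8, -, -⟩ := h.moved_data hs hs1 he hx hex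
  rw [← h8]
  exact Subgroup.card_le_card_group _

theorem commutator_eq_center (h : Hyp p E a b) : commutator W = Subgroup.center W := by
  have hle : commutator W ≤ Subgroup.center W := by
    rw [commutator_def, Subgroup.commutator_le]
    intro x _ w _
    rw [commutatorElement_def]
    exact h.comm_mem_center x w
  apply Subgroup.eq_of_le_of_card_ge hle
  rw [h.card_center]
  by_contra hcon
  push Not at hcon
  have h1 : Nat.card (commutator W) = 1 := by
    have : 0 < Nat.card (commutator W) := Nat.card_pos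
    omega
  have h2 : commutator W = ⊥ := Subgroup.card_eq_one.mp h1
  have h3 : Subgroup.center W = ⊤ := by
    rw [eq_top_iff]
    intro x _
    rw [Subgroup.mem_center_iff]
    intro g
    have : ⁅g, x⁆ ∈ commutator W :=
      Subgroup.commutator_mem_commutator (Subgroup.mem_top g) (Subgroup.mem_top x)
    rw [h2, Subgroup.mem_bot, commutatorElement_eq_one_iff_mul_comm] at this
    exact this
  have h4 := h.card_center
  rw [h3, Subgroup.card_top] at h4
  have := h.eight_le_card
  omega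

theorem extraspecial (h : Hyp p E a b) : Cfsg.IsExtraspecial 2 W := by
  haveI : Fact (Nat.Prime 2) := ⟨Nat.prime_two⟩
  apply Cfsg.Agent.Lib.H27.isExtraspecial_of_center 2 h.hW h.card_center h.commutator_eq_center
  intro x
  rw [pow_two]
  exact h.sq_mem_center x

/-- fixed points of independent elements commute. -/
theorem commute_fix (h : Hyp p E a b) {s s' : MulAut W} (hs : s ∈ E) (hs' : s' ∈ E)
    (hs1 : s ≠ 1) (hs'1 : s' ≠ 1) (hind : s' ∉ Subgroup.zpowers s)
    (h8 : Nat.card (fixSub s') = 8) :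
    ∀ x ∈ fixSub s, ∀ y ∈ fixSub s', x * y = y * x := by
  intro x hx y hy
  have hind' : s ∉ Subgroup.zpowers s' := fun hm =>
    hind (h.mem_zpowers_symm hs hs' hs1 hs'1 hm)
  exact commute_of_comm_mem s (h.odd hs) (fixSub s') h8 (h.hfix s' hs' hs'1)
    (fun k hk => h.inv_fix hs' s hs k hk) (h.mover hs' hs hs'1 hind' h8)
    (Subgroup.center W) h.card_center hx (fun y' _ => h.comm_mem_center x y') y hy

/-- two independent elements with fixed points of order 8. -/
theorem exists_two (h : Hyp p E a b) : ∃ s₁ ∈ E, ∃ s₂ ∈ E, s₁ ≠ 1 ∧ s₂ ≠ 1 ∧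
    s₂ ∉ Subgroup.zpowers s₁ ∧ Nat.card (fixSub s₁) = 8 ∧ Nat.card (fixSub s₂) = 8 := by
  obtain ⟨s₁, hs₁, hs₁1, e, he, x, hx, hex⟩ := h.exists_moved
  obtain ⟨h8, -, -⟩ := h.moved_data hs₁ hs₁1 he hx hex
  by_contra hcon
  push Not at hcon
  have : (⊤ : Subgroup W) ≤ fixSub s₁ := by
    apply h.gen ⊤ (inv_top E)
    intro s hs hs1
    refine inf_le_right.trans ?_
    by_cases hin : s ∈ Subgroup.zpowers s₁
    · exact fix_le_of_mem_zpowers (h.mem_zpowers_symm hs hs₁ hs1 hs₁1 hin)
    · rcases h.dich hs hs1 with hc | ⟨h8', -, -⟩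
      · rw [hc]; exact h.center_le_fix hs₁
      · exact absurd h8' (hcon s₁ hs₁ s hs hs₁1 hs1 hin h8)
  apply hs₁1
  ext w
  exact this (Subgroup.mem_top w)

theorem eight_lt_card (h : Hyp p E a b) : 8 < Nat.card W := by
  obtain ⟨s₁, hs₁, s₂, hs₂, hs₁1, hs₂1, hind, h8, h8'⟩ := h.exists_two
  by_contra hcon
  push Not at hcon
  have e1 : fixSub s₁ = ⊤ := by
    apply Subgroup.eq_top_of_card_eq
    have := Subgroup.card_le_card_group (fixSub s₁)
    omega
  have e2 : fixSub s₂ = ⊤ := by
    apply Subgroup.eq_top_of_card_eq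
    have := Subgroup.card_le_card_group (fixSub s₂)
    omega
  have h1 := h.hgen s₁ hs₁ s₂ hs₂ hs₁1 hind
  rw [e1, e2, inf_idem] at h1
  have h2 := Subgroup.card_le_of_le h1
  rw [Subgroup.card_top, h.card_fixAll] at h2
  have := h.eight_le_card
  omega

theorem fix_normal (h : Hyp p E a b) {s : MulAut W} (hs : s ∈ E) : (fixSub s).Normal :=
  Cfsg.Agent.Lib.H1.normal_of_commutator_le (h.commutator_eq_center ▸ h.center_le_fix hs)

theorem card_fix_le (h : Hyp p E a b) {s : MulAut W} (hs : s ∈ E) (hs1 : s ≠ 1) :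
    Nat.card (fixSub s) ≤ 8 := by
  rcases h.dich hs hs1 with hc | ⟨h8, -, -⟩
  · rw [hc, h.card_center]; norm_num
  · exact h8.le

theorem card_sup_fix_le (h : Hyp p E a b) (H : Subgroup W) (hZH : Subgroup.center W ≤ H)
    {s : MulAut W} (hs : s ∈ E) (hs1 : s ≠ 1) : Nat.card (H ⊔ fixSub s : Subgroup W) ≤ 4 * Nat.card H := by
  haveI := h.fix_normal hs
  have h1 := card_mul_card_eq_of_coe_sup_eq_mul H (fixSub s) (Subgroup.mul_normal H (fixSub s))
  have h2 : 2 ≤ Nat.card (H ⊓ fixSub s : Subgroup W) := by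
    rw [← h.card_center]
    exact Subgroup.card_le_of_le (le_inf hZH (h.center_le_fix hs))
  have h3 := h.card_fix_le hs hs1
  have h4 : 2 * Nat.card (H ⊔ fixSub s : Subgroup W) ≤ Nat.card H * 8 :=
    calc 2 * Nat.card (H ⊔ fixSub s : Subgroup W)
        ≤ Nat.card (H ⊓ fixSub s : Subgroup W) * Nat.card (H ⊔ fixSub s : Subgroup W) :=
          Nat.mul_le_mul_right _ h2
      _ = Nat.card H * Nat.card (fixSub s) := h1.symm
      _ ≤ Nat.card H * 8 := Nat.mul_le_mul_left _ h3
  omega

end Hyp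

end Cfsg.Agent.Lib.H15.OO
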