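import Mathlib
import Cfsg.Agent.Lib.H15.OO6

/-!
helper15: towards S2934, part 7: the order of `W`.
-/

set_option autoImplicit false

namespace Cfsg.Agent.Lib.H15.OO

open Cfsg.Agent.Lib.H21 (fixSub mem_fixSub gen_abs)
open Cfsg.Agent.Lib.H22 (AtMostOneOrderP)

universe u

variable {W : Type u} [Group W]

namespace Hyp

variable [Finite W] {p : ℕ} [hp : Fact p.Prime] {E : Subgroup (MulAut W)} {a b : MulAut W}

theorem hb1 (h : Hyp p E a b) : b ≠ 1 := by
  intro e
  apply h.hba
  rw [e]; exact Subgroup.one_mem _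

theorem pow_mul_ne_one (h : Hyp p E a b) (i : ℕ) : a ^ i * b ≠ 1 := by
  intro e
  apply h.hba
  have : b = (a ^ i)⁻¹ := by
    have := congrArg (fun w => (a ^ i)⁻¹ * w) e
    simpa using this
  rw [this]
  exact Subgroup.inv_mem _ (Subgroup.pow_mem _ (Subgroup.mem_zpowers a) i)

theorem card_le (h : Hyp p E a b) : Nat.card W ≤ 2 ^ 9 := by
  have hp3 : p = 3 := h.p_eq
  have ha3 : a ^ 3 = 1 := hp3 ▸ h.hexp a h.ha
  set H : Subgroup W := ((fixSub a ⊔ fixSub b) ⊔ fixSub (a * b)) ⊔ fixSub (a ^ 2 * b) with hH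
  have hab_mem : a * b ∈ E := E.mul_mem h.ha h.hb
  have ha2b_mem : a ^ 2 * b ∈ E := E.mul_mem (E.pow_mem h.ha 2) h.hb
  have hab1 : a * b ≠ 1 := by
    have := h.pow_mul_ne_one 1
    rwa [pow_one] at this
  have htop : (⊤ : Subgroup W) ≤ H := by
    apply gen_inv E h.isPGroup h.coprimeW a b h.ha h.hb (h.hcomm a h.ha b h.hb) (h.hexp a h.ha)
      (h.hexp b h.hb) ⊤ (inv_top E) H
    · intro k _ hk
      have hle : fixSub a ≤ H := le_sup_left.trans (le_sup_left.trans le_sup_left)
      exact hle hk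
    · intro i k _ hk
      rw [pow_eq_pow_mod i ha3] at hk
      have hi : i % 3 < 3 := Nat.mod_lt _ (by norm_num)
      interval_cases hi3 : (i % 3)
      · rw [pow_zero, one_mul] at hk
        have hle : fixSub b ≤ H := le_sup_right.trans (le_sup_left.trans le_sup_left)
        exact hle hk
      · rw [pow_one] at hk
        have hle : fixSub (a * b) ≤ H := le_sup_right.trans le_sup_left
        exact hle hk
      · have hle : fixSub (a ^ 2 * b) ≤ H := le_sup_right
        exact hle hk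
  have c1 : Nat.card (fixSub a) ≤ 8 := h.card_fix_le h.ha h.ha1
  have c2 := h.card_sup_fix_le (fixSub a) (h.center_le_fix h.ha) h.hb h.hb1
  have c3 := h.card_sup_fix_le (fixSub a ⊔ fixSub b) ((h.center_le_fix h.ha).trans le_sup_left)
    hab_mem hab1
  have c4 := h.card_sup_fix_le ((fixSub a ⊔ fixSub b) ⊔ fixSub (a * b))
    ((h.center_le_fix h.ha).trans (le_sup_left.trans le_sup_left)) ha2b_mem (h.pow_mul_ne_one 2)
  have c5 : Nat.card W ≤ Nat.card H := by
    rw [← Subgroup.card_top (G := W)]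
    exact Subgroup.card_le_of_le htop
  have : (2 : ℕ) ^ 9 = 512 := by norm_num
  rw [hH] at c5
  omega

theorem card_W (h : Hyp p E a b) :
    Nat.card W = 2 ^ 5 ∨ Nat.card W = 2 ^ 7 ∨ Nat.card W = 2 ^ 9 := by
  haveI : Fact (Nat.Prime 2) := ⟨Nat.prime_two⟩
  obtain ⟨n, hn1, hn⟩ := Cfsg.Agent.S0095.result h.extraspecial
  have h1 := h.eight_lt_card
  have h2 := h.card_le
  rw [hn] at h1 h2
  have e8 : (8 : ℕ) = 2 ^ 3 := by norm_num
  rw [e8, Nat.pow_lt_pow_iff_right (by norm_num)] at h1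
  rw [Nat.pow_le_pow_iff_right (by norm_num)] at h2
  have : n = 2 ∨ n = 3 ∨ n = 4 := by omega
  rcases this with rfl | rfl | rfl
  · left; exact hn
  · right; left; exact hn
  · right; right; exact hn

end Hyp

end Cfsg.Agent.Lib.H15.OO
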