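import Mathlib
import Cfsg.Agent.Lib.H15.OO7

/-!
helper15: towards S2934, part 8: reduction of a general noncyclic abelian group `E` to a
subgroup `⟨a, b⟩` of order `p²`.
-/

set_option autoImplicit false

namespace Cfsg.Agent.Lib.H15.OO

open Cfsg.Agent.Lib.H21 (fixSub mem_fixSub gen_abs)
open Cfsg.Agent.Lib.H22 (AtMostOneOrderP)

universe u

variable {W : Type u} [Group W]

theorem exists_gen_of_card_prime {G : Type*} [Group G] {p : ℕ} [hp : Fact p.Prime]
    (H : Subgroup G) (hH : Nat.card H = p) :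
    ∃ h ∈ H, h ≠ 1 ∧ h ^ p = 1 ∧ H = Subgroup.zpowers h := by
  have hfin : Finite H := Nat.finite_of_card_ne_zero (by rw [hH]; exact hp.out.ne_zero)
  have hne : H ≠ ⊥ := by
    intro h
    rw [h, Subgroup.card_bot] at hH
    exact hp.out.one_lt.ne hH
  obtain ⟨h, hh, hh1⟩ : ∃ h : G, h ∈ H ∧ h ≠ 1 := by
    obtain ⟨⟨h, hh⟩, hne1⟩ := (Subgroup.ne_bot_iff_exists_ne_one).mp hne
    exact ⟨h, hh, fun e => hne1 (Subtype.ext e)⟩
  have hpow : h ^ p = 1 := by
    have h1 : (⟨h, hh⟩ : H) ^ p = 1 := by rw [← hH]; exact pow_card_eq_one'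
    exact congrArg Subtype.val h1
  have hord : orderOf h = p := orderOf_eq_prime hpow hh1
  refine ⟨h, hh, hh1, hpow, ?_⟩
  symm
  apply Subgroup.eq_of_le_of_card_ge
  · rw [Subgroup.zpowers_le]; exact hh
  · rw [Nat.card_zpowers, hord, hH]

/-- a noncyclic abelian `p`-group contains two independent elements of order `p`. -/
theorem exists_pair {A : Type*} [Group A] [Finite A] {p : ℕ} [hp : Fact p.Prime]
    (E : Subgroup A) (hE : IsPGroup p ↥E) (hcomm : ∀ e f : ↥E, e * f = f * e)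
    (hnc : ¬ IsCyclic ↥E) :
    ∃ a ∈ E, ∃ b ∈ E, a ≠ 1 ∧ a ^ p = 1 ∧ b ^ p = 1 ∧ b ∉ Subgroup.zpowers a := by
  have h1 : ¬ AtMostOneOrderP p ↥E := fun h =>
    hnc (Cfsg.Agent.Lib.H22.isCyclic_of_comm_of_atMostOne hE h hcomm)
  unfold AtMostOneOrderP at h1
  push Not at h1
  obtain ⟨H, K, hH, hK, hne⟩ := h1
  obtain ⟨a, haH, ha1, hap, rfl⟩ := exists_gen_of_card_prime H hH
  obtain ⟨b, hbK, hb1, hbp, rfl⟩ := exists_gen_of_card_prime K hK
  refine ⟨a, a.2, b, b.2, fun e => ha1 (Subtype.ext e), ?_, ?_, ?_⟩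
  · exact congrArg Subtype.val hap
  · exact congrArg Subtype.val hbp
  · intro hmem
    apply hne
    obtain ⟨k, hk⟩ := Subgroup.mem_zpowers_iff.mp hmem
    have hb' : b ∈ Subgroup.zpowers a := by
      rw [Subgroup.mem_zpowers_iff]
      refine ⟨k, Subtype.ext ?_⟩
      rw [Subgroup.coe_zpow]; exact hk
    symm
    apply Subgroup.eq_of_le_of_card_ge
    · rw [Subgroup.zpowers_le]; exact hb'
    · rw [hH, hK]

theorem eq_of_card_two {G : Type*} [Group G] {Z : Subgroup G} (hZ : Nat.card Z = 2) {c₁ c₂ : G}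
    (h₁ : c₁ ∈ Z) (h₂ : c₂ ∈ Z) (n₁ : c₁ ≠ 1) (n₂ : c₂ ≠ 1) : c₁ = c₂ := by
  obtain ⟨h, hh2, hh⟩ := exists_zpowers_of_card_two Z hZ
  have hsq : h ^ 2 = 1 := by rw [← hh2]; exact pow_orderOf_eq_one h
  have key : ∀ c ∈ Z, c ≠ 1 → c = h := by
    intro c hc hc1
    rw [hh] at hc
    obtain ⟨k, rfl⟩ := Subgroup.mem_zpowers_iff.mp hc
    rcases Int.emod_two_eq_zero_or_one k with hk | hk
    · exfalso
      apply hc1
      have : k = 2 * (k / 2) := by omega
      rw [this, zpow_mul, zpow_ofNat, hsq, one_zpow]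
    · have : k = 2 * (k / 2) + 1 := by omega
      rw [this, zpow_add, zpow_mul, zpow_ofNat, hsq, one_zpow, one_mul, zpow_one]
  rw [key c₁ h₁ n₁, key c₂ h₂ n₂]

/-- the elements of exponent `p` in a commutative subgroup. -/
def expSub {A : Type*} [Group A] (E : Subgroup A) (hcomm : ∀ e ∈ E, ∀ f ∈ E, e * f = f * e)
    (p : ℕ) : Subgroup A where
  carrier := {e | e ∈ E ∧ e ^ p = 1}
  one_mem' := ⟨E.one_mem, one_pow p⟩
  mul_mem' := by
    rintro e f ⟨he, hep⟩ ⟨hf, hfp⟩
    refine ⟨E.mul_mem he hf, ?_⟩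
    have hc : Commute e f := hcomm e he f hf
    rw [hc.mul_pow, hep, hfp, one_mul]
  inv_mem' := by
    rintro e ⟨he, hep⟩
    exact ⟨E.inv_mem he, by rw [inv_pow, hep, inv_one]⟩

section pair

variable {A : Type*} [Group A] [Finite A] {p : ℕ} [hp : Fact p.Prime] {a b : A}

theorem card_closure_pair_le (hab : a * b = b * a) (hap : a ^ p = 1) (hbp : b ^ p = 1) :
    Nat.card (Subgroup.closure ({a, b} : Set A)) ≤ p * p := by
  have hcm : ∀ (m : Subgroup.zpowers a) (n : Subgroup.zpowers b),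
      Commute ((Subgroup.zpowers a).subtype m) ((Subgroup.zpowers b).subtype n) := by
    rintro ⟨m, hm⟩ ⟨n, hn⟩
    obtain ⟨i, rfl⟩ := Subgroup.mem_zpowers_iff.mp hm
    obtain ⟨j, rfl⟩ := Subgroup.mem_zpowers_iff.mp hn
    exact ((show Commute a b from hab).zpow_zpow i j)
  set f := MonoidHom.noncommCoprod (Subgroup.zpowers a).subtype (Subgroup.zpowers b).subtype hcm
    with hf
  have hrange : f.range = Subgroup.closure ({a, b} : Set A) := by
    rw [hf, MonoidHom.noncommCoprod_range, Subgroup.range_subtype, Subgroup.range_subtype,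
      Subgroup.zpowers_eq_closure, Subgroup.zpowers_eq_closure, ← Subgroup.closure_union]
    rfl
  rw [← hrange]
  have h1 := Nat.card_le_card_of_surjective _ f.rangeRestrict_surjective
  rw [Nat.card_prod, Nat.card_zpowers, Nat.card_zpowers] at h1
  have h2 : orderOf a ≤ p := Nat.le_of_dvd hp.out.pos (orderOf_dvd_of_pow_eq_one hap)
  have h3 : orderOf b ≤ p := Nat.le_of_dvd hp.out.pos (orderOf_dvd_of_pow_eq_one hbp)
  exact h1.trans (Nat.mul_le_mul h2 h3)

/-- a `p`-subgroup containing `s ≠ 1` of order `p` and an element outside `⟨s⟩` has order at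
least `p²`. -/
theorem sq_le_card_of_not_mem {F : Subgroup A} (hF : IsPGroup p ↥F) {s s' : A} (hs : s ∈ F)
    (hs' : s' ∈ F) (hs1 : s ≠ 1) (hsp : s ^ p = 1) (hind : s' ∉ Subgroup.zpowers s) :
    p * p ≤ Nat.card F := by
  obtain ⟨k, hk⟩ := IsPGroup.iff_card.mp hF
  have hle : Subgroup.zpowers s ≤ F := by rw [Subgroup.zpowers_le]; exact hs
  have hlt : Subgroup.zpowers s < F := by
    refine lt_of_le_of_ne hle ?_
    intro e
    apply hind
    rw [e]; exact hs'
  have hcard : Nat.card (Subgroup.zpowers s) < Nat.card F := by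
    by_contra hcon
    push Not at hcon
    exact hlt.ne (Subgroup.eq_of_le_of_card_ge hle hcon)
  rw [Nat.card_zpowers, orderOf_eq_prime hsp hs1, hk] at hcard
  have hk2 : 2 ≤ k := by
    by_contra hcon
    push Not at hcon
    interval_cases k
    · rw [pow_zero] at hcard
      exact absurd hcard (by have := hp.out.one_lt; omega)
    · rw [pow_one] at hcard
      exact lt_irrefl _ hcard
  rw [hk, ← pow_two]
  exact Nat.pow_le_pow_right hp.out.pos hk2

end pair

/-- the hypothesis `Hyp` for the subgroup generated by an independent pair. -/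
theorem hyp_closure [Finite W] {p : ℕ} [hp : Fact p.Prime] (hW : IsPGroup 2 W) (hp2 : p ≠ 2)
    (E : Subgroup (MulAut W)) (hcomm : ∀ e ∈ E, ∀ f ∈ E, e * f = f * e)
    (hfix : ∀ e ∈ E, e ≠ 1 → OneInv (fixSub e)) {a b : MulAut W} (ha : a ∈ E) (hb : b ∈ E)
    (ha1 : a ≠ 1) (hap : a ^ p = 1) (hbp : b ^ p = 1) (hba : b ∉ Subgroup.zpowers a) :
    Hyp p (Subgroup.closure ({a, b} : Set (MulAut W))) a b := by
  set E₀ := Subgroup.closure ({a, b} : Set (MulAut W)) with hE₀
  have hsub : ({a, b} : Set (MulAut W)) ⊆ E := by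
    intro x hx
    rcases hx with rfl | rfl
    · exact ha
    · exact hb
  have hle : E₀ ≤ E := (Subgroup.closure_le E).mpr hsub
  have hleexp : E₀ ≤ expSub E hcomm p := by
    rw [hE₀, Subgroup.closure_le]
    intro x hx
    rcases hx with rfl | rfl
    · exact ⟨ha, hap⟩
    · exact ⟨hb, hbp⟩
  have hexp : ∀ e ∈ E₀, e ^ p = 1 := fun e he => (hleexp he).2
  have haE₀ : a ∈ E₀ := Subgroup.subset_closure (Set.mem_insert a _)
  have hbE₀ : b ∈ E₀ := Subgroup.subset_closure (Set.mem_insert_of_mem a rfl)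
  refine ⟨hW, hp2, fun e he f hf => hcomm e (hle he) f (hle hf), hexp, haE₀, hbE₀, ha1, hba,
    fun e he he1 => hfix e (hle he) he1, ?_⟩
  intro s hs s' hs' hs1 hind x hx
  set F := Subgroup.closure ({s, s'} : Set (MulAut W)) with hF
  have hFle : F ≤ E₀ := by
    rw [hF, Subgroup.closure_le]
    intro y hy
    rcases hy with rfl | rfl
    · exact hs
    · exact hs'
  have hFp : IsPGroup p ↥F := by
    intro e
    refine ⟨1, Subtype.ext ?_⟩
    rw [pow_one, Subgroup.coe_pow]
    exact hexp e (hFle e.2)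
  have h1 : p * p ≤ Nat.card F :=
    sq_le_card_of_not_mem hFp (Subgroup.subset_closure (Set.mem_insert s _))
      (Subgroup.subset_closure (Set.mem_insert_of_mem s rfl)) hs1 (hexp s hs) hind
  have h2 : Nat.card E₀ ≤ p * p := card_closure_pair_le (hcomm a ha b hb) hap hbp
  have hFE : F = E₀ := Subgroup.eq_of_le_of_card_ge hFle (h2.trans h1)
  have h3 : F ≤ MulAction.stabilizer (MulAut W) x := by
    rw [hF, Subgroup.closure_le]
    intro y hy
    rw [SetLike.mem_coe, MulAction.mem_stabilizer_iff]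
    rcases hy with rfl | rfl
    · exact hx.1
    · exact hx.2
  intro e he
  have := h3 (hFE ▸ he)
  rw [MulAction.mem_stabilizer_iff] at this
  exact this

end Cfsg.Agent.Lib.H15.OO
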