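import Mathlib
import Cfsg.Agent.Lib.H15.OO8

/-!
helper15: towards S2934, part 9: the main theorem.
-/

set_option autoImplicit false

namespace Cfsg.Agent.Lib.H15.OO

open Cfsg.Agent.Lib.H21 (fixSub mem_fixSub gen_abs)
open Cfsg.Agent.Lib.H22 (AtMostOneOrderP)

universe u

variable {W : Type u} [Group W]

/-- an abelian 3-group acting on a quaternion group of order 8: every element acts as a power
of a given nontrivially acting one. -/
theorem exists_zpow_fix [Finite W] (E : Subgroup (MulAut W)) (hE : IsPGroup 3 ↥E)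
    (R : Subgroup W) (hR : Inv E R) (hQ : Nonempty (↥R ≃* QuaternionGroup 2)) {s : MulAut W}
    (hs : s ∈ E) (hmove : ∃ x ∈ R, s x ≠ x) {e : MulAut W} (he : e ∈ E) :
    ∃ m : ℤ, ∀ x ∈ R, (e * s ^ m) x = x := by
  obtain ⟨f⟩ := hQ
  set ψ := resHom E R hR with hψ
  set A := ψ.range with hA
  have hA3 : IsPGroup 3 ↥A := hE.of_surjective ψ.rangeRestrict ψ.rangeRestrict_surjective
  have h24 : Nat.card A ∣ 24 :=
    (Subgroup.card_subgroup_dvd_card A).trans (Cfsg.Agent.Lib.H5.AutQ8.card_mulAut_dvd_of_equiv f)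
  haveI : Fact (Nat.Prime 3) := ⟨Nat.prime_three⟩
  obtain ⟨k, hk⟩ := IsPGroup.iff_card.mp hA3
  have hA3' : Nat.card A ∣ 3 := by
    rw [hk] at h24 ⊢
    have hk1 : k ≤ 1 := by
      by_contra hcon
      push Not at hcon
      have : (3 : ℕ) ^ 2 ∣ 3 ^ k := pow_dvd_pow 3 hcon
      have := this.trans h24
      norm_num at this
    interval_cases k <;> norm_num
  set σ := ψ ⟨s, hs⟩ with hσ
  have hσA : σ ∈ A := ⟨_, rfl⟩
  have hσ1 : σ ≠ 1 := by
    obtain ⟨x, hx, hsx⟩ := hmove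
    intro h
    apply hsx
    have h3 : (σ ⟨x, hx⟩ : W) = s x := rfl
    rw [h] at h3
    exact h3.symm
  have hord : orderOf σ = 3 := by
    have h1 : orderOf σ ∣ 3 := by
      have := orderOf_dvd_natCard (⟨σ, hσA⟩ : A)
      rw [Subgroup.orderOf_mk] at this
      exact this.trans hA3'
    rcases (Nat.dvd_prime Nat.prime_three).mp h1 with h2 | h2
    · exact absurd (orderOf_eq_one_iff.mp h2) hσ1
    · exact h2
  have hzp : Subgroup.zpowers σ = A := by
    apply Subgroup.eq_of_le_of_card_ge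
    · rw [Subgroup.zpowers_le]; exact hσA
    · rw [Nat.card_zpowers, hord]
      exact Nat.le_of_dvd (by norm_num) hA3'
  have hτ : ψ ⟨e, he⟩ ∈ Subgroup.zpowers σ := by rw [hzp]; exact ⟨_, rfl⟩
  obtain ⟨k', hk'⟩ := Subgroup.mem_zpowers_iff.mp hτ
  refine ⟨-k', ?_⟩
  intro x hx
  have hmem : e * s ^ (-k') ∈ E := E.mul_mem he (E.zpow_mem hs _)
  have h1 : ψ ⟨e * s ^ (-k'), hmem⟩ = 1 := by
    have : (⟨e * s ^ (-k'), hmem⟩ : ↥E) = ⟨e, he⟩ * ⟨s, hs⟩ ^ (-k') := by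
      apply Subtype.ext
      simp
    rw [this, map_mul, map_zpow, ← hσ, ← hk', zpow_neg, mul_inv_cancel]
  have h3 : (ψ ⟨e * s ^ (-k'), hmem⟩ ⟨x, hx⟩ : W) = (e * s ^ (-k')) x := rfl
  rw [h1] at h3
  exact h3.symm

/-- the main theorem. -/
theorem main [Finite W] (hW : IsPGroup 2 W) {p : ℕ} [hp : Fact p.Prime] (hp2 : p ≠ 2)
    (E : Subgroup (MulAut W)) (hE : IsPGroup p ↥E) (hab : IsMulCommutative ↥E)
    (hnc : ¬ IsCyclic ↥E)
    (hfix : ∀ e ∈ E, e ≠ 1 → ∀ x y : W, orderOf x = 2 → orderOf y = 2 → e x = x → e y = y → x = y) :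
    Nat.card ↥E = 9 ∧ Cfsg.IsExtraspecial 2 W ∧
      (Nat.card W = 2 ^ 5 ∨ Nat.card W = 2 ^ 7 ∨ Nat.card W = 2 ^ 9) ∧
      {x : W | ∀ e ∈ E, e x = x} = (Subgroup.center W : Set W) := by
  have hcommE : ∀ e f : ↥E, e * f = f * e := fun e f => hab.is_comm.comm e f
  have hcomm : ∀ e ∈ E, ∀ f ∈ E, e * f = f * e := by
    intro e he f hf
    exact congrArg Subtype.val (hcommE ⟨e, he⟩ ⟨f, hf⟩)
  have hfix' : ∀ e ∈ E, e ≠ 1 → OneInv (fixSub e) :=
    fun e he he1 x hx y hy ox oy => hfix e he he1 x y ox oy hx hy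
  obtain ⟨a, ha, b, hb, ha1, hap, hbp, hba⟩ := exists_pair E hE hcommE hnc
  have h := hyp_closure hW hp2 E hcomm hfix' ha hb ha1 hap hbp hba
  set E₀ := Subgroup.closure ({a, b} : Set (MulAut W)) with hE₀
  have hle : E₀ ≤ E := by
    rw [hE₀, Subgroup.closure_le]
    intro x hx
    rcases hx with rfl | rfl
    · exact ha
    · exact hb
  have hp3 : p = 3 := h.p_eq
  subst hp3
  -- `E ≤ E₀`
  have hEle : E ≤ E₀ := by
    intro e he
    by_contra heE₀
    obtain ⟨s₁, hs₁, s₂, hs₂, hs₁1, hs₂1, hind, h8, h8'⟩ := h.exists_two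
    have hind' : s₁ ∉ Subgroup.zpowers s₂ := fun hm =>
      hind (h.mem_zpowers_symm hs₁ hs₂ hs₁1 hs₂1 hm)
    have hQ₁ : Nonempty (↥(fixSub s₁) ≃* QuaternionGroup 2) := by
      rcases h.dich hs₁ hs₁1 with hc | ⟨-, hQ, -⟩
      · rw [hc, h.card_center] at h8; norm_num at h8
      · exact hQ
    have hQ₂ : Nonempty (↥(fixSub s₂) ≃* QuaternionGroup 2) := by
      rcases h.dich hs₂ hs₂1 with hc | ⟨-, hQ, -⟩
      · rw [hc, h.card_center] at h8'; norm_num at h8'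
      · exact hQ
    have hinv₁ : Inv E (fixSub s₁) := inv_fixSub s₁ (fun e he => hcomm e he s₁ (hle hs₁))
    have hinv₂ : Inv E (fixSub s₂) := inv_fixSub s₂ (fun e he => hcomm e he s₂ (hle hs₂))
    obtain ⟨m, hm⟩ := exists_zpow_fix E hE (fixSub s₁) hinv₁ hQ₁ (hle hs₂)
      (h.mover hs₁ hs₂ hs₁1 hind h8) he
    obtain ⟨n, hn⟩ := exists_zpow_fix E hE (fixSub s₂) hinv₂ hQ₂ (hle hs₁)
      (h.mover hs₂ hs₁ hs₂1 hind' h8') he
    set e' := e * s₂ ^ m * s₁ ^ n with he'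
    have he'E : e' ∈ E := E.mul_mem (E.mul_mem he (E.zpow_mem (hle hs₂) m)) (E.zpow_mem (hle hs₁) n)
    have he'1 : e' ≠ 1 := by
      intro h1
      apply heE₀
      have : e = (s₂ ^ m * s₁ ^ n)⁻¹ := by
        have := congrArg (fun w => w * (s₂ ^ m * s₁ ^ n)⁻¹) h1
        simpa [he', mul_assoc] using this
      rw [this]
      exact E₀.inv_mem (E₀.mul_mem (E₀.zpow_mem hs₂ m) (E₀.zpow_mem hs₁ n))
    have hfix₁ : ∀ x ∈ fixSub s₁, e' x = x := by
      intro x hx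
      have h1 : (s₁ ^ n) x = x := fix_le_of_mem_zpowers (Subgroup.zpow_mem_zpowers s₁ n) hx
      rw [he', MulAut.mul_apply, h1]
      exact hm x hx
    have hfix₂ : ∀ x ∈ fixSub s₂, e' x = x := by
      intro x hx
      have h1 : (s₂ ^ m) x = x := fix_le_of_mem_zpowers (Subgroup.zpow_mem_zpowers s₂ m) hx
      have e1 : e' = e * s₁ ^ n * s₂ ^ m := by
        rw [he', mul_assoc, mul_assoc]
        congr 1
        exact hcomm _ (E.zpow_mem (hle hs₂) m) _ (E.zpow_mem (hle hs₁) n)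
      rw [e1, MulAut.mul_apply, h1]
      exact hn x hx
    -- elements outside the centre
    have hex : ∀ s : MulAut W, Nat.card (fixSub s) = 8 →
        ∃ x ∈ fixSub s, x ∉ Subgroup.center W := by
      intro s hs8
      by_contra hcon
      push Not at hcon
      have := Subgroup.card_le_of_le (show fixSub s ≤ Subgroup.center W from hcon)
      rw [hs8, h.card_center] at this
      omega
    obtain ⟨x₁, hx₁, hx₁Z⟩ := hex s₁ h8
    obtain ⟨x₂, hx₂, hx₂Z⟩ := hex s₂ h8'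
    obtain ⟨z, hzZ, hz2, hzf, hzu⟩ := h.exists_z
    have hsq : ∀ s ∈ E₀, s ≠ 1 → ∀ x ∈ fixSub s, x ∉ Subgroup.center W → x * x = z := by
      intro s hs hs1 x hx hxZ
      have h1 : x * x ∈ Subgroup.center W := h.sq_mem_center x
      have h2 : x * x ≠ 1 := by
        intro h3
        apply hxZ
        have hx1 : x ≠ 1 := fun e => hxZ (e ▸ Subgroup.one_mem _)
        have : orderOf x = 2 := orderOf_eq_prime (by rw [pow_two]; exact h3) hx1
        rw [hzu s hs hs1 x hx this]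
        exact hzZ
      have hz1 : z ≠ 1 := by
        intro e
        rw [e, orderOf_one] at hz2
        norm_num at hz2
      exact eq_of_card_two h.card_center h1 hzZ h2 hz1
    have e1 := hsq s₁ hs₁ hs₁1 x₁ hx₁ hx₁Z
    have e2 := hsq s₂ hs₂ hs₂1 x₂ hx₂ hx₂Z
    have hc : x₁ * x₂ = x₂ * x₁ := h.commute_fix hs₁ hs₂ hs₁1 hs₂1 hind h8' x₁ hx₁ x₂ hx₂
    have hzz : z * z = 1 := by
      rw [← pow_two, ← hz2]; exact pow_orderOf_eq_one z
    have hw2 : (x₁ * x₂) * (x₁ * x₂) = 1 := by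
      calc (x₁ * x₂) * (x₁ * x₂) = x₁ * (x₂ * x₁) * x₂ := by group
        _ = x₁ * (x₁ * x₂) * x₂ := by rw [hc]
        _ = (x₁ * x₁) * (x₂ * x₂) := by group
        _ = 1 := by rw [e1, e2, hzz]
    have hinter : ∀ x, x ∈ fixSub s₁ → x ∈ fixSub s₂ → x ∈ Subgroup.center W := by
      intro x h1 h2
      rw [h.center_eq_fixAll]
      exact h.hgen s₁ hs₁ s₂ hs₂ hs₁1 hind ⟨h1, h2⟩
    have hw1 : x₁ * x₂ ≠ 1 := by
      intro h1
      apply hx₂Z
      have : x₂ = x₁⁻¹ := by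
        have := congrArg (fun w => x₁⁻¹ * w) h1
        simpa using this
      apply hinter x₂ _ hx₂
      rw [this]
      exact Subgroup.inv_mem _ hx₁
    have hword : orderOf (x₁ * x₂) = 2 :=
      orderOf_eq_prime (by rw [pow_two]; exact hw2) hw1
    have hwfix : e' (x₁ * x₂) = x₁ * x₂ := by
      rw [map_mul, hfix₁ x₁ hx₁, hfix₂ x₂ hx₂]
    have hzfix : e' z = z := by
      rw [← e1, map_mul, hfix₁ x₁ hx₁]
    have := hfix e' he'E he'1 (x₁ * x₂) z hword hz2 hwfix hzfix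
    rw [← e1] at this
    apply hx₂Z
    have h3 : x₂ = x₁ := mul_left_cancel this
    apply hinter x₂ _ hx₂
    rw [h3]; exact hx₁
  have hEeq : E = E₀ := le_antisymm hEle hle
  refine ⟨?_, h.extraspecial, h.card_W, ?_⟩
  · -- the order of `E`
    rw [hEeq]
    have h1 : Nat.card E₀ ≤ 3 * 3 := card_closure_pair_le (hcomm a ha b hb) hap hbp
    have h2 : 3 * 3 ≤ Nat.card E₀ :=
      sq_le_card_of_not_mem h.isPGroup h.ha h.hb ha1 hap hba
    omega
  · ext x
    rw [Set.mem_setOf_eq, SetLike.mem_coe, h.center_eq_fixAll, mem_fixAll, hEeq]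

end Cfsg.Agent.Lib.H15.OO
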