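import Mathlib
import Cfsg.Agent.S0799
import Cfsg.Agent.Lib.H3.PMinBN
import Cfsg.Agent.Lib.H5.PSL2MinIndex
import Cfsg.Agent.Lib.H5.PSL2SubfieldPGL
import Cfsg.Agent.Lib.H2.PSLCard

/-!
S2937 piece PSL28 (helper15): in `PSL₂(8)` the normalizer of a Sylow `3`-subgroup is a maximal
subgroup, via the Dickson list S0799: a subgroup of order divisible by `9` has order `9`, `18` or
is everything.
-/

set_option autoImplicit false

namespace Cfsg.Agent.Lib.H15.PM

open Cfsg Cfsg.Agent.Lib.H3.PMin

/-- order of `PSL₂(8)` -/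
theorem pm28_card (F : Type*) [Field F] [Fintype F] (hF : Fintype.card F = 8) :
    Nat.card (Matrix.ProjectiveSpecialLinearGroup (Fin 2) F) = 504 := by
  have := Cfsg.Agent.Lib.H2.card_PSL2_mul (F := F)
  rw [hF] at this
  have hg : Nat.gcd 2 (8 - 1) = 1 := by norm_num
  rw [hg, one_mul] at this
  rw [this]; norm_num

/-- subfield sizes -/
theorem pm28_subfield {K : Type} [Field K] [Fintype K] {m : ℕ} (hKm : Fintype.card K ^ m = 8) :
    Fintype.card K = 2 ∨ Fintype.card K = 8 := by
  have h2 : 2 ≤ Fintype.card K := Fintype.one_lt_card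
  have hm3 : m ≤ 3 := by
    by_contra hcon
    push Not at hcon
    have : 2 ^ 4 ≤ Fintype.card K ^ m :=
      (Nat.pow_le_pow_left h2 4).trans (Nat.pow_le_pow_right (by omega) hcon)
    omega
  interval_cases m
  · simp at hKm
  · right; simpa using hKm
  · exfalso
    have : Fintype.card K ≤ 2 := by
      by_contra hcon
      push Not at hcon
      have : 3 ^ 2 ≤ Fintype.card K ^ 2 := Nat.pow_le_pow_left hcon 2
      omega
    have : Fintype.card K = 2 := le_antisymm this h2
    rw [this] at hKm; norm_num at hKm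
  · left
    have : Fintype.card K ≤ 2 := by
      by_contra hcon
      push Not at hcon
      have : 3 ^ 3 ≤ Fintype.card K ^ 3 := Nat.pow_le_pow_left hcon 3
      omega
    exact le_antisymm this h2

/-- a subgroup of `PSL₂(8)` of order divisible by `9` has order `9` or `18`, or is everything -/
theorem pm28_nine (F : Type*) [Field F] [Fintype F] (hF : Fintype.card F = 8)
    (M : Subgroup (Matrix.ProjectiveSpecialLinearGroup (Fin 2) F)) (h9 : 9 ∣ Nat.card M) :
    Nat.card M = 9 ∨ Nat.card M = 18 ∨ M = ⊤ := by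
  classical
  haveI : Fact (Nat.Prime 2) := ⟨Nat.prime_two⟩
  -- characteristic 2
  obtain ⟨c, hc⟩ := CharP.exists F
  haveI := hc
  haveI hcp : Fact c.Prime := ⟨CharP.char_is_prime F c⟩
  obtain ⟨n, hn⟩ := FiniteField.card F c
  have hc2 : c = 2 := by
    have h8 : c ^ (n : ℕ) = 2 ^ 3 := by rw [← hn.2, hF]; norm_num
    have : c ∣ 2 ^ 3 := by
      rw [← h8]; exact dvd_pow_self c (PNat.ne_zero n)
    have := (Nat.Prime.dvd_of_dvd_pow hn.1 this)
    exact (Nat.prime_dvd_prime_iff_eq hn.1 Nat.prime_two).mp this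
  subst hc2
  have hcard := pm28_card F hF
  -- the Dickson list
  rcases Cfsg.Agent.S0799.result hF 2 M with
    ⟨k, hk, hcyc | ⟨⟨e⟩⟩⟩ | ⟨P, K, hK, ⟨e⟩⟩ | ⟨⟨e⟩⟩ | ⟨⟨e⟩⟩ | ⟨⟨e⟩⟩ | ⟨K, _, _, m, hKm, ⟨⟨e⟩⟩ | ⟨⟨e⟩⟩⟩
  · -- cyclic of order k
    left
    have hg : Nat.gcd 2 (8 - 1) = 1 := by norm_num
    rw [hg] at hk
    norm_num at hk
    rw [hcyc.2] at h9 ⊢
    rcases hk with hk | hk
    · exact Nat.dvd_antisymm hk h9
    · have := Nat.le_of_dvd (by norm_num) (h9.trans hk)
      omega
  · -- dihedral of order 2k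
    right; left
    have hg : Nat.gcd 2 (8 - 1) = 1 := by norm_num
    rw [hg] at hk
    norm_num at hk
    have hk0 : k ≠ 0 := by
      rintro rfl
      rcases hk with hk | hk <;> simp at hk
    haveI : NeZero k := ⟨hk0⟩
    have hc : Nat.card M = 2 * k := by
      rw [Nat.card_congr e.toEquiv, DihedralGroup.nat_card]
    rw [hc] at h9
    have h9k : 9 ∣ k := (Nat.Coprime.dvd_of_dvd_mul_left (by norm_num) h9)
    have hk9 : k = 9 := by
      rcases hk with hk | hk
      · exact Nat.dvd_antisymm hk h9k
      · have := Nat.le_of_dvd (by norm_num) (h9k.trans hk)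
        omega
    rw [hc, hk9]
  · -- inside the normalizer of a Sylow 2-subgroup (order 56)
    exfalso
    have hidxN := Cfsg.Agent.Lib.H5.PSL2MinIndex.index_normalizer_sylow (F := F) 2 P
    rw [hF] at hidxN
    have hN := (Subgroup.normalizer ((P : Subgroup (Matrix.ProjectiveSpecialLinearGroup (Fin 2) F)) :
      Set (Matrix.ProjectiveSpecialLinearGroup (Fin 2) F))).index_mul_card
    rw [hidxN, hcard] at hN
    have hN56 : Nat.card (Subgroup.normalizer ((P : Subgroup (Matrix.ProjectiveSpecialLinearGroup (Fin 2) F)) :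
      Set (Matrix.ProjectiveSpecialLinearGroup (Fin 2) F))) = 56 := by omega
    have hKd : Nat.card K ∣ 56 := by
      rw [← hN56]; exact Subgroup.card_dvd_of_le hK
    rw [Nat.card_congr e.toEquiv] at h9
    have := h9.trans hKd
    norm_num at this
  · -- A4
    exfalso
    rw [Nat.card_congr e.toEquiv] at h9
    have : Nat.card (alternatingGroup (Fin 4)) = 12 := by
      rw [Nat.card_eq_fintype_card]; decide
    rw [this] at h9; norm_num at h9
  · -- S4
    exfalso
    rw [Nat.card_congr e.toEquiv] at h9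
    have : Nat.card (Equiv.Perm (Fin 4)) = 24 := by
      rw [Nat.card_eq_fintype_card, Fintype.card_perm, Fintype.card_fin]; rfl
    rw [this] at h9; norm_num at h9
  · -- A5
    exfalso
    rw [Nat.card_congr e.toEquiv] at h9
    have : Nat.card (alternatingGroup (Fin 5)) = 60 := by
      rw [Nat.card_eq_fintype_card]; decide
    rw [this] at h9; norm_num at h9
  · -- PSL2 over a subfield
    right; right
    have hKc := Cfsg.Agent.Lib.H2.card_PSL2_mul (F := K)
    rcases pm28_subfield hKm with h | h
    · exfalso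
      rw [h] at hKc
      have hg : Nat.gcd 2 (2 - 1) = 1 := by norm_num
      rw [hg, one_mul] at hKc
      rw [Nat.card_congr e.toEquiv, hKc] at h9
      norm_num at h9
    · rw [h] at hKc
      have hg : Nat.gcd 2 (8 - 1) = 1 := by norm_num
      rw [hg, one_mul] at hKc
      have hM504 : Nat.card M = 504 := by
        rw [Nat.card_congr e.toEquiv, hKc]; norm_num
      exact Subgroup.card_eq_iff_eq_top M |>.mp (by rw [hM504, hcard])
  · -- PGL2 over a subfield
    right; right
    have hKc := Cfsg.Agent.Lib.H5.PSL2Subfield.card_PGL (K := K)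
    rcases pm28_subfield hKm with h | h
    · exfalso
      rw [h] at hKc
      norm_num at hKc
      rw [Nat.card_congr e.toEquiv, hKc] at h9
      norm_num at h9
    · rw [h] at hKc
      norm_num at hKc
      have hM504 : Nat.card M = 504 := by
        rw [Nat.card_congr e.toEquiv, hKc]
      exact Subgroup.card_eq_iff_eq_top M |>.mp (by rw [hM504, hcard])

/-- PSL28 (p = 3): the Sylow 3-normalizer of `PSL₂(8)` (dihedral of order 18) is maximal -/
theorem pm_PSL28 (F : Type*) [Field F] [Fintype F] (hF : Fintype.card F = 8) :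
    PMinR1 3 (Matrix.ProjectiveSpecialLinearGroup (Fin 2) F) := by
  classical
  haveI : Fact (Nat.Prime 3) := ⟨Nat.prime_three⟩
  intro U
  have hcard := pm28_card F hF
  haveI : Finite (Matrix.ProjectiveSpecialLinearGroup (Fin 2) F) :=
    Nat.finite_of_card_ne_zero (by rw [hcard]; norm_num)
  haveI hsimple : IsSimpleGroup (Matrix.ProjectiveSpecialLinearGroup (Fin 2) F) :=
    Matrix.ProjectiveSpecialLinearGroup.rank_two_simple (by
      rw [Nat.card_eq_fintype_card, hF]; norm_num)
  -- order of the Sylow subgroup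
  have hU9 : Nat.card (U : Subgroup (Matrix.ProjectiveSpecialLinearGroup (Fin 2) F)) = 9 := by
    rw [Sylow.card_eq_multiplicity, hcard]
    have : Nat.factorization 504 3 = 2 := by
      have h504 : (504 : ℕ) = 3 ^ 2 * 56 := by norm_num
      rw [h504, Nat.factorization_mul (by norm_num) (by norm_num), Nat.Prime.factorization_pow Nat.prime_three]
      have : Nat.factorization 56 3 = 0 := Nat.factorization_eq_zero_of_not_dvd (by norm_num)
      simp [this]
    rw [this]; norm_num
  set N := Subgroup.normalizer ((U : Subgroup (Matrix.ProjectiveSpecialLinearGroup (Fin 2) F)) :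
    Set (Matrix.ProjectiveSpecialLinearGroup (Fin 2) F)) with hN
  have hUN : (U : Subgroup (Matrix.ProjectiveSpecialLinearGroup (Fin 2) F)) ≤ N := Subgroup.le_normalizer
  have h9N : 9 ∣ Nat.card N := by rw [← hU9]; exact Subgroup.card_dvd_of_le hUN
  show IsCoatom N
  refine ⟨?_, ?_⟩
  · -- `U` is not normal
    intro htop
    have hUn : (U : Subgroup (Matrix.ProjectiveSpecialLinearGroup (Fin 2) F)).Normal :=
      Subgroup.normalizer_eq_top_iff.mp htop
    rcases hUn.eq_bot_or_eq_top with h | h
    · rw [h, Subgroup.card_bot] at hU9; omega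
    · rw [h, Subgroup.card_top, hcard] at hU9; omega
  · intro H hNH
    have h9H : 9 ∣ Nat.card H := h9N.trans (Subgroup.card_dvd_of_le hNH.le)
    have hlt : Nat.card N < Nat.card H := by
      have hle : Nat.card N ≤ Nat.card H :=
        Nat.le_of_dvd Nat.card_pos (Subgroup.card_dvd_of_le hNH.le)
      rcases hle.lt_or_eq with h | h
      · exact h
      · exfalso
        exact hNH.ne (Subgroup.eq_of_le_of_card_ge hNH.le h.ge)
    have hNpos : 9 ≤ Nat.card N := Nat.le_of_dvd Nat.card_pos h9N
    rcases pm28_nine F hF H h9H with h | h | h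
    · omega
    · -- `|H| = 18`: then `U` has index two in `H`, so `H` normalizes `U`
      exfalso
      have hUH : (U : Subgroup (Matrix.ProjectiveSpecialLinearGroup (Fin 2) F)) ≤ H := hUN.trans hNH.le
      have hidx : ((U : Subgroup (Matrix.ProjectiveSpecialLinearGroup (Fin 2) F)).subgroupOf H).index = 2 := by
        have h1 := ((U : Subgroup (Matrix.ProjectiveSpecialLinearGroup (Fin 2) F)).subgroupOf H).index_mul_card
        have h2 : Nat.card ((U : Subgroup (Matrix.ProjectiveSpecialLinearGroup (Fin 2) F)).subgroupOf H) = 9 := by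
          rw [Nat.card_congr (Subgroup.subgroupOfEquivOfLe hUH).toEquiv, hU9]
        rw [h2, h] at h1
        omega
      haveI hn : ((U : Subgroup (Matrix.ProjectiveSpecialLinearGroup (Fin 2) F)).subgroupOf H).Normal :=
        Subgroup.normal_of_index_eq_two hidx
      have hHN : H ≤ N := by
        rw [hN]
        exact Subgroup.le_normalizer_of_normal_subgroupOf hUH
      exact absurd (le_antisymm hHN hNH.le) hNH.ne'
    · exact h

end Cfsg.Agent.Lib.H15.PM
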