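import Mathlib
import Cfsg.Agent.Lib.H20.PowDecomp

/-!
`p'`-elements and `p`-groups (helper15's shared library).
-/

set_option autoImplicit false

namespace Cfsg.Agent.Lib.H15

variable {G : Type*} [Group G] {p : ℕ} [Fact p.Prime]

/-- An element of order prime to `p` inside a `p`-subgroup is trivial. -/
theorem eq_one_of_mem_pgroup_of_coprime {P : Subgroup G} (hP : IsPGroup p ↥P) {c : G} (hc : c ∈ P)
    (hcop : (orderOf c).Coprime p) : c = 1 := by
  obtain ⟨k, hk⟩ := (IsPGroup.iff_orderOf.mp hP) ⟨c, hc⟩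
  rw [Subgroup.orderOf_mk] at hk
  rw [hk] at hcop
  have : p ^ k = 1 := by
    have h3 : (p ^ k).Coprime (p ^ k) := Nat.Coprime.pow_right k hcop
    exact (Nat.coprime_self _).mp h3
  rw [this] at hk
  exact orderOf_eq_one_iff.mp hk

/-- A finite subgroup all of whose `p'`-elements are trivial is a `p`-group. -/
theorem isPGroup_of_forall_coprime_eq_one [Finite G] {H : Subgroup G}
    (h : ∀ c ∈ H, (orderOf c).Coprime p → c = 1) : IsPGroup p ↥H := by
  have hp : p.Prime := Fact.out
  rw [IsPGroup.iff_orderOf]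
  intro c
  obtain ⟨k, l, hkl, ⟨e, he⟩, hcop⟩ :=
    Cfsg.Agent.Lib.H20.exists_pPart_pPrimePart (c : G) (isOfFinOrder_of_finite _) p hp
  have hl1 : (c : G) ^ l = 1 := h _ (Subgroup.pow_mem _ c.2 l) hcop
  rw [hl1, mul_one] at hkl
  refine ⟨e, ?_⟩
  rw [← Subgroup.orderOf_coe, ← he, hkl]

theorem coprime_card_of_coprime_orderOf {p : ℕ} {c : G} (hcop : (orderOf c).Coprime p) :
    (Nat.card ↥(Subgroup.zpowers c)).Coprime p := by
  rw [Nat.card_zpowers]; exact hcop

/-- A `p`-subgroup normalized by a Sylow `p`-subgroup lies in it. -/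
theorem le_sylow_of_normalized [Finite G] (T : Sylow p G) {C : Subgroup G} (hC : IsPGroup p ↥C)
    (hTC : (T : Subgroup G) ≤ Subgroup.normalizer (C : Set G)) : C ≤ (T : Subgroup G) := by
  have h1 : IsPGroup p ↥((T : Subgroup G) ⊔ C) := IsPGroup.to_sup_of_normal_right' T.isPGroup' hC hTC
  have h2 := T.is_maximal' h1 le_sup_left
  rw [← h2]; exact le_sup_right

end Cfsg.Agent.Lib.H15
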