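import Mathlib
import Cfsg.Prelude.Def_Blocks
import Cfsg.Prelude.Def_Local
import Cfsg.Prelude.Def_Solvable
import Cfsg.Prelude.Def_Characters
import Cfsg.Agent.Lib.H22.PPrimeCore

/-!
# S4886 piece COMM (helper15): commuting Sylow subgroups from the two index conditions.
-/

set_option autoImplicit false

namespace Cfsg.Agent.Lib.H15.PQ2

open Cfsg
open scoped Pointwise

/-- a `p`-subgroup lies in every normal subgroup of index prime to `p` -/
theorem pq2_le_of_normal_of_not_dvd_index {G : Type*} [Group G] [Finite G] (p : ℕ) [Fact p.Prime]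
    (P B : Subgroup G) [B.Normal] (hP : IsPGroup p P) (h : ¬ p ∣ B.index) : P ≤ B := by
  rw [← Subgroup.relIndex_eq_one]
  have h1 : B.relIndex P ∣ B.index := Subgroup.relIndex_dvd_index_of_normal B P
  have h2 : B.relIndex P ∣ Nat.card P := Subgroup.relIndex_dvd_card B P
  obtain ⟨n, hn⟩ := IsPGroup.iff_card.mp hP
  rw [hn] at h2
  obtain ⟨k, -, hk⟩ := (Nat.dvd_prime_pow (Fact.out : p.Prime)).1 h2
  rcases Nat.eq_zero_or_pos k with h0 | hpos
  · rw [hk, h0, pow_zero]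
  · exfalso
    apply h
    refine dvd_trans ?_ h1
    rw [hk]
    exact dvd_pow_self p hpos.ne'

theorem exists_commuting_sylows {G : Type*} [Group G] [Finite G] (p q : ℕ) [Fact p.Prime]
    [Fact q.Prime] (hpq : p ≠ q) (h1 : ¬ q ∣ (pPrimeCore p G).index)
    (h2 : ¬ p ∣ (pPrimeCore q G).index) :
    ∃ (P : Sylow p G) (Q : Sylow q G),
      ∀ x ∈ (P : Subgroup G), ∀ y ∈ (Q : Subgroup G), x * y = y * x := by
  classical
  haveI hAn : (pPrimeCore p G).Normal := Cfsg.Agent.Lib.H22.pPrimeCore_normal p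
  haveI hBn : (pPrimeCore q G).Normal := Cfsg.Agent.Lib.H22.pPrimeCore_normal q
  have hAp : (Nat.card (pPrimeCore p G)).Coprime p := Cfsg.Agent.Lib.H22.card_pPrimeCore_coprime p
  have hBq : (Nat.card (pPrimeCore q G)).Coprime q := Cfsg.Agent.Lib.H22.card_pPrimeCore_coprime q
  obtain P : Sylow p G := default
  have hPB : (P : Subgroup G) ≤ pPrimeCore q G :=
    pq2_le_of_normal_of_not_dvd_index p _ _ P.2 h2
  -- the action of `P` on the Sylow `q`-subgroups of `A`
  let f : ↥(P : Subgroup G) →* MulAut ↥(pPrimeCore p G) :=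
    (MulAut.conjNormal).comp (P : Subgroup G).subtype
  letI : MulAction ↥(P : Subgroup G) (Sylow q ↥(pPrimeCore p G)) :=
    MulAction.compHom (Sylow q ↥(pPrimeCore p G)) f
  have hcard : ¬ p ∣ Nat.card (Sylow q ↥(pPrimeCore p G)) := by
    intro hdvd
    obtain Q0 : Sylow q ↥(pPrimeCore p G) := default
    have h3 : Nat.card (Sylow q ↥(pPrimeCore p G)) ∣ Nat.card ↥(pPrimeCore p G) :=
      dvd_trans (Sylow.card_dvd_index Q0) (Subgroup.index_dvd_card _)
    have h4 : p ∣ Nat.gcd (Nat.card ↥(pPrimeCore p G)) p := Nat.dvd_gcd (dvd_trans hdvd h3) dvd_rfl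
    rw [hAp] at h4
    exact (Fact.out : p.Prime).one_lt.ne' (Nat.dvd_one.1 h4)
  obtain ⟨Q1, hQ1⟩ := P.2.nonempty_fixed_point_of_prime_not_dvd_card (Sylow q ↥(pPrimeCore p G)) hcard
  -- the Sylow `q`-subgroup of `G`
  have hQp : IsPGroup q ((Q1 : Subgroup ↥(pPrimeCore p G)).map (pPrimeCore p G).subtype) :=
    Q1.2.map _
  have hQidx : ¬ q ∣ ((Q1 : Subgroup ↥(pPrimeCore p G)).map (pPrimeCore p G).subtype).index := by
    rw [Subgroup.index_map_subtype]
    intro hd
    rcases (Nat.Prime.dvd_mul (Fact.out : q.Prime)).1 hd with hd | hd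
    · exact Q1.not_dvd_index hd
    · exact h1 hd
  refine ⟨P, hQp.toSylow hQidx, ?_⟩
  intro x hx y hy
  have hy' : y ∈ (Q1 : Subgroup ↥(pPrimeCore p G)).map (pPrimeCore p G).subtype := hy
  obtain ⟨a, ha, rfl⟩ := hy'
  -- conjugation by `x` preserves `Q1`
  have hfix : (⟨x, hx⟩ : ↥(P : Subgroup G)) • Q1 = Q1 := hQ1 ⟨x, hx⟩
  have hfix' : (MulAut.conjNormal x : MulAut ↥(pPrimeCore p G)) • Q1 = Q1 := hfix
  have hmem : (MulAut.conjNormal x : MulAut ↥(pPrimeCore p G)) a ∈ (Q1 : Subgroup ↥(pPrimeCore p G)) := by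
    have h5 : (MulAut.conjNormal x : MulAut ↥(pPrimeCore p G)) • a ∈
        ((MulAut.conjNormal x : MulAut ↥(pPrimeCore p G)) • (Q1 : Subgroup ↥(pPrimeCore p G))) :=
      Subgroup.smul_mem_pointwise_smul a _ _ ha
    rw [← Sylow.pointwise_smul_def, hfix'] at h5
    exact h5
  -- the commutator lies in `Q ∩ B`
  set z : G := x * (a : G) * x⁻¹ * (a : G)⁻¹ with hz
  have hzQ : z ∈ (Q1 : Subgroup ↥(pPrimeCore p G)).map (pPrimeCore p G).subtype := by
    refine ⟨(MulAut.conjNormal x : MulAut ↥(pPrimeCore p G)) a * a⁻¹,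
      Subgroup.mul_mem _ hmem (Subgroup.inv_mem _ ha), ?_⟩
    simp [hz, MulAut.conjNormal_apply]
  have hzB : z ∈ pPrimeCore q G := by
    have hxB : x ∈ pPrimeCore q G := hPB hx
    have h6 : (a : G) * x⁻¹ * (a : G)⁻¹ ∈ pPrimeCore q G :=
      hBn.conj_mem _ (Subgroup.inv_mem _ hxB) _
    have h7 : z = x * ((a : G) * x⁻¹ * (a : G)⁻¹) := by
      rw [hz]; group
    rw [h7]
    exact Subgroup.mul_mem _ hxB h6
  have hz1 : z = 1 := by
    obtain ⟨k, hk⟩ := hQp ⟨z, hzQ⟩
    have hk' : z ^ q ^ k = 1 := by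
      have := congrArg Subtype.val hk
      simpa using this
    have hord1 : orderOf z ∣ q ^ k := orderOf_dvd_of_pow_eq_one hk'
    have hord2 : orderOf z ∣ Nat.card ↥(pPrimeCore q G) := by
      have h8 : orderOf (⟨z, hzB⟩ : ↥(pPrimeCore q G)) ∣ Nat.card ↥(pPrimeCore q G) :=
        orderOf_dvd_natCard _
      have h9 : orderOf (⟨z, hzB⟩ : ↥(pPrimeCore q G)) = orderOf z := by
        rw [← Subgroup.orderOf_coe]
      rwa [h9] at h8
    have hcop : (q ^ k).Coprime (Nat.card ↥(pPrimeCore q G)) :=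
      Nat.Coprime.pow_left k hBq.symm
    have : orderOf z = 1 := Nat.eq_one_of_dvd_coprimes hcop hord1 hord2
    exact orderOf_eq_one_iff.1 this
  have : x * (a : G) = (a : G) * x := by
    have h10 : x * (a : G) * x⁻¹ * (a : G)⁻¹ = 1 := hz1
    have h11 : x * (a : G) = (x * (a : G) * x⁻¹ * (a : G)⁻¹) * ((a : G) * x) := by group
    rw [h11, h10, one_mul]
  exact this

end Cfsg.Agent.Lib.H15.PQ2
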