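import Mathlib
import Cfsg.Agent.S0274
import Cfsg.Agent.Lib.H1.QdGroup
import Cfsg.Agent.Lib.H26.Involves

/-!
# `Qd(p)`-free groups have all sections normalizer-`p`-stable (helper15)

The `⇒` direction of S2795, from helper1's Theorem Q (`Lib/H1/QdGroup`) and Dickson's theorem S0274.
-/

set_option autoImplicit false
open Cfsg

namespace Cfsg.Agent.Lib.H15.SCF

universe u

variable {p : ℕ} [Fact p.Prime]

/-- transport of membership in `O_p` of a quotient along an equality of the kernels -/
theorem mk_mem_pCore_of_eq {X : Type*} [Group X] (A B : Subgroup X) [A.Normal] [B.Normal] (h : A = B)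
    (x : X) (hx : (QuotientGroup.mk x : X ⧸ A) ∈ pCore p (X ⧸ A)) :
    (QuotientGroup.mk x : X ⧸ B) ∈ pCore p (X ⧸ B) := by
  subst h
  exact hx

/-- sections of a `H`-free group are `H`-free -/
theorem not_involves_section {H : Type*} [Group H] {G : Type*} [Group G]
    (hfree : ¬ Cfsg.Involves H G) (K R : Subgroup G) [(R.subgroupOf K).Normal] :
    ¬ Cfsg.Involves H (K ⧸ R.subgroupOf K) := by
  intro h
  apply hfree
  rw [Cfsg.Agent.Lib.H26.involves_iff] at h
  obtain ⟨K₂, f, hf⟩ := h
  have h1 : Cfsg.Involves H K :=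
    Cfsg.Agent.Lib.H26.involves_of_le_range (QuotientGroup.mk' (R.subgroupOf K)) K₂
      (by rw [MonoidHom.range_eq_top.mpr (QuotientGroup.mk'_surjective _)]; exact le_top) f hf
  exact Cfsg.Agent.Lib.H26.involves_of_injective K.subtype K.subtype_injective h1

/-- **Theorem Q, normalizer form**: a finite `Qd(p)`-free group (`p` odd) is `p`-stable in the
normalizer form. -/
theorem isNormalizerPStable_of_not_involves_qd {Y : Type u} [Group Y] [Finite Y] (hp2 : p ≠ 2)
    (hfree : ¬ Cfsg.Involves ↥(Cfsg.qd p) Y) : Cfsg.IsNormalizerPStable p Y := by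
  intro P hP g hg hquad
  set N : Subgroup Y := Subgroup.normalizer (P : Set Y) with hN
  have hPN : P ≤ N := Subgroup.le_normalizer
  haveI hn : (P.subgroupOf N).Normal := Subgroup.normal_in_normalizer
  have hfree' : ¬ Cfsg.Involves ↥(Cfsg.qd p) N := fun h =>
    hfree (Cfsg.Agent.Lib.H26.involves_of_injective N.subtype N.subtype_injective h)
  have hP' : IsPGroup p (P.subgroupOf N) :=
    hP.comap_of_injective N.subtype N.subtype_injective
  have hQ := Cfsg.Agent.Lib.H1.QdGroup.isPStableOn_of_not_involves_qd hp2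
    (Cfsg.Agent.S0274.dicksonHyp.{u} hp2) hfree' (P.subgroupOf N) hP'
  have hquad' : ⁅⁅P.subgroupOf N, Subgroup.zpowers (⟨g, hg⟩ : N)⁆,
      Subgroup.zpowers (⟨g, hg⟩ : N)⁆ = ⊥ := by
    apply Subgroup.map_injective N.subtype_injective
    rw [Subgroup.map_commutator, Subgroup.map_commutator, Subgroup.map_bot,
      Subgroup.subgroupOf_map_subtype, inf_eq_left.mpr hPN, MonoidHom.map_zpowers]
    exact hquad
  have h1 := hQ ⟨g, hg⟩ hquad'
  have heq : Subgroup.centralizer ((P.subgroupOf N : Subgroup N) : Set N) =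
      (Subgroup.centralizer (P : Set Y)).subgroupOf N := by
    ext x
    rw [Subgroup.mem_subgroupOf, Subgroup.mem_centralizer_iff, Subgroup.mem_centralizer_iff]
    constructor
    · intro h y hy
      have := h ⟨y, hPN hy⟩ (by rw [SetLike.mem_coe, Subgroup.mem_subgroupOf]; exact hy)
      exact congrArg Subtype.val this
    · intro h y hy
      rw [SetLike.mem_coe, Subgroup.mem_subgroupOf] at hy
      exact Subtype.ext (h y.1 hy)
  exact mk_mem_pCore_of_eq _ _ heq _ h1

/-- **S2795, `⇒`**: if `Qd(p)` is not involved in the finite group `G` (`p` odd), every section of `G`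
is `p`-stable in the normalizer form. -/
theorem sections_isNormalizerPStable_of_not_involves_qd {G : Type u} [Group G] [Finite G]
    (hp2 : p ≠ 2) (hfree : ¬ Cfsg.Involves ↥(Cfsg.qd p) G) (K R : Subgroup G)
    [(R.subgroupOf K).Normal] : Cfsg.IsNormalizerPStable p (K ⧸ R.subgroupOf K) :=
  isNormalizerPStable_of_not_involves_qd hp2 (not_involves_section hfree K R)

end Cfsg.Agent.Lib.H15.SCF
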