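import Mathlib
import Cfsg.Prelude.Def_OddOrderLocal
import Cfsg.Prelude.Def_CaseTheorems
import Cfsg.Prelude.Def_PLocal
import Cfsg.Agent.Lib.H19.R2Defs

/-!
# S3888 pieces ALPHAT2 / ALPHAT3: shared lemmas (helper15)

* `card_le_of_gens`: a group generated by `x, y, z` with `x ^ p = y ^ p = 1`, `z ^ p ^ m = 1`, `y z = z y`
  and `x` normalizing `⟨y, z⟩` has order at most `p ^ (m + 2)`.
* `lift_comm`: under (H2) with `Z = N ⊓ Z(G)` of order `p`, if `G ⧸ Z` has a central element `f`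
  with `f ^ p ≠ 1`, `(f ^ p) ^ p = 1`, then any two elements of `G ⧸ Z` with `p`-th power `1` commute.
-/

set_option autoImplicit false

namespace Cfsg.Agent.Lib.H15.R2

open Cfsg Cfsg.Agent.Lib.H19.R2
open scoped commutatorElement Pointwise

universe u

variable {p : ℕ} [Fact p.Prime]

theorem aux_card_zpowers_le {Q : Type*} [Group Q] {a : Q} {k : ℕ} (hk : 0 < k) (ha : a ^ k = 1) :
    Nat.card (Subgroup.zpowers a) ≤ k := by
  rw [Nat.card_zpowers]
  exact Nat.le_of_dvd hk (orderOf_dvd_of_pow_eq_one ha)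

theorem aux_card_sup_le {Q : Type*} [Group Q] [Finite Q] (H K : Subgroup Q)
    (hHK : H ≤ Subgroup.normalizer (K : Set Q)) :
    Nat.card ↥(H ⊔ K) ≤ Nat.card H * Nat.card K := by
  have h1 : ((H ⊔ K : Subgroup Q) : Set Q) = (H : Set Q) * (K : Set Q) :=
    Subgroup.coe_mul_of_left_le_normalizer_right H K hHK
  calc Nat.card ↥(H ⊔ K) = Nat.card ((H ⊔ K : Subgroup Q) : Set Q) := rfl
    _ = Nat.card ((H : Set Q) * (K : Set Q) : Set Q) := by rw [h1]
    _ ≤ Nat.card (H : Set Q) * Nat.card (K : Set Q) := Set.natCard_mul_le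
    _ = Nat.card H * Nat.card K := rfl

theorem card_le_of_gens {Q : Type*} [Group Q] [Finite Q] {x y z : Q} {m : ℕ}
    (hgen : Subgroup.closure ({x, y, z} : Set Q) = ⊤) (hx : x ^ p = 1) (hy : y ^ p = 1)
    (hz : z ^ p ^ m = 1) (hyz : y * z = z * y)
    (hxy : x⁻¹ * y * x ∈ Subgroup.zpowers y ⊔ Subgroup.zpowers z)
    (hxz : x⁻¹ * z * x ∈ Subgroup.zpowers y ⊔ Subgroup.zpowers z) :
    Nat.card Q ≤ p ^ (m + 2) := by
  have hp : p.Prime := Fact.out
  set Y := Subgroup.zpowers y with hY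
  set B := Subgroup.zpowers z with hB
  set X := Subgroup.zpowers x with hX
  have hcY : Nat.card Y ≤ p := aux_card_zpowers_le hp.pos hy
  have hcB : Nat.card B ≤ p ^ m := aux_card_zpowers_le (pow_pos hp.pos m) hz
  have hcX : Nat.card X ≤ p := aux_card_zpowers_le hp.pos hx
  -- `Y` normalizes `B`
  have hYB : Y ≤ Subgroup.normalizer (B : Set Q) := by
    refine le_trans ?_ (Subgroup.centralizer_le_normalizer _)
    rw [hY, Subgroup.zpowers_le]
    rw [Subgroup.mem_centralizer_iff]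
    intro b hb
    obtain ⟨k, rfl⟩ := Subgroup.mem_zpowers_iff.mp hb
    exact ((Commute.zpow_left (show Commute z y from hyz.symm) k)).eq
  have hcA : Nat.card ↥(Y ⊔ B) ≤ p * p ^ m :=
    (aux_card_sup_le Y B hYB).trans (Nat.mul_le_mul hcY hcB)
  -- `x` normalizes `A`
  have hxA : X ≤ Subgroup.normalizer ((Y ⊔ B : Subgroup Q) : Set Q) := by
    rw [hX, Subgroup.zpowers_le]
    have hinv : x⁻¹ ∈ Subgroup.normalizer ((Y ⊔ B : Subgroup Q) : Set Q) := by
      apply Subgroup.mem_normalizer_fintype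
      intro a ha
      rw [inv_inv]
      have hmap : (Y ⊔ B).map (MulAut.conj x⁻¹).toMonoidHom ≤ Y ⊔ B := by
        rw [Subgroup.map_sup, hY, hB, MonoidHom.map_zpowers, MonoidHom.map_zpowers]
        refine sup_le ?_ ?_
        · rw [Subgroup.zpowers_le]
          simpa [MulAut.conj_apply] using hxy
        · rw [Subgroup.zpowers_le]
          simpa [MulAut.conj_apply] using hxz
      have := hmap (Subgroup.mem_map_of_mem _ ha)
      simpa [MulAut.conj_apply] using this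
    simpa using inv_mem hinv
  have hcG : Nat.card ↥(X ⊔ (Y ⊔ B)) ≤ p * (p * p ^ m) :=
    (aux_card_sup_le X (Y ⊔ B) hxA).trans (Nat.mul_le_mul hcX hcA)
  have htop : X ⊔ (Y ⊔ B) = ⊤ := by
    rw [← hgen, hX, hY, hB, Subgroup.zpowers_eq_closure, Subgroup.zpowers_eq_closure,
      Subgroup.zpowers_eq_closure, ← Subgroup.closure_union, ← Subgroup.closure_union]
    congr 1
  rw [htop, Subgroup.card_top] at hcG
  calc Nat.card Q ≤ p * (p * p ^ m) := hcG
    _ = p ^ (m + 2) := by ring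

variable {G : Type u} [Group G] [Finite G]

theorem lift_comm {N : Subgroup G} (h : H2 p G N) (Z : Subgroup G) [Z.Normal]
    (hZ : Z = N ⊓ Subgroup.center G) (hZp : Nat.card Z = p) (f : G ⧸ Z)
    (hfc : ∀ q : G ⧸ Z, q * f = f * q) (hf1 : f ^ p ≠ 1) (hf2 : (f ^ p) ^ p = 1)
    (x y : G ⧸ Z) (hx : x ^ p = 1) (hy : y ^ p = 1) : x * y = y * x := by
  have hp : p.Prime := Fact.out
  obtain ⟨f₁, rfl⟩ := QuotientGroup.mk_surjective f
  have hZc : Z ≤ Subgroup.center G := by rw [hZ]; exact inf_le_right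
  have hZN : Z ≤ N := by rw [hZ]; exact inf_le_left
  have hZpow : ∀ c ∈ Z, c ^ p = 1 := by
    intro c hc
    have h1 : (⟨c, hc⟩ : Z) ^ Nat.card Z = 1 := pow_card_eq_one'
    rw [hZp] at h1
    simpa using congrArg Subtype.val h1
  -- commutators with `f₁` lie in `Z`
  have hcomm : ∀ g : G, ⁅f₁, g⁆ ∈ Z := by
    intro g
    rw [← QuotientGroup.eq_one_iff, commutatorElement_def]
    simp only [QuotientGroup.mk_mul, QuotientGroup.mk_inv]
    have := hfc (g : G ⧸ Z)
    rw [← this]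
    group
  -- `f₁ ^ k * g = ⁅f₁, g⁆ ^ k * g * f₁ ^ k`
  have hpowc : ∀ (g : G) (k : ℕ), f₁ ^ k * g = ⁅f₁, g⁆ ^ k * g * f₁ ^ k := by
    intro g k
    induction k with
    | zero => simp
    | succ k ih =>
      have hc : ∀ t : G, t * ⁅f₁, g⁆ = ⁅f₁, g⁆ * t := fun t =>
        (Subgroup.mem_center_iff.mp (hZc (hcomm g)) t)
      have h1 : f₁ * g = ⁅f₁, g⁆ * g * f₁ := by
        rw [commutatorElement_def]; group
      calc f₁ ^ (k + 1) * g = f₁ ^ k * (f₁ * g) := by rw [pow_succ, mul_assoc]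
        _ = f₁ ^ k * (⁅f₁, g⁆ * g * f₁) := by rw [h1]
        _ = (f₁ ^ k * ⁅f₁, g⁆) * g * f₁ := by simp only [mul_assoc]
        _ = (⁅f₁, g⁆ * f₁ ^ k) * g * f₁ := by rw [hc]
        _ = ⁅f₁, g⁆ * (f₁ ^ k * g) * f₁ := by simp only [mul_assoc]
        _ = ⁅f₁, g⁆ * (⁅f₁, g⁆ ^ k * g * f₁ ^ k) * f₁ := by rw [ih]
        _ = ⁅f₁, g⁆ ^ (k + 1) * g * f₁ ^ (k + 1) := by
          rw [pow_succ' ⁅f₁, g⁆ k, pow_succ f₁ k]; simp only [mul_assoc]
  set n₀ := f₁ ^ p with hn₀
  have hn₀c : n₀ ∈ Subgroup.center G := by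
    rw [Subgroup.mem_center_iff]
    intro g
    have := hpowc g p
    rw [hZpow _ (hcomm g), one_mul] at this
    exact this.symm
  have hn₀Z : n₀ ∉ Z := by
    intro hmem
    apply hf1
    rw [← QuotientGroup.mk_pow]
    exact (QuotientGroup.eq_one_iff _).mpr hmem
  have hn₀pZ : n₀ ^ p ∈ Z := by
    rw [← QuotientGroup.eq_one_iff, QuotientGroup.mk_pow, hn₀, QuotientGroup.mk_pow]
    exact hf2
  have hn₀p1 : n₀ ^ p ≠ 1 := by
    intro h1
    apply hn₀Z
    rw [hZ]
    exact ⟨h.2 n₀ h1, hn₀c⟩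
  -- every element of `G` with `p`-th power in `Z` is `x' * u` with `x' ∈ N`, `u` central
  have key : ∀ t : G, t ^ p ∈ Z → ∃ t' ∈ N, ∃ u ∈ Subgroup.center G, t = t' * u := by
    intro t ht
    have hne : (⟨n₀ ^ p, hn₀pZ⟩ : Z) ≠ 1 := by
      intro h1
      exact hn₀p1 (by simpa using congrArg Subtype.val h1)
    have hmem : (⟨t ^ p, ht⟩ : Z) ∈ Subgroup.zpowers (⟨n₀ ^ p, hn₀pZ⟩ : Z) :=
      mem_zpowers_of_prime_card hZp hne
    obtain ⟨k, hk⟩ := Subgroup.mem_zpowers_iff.mp hmem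
    have hk' : (n₀ ^ p) ^ k = t ^ p := by
      simpa using congrArg Subtype.val hk
    set u := n₀ ^ k with hu
    have huc : u ∈ Subgroup.center G := zpow_mem hn₀c k
    have hup : u ^ p = t ^ p := by
      rw [← hk', hu, ← zpow_natCast, ← zpow_natCast, ← zpow_mul, ← zpow_mul, mul_comm]
    have hcm : Commute t u⁻¹ := by
      have : u⁻¹ ∈ Subgroup.center G := inv_mem huc
      exact (Subgroup.mem_center_iff.mp this t)
    refine ⟨t * u⁻¹, ?_, u, huc, by group⟩
    apply h.2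
    rw [hcm.mul_pow, inv_pow, hup, mul_inv_cancel]
  obtain ⟨x₀, rfl⟩ := QuotientGroup.mk_surjective x
  obtain ⟨y₀, rfl⟩ := QuotientGroup.mk_surjective y
  have hx₀ : x₀ ^ p ∈ Z := by
    rw [← QuotientGroup.eq_one_iff, QuotientGroup.mk_pow]; exact hx
  have hy₀ : y₀ ^ p ∈ Z := by
    rw [← QuotientGroup.eq_one_iff, QuotientGroup.mk_pow]; exact hy
  obtain ⟨x', hx'N, u, huc, rfl⟩ := key x₀ hx₀
  obtain ⟨y', hy'N, v, hvc, rfl⟩ := key y₀ hy₀
  rw [← QuotientGroup.mk_mul, ← QuotientGroup.mk_mul]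
  congr 1
  have hxy' : x' * y' = y' * x' := h.1.comm x' hx'N y' hy'N
  have hu : ∀ t : G, t * u = u * t := fun t => Subgroup.mem_center_iff.mp huc t
  have hv : ∀ t : G, t * v = v * t := fun t => Subgroup.mem_center_iff.mp hvc t
  calc x' * u * (y' * v) = x' * (u * y') * v := by simp only [mul_assoc]
    _ = x' * (y' * u) * v := by rw [hu y']
    _ = (x' * y') * u * v := by simp only [mul_assoc]
    _ = (y' * x') * u * v := by rw [hxy']
    _ = y' * (x' * u * v) := by simp only [mul_assoc]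
    _ = y' * (v * (x' * u)) := by rw [hv (x' * u)]
    _ = y' * v * (x' * u) := by simp only [mul_assoc]

omit [Finite G] in
theorem aux_card_quot [Finite G] {n : ℕ} (h1 : 1 ≤ n) (hcard : Nat.card G = p ^ n) (Z : Subgroup G)
    (hZp : Nat.card Z = p) : Nat.card (G ⧸ Z) = p ^ (n - 1) := by
  have hp : p.Prime := Fact.out
  have h2 := Subgroup.card_eq_card_quotient_mul_card_subgroup Z
  rw [hcard, hZp] at h2
  have h3 : p ^ n = p ^ (n - 1) * p := by rw [← pow_succ]; congr 1; omega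
  rw [h3] at h2
  exact (Nat.eq_of_mul_eq_mul_right hp.pos h2).symm

theorem aux_central_of_gens {Q : Type*} [Group Q] {x y z t : Q}
    (hgen : Subgroup.closure ({x, y, z} : Set Q) = ⊤) (hx : x * t = t * x) (hy : y * t = t * y)
    (hz : z * t = t * z) : ∀ q : Q, q * t = t * q := by
  intro q
  have hq : q ∈ Subgroup.closure ({x, y, z} : Set Q) := by rw [hgen]; trivial
  have hle : Subgroup.closure ({x, y, z} : Set Q) ≤ Subgroup.centralizer {t} := by
    rw [Subgroup.closure_le]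
    intro g hg
    rw [SetLike.mem_coe, Subgroup.mem_centralizer_iff]
    intro h hh
    rw [Set.mem_singleton_iff] at hh
    subst hh
    rcases hg with rfl | rfl | rfl
    · exact hx.symm
    · exact hy.symm
    · exact hz.symm
  have h1 := hle hq
  rw [Subgroup.mem_centralizer_iff] at h1
  exact (h1 t rfl).symm

end Cfsg.Agent.Lib.H15.R2
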