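import Mathlib
import Cfsg.Prelude.Def_OddOrderLocal
import Cfsg.Prelude.Def_CaseTheorems
import Cfsg.Prelude.Def_PLocal
import Cfsg.Agent.Lib.H19.R2Defs
import Cfsg.Agent.Lib.H15.R2AlphaAux

/-!
# S3888 piece ALPHAT2 (`alpha_T2`), helper15

Exact signature of `tools/blueprints/S3888_sigs.lean`.
-/

set_option autoImplicit false

namespace Cfsg.Agent.Lib.H15.R2

open Cfsg Cfsg.Agent.Lib.H19.R2
open scoped commutatorElement

universe u

variable {p : ℕ} [Fact p.Prime] {G : Type u} [Group G] [Finite G]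

/-- ALPHAT2. -/
theorem alpha_T2 (hp2 : p ≠ 2) (hG : IsPGroup p G) {N : Subgroup G} (h : H2 p G N) {n : ℕ} (h5 : 5 ≤ n)
    (hcard : Nat.card G = p ^ n) (Z : Subgroup G) [Z.Normal] (hZ : Z = N ⊓ Subgroup.center G)
    (hZp : Nat.card Z = p) : ¬ T2 p (n - 1) (G ⧸ Z) := by
  have hp : p.Prime := Fact.out
  rintro ⟨_, x, y, z, hgen, hx, hy, hz, hxz, hyz, hxy⟩
  have e2 : n - 1 - 2 = n - 3 := by omega
  have e3 : n - 1 - 3 = n - 4 := by omega
  rw [e2] at hz
  rw [e3] at hxy
  have hcardQ : Nat.card (G ⧸ Z) = p ^ (n - 1) := aux_card_quot (by omega) hcard Z hZp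
  by_cases hw : z ^ p ^ (n - 4) = 1
  · have hle := card_le_of_gens (p := p) (m := n - 4) hgen hx hy hw hyz
      (by
        rw [hxy, hw, mul_one]
        exact Subgroup.mem_sup_left (Subgroup.mem_zpowers y))
      (by
        have h1 : x⁻¹ * z * x = z := by rw [mul_assoc, ← hxz, inv_mul_cancel_left]
        rw [h1]
        exact Subgroup.mem_sup_right (Subgroup.mem_zpowers z))
    rw [hcardQ] at hle
    have := (Nat.pow_le_pow_iff_right hp.one_lt).mp hle
    omega
  · have hzc : ∀ q : G ⧸ Z, q * z = z * q := aux_central_of_gens hgen hxz hyz rfl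
    have hfc : ∀ q : G ⧸ Z, q * z ^ p ^ (n - 5) = z ^ p ^ (n - 5) * q := fun q =>
      ((show Commute q z from hzc q).pow_right _).eq
    have hfp : (z ^ p ^ (n - 5)) ^ p = z ^ p ^ (n - 4) := by
      rw [← pow_mul, ← pow_succ]
      congr 2
      omega
    have hcomm := lift_comm h Z hZ hZp (z ^ p ^ (n - 5)) hfc (by rw [hfp]; exact hw)
      (by
        rw [hfp, ← pow_mul, ← pow_succ, show n - 4 + 1 = n - 3 by omega]
        exact hz) x y hx hy
    apply hw
    have h1 : x⁻¹ * y * x = y := by rw [mul_assoc, ← hcomm, inv_mul_cancel_left]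
    rw [h1] at hxy
    have h2 : y * 1 = y * z ^ p ^ (n - 4) := by rw [mul_one]; exact hxy
    exact (mul_left_cancel h2).symm

end Cfsg.Agent.Lib.H15.R2
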