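import Mathlib
import Cfsg.Prelude.Def_OddOrderLocal
import Cfsg.Prelude.Def_CaseTheorems
import Cfsg.Prelude.Def_PLocal
import Cfsg.Agent.Lib.H19.R2Defs
import Cfsg.Agent.Lib.H15.R2AlphaAux

/-!
# S3888 piece ALPHAT3 (`alpha_T3`), helper15

Exact signature of `tools/blueprints/S3888_sigs.lean`.
-/

set_option autoImplicit false

namespace Cfsg.Agent.Lib.H15.R2

open Cfsg Cfsg.Agent.Lib.H19.R2
open scoped commutatorElement

universe u

variable {p : ℕ} [Fact p.Prime] {G : Type u} [Group G] [Finite G]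

/-- ALPHAT3. -/
theorem alpha_T3 (hp2 : p ≠ 2) (hG : IsPGroup p G) {N : Subgroup G} (h : H2 p G N) {n : ℕ} (h5 : 5 ≤ n)
    (hcard : Nat.card G = p ^ n) (Z : Subgroup G) [Z.Normal] (hZ : Z = N ⊓ Subgroup.center G)
    (hZp : Nat.card Z = p) (ht : T3 p (n - 1) (G ⧸ Z)) :
    n = 5 ∧ (⊤ : Subgroup (G ⧸ Z)).lowerCentralSeries 2 ≠ ⊥ := by
  have hp : p.Prime := Fact.out
  obtain ⟨_, s, x, y, z, hs, hgen, hx, hy, hz, hyz, hxy, hxz⟩ := ht
  have e2 : n - 1 - 2 = n - 3 := by omega
  have e3 : n - 1 - 3 = n - 4 := by omega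
  rw [e2] at hz
  rw [e3] at hxy
  have hcardQ : Nat.card (G ⧸ Z) = p ^ (n - 1) := aux_card_quot (by omega) hcard Z hZp
  have hps : ¬ p ∣ s := by
    rcases hs with rfl | hs
    · intro h1
      exact hp.one_lt.ne' (Nat.dvd_one.mp h1)
    · intro h1
      apply hs
      rw [(ZMod.natCast_eq_zero_iff s p).mpr h1]
      exact IsSquare.zero
  -- the key fact
  have hkey : z ^ (s * p ^ (n - 4)) ≠ 1 := by
    intro h1
    have hw : z ^ p ^ (n - 4) = 1 := by
      have hd1 : orderOf z ∣ s * p ^ (n - 4) := orderOf_dvd_of_pow_eq_one h1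
      have hd2 : orderOf z ∣ p ^ (n - 3) := orderOf_dvd_of_pow_eq_one hz
      obtain ⟨a, _, hoa⟩ := (Nat.dvd_prime_pow hp).mp hd2
      rw [hoa] at hd1
      have hcop : Nat.Coprime (p ^ a) s :=
        Nat.Coprime.pow_left a ((Nat.Prime.coprime_iff_not_dvd hp).mpr hps)
      have h2 := hcop.dvd_of_dvd_mul_left hd1
      rw [← hoa] at h2
      exact orderOf_dvd_iff_pow_eq_one.mp h2
    have hle := card_le_of_gens (p := p) (m := n - 4) hgen hx hy hw hyz
      (by
        rw [hxy]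
        exact mul_mem (Subgroup.mem_sup_left (Subgroup.mem_zpowers y))
          (Subgroup.mem_sup_right (pow_mem (Subgroup.mem_zpowers z) _)))
      (by
        rw [hxz]
        exact mul_mem (Subgroup.mem_sup_left (Subgroup.mem_zpowers y))
          (Subgroup.mem_sup_right (Subgroup.mem_zpowers z)))
    rw [hcardQ] at hle
    have := (Nat.pow_le_pow_iff_right hp.one_lt).mp hle
    omega
  have hwne : z ^ p ^ (n - 4) ≠ 1 := by
    intro h1
    apply hkey
    rw [mul_comm, pow_mul, h1, one_pow]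
  refine ⟨?_, ?_⟩
  · by_contra hn
    have h6 : 6 ≤ n := by omega
    -- `f = z ^ p ^ (n - 5)` is central
    have hconj : ∀ k : ℕ, x⁻¹ * z ^ k * x = (x⁻¹ * z * x) ^ k := by
      intro k
      induction k with
      | zero => simp
      | succ k ih => rw [pow_succ, pow_succ, ← ih]; group
    have hy1 : y ^ p ^ (n - 5) = 1 := by
      have : p ^ (n - 5) = p * p ^ (n - 6) := by
        rw [← pow_succ']; congr 1; omega
      rw [this, pow_mul, hy, one_pow]
    have hxf : x * z ^ p ^ (n - 5) = z ^ p ^ (n - 5) * x := by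
      have h1 : x⁻¹ * z ^ p ^ (n - 5) * x = z ^ p ^ (n - 5) := by
        rw [hconj, hxz, (show Commute y z from hyz).mul_pow, hy1, one_mul]
      calc x * z ^ p ^ (n - 5) = x * (x⁻¹ * z ^ p ^ (n - 5) * x) := by rw [h1]
        _ = z ^ p ^ (n - 5) * x := by group
    have hyf : y * z ^ p ^ (n - 5) = z ^ p ^ (n - 5) * y :=
      ((show Commute y z from hyz).pow_right _).eq
    have hfc : ∀ q : G ⧸ Z, q * z ^ p ^ (n - 5) = z ^ p ^ (n - 5) * q :=
      aux_central_of_gens hgen hxf hyf ((Commute.refl z).pow_right _).eq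
    have hfp : (z ^ p ^ (n - 5)) ^ p = z ^ p ^ (n - 4) := by
      rw [← pow_mul, ← pow_succ]
      congr 2
      omega
    have hcomm := lift_comm h Z hZ hZp (z ^ p ^ (n - 5)) hfc (by rw [hfp]; exact hwne)
      (by
        rw [hfp, ← pow_mul, ← pow_succ, show n - 4 + 1 = n - 3 by omega]
        exact hz) x y hx hy
    apply hkey
    have h1 : x⁻¹ * y * x = y := by rw [mul_assoc, ← hcomm, inv_mul_cancel_left]
    rw [h1] at hxy
    have h2 : y * 1 = y * z ^ (s * p ^ (n - 4)) := by rw [mul_one]; exact hxy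
    exact (mul_left_cancel h2).symm
  · intro hbot
    apply hkey
    have hy1 : y ∈ (⊤ : Subgroup (G ⧸ Z)).lowerCentralSeries 1 := by
      have h1 : y = ⁅x⁻¹, z⁆ := by
        rw [commutatorElement_def, inv_inv, hxz]; group
      rw [h1, Subgroup.lowerCentralSeries_succ, Subgroup.lowerCentralSeries_zero]
      exact Subgroup.commutator_mem_commutator (Subgroup.mem_top _) (Subgroup.mem_top _)
    have h2 : z ^ (s * p ^ (n - 4)) ∈ (⊤ : Subgroup (G ⧸ Z)).lowerCentralSeries 2 := by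
      have h1 : z ^ (s * p ^ (n - 4)) = ⁅y⁻¹, x⁻¹⁆ := by
        rw [commutatorElement_def, inv_inv, inv_inv, mul_assoc y⁻¹, mul_assoc y⁻¹]
        rw [hxy, inv_mul_cancel_left]
      rw [h1, Subgroup.lowerCentralSeries_succ]
      exact Subgroup.commutator_mem_commutator (inv_mem hy1) (Subgroup.mem_top _)
    rw [hbot, Subgroup.mem_bot] at h2
    exact h2

end Cfsg.Agent.Lib.H15.R2
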