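import Mathlib
import Cfsg.Prelude.Def_FusionSystem
import Cfsg.Agent.Lib.H26.AutSylow

set_option autoImplicit false

namespace Cfsg.Agent.Lib.H15.RK2

open Cfsg Cfsg.FusionSystem Cfsg.Agent.Lib.H25 Cfsg.Agent.Lib.H26

section quot

variable {R : Type*} [Group R] (D : Subgroup R)

theorem ft_map_eq (K : Subgroup (MulAut R)) (hK : ∀ α ∈ K, ∀ x ∈ D, α x ∈ D) (α : K) :
    D.map ((α : MulAut R) : R ≃* R).toMonoidHom = D := by
  apply le_antisymm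
  · rintro _ ⟨x, hx, rfl⟩
    exact hK α α.2 x hx
  · intro x hx
    refine ⟨(α : MulAut R)⁻¹ x, hK _ (K.inv_mem α.2) x hx, ?_⟩
    simp

variable [D.Normal]

/-- the induced action on the quotient -/
noncomputable def ftQuot (K : Subgroup (MulAut R)) (hK : ∀ α ∈ K, ∀ x ∈ D, α x ∈ D) :
    K →* MulAut (R ⧸ D) where
  toFun α := QuotientGroup.congr D D (α : MulAut R) (ft_map_eq D K hK α)
  map_one' := by
    ext b
    induction b using QuotientGroup.induction_on with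
    | H x => rfl
  map_mul' α β := by
    ext b
    induction b using QuotientGroup.induction_on with
    | H x => rfl

theorem ftQuot_mk (K : Subgroup (MulAut R)) (hK : ∀ α ∈ K, ∀ x ∈ D, α x ∈ D) (α : K) (x : R) :
    ftQuot D K hK α (QuotientGroup.mk x) = QuotientGroup.mk ((α : MulAut R) x) := rfl

end quot
section helpers

theorem ft_conj_inn {R : Type*} [Group R] (δ : MulAut R) (r : R) :
    δ * MulAut.conj r * δ⁻¹ = MulAut.conj (δ r) := by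
  ext x
  simp [MulAut.mul_apply, MulAut.conj_apply]

variable {Ω : Type*} [Group Ω]

theorem ft_cAut_pow_coe (R : Subgroup Ω) (s : Ω) (hs : s ∈ Subgroup.normalizer (R : Set Ω))
    (i : ℕ) (x : R) :
    ((((SmallCenter.cAut R s hs) ^ i) x : R) : Ω) = s ^ i * x * (s ^ i)⁻¹ := by
  induction i generalizing x with
  | zero => simp
  | succ i ih =>
    rw [pow_succ', MulAut.mul_apply, SmallCenter.cAut_coe, ih, pow_succ']
    group

theorem ft_inn_mem {S R : Subgroup Ω} (hRS : R ≤ S) (r : R) :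
    MulAut.conj r ∈ autInducedBy S R :=
  (mem_autInducedBy_iff S R _).2 ⟨r, hRS r.2, fun x => by simp [MulAut.conj_apply]⟩

theorem ft_decomp {S R : Subgroup Ω} (s₀ : Ω) (hs₀ : s₀ ∈ normalizerIn S R)
    (hN : ∀ g ∈ normalizerIn S R, ∃ i : ℕ, ∃ r ∈ R, g = s₀ ^ i * r)
    {t : MulAut R} (ht : t ∈ autInducedBy S R) :
    ∃ (i : ℕ) (r : R), t = (SmallCenter.cAut R s₀ hs₀.2) ^ i * MulAut.conj r := by
  obtain ⟨g, hgS, hg⟩ := (mem_autInducedBy_iff S R t).1 ht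
  have hgN : g ∈ Subgroup.normalizer (R : Set Ω) := mem_normalizer_of_induces hg
  obtain ⟨i, r, hr, hgir⟩ := hN g ⟨hgS, hgN⟩
  refine ⟨i, ⟨r, hr⟩, ?_⟩
  ext x
  rw [hg, MulAut.mul_apply, ft_cAut_pow_coe, MulAut.conj_apply, hgir]
  push_cast
  group

/-- if `δ σ δ⁻¹ ∈ Aut_S(R)` then `δ` normalizes `Aut_S(R) = ⟨σ⟩ Inn(R)`. -/
theorem ft_normalizes {S R : Subgroup Ω} (hRS : R ≤ S) (s₀ : Ω) (hs₀ : s₀ ∈ normalizerIn S R)
    (hN : ∀ g ∈ normalizerIn S R, ∃ i : ℕ, ∃ r ∈ R, g = s₀ ^ i * r) (δ : MulAut R)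
    (hδ : δ * SmallCenter.cAut R s₀ hs₀.2 * δ⁻¹ ∈ autInducedBy S R) :
    ∀ t ∈ autInducedBy S R, δ * t * δ⁻¹ ∈ autInducedBy S R := by
  intro t ht
  obtain ⟨i, r, rfl⟩ := ft_decomp s₀ hs₀ hN ht
  have e : δ * ((SmallCenter.cAut R s₀ hs₀.2) ^ i * MulAut.conj r) * δ⁻¹ =
      (δ * SmallCenter.cAut R s₀ hs₀.2 * δ⁻¹) ^ i * (δ * MulAut.conj r * δ⁻¹) := by
    rw [conj_pow]
    group
  rw [e, ft_conj_inn]
  exact Subgroup.mul_mem _ (Subgroup.pow_mem _ hδ i) (ft_inn_mem hRS _)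

end helpers

section main

universe u

set_option maxHeartbeats 1600000 in
theorem torus_extension_aux {Ω : Type u} [Group Ω] {S : Subgroup Ω} [Finite S] {p : ℕ} [Fact p.Prime]
    (htor : ∀ {B : Type u} [Group B] (_ : ∀ a b : B, a * b = b * a)
      (_ : ∀ b : B, b ^ p = 1) (σ τ : MulAut B) (z w : B)
      (_ : ∀ b, ∃ k : ℕ, σ b = b * z ^ k) (_ : ∀ b, ∃ k : ℕ, τ b = b * w ^ k)
      (_ : σ z = z) (_ : τ w = w) (_ : σ w ≠ w) (_ : τ z ≠ z),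
      ∃ d ∈ Subgroup.closure ({σ, τ} : Set (MulAut B)), (∃ k : ℕ, d * σ * d⁻¹ = σ ^ k) ∧
        ∃ j : ℕ, ¬ (j * j ≡ 1 [MOD p]) ∧ d w = w ^ j)
    (hS : IsPGroup p S) {F : FusionSystem S} (hF : F.IsSaturated p)
    {R D Y : Subgroup Ω} (hfn : F.IsFullyNormalized R) (hDY : D ≤ Y) (hYR : Y ≤ R)
    (hDinv : ∀ α ∈ F.autGroup R, ∀ r : R, (r : Ω) ∈ D → ((α r : R) : Ω) ∈ D)
    (hcomm : ∀ a ∈ R, ∀ b ∈ R, a * b * a⁻¹ * b⁻¹ ∈ D)
    (hexp : ∀ a ∈ R, a ^ p ∈ D)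
    (s₀ : Ω) (hs₀ : s₀ ∈ normalizerIn S R)
    (hN : ∀ g ∈ normalizerIn S R, ∃ i : ℕ, ∃ r ∈ R, g = s₀ ^ i * r)
    (hsD : ∀ d ∈ D, s₀ * d * s₀⁻¹ = d)
    (hmove : ∀ r ∈ R, s₀ * r * s₀⁻¹ * r⁻¹ ∈ Y)
    (y₀ : Ω) (hy₀ : y₀ ∈ Y) (hsy : s₀ * y₀ * s₀⁻¹ * y₀⁻¹ ∈ D)
    (hYgen : ∀ r ∈ Y, ∃ k : ℕ, ∃ d ∈ D, r = y₀ ^ k * d)
    (hfix : ∀ r ∈ R, s₀ * r * s₀⁻¹ * r⁻¹ ∈ D → r ∈ Y)
    (x₀ : Ω) (hx₀ : x₀ ∈ R) (hRgen : ∀ r ∈ R, ∃ i : ℕ, ∃ e ∈ Y, r = x₀ ^ i * e)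
    (hnn : ∃ γ ∈ F.autGroup R, ∃ t ∈ autInducedBy S R, γ * t * γ⁻¹ ∉ autInducedBy S R) :
    ∃ (β : Ω → Ω) (N' : Subgroup Ω), IsIso F (normalizerIn S R) N' β ∧ (∀ r ∈ R, β r ∈ R) ∧
      ∃ u ∈ R, u ∉ Y ∧ ∃ j : ℕ, ¬ (j * j ≡ 1 [MOD p]) ∧ ∃ e ∈ Y, β u = u ^ j * e := by
  classical
  have hpp : p.Prime := Fact.out
  have hRS : R ≤ S := hfn.1
  have hfinR : Finite R := finite_of_le S hRS
  obtain ⟨hfc, hfa⟩ := fullyNormalized_props hS hF hfn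
  have hrec := isReceptive_of_fullyCentralized hS hF hfc
  have hDR : D ≤ R := hDY.trans hYR
  -- `D' = D ∩ R` as a normal subgroup of `R`
  obtain ⟨D', hD'⟩ : ∃ D' : Subgroup R, D' = D.subgroupOf R := ⟨_, rfl⟩
  have hmemD' : ∀ r : R, r ∈ D' ↔ (r : Ω) ∈ D := by
    intro r; rw [hD', Subgroup.mem_subgroupOf]
  have hD'n : D'.Normal := by
    constructor
    intro d hd r
    rw [hmemD'] at hd ⊢
    have h1 := hcomm r r.2 d d.2
    have e : ((r * d * r⁻¹ : R) : Ω) = ((r : Ω) * d * (r : Ω)⁻¹ * (d : Ω)⁻¹) * d := by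
      push_cast; group
    rw [e]; exact D.mul_mem h1 hd
  have hK : ∀ α ∈ F.autGroup R, ∀ x ∈ D', α x ∈ D' := by
    intro α hα x hx
    rw [hmemD'] at hx ⊢
    exact hDinv α hα x hx
  obtain ⟨Φ, hΦ⟩ : ∃ Φ : ↥(F.autGroup R) →* MulAut (R ⧸ D'),
      ∀ (α : ↥(F.autGroup R)) (x : R), Φ α (QuotientGroup.mk x) = QuotientGroup.mk ((α : MulAut R) x) :=
    ⟨ftQuot D' (F.autGroup R) hK, fun α x => ftQuot_mk D' (F.autGroup R) hK α x⟩
  -- `B = R / D'` is elementary abelian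
  have hBcomm : ∀ a b : R ⧸ D', a * b = b * a := by
    intro a b
    induction a using QuotientGroup.induction_on with
    | H a =>
    induction b using QuotientGroup.induction_on with
    | H b =>
    rw [← QuotientGroup.mk_mul, ← QuotientGroup.mk_mul, QuotientGroup.eq, hmemD']
    have h1 := hcomm _ (R.inv_mem b.2) _ (R.inv_mem a.2)
    have e : (((a * b)⁻¹ * (b * a) : R) : Ω) = (b : Ω)⁻¹ * (a : Ω)⁻¹ * (b : Ω)⁻¹⁻¹ * (a : Ω)⁻¹⁻¹ := by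
      push_cast; group
    rw [e]; exact h1
  have hBexp : ∀ b : R ⧸ D', b ^ p = 1 := by
    intro b
    induction b using QuotientGroup.induction_on with
    | H b =>
    rw [← QuotientGroup.mk_pow, QuotientGroup.eq_one_iff, hmemD']
    push_cast
    exact hexp b b.2
  have hmk1 : ∀ r : R, (r : Ω) ∈ D → (QuotientGroup.mk r : R ⧸ D') = 1 := by
    intro r hr
    rw [QuotientGroup.eq_one_iff, hmemD']; exact hr
  -- the automorphisms
  obtain ⟨σ, hσdef⟩ : ∃ σ : MulAut R, σ = SmallCenter.cAut R s₀ hs₀.2 := ⟨_, rfl⟩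
  have hσS : σ ∈ autInducedBy S R := by
    rw [hσdef]; exact SmallCenter.cAut_mem_autInducedBy hs₀.1 hs₀.2
  have hAF : autInducedBy S R ≤ F.autGroup R := autInducedBy_le_autGroup F hRS
  have hσF : σ ∈ F.autGroup R := hAF hσS
  have hσcoe : ∀ x : R, ((σ x : R) : Ω) = s₀ * x * s₀⁻¹ := by
    intro x; rw [hσdef]; rfl
  obtain ⟨γ, hγ, t, ht, hγt⟩ := hnn
  have hγi : γ⁻¹ ∈ F.autGroup R := Subgroup.inv_mem _ hγ
  have hnormal : ∀ δ : MulAut R, δ * σ * δ⁻¹ ∈ autInducedBy S R →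
      ∀ t ∈ autInducedBy S R, δ * t * δ⁻¹ ∈ autInducedBy S R := by
    intro δ hδ
    rw [hσdef] at hδ
    exact ft_normalizes hRS s₀ hs₀ hN δ hδ
  have hτS : γ * σ * γ⁻¹ ∉ autInducedBy S R := fun h => hγt (hnormal γ h t ht)
  have hτF : γ * σ * γ⁻¹ ∈ F.autGroup R := Subgroup.mul_mem _ (Subgroup.mul_mem _ hγ hσF) hγi
  -- `σ` and `τ` fix `D` pointwise
  have hσD : ∀ x : R, (x : Ω) ∈ D → σ x = x := by
    intro x hx
    apply Subtype.ext
    rw [hσcoe]; exact hsD x hx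
  have hτD : ∀ x : R, (x : Ω) ∈ D → (γ * σ * γ⁻¹) x = x := by
    intro x hx
    have h1 : ((γ⁻¹ x : R) : Ω) ∈ D := hDinv _ hγi x hx
    show γ (σ (γ⁻¹ x)) = x
    rw [hσD _ h1]; simp
  -- stabChain membership criterion
  have hstab : ∀ α : ↥(F.autGroup R), Φ α = 1 → (∀ x : R, (x : Ω) ∈ D → (α : MulAut R) x = x) →
      (α : MulAut R) ∈ autInducedBy S R := by
    intro α hα1 hα2
    apply AutSylow.mem_autInducedBy_of_stab hS hfa hDR (fun τ hτ x hx => hDinv τ (hAF hτ) x hx)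
    refine ⟨α.2, fun x => ?_, hα2⟩
    have h1 := hΦ α x
    rw [hα1, MulAut.one_apply] at h1
    have h2 := (QuotientGroup.eq (s := D')).1 h1
    rw [hmemD'] at h2
    simpa using h2
  -- elements of the quotient
  obtain ⟨σK, hσK⟩ : ∃ σK : ↥(F.autGroup R), (σK : MulAut R) = σ := ⟨⟨σ, hσF⟩, rfl⟩
  obtain ⟨γK, hγK⟩ : ∃ γK : ↥(F.autGroup R), (γK : MulAut R) = γ := ⟨⟨γ, hγ⟩, rfl⟩
  have hτK : ((γK * σK * γK⁻¹ : ↥(F.autGroup R)) : MulAut R) = γ * σ * γ⁻¹ := by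
    push_cast; rw [hσK, hγK]
  obtain ⟨y₀R, hy₀R⟩ : ∃ y₀R : R, (y₀R : Ω) = y₀ := ⟨⟨y₀, hYR hy₀⟩, rfl⟩
  obtain ⟨x₀R, hx₀R⟩ : ∃ x₀R : R, (x₀R : Ω) = x₀ := ⟨⟨x₀, hx₀⟩, rfl⟩
  obtain ⟨zb, hzb⟩ : ∃ zb : R ⧸ D', zb = QuotientGroup.mk y₀R := ⟨_, rfl⟩
  obtain ⟨xb, hxb⟩ : ∃ xb : R ⧸ D', xb = QuotientGroup.mk x₀R := ⟨_, rfl⟩
  -- images of elements of `Y`
  have hYmk : ∀ r : R, (r : Ω) ∈ Y → ∃ k : ℕ, (QuotientGroup.mk r : R ⧸ D') = zb ^ k := by
    intro r hr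
    obtain ⟨k, d, hd, hrd⟩ := hYgen r hr
    refine ⟨k, ?_⟩
    have e : r = y₀R ^ k * ⟨d, hDR hd⟩ := by
      apply Subtype.ext; push_cast; rw [hy₀R]; exact hrd
    rw [e, QuotientGroup.mk_mul, QuotientGroup.mk_pow, hmk1 ⟨d, hDR hd⟩ hd, mul_one, hzb]
  have hgenB : ∀ b : R ⧸ D', ∃ i k : ℕ, b = xb ^ i * zb ^ k := by
    intro b
    induction b using QuotientGroup.induction_on with
    | H r =>
    obtain ⟨i, e, he, hre⟩ := hRgen r r.2
    obtain ⟨k, hk⟩ := hYmk ⟨e, hYR he⟩ he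
    refine ⟨i, k, ?_⟩
    have e2 : r = x₀R ^ i * ⟨e, hYR he⟩ := by
      apply Subtype.ext; push_cast; rw [hx₀R]; exact hre
    rw [e2, QuotientGroup.mk_mul, QuotientGroup.mk_pow, hk, hxb]
  have hext : ∀ α β : MulAut (R ⧸ D'), α xb = β xb → α zb = β zb → α = β := by
    intro α β h1 h2
    ext b
    obtain ⟨i, k, rfl⟩ := hgenB b
    rw [map_mul, map_mul, map_pow, map_pow, map_pow, map_pow, h1, h2]
  -- `σ r = c r` with `c = [s₀, r]`
  have hσr : ∀ r : R, ∃ c : R, (c : Ω) = s₀ * r * s₀⁻¹ * (r : Ω)⁻¹ ∧ σ r = c * r := by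
    intro r
    refine ⟨⟨_, hYR (hmove r r.2)⟩, rfl, ?_⟩
    apply Subtype.ext
    rw [hσcoe]; push_cast; group
  have hσb : ∀ b : R ⧸ D', ∃ k : ℕ, Φ σK b = b * zb ^ k := by
    intro b
    induction b using QuotientGroup.induction_on with
    | H r =>
    obtain ⟨c, hc, hσc⟩ := hσr r
    obtain ⟨k, hk⟩ := hYmk c (by rw [hc]; exact hmove r r.2)
    refine ⟨k, ?_⟩
    rw [hΦ, hσK, hσc, QuotientGroup.mk_mul, hk, hBcomm]
  have hσfix : ∀ r : R, Φ σK (QuotientGroup.mk r) = QuotientGroup.mk r → (r : Ω) ∈ Y := by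
    intro r hr
    obtain ⟨c, hc, hσc⟩ := hσr r
    rw [hΦ, hσK, hσc, QuotientGroup.mk_mul] at hr
    have h1 : (QuotientGroup.mk c : R ⧸ D') = 1 := mul_right_cancel (b := QuotientGroup.mk r) (by rw [hr, one_mul])
    rw [QuotientGroup.eq_one_iff, hmemD', hc] at h1
    exact hfix r r.2 h1
  have hσz : Φ σK zb = zb := by
    rw [hzb]
    obtain ⟨c, hc, hσc⟩ := hσr y₀R
    rw [hΦ, hσK, hσc, QuotientGroup.mk_mul, hmk1 c (by rw [hc, hy₀R]; exact hsy), one_mul]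
  have hσzk : ∀ k : ℕ, Φ σK (zb ^ k) = zb ^ k := fun k => by rw [map_pow, hσz]
  obtain ⟨τb, hτb⟩ : ∃ τb : MulAut (R ⧸ D'), τb = Φ (γK * σK * γK⁻¹) := ⟨_, rfl⟩
  have hτb' : τb = Φ γK * Φ σK * (Φ γK)⁻¹ := by rw [hτb, map_mul, map_mul, map_inv]
  obtain ⟨wb, hwb⟩ : ∃ wb : R ⧸ D', wb = Φ γK zb := ⟨_, rfl⟩
  have hτbb : ∀ b : R ⧸ D', ∃ k : ℕ, τb b = b * wb ^ k := by
    intro b
    obtain ⟨k, hk⟩ := hσb ((Φ γK)⁻¹ b)
    refine ⟨k, ?_⟩
    rw [hτb', MulAut.mul_apply, MulAut.mul_apply, hk, map_mul, map_pow, MulAut.apply_inv_self, hwb]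
  have hτw : τb wb = wb := by
    rw [hτb', hwb, MulAut.mul_apply, MulAut.mul_apply, MulAut.inv_apply_self, hσz]
  -- the degenerate case `σ̄ = 1`
  have hσne : Φ σK ≠ 1 := by
    intro h1
    have h2 : Φ (γK * σK * γK⁻¹) = 1 := by
      rw [map_mul, map_mul, map_inv, h1, mul_one, mul_inv_cancel]
    have h3 := hstab (γK * σK * γK⁻¹) h2 (by rw [hτK]; exact hτD)
    rw [hτK] at h3
    exact hτS h3
  -- bad case: some `δ ∈ {γ, γ⁻¹}` maps `y₀` into `Y`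
  have hpowY : ∀ δ ∈ F.autGroup R, ((δ y₀R : R) : Ω) ∈ Y → ∀ n : ℕ, (((δ ^ n) y₀R : R) : Ω) ∈ Y := by
    intro δ hδ hδy
    have hY : ∀ y : R, (y : Ω) ∈ Y → ((δ y : R) : Ω) ∈ Y := by
      intro y hy
      obtain ⟨k, d, hd, hyd⟩ := hYgen y hy
      have e : y = y₀R ^ k * ⟨d, hDR hd⟩ := by
        apply Subtype.ext; push_cast; rw [hy₀R]; exact hyd
      rw [e, map_mul, map_pow]
      push_cast
      exact Y.mul_mem (Y.pow_mem hδy k) (hDY (hDinv δ hδ _ hd))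
    intro n
    induction n with
    | zero => simpa [hy₀R] using hy₀
    | succ n ih => rw [pow_succ', MulAut.mul_apply]; exact hY _ ih
  have hbad : ((γ y₀R : R) : Ω) ∈ Y → ((γ⁻¹ y₀R : R) : Ω) ∈ Y → False := by
    intro hA hB
    -- `w̄` and `γ̄⁻¹ z̄` are powers of `z̄`
    obtain ⟨m, hm⟩ := hYmk _ hA
    obtain ⟨m', hm'⟩ := hYmk _ hB
    have hwbz : wb = zb ^ m := by rw [hwb, hzb, hΦ, hγK, hm, hzb]
    have hγiz : (Φ γK)⁻¹ zb = zb ^ m' := by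
      rw [← map_inv, hzb, hΦ]
      have : ((γK⁻¹ : ↥(F.autGroup R)) : MulAut R) = γ⁻¹ := by push_cast; rw [hγK]
      rw [this, hm', hzb]
    have hτz : τb zb = zb := by
      rw [hτb', MulAut.mul_apply, MulAut.mul_apply, hγiz, hσzk, ← hγiz, MulAut.apply_inv_self]
    obtain ⟨a, ha⟩ := hσb xb
    obtain ⟨c, hc⟩ := hτbb xb
    rw [hwbz, ← pow_mul] at hc
    have hza : zb ^ a ≠ 1 := by
      intro h1
      apply hσne
      apply hext
      · rw [ha, h1, mul_one, MulAut.one_apply]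
      · rw [hσz, MulAut.one_apply]
    have hcop : Nat.Coprime a p := by
      rw [Nat.coprime_comm, hpp.coprime_iff_not_dvd]
      rintro ⟨q, rfl⟩
      apply hza
      rw [pow_mul, hBexp, one_pow]
    obtain ⟨n, -, hn⟩ := Nat.exists_mul_mod_eq_of_coprime (m * c) hcop hpp.ne_zero
    have hzn : zb ^ (a * n) = zb ^ (m * c) := by
      rw [pow_eq_pow_mod (a * n) (hBexp zb), hn, ← pow_eq_pow_mod (m * c) (hBexp zb)]
    have hσn : ∀ n : ℕ, (Φ σK ^ n) xb = xb * zb ^ (a * n) := by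
      intro n
      induction n with
      | zero => simp
      | succ n ih =>
        rw [pow_succ', MulAut.mul_apply, ih, map_mul, ha, hσzk, mul_assoc, ← pow_add, Nat.mul_succ,
          Nat.add_comm]
    have hσnz : ∀ n : ℕ, (Φ σK ^ n) zb = zb := by
      intro n
      induction n with
      | zero => simp
      | succ n ih => rw [pow_succ', MulAut.mul_apply, ih, hσz]
    have heq : τb = Φ σK ^ n := by
      apply hext
      · rw [hc, hσn, hzn]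
      · rw [hτz, hσnz]
    have h2 : Φ (γK * σK * γK⁻¹ * (σK ^ n)⁻¹) = 1 := by
      rw [map_mul, ← hτb, map_inv, map_pow, heq, mul_inv_cancel]
    have h3 := hstab _ h2 (by
      intro x hx
      have e : ((γK * σK * γK⁻¹ * (σK ^ n)⁻¹ : ↥(F.autGroup R)) : MulAut R) =
          (γ * σ * γ⁻¹) * (σ ^ n)⁻¹ := by
        push_cast; rw [hσK, hγK]
      rw [e, MulAut.mul_apply]
      have h4 : (σ ^ n)⁻¹ x = x := by
        have h5 : (σ ^ n) x = x := by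
          clear hn hzn heq h2 e
          induction n with
          | zero => simp
          | succ n ih => rw [pow_succ', MulAut.mul_apply, ih, hσD x hx]
        calc (σ ^ n)⁻¹ x = (σ ^ n)⁻¹ ((σ ^ n) x) := by rw [h5]
          _ = x := by simp
      rw [h4, hτD x hx])
    have e : ((γK * σK * γK⁻¹ * (σK ^ n)⁻¹ : ↥(F.autGroup R)) : MulAut R) =
        (γ * σ * γ⁻¹) * (σ ^ n)⁻¹ := by
      push_cast; rw [hσK, hγK]
    rw [e] at h3
    apply hτS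
    have h6 := Subgroup.mul_mem _ h3 (Subgroup.pow_mem _ hσS n)
    rwa [inv_mul_cancel_right] at h6
  -- `γ y₀ ∉ Y` and `γ⁻¹ y₀ ∉ Y`
  have hinvpow : ∀ δ : MulAut R, δ⁻¹ = δ ^ (orderOf δ - 1) := by
    intro δ
    have hpos : 0 < orderOf δ := orderOf_pos δ
    rw [inv_eq_iff_mul_eq_one, ← pow_succ', Nat.sub_add_cancel hpos, pow_orderOf_eq_one]
  have hA : ((γ y₀R : R) : Ω) ∉ Y := by
    intro hA
    refine hbad hA ?_
    rw [hinvpow γ]
    exact hpowY γ hγ hA _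
  have hB : ((γ⁻¹ y₀R : R) : Ω) ∉ Y := by
    intro hB
    refine hbad ?_ hB
    have h1 := hpowY γ⁻¹ hγi hB (orderOf γ⁻¹ - 1)
    rwa [← hinvpow γ⁻¹, inv_inv] at h1
  have hwmk : wb = QuotientGroup.mk (γ y₀R) := by rw [hwb, hzb, hΦ, hγK]
  have hσw : Φ σK wb ≠ wb := by
    intro h1
    rw [hwmk] at h1
    exact hA (hσfix _ h1)
  have hτz : τb zb ≠ zb := by
    intro h1
    rw [hτb', MulAut.mul_apply, MulAut.mul_apply] at h1
    have h2 : Φ σK ((Φ γK)⁻¹ zb) = (Φ γK)⁻¹ zb := by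
      have := congrArg (fun b => (Φ γK)⁻¹ b) h1
      simpa using this
    have h3 : (Φ γK)⁻¹ zb = QuotientGroup.mk (γ⁻¹ y₀R) := by
      rw [← map_inv, hzb, hΦ]
      have : ((γK⁻¹ : ↥(F.autGroup R)) : MulAut R) = γ⁻¹ := by push_cast; rw [hγK]
      rw [this]
    rw [h3] at h2
    exact hB (hσfix _ h2)
  -- the torus element
  obtain ⟨db, hdb, ⟨k, hk⟩, j, hj, hdw⟩ := htor hBcomm hBexp (Φ σK) τb zb wb hσb hτbb hσz hτw hσw hτz
  have hcl : Subgroup.closure ({Φ σK, τb} : Set (MulAut (R ⧸ D'))) =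
      (Subgroup.closure ({σK, γK * σK * γK⁻¹} : Set ↥(F.autGroup R))).map Φ := by
    rw [MonoidHom.map_closure, Set.image_pair, hτb]
  rw [hcl] at hdb
  obtain ⟨dK, hdK, hdKb⟩ := hdb
  -- `d` fixes `D` pointwise
  have hclD : ∀ α : ↥(F.autGroup R),
      α ∈ Subgroup.closure ({σK, γK * σK * γK⁻¹} : Set ↥(F.autGroup R)) →
      ∀ x : R, (x : Ω) ∈ D → (α : MulAut R) x = x := by
    intro α hα
    induction hα using Subgroup.closure_induction with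
    | mem α hα =>
      intro x hx
      rcases hα with rfl | rfl
      · rw [hσK]; exact hσD x hx
      · rw [hτK]; exact hτD x hx
    | one => intro x _; rfl
    | mul α β _ _ ihα ihβ =>
      intro x hx
      push_cast
      rw [MulAut.mul_apply, ihβ x hx, ihα x hx]
    | inv α _ ih =>
      intro x hx
      push_cast
      calc (α : MulAut R)⁻¹ x = (α : MulAut R)⁻¹ ((α : MulAut R) x) := by rw [ih x hx]
        _ = x := by simp
  have hdD : ∀ x : R, (x : Ω) ∈ D → (dK : MulAut R) x = x := hclD dK hdK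
  -- `d σ d⁻¹ ∈ Aut_S(R)`
  have h2 : Φ (dK * σK * dK⁻¹ * (σK ^ k)⁻¹) = 1 := by
    rw [map_mul, map_mul, map_mul, map_inv, map_inv, map_pow, hdKb, hk, mul_inv_cancel]
  have hσDn : ∀ (n : ℕ) (x : R), (x : Ω) ∈ D → (σ ^ n) x = x := by
    intro n x hx
    induction n with
    | zero => simp
    | succ n ih => rw [pow_succ', MulAut.mul_apply, ih, hσD x hx]
  have e : ((dK * σK * dK⁻¹ * (σK ^ k)⁻¹ : ↥(F.autGroup R)) : MulAut R) =
      ((dK : MulAut R) * σ * (dK : MulAut R)⁻¹) * (σ ^ k)⁻¹ := by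
    push_cast; rw [hσK]
  have h3 := hstab _ h2 (by
    intro x hx
    rw [e, MulAut.mul_apply, MulAut.mul_apply, MulAut.mul_apply]
    have h4 : (σ ^ k)⁻¹ x = x := by
      calc (σ ^ k)⁻¹ x = (σ ^ k)⁻¹ ((σ ^ k) x) := by rw [hσDn k x hx]
        _ = x := by simp
    have h5 : (dK : MulAut R)⁻¹ x = x := by
      calc (dK : MulAut R)⁻¹ x = (dK : MulAut R)⁻¹ ((dK : MulAut R) x) := by rw [hdD x hx]
        _ = x := by simp
    rw [h4, h5, hσD x hx, hdD x hx])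
  rw [e] at h3
  have hdσ : (dK : MulAut R) * σ * (dK : MulAut R)⁻¹ ∈ autInducedBy S R := by
    have h6 := Subgroup.mul_mem _ h3 (Subgroup.pow_mem _ hσS k)
    rwa [inv_mul_cancel_right] at h6
  obtain ⟨β, N', hβ, hβR⟩ := AutSylow.extend_normalizing hrec dK.2 (hnormal _ hdσ)
  refine ⟨β, N', hβ, fun r hr => ?_, ((γ y₀R : R) : Ω), (γ y₀R).2, hA, j, hj, ?_⟩
  · rw [hβR ⟨r, hr⟩]; exact ((dK : MulAut R) ⟨r, hr⟩).2
  · have h7 := hdw
    rw [hwmk, ← hdKb, hΦ, ← QuotientGroup.mk_pow, QuotientGroup.eq, hmemD'] at h7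
    refine ⟨_, hDY (D.inv_mem h7), ?_⟩
    rw [hβR (γ y₀R)]
    push_cast
    group

end main

end Cfsg.Agent.Lib.H15.RK2
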