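import Mathlib
import Cfsg.Prelude.Def_FusionSystem
import Cfsg.Agent.Lib.H15.RK2FTAux
import Cfsg.Agent.Lib.H15.RK2TORUS5

/-!
# S5289 piece FT (helper15): `torus_extension`, exact signature of `tools/blueprints/S5289_sigs.lean`.
-/

set_option autoImplicit false

namespace Cfsg.Agent.Lib.H15.RK2

open Cfsg Cfsg.FusionSystem Cfsg.Agent.Lib.H25 Cfsg.Agent.Lib.H26

/-- **FT** (torus extension). -/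
theorem torus_extension {Ω : Type*} [Group Ω] {S : Subgroup Ω} [Finite S] {p : ℕ} [Fact p.Prime]
    (hS : IsPGroup p S) {F : FusionSystem S} (hF : F.IsSaturated p) (hp : 5 ≤ p)
    {R D Y : Subgroup Ω} (hfn : F.IsFullyNormalized R) (hDY : D ≤ Y) (hYR : Y ≤ R)
    (hDinv : ∀ α ∈ F.autGroup R, ∀ r : R, (r : Ω) ∈ D → ((α r : R) : Ω) ∈ D)
    (hcomm : ∀ a ∈ R, ∀ b ∈ R, a * b * a⁻¹ * b⁻¹ ∈ D)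
    (hexp : ∀ a ∈ R, a ^ p ∈ D)
    (s₀ : Ω) (hs₀ : s₀ ∈ normalizerIn S R)
    (hN : ∀ g ∈ normalizerIn S R, ∃ i : ℕ, ∃ r ∈ R, g = s₀ ^ i * r)
    (hsD : ∀ d ∈ D, s₀ * d * s₀⁻¹ = d)
    (hmove : ∀ r ∈ R, s₀ * r * s₀⁻¹ * r⁻¹ ∈ Y)
    (y₀ : Ω) (hy₀ : y₀ ∈ Y) (hsy : s₀ * y₀ * s₀⁻¹ * y₀⁻¹ ∈ D)
    (hYgen : ∀ r ∈ Y, ∃ k : ℕ, ∃ d ∈ D, r = y₀ ^ k * d)
    (hfix : ∀ r ∈ R, s₀ * r * s₀⁻¹ * r⁻¹ ∈ D → r ∈ Y)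
    (x₀ : Ω) (hx₀ : x₀ ∈ R) (hRgen : ∀ r ∈ R, ∃ i : ℕ, ∃ e ∈ Y, r = x₀ ^ i * e)
    (hnn : ∃ γ ∈ F.autGroup R, ∃ t ∈ autInducedBy S R, γ * t * γ⁻¹ ∉ autInducedBy S R) :
    ∃ (β : Ω → Ω) (N' : Subgroup Ω), IsIso F (normalizerIn S R) N' β ∧ (∀ r ∈ R, β r ∈ R) ∧
      ∃ u ∈ R, u ∉ Y ∧ ∃ j : ℕ, ¬ (j * j ≡ 1 [MOD p]) ∧ ∃ e ∈ Y, β u = u ^ j * e :=
  torus_extension_aux
    (fun hc hB σ τ z w h1 h2 h3 h4 h5 h6 =>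
      Cfsg.Agent.Lib.H15.RK2T5.exists_torus5 hc p hp hB σ τ z w h1 h2 h3 h4 h5 h6)
    hS hF hfn hDY hYR hDinv hcomm hexp s₀ hs₀ hN hsD hmove y₀ hy₀ hsy hYgen hfix x₀ hx₀ hRgen hnn

end Cfsg.Agent.Lib.H15.RK2
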