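import Mathlib
import Cfsg.Agent.Lib.H16.RTWDefs
import Cfsg.Agent.Lib.H16.RTWNUM
import Cfsg.Agent.Lib.H21.RTWDER
import Cfsg.Agent.Lib.H1.PGroupBasic

/-!
# S3175: the `Ctx` of a 2-group of Rudvalis type from the raw hypotheses
(the first half of helper16's `Cfsg.Agent.Lib.H16.RTW.main`, factored out; helper15)
-/

set_option autoImplicit false

namespace Cfsg.Agent.Lib.H15.RTN

open scoped commutatorElement
open Cfsg.Agent.Lib.H16.RTW
open Cfsg.Agent.Lib.H21.RTW (commutator_eq_frattini_of_small_index)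

theorem exists_ctx {T : Type*} [Group T] [Finite T]
    (hT : IsPGroup 2 T) (ha : 2 ^ 14 ≤ Nat.card T) (hb : Nat.card ↥(Subgroup.upperCentralSeries T 4) = 16)
    (W : Subgroup T) (hW : W = Subgroup.centralizer ((Subgroup.upperCentralSeries T 3 : Subgroup T) : Set T))
    (hc : Nat.card ↥(frattini ↥W) ≤ 8) (hd : ∀ U : Subgroup ↥W, U.index ≤ 16 → frattini ↥W ≤ U) :
    ∃ c : Ctx T, c.W = W := by
  obtain ⟨hcard, hidx, c1, c2, c3, hfr, M, hM1, hM2, hM3, hcore⟩ := ru_numerics hT ha hb W hW hc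
  have hWn : W.Normal := by
    rw [hW]; exact Subgroup.normal_centralizer
  have hZW : Subgroup.upperCentralSeries T 3 ≤ W := by
    rw [← hfr]; exact Subgroup.map_subtype_le _
  have hWT : IsPGroup 2 ↥W := hT.to_subgroup W
  have hcommute : ∀ x ∈ Subgroup.upperCentralSeries T 3, ∀ y ∈ W, x * y = y * x := by
    intro x hx y hy
    rw [hW] at hy
    exact Subgroup.mem_centralizer_iff.mp hy x hx
  have hcen : frattini ↥W ≤ Subgroup.center ↥W := by
    intro x hx
    rw [Subgroup.mem_center_iff]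
    intro y
    have hx3 : (x : T) ∈ Subgroup.upperCentralSeries T 3 := by
      rw [← hfr]; exact ⟨x, hx, rfl⟩
    apply Subtype.ext
    exact (hcommute (x : T) hx3 (y : T) y.2).symm
  have hd4 : ∀ U : Subgroup ↥W, U.index ≤ 4 → frattini ↥W ≤ U := fun U hU => hd U (by omega)
  obtain ⟨hder, hexpW⟩ := commutator_eq_frattini_of_small_index hWT hcen hd4
  have hexp : ∀ z ∈ Subgroup.upperCentralSeries T 3, z ^ 2 = 1 := by
    intro z hz
    rw [← hfr] at hz
    obtain ⟨x, hx, rfl⟩ := hz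
    have h1 := hexpW x hx
    have h2 := congrArg Subtype.val h1
    simpa using h2
  have hsq : ∀ u ∈ W, u ^ 2 ∈ Subgroup.upperCentralSeries T 3 := by
    intro u hu
    rw [← hfr]
    exact ⟨(⟨u, hu⟩ : ↥W) ^ 2, Cfsg.Agent.Lib.H1.isPGroup_pow_mem_frattini hWT ⟨u, hu⟩, rfl⟩
  have hcomm : ∀ u ∈ W, ∀ v ∈ W, ⁅u, v⁆ ∈ Subgroup.upperCentralSeries T 3 := by
    intro u hu v hv
    rw [← hfr]
    refine ⟨⁅(⟨u, hu⟩ : ↥W), ⟨v, hv⟩⁆, ?_, rfl⟩
    exact Cfsg.Agent.Lib.H1.isPGroup_commutator_le_frattini hWT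
      (Subgroup.commutator_mem_commutator (Subgroup.mem_top _) (Subgroup.mem_top _))
  have hdT : ∀ U : Subgroup T, U ≤ W → U.relIndex W ≤ 16 → Subgroup.upperCentralSeries T 3 ≤ U := by
    intro U _ hU
    have h1 := hd (U.subgroupOf W) hU
    rw [← hfr]
    rintro _ ⟨y, hy, rfl⟩
    exact h1 hy
  let c : Ctx T :=
    { W := W, M := M, hT := hT, hcard := hcard, hWn := hWn, hW := hW, c1 := c1, c2 := c2, c3 := c3,
      c4 := hb, hidx := hidx, hZW := hZW, hsq := hsq, hcomm := hcomm, hexp := hexp, hM1 := hM1,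
      hM2 := hM2, hM3 := hM3, hcore := hcore, hd := hdT }
  exact ⟨c, rfl⟩

end Cfsg.Agent.Lib.H15.RTN
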