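import Mathlib
import Cfsg.Agent.Lib.H16.RTWDefs

/-!
# S3175 pieces L1, IDX2 and the assembly of "odd automorphisms of `T` are trivial" (helper15)
-/

set_option autoImplicit false

namespace Cfsg.Agent.Lib.H15.RTN

open scoped commutatorElement
open Cfsg.Agent.Lib.H16.RTW

/-- **L1**: an automorphism `α` of a 2-group with `α^m x = x`, `m` odd, which fixes `N` pointwise and moves `x`
inside its coset `N x`, fixes `x`. -/
theorem fixed_of_mul_inv_mem {X : Type*} [Group X] (hX : IsPGroup 2 X) (α : MulAut X) (m : ℕ) (hm : Odd m)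
    (x : X) (hα : (α ^ m) x = x) (N : Subgroup X) (hN : ∀ y ∈ N, α y = y) (hx : α x * x⁻¹ ∈ N) :
    α x = x := by
  obtain ⟨c, hc⟩ : ∃ c : X, c = α x * x⁻¹ := ⟨_, rfl⟩
  rw [← hc] at hx
  have hαx : α x = c * x := by rw [hc]; group
  have hαc : α c = c := hN c hx
  have hpow : ∀ j : ℕ, (α ^ j) x = c ^ j * x := by
    intro j
    induction j with
    | zero => simp
    | succ j ih =>
      rw [pow_succ', MulAut.mul_apply, ih, map_mul, map_pow, hαc, hαx, pow_succ, mul_assoc]
  have hcm : c ^ m = 1 := by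
    have h := hpow m
    rw [hα] at h
    have h2 : c ^ m * x = 1 * x := by rw [one_mul]; exact h.symm
    exact mul_right_cancel h2
  obtain ⟨k, hk⟩ := hX c
  have hc1 : c = 1 := by
    have hco : Nat.Coprime m (2 ^ k) := by
      apply Nat.Coprime.pow_right
      exact Nat.coprime_two_right.mpr hm
    have h1 : c ^ Nat.gcd m (2 ^ k) = 1 := by
      rw [← orderOf_dvd_iff_pow_eq_one]
      exact Nat.dvd_gcd (orderOf_dvd_of_pow_eq_one hcm) (orderOf_dvd_of_pow_eq_one hk)
    rwa [hco, pow_one] at h1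
  rw [hαx, hc1, one_mul]

/-- **IDX2**: across an `α`-invariant step of index 2, `α` moves every element inside its coset. -/
theorem mul_inv_mem_of_relIndex_two {X : Type*} [Group X] (α : MulAut X) (N K : Subgroup X)
    (hidx : N.relIndex K = 2) (hNα : ∀ x, α x ∈ N ↔ x ∈ N) (hKα : ∀ x ∈ K, α x ∈ K) :
    ∀ x ∈ K, α x * x⁻¹ ∈ N := by
  intro x hx
  have h := Subgroup.mul_mem_iff_of_index_two (H := N.subgroupOf K) hidx
    (a := ⟨α x, hKα x hx⟩) (b := ⟨x⁻¹, K.inv_mem hx⟩)
  simp only [Subgroup.mem_subgroupOf, Subgroup.coe_mul] at h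
  rw [h, hNα, inv_mem_iff]

end Cfsg.Agent.Lib.H15.RTN
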