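import Mathlib
import Cfsg.Agent.Lib.H16.RTWDefs
import Cfsg.Agent.Lib.H15.RTNL1

/-!
# S3175: an automorphism of odd order of a 2-group of Rudvalis type is trivial (assembly, helper15)
The `A × B`-lemma step (piece ODD3) enters as the hypothesis `hODD3`.
-/

set_option autoImplicit false

namespace Cfsg.Agent.Lib.H15.RTN

open scoped commutatorElement
open Cfsg.Agent.Lib.H16.RTW

theorem ucs_char_mem {T : Type*} [Group T] (α : MulAut T) (n : ℕ) (x : T) :
    α x ∈ Subgroup.upperCentralSeries T n ↔ x ∈ Subgroup.upperCentralSeries T n := by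
  have h := Subgroup.characteristic_iff_comap_eq.mp
    (inferInstance : (Subgroup.upperCentralSeries T n).Characteristic) α
  constructor
  · intro hx
    have h1 : x ∈ (Subgroup.upperCentralSeries T n).comap α.toMonoidHom := hx
    rwa [h] at h1
  · intro hx
    have h1 : x ∈ (Subgroup.upperCentralSeries T n).comap α.toMonoidHom := by rwa [h]
    exact h1

theorem ucs_relIndex_two {T : Type*} [Group T] [Finite T] (i : ℕ)
    (h : Nat.card ↥(Subgroup.upperCentralSeries T i) * 2 = Nat.card ↥(Subgroup.upperCentralSeries T (i + 1))) :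
    (Subgroup.upperCentralSeries T i).relIndex (Subgroup.upperCentralSeries T (i + 1)) = 2 := by
  have hle : Subgroup.upperCentralSeries T i ≤ Subgroup.upperCentralSeries T (i + 1) :=
    Subgroup.upperCentralSeries_mono T (Nat.le_succ i)
  have h1 := Subgroup.relIndex_mul_relIndex ⊥ _ _ bot_le hle
  rw [Subgroup.relIndex_bot_left, Subgroup.relIndex_bot_left, ← h] at h1
  have hpos : 0 < Nat.card ↥(Subgroup.upperCentralSeries T i) := Nat.card_pos
  exact Nat.eq_of_mul_eq_mul_left hpos h1

/-- **ODD** (assembly): an automorphism of odd order of `T` is trivial, given the step ODD3. -/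
theorem aut_eq_one_of_odd_aux {T : Type*} [Group T] [Finite T] (c : Ctx T) (α : MulAut T) (m : ℕ) (hm : Odd m)
    (hα : α ^ m = 1)
    (hODD3 : (∀ z ∈ Subgroup.upperCentralSeries T 3, α z = z) → (∀ t : T, α t * t⁻¹ ∈ c.W) →
      (∀ y ∈ Subgroup.upperCentralSeries T 4, α y * y⁻¹ ∈ Subgroup.upperCentralSeries T 3) →
      ∀ w ∈ c.W, α w * w⁻¹ ∈ Subgroup.upperCentralSeries T 3) : α = 1 := by
  have hT := c.hT
  have hαm : ∀ x : T, (α ^ m) x = x := by
    intro x; rw [hα]; rfl
  have step : ∀ i : ℕ,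
      Nat.card ↥(Subgroup.upperCentralSeries T i) * 2 = Nat.card ↥(Subgroup.upperCentralSeries T (i + 1)) →
      (∀ z ∈ Subgroup.upperCentralSeries T i, α z = z) →
      ∀ z ∈ Subgroup.upperCentralSeries T (i + 1), α z = z := by
    intro i hcard hfix z hz
    have h2 := mul_inv_mem_of_relIndex_two α _ _ (ucs_relIndex_two i hcard) (ucs_char_mem α i)
      (fun x hx => (ucs_char_mem α (i + 1) x).mpr hx) z hz
    exact fixed_of_mul_inv_mem hT α m hm z (hαm z) _ hfix h2
  have hc0 : Nat.card ↥(Subgroup.upperCentralSeries T 0) = 1 := by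
    rw [Subgroup.upperCentralSeries_zero]; exact Subgroup.card_bot
  have h0 : ∀ z ∈ Subgroup.upperCentralSeries T 0, α z = z := by
    intro z hz
    rw [Subgroup.upperCentralSeries_zero, Subgroup.mem_bot] at hz
    rw [hz, map_one]
  have h1 := step 0 (by rw [hc0, c.c1]) h0
  have h2 := step 1 (by rw [c.c1, c.c2]) h1
  have h3 := step 2 (by rw [c.c2, c.c3]) h2
  have h4 : ∀ y ∈ Subgroup.upperCentralSeries T 4, α y * y⁻¹ ∈ Subgroup.upperCentralSeries T 3 :=
    mul_inv_mem_of_relIndex_two α _ _ (ucs_relIndex_two 3 (by rw [c.c3, c.c4])) (ucs_char_mem α 3)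
      (fun x hx => (ucs_char_mem α 4 x).mpr hx)
  have hTW : ∀ t : T, α t * t⁻¹ ∈ c.W := by
    intro t
    rw [c.hW, Subgroup.mem_centralizer_iff]
    intro z hz
    have hz' : t⁻¹ * z * t ∈ Subgroup.upperCentralSeries T 3 := by
      have := (inferInstance : (Subgroup.upperCentralSeries T 3).Normal).conj_mem z hz t⁻¹
      simpa using this
    have e : (α t)⁻¹ * z * α t = t⁻¹ * z * t := by
      have := h3 _ hz'
      rw [map_mul, map_mul, map_inv, h3 z hz] at this
      exact this
    calc z * (α t * t⁻¹) = α t * ((α t)⁻¹ * z * α t) * t⁻¹ := by group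
      _ = α t * (t⁻¹ * z * t) * t⁻¹ := by rw [e]
      _ = α t * t⁻¹ * z := by group
  have hW3 := hODD3 h3 hTW h4
  have hWfix : ∀ w ∈ c.W, α w = w := fun w hw =>
    fixed_of_mul_inv_mem hT α m hm w (hαm w) _ h3 (hW3 w hw)
  ext t
  exact fixed_of_mul_inv_mem hT α m hm t (hαm t) _ hWfix (hTW t)

end Cfsg.Agent.Lib.H15.RTN
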