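import Mathlib
import Cfsg.Prelude.Def_Transfer
import Cfsg.Agent.Lib.H16.RTWDefs
import Cfsg.Agent.Lib.H15.RTNCtx
import Cfsg.Agent.Lib.H15.RTNODD
import Cfsg.Agent.Lib.H18.RTNODD3
import Cfsg.Agent.Lib.H11.RTNNPC
import Cfsg.Agent.Lib.H21.RTNWCF

/-!
# S3175: final assembly (helper15, architect; pieces by helper11, helper18/helper19, helper21)
-/

set_option autoImplicit false

namespace Cfsg.Agent.Lib.H15.RTN

open scoped commutatorElement
open Cfsg.Agent.Lib.H16.RTW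

/-- An automorphism of odd order of a 2-group of Rudvalis type is trivial. -/
theorem aut_eq_one_of_odd {T : Type*} [Group T] [Finite T] (c : Ctx T) (α : MulAut T) (m : ℕ) (hm : Odd m)
    (hα : α ^ m = 1) : α = 1 :=
  aut_eq_one_of_odd_aux c α m hm hα
    (fun h3 hTW h4 => Cfsg.Agent.Lib.H18.RTN.mul_inv_mem_ucs3 c α m hm hα h3 hTW h4)

theorem main {G : Type*} [Group G] [Finite G]
    (T : Sylow 2 G) (ha : 2 ^ 14 ≤ Nat.card ↥(T : Subgroup G))
    (hb : Nat.card ↥(Subgroup.upperCentralSeries ↥(T : Subgroup G) 4) = 16)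
    (W : Subgroup ↥(T : Subgroup G))
    (hW : W = Subgroup.centralizer ((Subgroup.upperCentralSeries ↥(T : Subgroup G) 3 : Subgroup ↥(T : Subgroup G)) : Set ↥(T : Subgroup G)))
    (hc : Nat.card ↥(frattini ↥W) ≤ 8)
    (hd : ∀ U : Subgroup ↥W, U.index ≤ 16 → frattini ↥W ≤ U) :
    Cfsg.HasNormalPComplement 2 ↥(Subgroup.normalizer ((T : Subgroup G) : Set G)) ∧
      Cfsg.IsWeaklyClosed (W.map (T : Subgroup G).subtype) (T : Subgroup G) := by
  obtain ⟨c, rfl⟩ := exists_ctx T.isPGroup' ha hb W hW hc hd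
  exact ⟨Cfsg.Agent.Lib.H11.RTN.hasNormalPComplement_normalizer T
      (fun α m hm h => aut_eq_one_of_odd c α m hm h),
    Cfsg.Agent.Lib.H21.RTN.isWeaklyClosed_of_ctx (T : Subgroup G) c⟩

end Cfsg.Agent.Lib.H15.RTN
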