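import Mathlib
import Cfsg.Prelude.Def_Blocks
import Cfsg.Prelude.Def_Characters
import Cfsg.Prelude.Def_Local
import Cfsg.Prelude.Def_Transfer
import Cfsg.Agent.S0174
import Cfsg.Agent.Lib.H24.CharPermLemma
import Cfsg.Agent.Lib.H23.Ito
import Cfsg.Agent.Lib.L0.CharLinear

/-!
# S4751 pieces TRANS / SYL2: common core (helper15)

`mult_eq`: if `χ_N` (for an abelian normal subgroup `N`) has only linear constituents of
multiplicity one and `χ(1) = |N| - 1 ≠ 1`, then `χ_N` is the sum of ALL non-principal irreducible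
characters of `N`.
-/

set_option autoImplicit false

namespace Cfsg.Agent.Lib.H15.RU

open Cfsg Cfsg.Agent.Lib.L0 Cfsg.Agent.Lib.H24 Cfsg.Agent.Lib.H23
open scoped ComplexConjugate

section core

variable {G : Type*} [Group G] [Fintype G]

/-- number of irreducible characters of an abelian group -/
theorem card_irr_of_comm {A : Type*} [Group A] [Finite A] (hA : ∀ a b : A, a * b = b * a) :
    Nat.card (IrrCharacter A) = Nat.card A := by
  rw [card_irr_eq_card_conjClasses]
  symm
  apply Nat.card_eq_of_bijective (ConjClasses.mk : A → ConjClasses A)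
  constructor
  · intro a b hab
    obtain ⟨c, hc⟩ := isConj_iff.mp (ConjClasses.mk_eq_mk_iff_isConj.mp hab)
    rw [← hc, hA c a, mul_inv_cancel_right]
  · exact ConjClasses.mk_surjective

/-- the principal character is not a constituent -/
theorem principal_not_constituent (N : Subgroup G) [hN : N.Normal] [Fintype N] (χ : IrrCharacter G)
    (hnl : (χ : G → ℂ) 1 ≠ 1)
    (hLIN : ∀ θ : IrrCharacter N, classInner (fun n : N => (χ : G → ℂ) n) (θ : N → ℂ) ≠ 0 →
      (θ : N → ℂ) 1 = 1 ∧ classInner (fun n : N => (χ : G → ℂ) n) (θ : N → ℂ) = 1) :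
    classInner (fun n : N => (χ : G → ℂ) n) (fun _ : N => (1 : ℂ)) = 0 := by
  by_contra hne
  have h1 := (hLIN (trivialIrr N) hne).2
  have hcl := Cfsg.Agent.S0174.result N hN (χ : G → ℂ) χ.2 (fun _ : N => (1 : ℂ))
    (Cfsg.Agent.Lib.H24.isIrrCharacter_one) hne
  have hset : {ψ : N → ℂ | ∃ g : G, ψ = fun n : N =>
      (fun _ : N => (1 : ℂ)) ⟨g * n * g⁻¹, hN.conj_mem n n.2 g⟩} = {fun _ : N => (1 : ℂ)} := by
    ext ψ
    simp only [Set.mem_setOf_eq, Set.mem_singleton_iff]
    constructor
    · rintro ⟨g, hg⟩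
      exact hg
    · intro h
      exact ⟨1, h⟩
  rw [hset, finsum_mem_singleton] at hcl
  have h2 := congrFun hcl 1
  have h1' : classInner (fun n : N => (χ : G → ℂ) n) (fun _ : N => (1 : ℂ)) = 1 := h1
  rw [h1'] at h2
  apply hnl
  simpa using h2

open scoped Classical in
/-- **core of TRANS**: `χ_N` is the sum of all non-principal irreducible characters of `N`. -/
theorem mult_eq (N : Subgroup G) [hN : N.Normal] [Fintype N] (χ : IrrCharacter G)
    (hnl : (χ : G → ℂ) 1 ≠ 1) (hab : ∀ a b : N, a * b = b * a)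
    (hdeg : (χ : G → ℂ) 1 = (Nat.card N : ℂ) - 1)
    (hLIN : ∀ θ : IrrCharacter N, classInner (fun n : N => (χ : G → ℂ) n) (θ : N → ℂ) ≠ 0 →
      (θ : N → ℂ) 1 = 1 ∧ classInner (fun n : N => (χ : G → ℂ) n) (θ : N → ℂ) = 1)
    (θ : IrrCharacter N) :
    classInner (fun n : N => (χ : G → ℂ) n) (θ : N → ℂ) =
      if θ = trivialIrr N then 0 else 1 := by
  haveI : Fintype (IrrCharacter N) := Fintype.ofFinite _
  set φ : N → ℂ := fun n : N => (χ : G → ℂ) n with hφ
  have hφc : IsCharacter N φ := isCharacter_restrict N (isCharacter_of_irr χ.2)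
  have hφcl : IsClassFunction N φ := isClassFunction_of_isCharacter hφc
  have htriv : classInner φ ((trivialIrr N : IrrCharacter N) : N → ℂ) = 0 :=
    principal_not_constituent N χ hnl hLIN
  -- the set of constituents
  set S : Finset (IrrCharacter N) := Finset.univ.filter (fun θ => classInner φ (θ : N → ℂ) ≠ 0)
    with hS
  have hexp := congrFun (classFunction_expansion φ hφcl) 1
  have hsum : φ 1 = (S.card : ℂ) := by
    rw [hexp, Finset.sum_apply, Finset.card_eq_sum_ones, Nat.cast_sum, hS, Finset.sum_filter]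
    refine Finset.sum_congr rfl (fun θ _ => ?_)
    by_cases h0 : classInner φ (θ : N → ℂ) = 0
    · simp [h0]
    · obtain ⟨h1, h2⟩ := hLIN θ h0
      rw [if_pos h0, Pi.smul_apply, h2, h1]
      simp
  have hcardS : S.card + 1 = Nat.card N := by
    have : ((S.card + 1 : ℕ) : ℂ) = (Nat.card N : ℂ) := by
      push_cast
      rw [← hsum]
      show (χ : G → ℂ) ((1 : N) : G) + 1 = _
      rw [Subgroup.coe_one, hdeg]
      ring
    exact_mod_cast this
  have hsub : S ⊆ Finset.univ.erase (trivialIrr N) := by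
    intro θ hθ
    rw [Finset.mem_erase]
    refine ⟨?_, Finset.mem_univ _⟩
    rintro rfl
    rw [hS, Finset.mem_filter] at hθ
    exact hθ.2 htriv
  have hcardI : (Finset.univ.erase (trivialIrr N)).card + 1 = Nat.card N := by
    rw [Finset.card_erase_of_mem (Finset.mem_univ _), Finset.card_univ,
      ← Nat.card_eq_fintype_card, card_irr_of_comm hab]
    have : 0 < Nat.card N := Nat.card_pos
    omega
  have hSeq : S = Finset.univ.erase (trivialIrr N) :=
    Finset.eq_of_subset_of_card_le hsub (by omega)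
  by_cases hθ : θ = trivialIrr N
  · rw [if_pos hθ, hθ]
    exact htriv
  · rw [if_neg hθ]
    have hmem : θ ∈ S := by
      rw [hSeq, Finset.mem_erase]
      exact ⟨hθ, Finset.mem_univ _⟩
    rw [hS, Finset.mem_filter] at hmem
    exact (hLIN θ hmem.2).2

end core

end Cfsg.Agent.Lib.H15.RU
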