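import Cfsg.Agent.Lib.H15.RUTRANSa
import Cfsg.Agent.Lib.H14.RULIN
import Cfsg.Agent.Lib.H1.RUDEGSYL1
import Cfsg.Agent.Lib.H5.RUEAB
import Cfsg.Agent.Lib.H27.Basic

/-!
# S4751 piece TRANS, exact signature (helper15)
-/

set_option autoImplicit false

namespace Cfsg.Agent.Lib.H15.RU

open Cfsg

/-- all nontrivial normal `p`-subgroups have the order of `O_p(G)` (from DEG) -/
theorem card_eq_card_pCore {G : Type*} [Group G] [Finite G] (p : ℕ) [Fact p.Prime]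
    (χ : IrrCharacter G) (hnl : (χ : G → ℂ) 1 ≠ 1)
    (hroot : ∀ g : G, p ∣ orderOf g → ∃ n : ℕ, 0 < n ∧ ((χ : G → ℂ) g) ^ n = 1)
    (hP : pCore p G ≠ ⊥) :
    ∀ N : Subgroup G, N.Normal → IsPGroup p N → N ≠ ⊥ → Nat.card N = Nat.card (pCore p G) := by
  have hPn : (pCore p G).Normal := Cfsg.Agent.Lib.H27.pCore_normal'
  have hPp : IsPGroup p (pCore p G) := Cfsg.Agent.Lib.H27.pCore_isPGroup
  have hdeg := Cfsg.Agent.Lib.H1.RU.degree_eq_card_sub_one p χ hnl hroot (pCore p G) hPp hP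
  intro N hN hNp hN1
  haveI := hN
  have h1 := Cfsg.Agent.Lib.H1.RU.degree_eq_card_sub_one p χ hnl hroot N hNp hN1
  rw [hdeg] at h1
  have h2 : (Nat.card (pCore p G) : ℂ) = (Nat.card N : ℂ) := by linear_combination h1
  exact_mod_cast h2.symm

/-- **TRANS**: `G` is transitive on the non-principal linear characters of `P = O_p(G)`. -/
theorem exists_conj_linear {G : Type*} [Group G] [Finite G] (p : ℕ) [Fact p.Prime]
    (χ : IrrCharacter G) (hnl : (χ : G → ℂ) 1 ≠ 1)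
    (hroot : ∀ g : G, p ∣ orderOf g → ∃ n : ℕ, 0 < n ∧ ((χ : G → ℂ) g) ^ n = 1)
    (hP : pCore p G ≠ ⊥) :
    ∀ lam mu : ↥(pCore p G) → ℂ, IsCharacter ↥(pCore p G) lam → lam 1 = 1 →
      lam ≠ (fun _ => (1 : ℂ)) → IsCharacter ↥(pCore p G) mu → mu 1 = 1 →
      mu ≠ (fun _ => (1 : ℂ)) →
      ∃ g : G, ∀ (x : G) (hx : x ∈ pCore p G) (hgx : g * x * g⁻¹ ∈ pCore p G),
        mu ⟨x, hx⟩ = lam ⟨g * x * g⁻¹, hgx⟩ := by
  classical
  letI : Fintype G := Fintype.ofFinite G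
  letI : Fintype ↥(pCore p G) := Fintype.ofFinite _
  haveI hPn : (pCore p G).Normal := Cfsg.Agent.Lib.H27.pCore_normal'
  have hPp : IsPGroup p (pCore p G) := Cfsg.Agent.Lib.H27.pCore_isPGroup
  have hdeg := Cfsg.Agent.Lib.H1.RU.degree_eq_card_sub_one p χ hnl hroot (pCore p G) hPp hP
  have heab := Cfsg.Agent.Lib.H5.RU.isElementaryAbelian_pCore p hP
    (card_eq_card_pCore p χ hnl hroot hP)
  have hab : ∀ a b : ↥(pCore p G), a * b = b * a := fun a b => heab.1.is_comm.comm a b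
  exact exists_conj_linear_of (pCore p G) χ hnl hab hdeg
    (fun θ hθ => Cfsg.Agent.Lib.H14.RU.constituent_linear p χ hroot (pCore p G) hPp hP θ hθ)

end Cfsg.Agent.Lib.H15.RU
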