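import Cfsg.Agent.Lib.H15.RUSYL2c
import Cfsg.Agent.Lib.H15.RUTRANS

/-!
# S4751 piece SYL2, exact signature (helper15)
-/

set_option autoImplicit false

namespace Cfsg.Agent.Lib.H15.RU

open Cfsg Cfsg.Agent.Lib.L0 Cfsg.Agent.Lib.H24 Cfsg.Agent.Lib.H23
open scoped ComplexConjugate

/-- **SYL2**: if `p = 2` and `P = O_2(G)` is not a Sylow 2-subgroup then `|P| = 4`. -/
theorem card_pCore_eq_four {G : Type*} [Group G] [Finite G]
    (χ : IrrCharacter G) (hnl : (χ : G → ℂ) 1 ≠ 1)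
    (hroot : ∀ g : G, 2 ∣ orderOf g → ∃ n : ℕ, 0 < n ∧ ((χ : G → ℂ) g) ^ n = 1)
    (hP : pCore 2 G ≠ ⊥) (hidx : 2 ∣ (pCore 2 G).index) : Nat.card ↥(pCore 2 G) = 4 := by
  classical
  haveI : Fact (Nat.Prime 2) := ⟨Nat.prime_two⟩
  letI : Fintype G := Fintype.ofFinite G
  letI : Fintype ↥(pCore 2 G) := Fintype.ofFinite _
  haveI hPn : (pCore 2 G).Normal := Cfsg.Agent.Lib.H27.pCore_normal'
  have hPp : IsPGroup 2 (pCore 2 G) := Cfsg.Agent.Lib.H27.pCore_isPGroup
  have hdeg := Cfsg.Agent.Lib.H1.RU.degree_eq_card_sub_one 2 χ hnl hroot (pCore 2 G) hPp hP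
  have heab := Cfsg.Agent.Lib.H5.RU.isElementaryAbelian_pCore 2 hP
    (card_eq_card_pCore 2 χ hnl hroot hP)
  have hab : ∀ a b : ↥(pCore 2 G), a * b = b * a := fun a b => heab.1.is_comm.comm a b
  have hLIN : ∀ θ : IrrCharacter ↥(pCore 2 G),
      classInner (fun n : ↥(pCore 2 G) => (χ : G → ℂ) n) (θ : ↥(pCore 2 G) → ℂ) ≠ 0 →
      (θ : ↥(pCore 2 G) → ℂ) 1 = 1 ∧
        classInner (fun n : ↥(pCore 2 G) => (χ : G → ℂ) n) (θ : ↥(pCore 2 G) → ℂ) = 1 :=
    fun θ hθ => Cfsg.Agent.Lib.H14.RU.constituent_linear 2 χ hroot (pCore 2 G) hPp hP θ hθ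
  obtain ⟨n, hn⟩ := IsPGroup.iff_card.mp hPp
  -- a subgroup `K ≥ P` with `|K : P| = 2`
  have hdvd : 2 ^ (n + 1) ∣ Nat.card G := by
    rw [← Subgroup.card_mul_index (pCore 2 G), hn, pow_succ]
    exact Nat.mul_dvd_mul_left _ hidx
  obtain ⟨K, hK, hPK⟩ := Sylow.exists_subgroup_card_pow_succ hdvd hn
  letI : Fintype ↥K := Fintype.ofFinite _
  set N : Subgroup ↥K := (pCore 2 G).subgroupOf K with hNdef
  letI : Fintype ↥N := Fintype.ofFinite _
  haveI hNn : N.Normal := by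
    rw [hNdef]
    infer_instance
  let e : ↥N ≃* ↥(pCore 2 G) := Subgroup.subgroupOfEquivOfLe hPK
  have hcardN : Nat.card N = Nat.card ↥(pCore 2 G) := Nat.card_congr e.toEquiv
  have hidxN : N.index = 2 := by
    have h1 := Subgroup.card_mul_index N
    rw [hcardN, hn, hK, pow_succ] at h1
    exact Nat.eq_of_mul_eq_mul_left (by positivity) h1
  have habN : ∀ a b : N, a * b = b * a := by
    intro a b
    apply e.injective
    rw [map_mul, map_mul, hab]
  have hexpN : ∀ a : N, a ^ 2 = 1 := by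
    intro a
    apply e.injective
    rw [map_pow, map_one]
    apply Subtype.ext
    rw [Subgroup.coe_pow, Subgroup.coe_one]
    exact heab.2 _ (e a).2
  set Φ : ↥K → ℂ := fun k => (χ : G → ℂ) k with hΦdef
  have hΦ : IsCharacter ↥K Φ := isCharacter_restrict K (isCharacter_of_irr χ.2)
  have hKp : IsPGroup 2 K := IsPGroup.of_card hK
  have hnorm : ∀ k : ↥K, k ≠ 1 → ‖Φ k‖ = 1 := by
    intro k hk
    obtain ⟨j, hj⟩ := hKp k
    have h1 : orderOf k ∣ 2 ^ j := orderOf_dvd_of_pow_eq_one hj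
    obtain ⟨i, hi, hi2⟩ := (Nat.dvd_prime_pow Nat.prime_two).mp h1
    have hi0 : i ≠ 0 := by
      rintro rfl
      rw [pow_zero, orderOf_eq_one_iff] at hi2
      exact hk hi2
    have h2 : 2 ∣ orderOf (k : G) := by
      rw [Subgroup.orderOf_coe, hi2]
      exact dvd_pow_self 2 hi0
    obtain ⟨m, hm, hm1⟩ := hroot (k : G) h2
    exact Complex.norm_eq_one_of_pow_eq_one hm1 hm.ne'
  have hdegN : Φ 1 = (Nat.card N : ℂ) - 1 := by
    rw [hcardN, ← hdeg]
    rfl
  have hmultN : ∀ θ : IrrCharacter N, θ ≠ trivialIrr N →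
      classInner (fun n : N => Φ (n : ↥K)) (θ : N → ℂ) = 1 := by
    intro θ hθ
    have hθ'irr : IsIrrCharacter ↥(pCore 2 G) ((θ : N → ℂ) ∘ e.symm.toMonoidHom) :=
      isIrrCharacter_comp_of_surjective e.symm.toMonoidHom e.symm.surjective θ.2
    have hθ'ne : (⟨(θ : N → ℂ) ∘ e.symm.toMonoidHom, hθ'irr⟩ : IrrCharacter ↥(pCore 2 G)) ≠
        trivialIrr ↥(pCore 2 G) := by
      intro h
      apply hθ
      apply Subtype.ext
      funext a
      have := congrFun (congrArg Subtype.val h) (e a)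
      simpa using this
    have hm := mult_eq (pCore 2 G) χ hnl hab hdeg hLIN ⟨(θ : N → ℂ) ∘ e.symm.toMonoidHom, hθ'irr⟩
    rw [if_neg hθ'ne] at hm
    rw [← hm]
    unfold classInner
    rw [hcardN]
    congr 1
    apply Fintype.sum_equiv e.toEquiv
    intro a
    simp only [Function.comp_apply, MulEquiv.coe_toMonoidHom, MulEquiv.toEquiv_eq_coe,
      EquivLike.coe_coe, MulEquiv.symm_apply_apply]
    rfl
  have h4 := card_le_four_core N hidxN habN hexpN Φ hΦ hnorm hdegN hmultN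
  rw [hcardN, hn] at h4
  have hn0 : n ≠ 0 := by
    rintro rfl
    rw [pow_zero] at hn
    exact hP ((Subgroup.card_eq_one).mp hn)
  have hn1 : n ≠ 1 := by
    rintro rfl
    rw [pow_one] at hn
    apply hnl
    rw [hdeg, hn]
    norm_num
  have hn2 : n ≤ 2 := by
    by_contra hcon
    push Not at hcon
    have : 2 ^ 3 ≤ 2 ^ n := Nat.pow_le_pow_right (by norm_num) hcon
    omega
  have : n = 2 := by omega
  rw [hn, this]
  norm_num

end Cfsg.Agent.Lib.H15.RU
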