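import Cfsg.Agent.Lib.H15.RUCore
import Cfsg.Agent.Lib.H8.Clifford

/-!
# S4751 piece SYL2: abstract core, part a (helper15)

`H` a finite group, `N ⊴ H` elementary abelian of index `2`, `Φ` a character of `H` with
`|Φ(h)| = 1` for `h ≠ 1`, `Φ(1) = |N| - 1` and `[Φ_N, θ] = 1` for all non-principal `θ ∈ Irr(N)`.
Then at most one non-principal irreducible character of `N` is `H`-invariant.
-/

set_option autoImplicit false

namespace Cfsg.Agent.Lib.H15.RU

open Cfsg Cfsg.Agent.Lib.L0 Cfsg.Agent.Lib.H24 Cfsg.Agent.Lib.H23
open scoped ComplexConjugate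

section lists

variable {H : Type*} [Group H]

theorem list_sum_apply (l : List (H → ℂ)) (h : H) : l.sum h = (l.map (fun ψ => ψ h)).sum := by
  induction l with
  | nil => simp
  | cons a l ih => simp [ih]

theorem restrict_list_sum (N : Subgroup H) (l : List (H → ℂ)) :
    (fun n : N => l.sum (n : H)) = (l.map (fun ψ => fun n : N => ψ (n : H))).sum := by
  induction l with
  | nil => simp; rfl
  | cons a l ih =>
    simp only [List.sum_cons, List.map_cons, ← ih]
    rfl

open scoped Classical in
theorem deg_count (l : List (H → ℂ)) :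
    (l.map (fun ψ => if ψ 1 = 1 then 1 else 2)).sum + l.countP (fun ψ => decide (ψ 1 = 1)) =
      2 * l.length := by
  induction l with
  | nil => simp
  | cons a l ih =>
    simp only [List.map_cons, List.sum_cons, List.countP_cons, List.length_cons]
    by_cases h : a 1 = 1
    · simp only [h, if_true, decide_true]
      omega
    · simp only [h, if_false, decide_false]
      simp
      omega

end lists

section core2

variable {H : Type*} [Group H] [Fintype H]

/-- `2 [Φ, Φ] = |N|` -/
theorem two_mul_inner (N : Subgroup H) (hidx : N.index = 2)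
    (Φ : H → ℂ) (hnorm : ∀ h : H, h ≠ 1 → ‖Φ h‖ = 1)
    (hdeg : Φ 1 = (Nat.card N : ℂ) - 1) :
    2 * classInner Φ Φ = (Nat.card N : ℂ) := by
  classical
  have hcard : Nat.card H = Nat.card N * 2 := by
    rw [← hidx, Subgroup.card_mul_index]
  have hq : (Nat.card N : ℂ) ≠ 0 := by
    have : 0 < Nat.card N := Nat.card_pos
    exact_mod_cast this.ne'
  have hsum : ∑ g : H, Φ g * conj (Φ g) = (Nat.card N : ℂ) ^ 2 := by
    rw [← Finset.add_sum_erase Finset.univ _ (Finset.mem_univ (1 : H))]
    have h1 : ∑ x ∈ Finset.univ.erase (1 : H), Φ x * conj (Φ x) =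
        ∑ x ∈ Finset.univ.erase (1 : H), (1 : ℂ) := by
      refine Finset.sum_congr rfl (fun x hx => ?_)
      rw [Finset.mem_erase] at hx
      rw [Complex.mul_conj', hnorm x hx.1]
      simp
    rw [h1, Finset.sum_const, Finset.card_erase_of_mem (Finset.mem_univ _), Finset.card_univ,
      ← Nat.card_eq_fintype_card, hcard, hdeg]
    have hpos : 0 < Nat.card N := Nat.card_pos
    have : ((Nat.card N * 2 - 1 : ℕ) : ℂ) = (Nat.card N : ℂ) * 2 - 1 := by
      rw [Nat.cast_sub (by omega)]
      push_cast
      ring
    rw [nsmul_eq_mul, this, map_sub, Complex.conj_natCast, map_one]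
    ring
  unfold classInner
  rw [hsum, hcard]
  push_cast
  field_simp

/-- the length of a decomposition is bounded by the norm -/
theorem length_le_of_decomp {l : List (H → ℂ)} (hl : ∀ χ ∈ l, IsIrrCharacter H χ) :
    ∃ c : ℕ, l.length ≤ c ∧ classInner l.sum l.sum = (c : ℂ) := by
  classical
  refine ⟨(l.map (fun χ => l.count χ)).sum, ?_, ?_⟩
  · have := List.length_le_sum_of_one_le (l.map (fun χ => l.count χ)) (by
      intro i hi
      rw [List.mem_map] at hi
      obtain ⟨χ, hχ, rfl⟩ := hi
      exact List.count_pos_iff.mpr hχ)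
    simpa using this
  · rw [classInner_list_sum_right, Nat.cast_list_sum, List.map_map]
    congr 1
    apply List.map_congr_left
    intro χ hχ
    rw [Function.comp_apply, classInner_irr_list_sum hl (hl χ hχ)]

end core2

end Cfsg.Agent.Lib.H15.RU
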