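import Cfsg.Agent.Lib.H15.RUSYL2a

/-!
# S4751 piece SYL2: abstract core, part b (helper15)
-/

set_option autoImplicit false

namespace Cfsg.Agent.Lib.H15.RU

open Cfsg Cfsg.Agent.Lib.L0 Cfsg.Agent.Lib.H24 Cfsg.Agent.Lib.H23
open scoped ComplexConjugate

section core2

variable {H : Type*} [Group H] [Fintype H]

open scoped Classical in
/-- at most one linear member in a decomposition of `Φ` -/
theorem countP_linear_le_one (N : Subgroup H) [hN : N.Normal] (hidx : N.index = 2)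
    (hab : ∀ a ∈ N, ∀ b ∈ N, a * b = b * a)
    (Φ : H → ℂ) (hnorm : ∀ h : H, h ≠ 1 → ‖Φ h‖ = 1)
    (hdeg : Φ 1 = (Nat.card N : ℂ) - 1)
    {l : List (H → ℂ)} (hl : ∀ χ ∈ l, IsIrrCharacter H χ) (hΦ : Φ = l.sum) :
    l.countP (fun ψ => decide (ψ 1 = 1)) ≤ 1 := by
  obtain ⟨c, hc1, hc2⟩ := length_le_of_decomp hl
  have h2 := two_mul_inner N hidx Φ hnorm hdeg
  rw [hΦ, hc2] at h2
  have h2' : 2 * c = Nat.card N := by exact_mod_cast h2
  have hdegs : ∀ ψ ∈ l, ψ 1 = ((if ψ 1 = 1 then 1 else 2 : ℕ) : ℂ) := by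
    intro ψ hψ
    obtain ⟨d, hd1, hd2⟩ := ito_char N hab (hl ψ hψ)
    rw [hidx] at hd2
    have hd : d = 1 ∨ d = 2 := by
      have := Nat.le_of_dvd (by norm_num) hd2
      have h0 : d ≠ 0 := by
        rintro rfl
        simp at hd2
      interval_cases d
      · exact absurd rfl h0
      · left; rfl
      · right; rfl
    rcases hd with rfl | rfl
    · rw [if_pos (by rw [hd1]; simp), hd1]
    · rw [if_neg (by rw [hd1]; norm_num), hd1]
  have hsum : Φ 1 = (((l.map (fun ψ => if ψ 1 = 1 then 1 else 2)).sum : ℕ) : ℂ) := by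
    rw [hΦ, list_sum_apply, Nat.cast_list_sum, List.map_map]
    congr 1
    apply List.map_congr_left
    intro ψ hψ
    rw [Function.comp_apply]
    exact hdegs ψ hψ
  rw [hdeg] at hsum
  have hsum' : Nat.card N = (l.map (fun ψ : H → ℂ => if ψ 1 = 1 then 1 else 2)).sum + 1 := by
    have : (Nat.card N : ℂ) =
        (((l.map (fun ψ : H → ℂ => if ψ 1 = 1 then 1 else 2)).sum + 1 : ℕ) : ℂ) := by
      push_cast
      push_cast at hsum
      rw [← hsum]
      ring
    exact_mod_cast this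
  have hcount := deg_count l
  omega

/-- irreducible characters of abelian groups are linear -/
theorem irr_one_of_comm {A : Type*} [Group A] [Finite A] (hA : ∀ a b : A, a * b = b * a)
    (θ : IrrCharacter A) : (θ : A → ℂ) 1 = 1 := by
  have h1 := norm_irr_eq_one_of_comm hA θ.2 1
  obtain ⟨n, hn, hn1⟩ := irr_one_eq θ
  rw [hn1] at h1 ⊢
  simp at h1
  rw [h1]
  simp

open scoped Classical in
/-- an invariant `θ` of multiplicity one lies under a linear member of the decomposition -/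
theorem exists_linear_over (N : Subgroup H) [hN : N.Normal] [Fintype N]
    (hab : ∀ a b : N, a * b = b * a)
    {l : List (H → ℂ)} (hl : ∀ χ ∈ l, IsIrrCharacter H χ)
    (θ : IrrCharacter N) (hmult : classInner (fun n : N => l.sum (n : H)) (θ : N → ℂ) = 1)
    (hinv : ∀ (h : H) (n : N),
      (θ : N → ℂ) ⟨h * n * h⁻¹, hN.conj_mem n n.2 h⟩ = (θ : N → ℂ) n) :
    ∃ ψ ∈ l, ψ 1 = 1 ∧ (fun n : N => ψ (n : H)) = (θ : N → ℂ) := by
  have hmult0 := hmult
  rw [restrict_list_sum, classInner_list_sum_left] at hmult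
  obtain ⟨x, hx, hx0⟩ := List.exists_mem_ne_zero_of_sum_ne_zero
    (l := (l.map (fun ψ => fun n : N => ψ (n : H))).map (fun χ => classInner χ (θ : N → ℂ)))
    (by rw [hmult]; exact one_ne_zero)
  rw [List.mem_map] at hx
  obtain ⟨χ', hχ', rfl⟩ := hx
  rw [List.mem_map] at hχ'
  obtain ⟨ψ, hψ, rfl⟩ := hχ'
  refine ⟨ψ, hψ, ?_⟩
  have hcl := Cfsg.Agent.S0174.result N hN ψ (hl ψ hψ) (θ : N → ℂ) θ.2 hx0
  have hset : {ψ' : N → ℂ | ∃ g : H, ψ' = fun n : N =>
      (θ : N → ℂ) ⟨g * n * g⁻¹, hN.conj_mem n n.2 g⟩} = {(θ : N → ℂ)} := by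
    ext ψ'
    simp only [Set.mem_setOf_eq, Set.mem_singleton_iff]
    constructor
    · rintro ⟨g, hg⟩
      rw [hg]
      funext n
      exact hinv g n
    · intro h
      refine ⟨1, ?_⟩
      rw [h]
      funext n
      exact (hinv 1 n).symm
  rw [hset, finsum_mem_singleton] at hcl
  -- the multiplicity is one
  obtain ⟨k, hk⟩ := classInner_char_irr_nat
    (isCharacter_restrict N (isCharacter_of_irr (hl ψ hψ))) θ.2
  have hrest : IsCharacter H (l.erase ψ).sum :=
    isCharacter_list_sum (fun χ hχ => isCharacter_of_irr (hl χ (List.mem_of_mem_erase hχ)))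
  obtain ⟨m, hm⟩ := classInner_char_irr_nat (isCharacter_restrict N hrest) θ.2
  have hsplit : (fun n : N => l.sum (n : H)) =
      (fun n : N => ψ (n : H)) + (fun n : N => (l.erase ψ).sum (n : H)) := by
    funext n
    rw [← List.sum_erase hψ]
    rfl
  rw [hsplit, classInner_add_left] at hmult0
  have hk' : classInner (fun n : N => ψ (n : H)) (θ : N → ℂ) = (k : ℂ) := hk
  have hm' : classInner (fun n : N => (l.erase ψ).sum (n : H)) (θ : N → ℂ) = (m : ℂ) := hm
  rw [hk', hm'] at hmult0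
  have hkm : k + m = 1 := by exact_mod_cast hmult0
  have hk0 : k ≠ 0 := by
    rintro rfl
    apply hx0
    rw [hk']
    simp
  have hk1 : k = 1 := by omega
  rw [hk', hk1, Nat.cast_one, one_smul] at hcl
  refine ⟨?_, hcl⟩
  have := congrFun hcl 1
  rw [irr_one_of_comm hab θ] at this
  exact this

open scoped Classical in
/-- **at most one invariant non-principal irreducible character of `N`** -/
theorem invariant_unique (N : Subgroup H) [hN : N.Normal] [Fintype N] (hidx : N.index = 2)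
    (hab : ∀ a b : N, a * b = b * a)
    (Φ : H → ℂ) (hΦ : IsCharacter H Φ) (hnorm : ∀ h : H, h ≠ 1 → ‖Φ h‖ = 1)
    (hdeg : Φ 1 = (Nat.card N : ℂ) - 1)
    (hmult : ∀ θ : IrrCharacter N, θ ≠ trivialIrr N →
      classInner (fun n : N => Φ (n : H)) (θ : N → ℂ) = 1)
    (θ₁ θ₂ : IrrCharacter N) (h1 : θ₁ ≠ trivialIrr N) (h2 : θ₂ ≠ trivialIrr N)
    (hinv1 : ∀ (h : H) (n : N),
      (θ₁ : N → ℂ) ⟨h * n * h⁻¹, hN.conj_mem n n.2 h⟩ = (θ₁ : N → ℂ) n)
    (hinv2 : ∀ (h : H) (n : N),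
      (θ₂ : N → ℂ) ⟨h * n * h⁻¹, hN.conj_mem n n.2 h⟩ = (θ₂ : N → ℂ) n) : θ₁ = θ₂ := by
  obtain ⟨l, hl, hsum⟩ := isCharacter_exists_irr_decomp hΦ
  have hab' : ∀ a ∈ N, ∀ b ∈ N, a * b = b * a := by
    intro a ha b hb
    exact congrArg Subtype.val (hab ⟨a, ha⟩ ⟨b, hb⟩)
  have hle := countP_linear_le_one N hidx hab' Φ hnorm hdeg hl hsum
  have hm1 := hmult θ₁ h1
  have hm2 := hmult θ₂ h2
  rw [hsum] at hm1 hm2
  obtain ⟨ψ₁, hψ₁, hlin1, hres1⟩ := exists_linear_over N hab hl θ₁ hm1 hinv1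
  obtain ⟨ψ₂, hψ₂, hlin2, hres2⟩ := exists_linear_over N hab hl θ₂ hm2 hinv2
  by_contra hne
  have hψne : ψ₁ ≠ ψ₂ := by
    rintro rfl
    apply hne
    apply Subtype.ext
    rw [← hres1, ← hres2]
  rw [List.countP_eq_length_filter] at hle
  have hsub : ({ψ₁, ψ₂} : Finset (H → ℂ)) ⊆
      (l.filter (fun ψ => decide (ψ 1 = 1))).toFinset := by
    intro ψ hψ
    rw [Finset.mem_insert, Finset.mem_singleton] at hψ
    rw [List.mem_toFinset, List.mem_filter]
    rcases hψ with rfl | rfl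
    · exact ⟨hψ₁, by simpa using hlin1⟩
    · exact ⟨hψ₂, by simpa using hlin2⟩
  have := Finset.card_le_card hsub
  rw [Finset.card_pair hψne] at this
  have h3 := List.toFinset_card_le (l.filter (fun ψ => decide (ψ 1 = 1)))
  omega

end core2

end Cfsg.Agent.Lib.H15.RU
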