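import Cfsg.Agent.Lib.H15.RUSYL2b

/-!
# S4751 piece SYL2: abstract core, part c (helper15): `|N| ≤ 4`
-/

set_option autoImplicit false

namespace Cfsg.Agent.Lib.H15.RU

open Cfsg Cfsg.Agent.Lib.L0 Cfsg.Agent.Lib.H24 Cfsg.Agent.Lib.H23
open scoped ComplexConjugate

section core2

variable {H : Type*} [Group H] [Fintype H]

/-- invariance under `y ∉ N` gives invariance under `H` -/
theorem inv_of_inv (N : Subgroup H) [hN : N.Normal] (hidx : N.index = 2)
    (hab : ∀ a b : N, a * b = b * a) (y : H) (hy : y ∉ N) (θ : N → ℂ)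
    (hθ : ∀ n : N, θ (MulAut.conjNormal y n) = θ n) (h : H) (n : N) :
    θ ⟨h * n * h⁻¹, hN.conj_mem n n.2 h⟩ = θ n := by
  by_cases hh : h ∈ N
  · congr 1
    apply Subtype.ext
    have := congrArg Subtype.val (hab ⟨h, hh⟩ n)
    simp only [Subgroup.coe_mul] at this
    show h * n * h⁻¹ = n
    rw [this, mul_inv_cancel_right]
  · have hm : y⁻¹ * h ∈ N := by
      rw [Subgroup.mul_mem_iff_of_index_two hidx, inv_mem_iff]
      exact ⟨fun h1 => absurd h1 hy, fun h1 => absurd h1 hh⟩
    rw [← hθ n]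
    congr 1
    apply Subtype.ext
    rw [MulAut.conjNormal_apply]
    have := congrArg Subtype.val (hab ⟨y⁻¹ * h, hm⟩ n)
    simp only [Subgroup.coe_mul] at this
    show h * n * h⁻¹ = y * n * y⁻¹
    have e1 : h = y * (y⁻¹ * h) := by group
    calc h * n * h⁻¹ = y * ((y⁻¹ * h) * n) * (y⁻¹ * h)⁻¹ * y⁻¹ := by
          rw [mul_inv_rev, inv_inv]; group
      _ = y * (n * (y⁻¹ * h)) * (y⁻¹ * h)⁻¹ * y⁻¹ := by rw [this]
      _ = y * n * y⁻¹ := by group

open scoped Classical in
/-- the number of fixed points of `y ∉ N` on `N` is at most two -/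
theorem card_fixed_le_two (N : Subgroup H) [hN : N.Normal] [Fintype N] (hidx : N.index = 2)
    (hab : ∀ a b : N, a * b = b * a)
    (Φ : H → ℂ) (hΦ : IsCharacter H Φ) (hnorm : ∀ h : H, h ≠ 1 → ‖Φ h‖ = 1)
    (hdeg : Φ 1 = (Nat.card N : ℂ) - 1)
    (hmult : ∀ θ : IrrCharacter N, θ ≠ trivialIrr N →
      classInner (fun n : N => Φ (n : H)) (θ : N → ℂ) = 1)
    (y : H) (hy : y ∉ N) :
    Nat.card {n : N // MulAut.conjNormal y n = n} ≤ 2 := by
  set τ : N → N := fun n => MulAut.conjNormal y n with hτdef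
  have hτ : ∀ χ : IrrCharacter N, IsIrrCharacter N ((χ : N → ℂ) ∘ τ) := by
    intro χ
    exact isIrrCharacter_comp_of_surjective ((MulAut.conjNormal y : MulAut N).toMonoidHom)
      (MulAut.conjNormal y : MulAut N).surjective χ.2
  have hperm := perm_lemma τ hτ
  -- LHS ≤ 2
  haveI : Finite {χ : IrrCharacter N // (χ : N → ℂ) ∘ τ = (χ : N → ℂ)} := inferInstance
  haveI : Fintype {χ : IrrCharacter N // (χ : N → ℂ) ∘ τ = (χ : N → ℂ)} := Fintype.ofFinite _
  have hL : Nat.card {χ : IrrCharacter N // (χ : N → ℂ) ∘ τ = (χ : N → ℂ)} ≤ 2 := by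
    rw [Nat.card_eq_fintype_card]
    by_contra hcon
    push Not at hcon
    obtain ⟨a, b, c, hab', hac, hbc⟩ := Fintype.two_lt_card_iff.mp hcon
    have hinv : ∀ t : {χ : IrrCharacter N // (χ : N → ℂ) ∘ τ = (χ : N → ℂ)}, ∀ (h : H) (n : N),
        (t.1 : N → ℂ) ⟨h * n * h⁻¹, hN.conj_mem n n.2 h⟩ = (t.1 : N → ℂ) n := by
      intro t h n
      exact inv_of_inv N hidx hab y hy (t.1 : N → ℂ) (fun n => congrFun t.2 n) h n
    have key : ∀ s t : {χ : IrrCharacter N // (χ : N → ℂ) ∘ τ = (χ : N → ℂ)},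
        s.1 ≠ trivialIrr N → t.1 ≠ trivialIrr N → s = t := by
      intro s t hs ht
      apply Subtype.ext
      exact invariant_unique N hidx hab Φ hΦ hnorm hdeg hmult s.1 t.1 hs ht (hinv s) (hinv t)
    by_cases ha : a.1 = trivialIrr N
    · have hb : b.1 ≠ trivialIrr N := fun hb => hab' (Subtype.ext (ha.trans hb.symm))
      have hc : c.1 ≠ trivialIrr N := fun hc => hac (Subtype.ext (ha.trans hc.symm))
      exact hbc (key b c hb hc)
    · by_cases hb : b.1 = trivialIrr N
      · have hc : c.1 ≠ trivialIrr N := fun hc => hbc (Subtype.ext (hb.trans hc.symm))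
        exact hac (key a c ha hc)
      · exact hab' (key a b ha hb)
  -- fixed points inject into the fixed classes
  rw [hperm] at hL
  refine le_trans ?_ hL
  have hinjmk : Function.Injective (ConjClasses.mk : N → ConjClasses N) := by
    intro a b habc
    obtain ⟨c, hc⟩ := isConj_iff.mp (ConjClasses.mk_eq_mk_iff_isConj.mp habc)
    rw [← hc, hab c a, mul_inv_cancel_right]
  apply Nat.card_le_card_of_injective
    (fun n : {n : N // MulAut.conjNormal y n = n} =>
      (⟨ConjClasses.mk n.1, by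
        intro g hg
        have : g = n.1 := hinjmk hg
        rw [this]
        show IsConj (MulAut.conjNormal y n.1) n.1
        rw [n.2]⟩ : {C : ConjClasses N // ∀ g : N, ConjClasses.mk g = C → IsConj (τ g) g}))
  intro a b habc
  apply Subtype.ext
  exact hinjmk (congrArg Subtype.val habc)

/-- **abstract SYL2 core**: `|N| ≤ 4`. -/
theorem card_le_four_core (N : Subgroup H) [hN : N.Normal] [Fintype N] (hidx : N.index = 2)
    (hab : ∀ a b : N, a * b = b * a) (hexp : ∀ a : N, a ^ 2 = 1)
    (Φ : H → ℂ) (hΦ : IsCharacter H Φ) (hnorm : ∀ h : H, h ≠ 1 → ‖Φ h‖ = 1)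
    (hdeg : Φ 1 = (Nat.card N : ℂ) - 1)
    (hmult : ∀ θ : IrrCharacter N, θ ≠ trivialIrr N →
      classInner (fun n : N => Φ (n : H)) (θ : N → ℂ) = 1) :
    Nat.card N ≤ 4 := by
  classical
  -- an element outside `N`
  obtain ⟨y, hy⟩ : ∃ y : H, y ∉ N := by
    by_contra hcon
    push Not at hcon
    have : N = ⊤ := by
      rw [eq_top_iff]
      intro x _
      exact hcon x
    rw [this, Subgroup.index_top] at hidx
    omega
  have hF := card_fixed_le_two N hidx hab Φ hΦ hnorm hdeg hmult y hy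
  set σ : MulAut N := MulAut.conjNormal y with hσ
  have hinv : ∀ a : N, a⁻¹ = a := by
    intro a
    rw [inv_eq_iff_mul_eq_one, ← pow_two, hexp]
  have hσσ : ∀ n : N, σ (σ n) = n := by
    intro n
    have hy2 : y * y ∈ N := by
      rw [Subgroup.mul_mem_iff_of_index_two hidx]
    apply Subtype.ext
    rw [hσ, MulAut.conjNormal_apply, MulAut.conjNormal_apply]
    have := congrArg Subtype.val (hab ⟨y * y, hy2⟩ n)
    simp only [Subgroup.coe_mul] at this
    calc y * (y * n * y⁻¹) * y⁻¹ = (y * y * n) * (y * y)⁻¹ := by group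
      _ = (n * (y * y)) * (y * y)⁻¹ := by rw [this]
      _ = n := by group
  let φ : N →* N :=
    { toFun := fun n => n * σ n
      map_one' := by simp
      map_mul' := by
        intro a b
        rw [map_mul]
        rw [mul_assoc, mul_assoc, ← mul_assoc b, hab b (σ a), mul_assoc] }
  have hker : Nat.card φ.ker ≤ Nat.card {n : N // σ n = n} := by
    apply Nat.card_le_card_of_injective
      (fun n : φ.ker => (⟨n.1, by
        have h1 : n.1 * σ n.1 = 1 := n.2
        have h2 : σ n.1 = (n.1)⁻¹ := by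
          rw [eq_inv_iff_mul_eq_one, hab]
          exact h1
        rw [h2, hinv]⟩ : {n : N // σ n = n}))
    intro a b habc
    apply Subtype.ext
    exact congrArg (fun t : {n : N // σ n = n} => t.1) habc
  have hrange : Nat.card φ.range ≤ Nat.card {n : N // σ n = n} := by
    apply Nat.card_le_card_of_injective
      (fun n : φ.range => (⟨n.1, by
        obtain ⟨m, hm⟩ := n.2
        rw [← hm]
        show σ (m * σ m) = m * σ m
        rw [map_mul, hσσ, hab]⟩ : {n : N // σ n = n}))
    intro a b habc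
    apply Subtype.ext
    exact congrArg (fun t : {n : N // σ n = n} => t.1) habc
  have hcard : Nat.card N = Nat.card φ.ker * Nat.card φ.range := by
    rw [← Subgroup.index_ker, Subgroup.card_mul_index]
  rw [hcard]
  calc Nat.card φ.ker * Nat.card φ.range ≤ 2 * 2 :=
        Nat.mul_le_mul (hker.trans hF) (hrange.trans hF)
    _ = 4 := by norm_num

end core2

end Cfsg.Agent.Lib.H15.RU
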