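import Mathlib
import Cfsg.Agent.Lib.H7.CoprimeGen
import Cfsg.Agent.Lib.H15.Conj
import Cfsg.Agent.Lib.H15.CyclicAut

/-!
Fixed points of a rank two elementary abelian `p`-group `⟨a, b⟩` acting coprimely on an abelian
group `V` with `C_V(b) = 1`: the subgroups `C_V(a b^j)` are independent, hence
`∏_j |C_V(a b^j)| ≤ |V|`; when some `y` conjugates `a` to `a b^s` (`s ≠ 0`) and centralizes `b`,
all these have the same order and `|C_V(a)|^p ≤ |V|`, `C_V(a) ≠ 1` (helper15).
-/

set_option autoImplicit false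
open scoped IsMulCommutative

namespace Cfsg.Agent.Lib.H15

open Cfsg.Agent.Lib.H7

universe u

section

variable {W : Type*} [CommGroup W] (p : ℕ) [Fact p.Prime]

theorem cycTrace_prod {ι : Type*} (s : Finset ι) (γ : Monoid.End W) (v : ι → W) :
    cycTrace p γ (∏ j ∈ s, v j) = ∏ j ∈ s, cycTrace p γ (v j) := by
  unfold cycTrace
  rw [Finset.prod_comm]
  apply Finset.prod_congr rfl
  intro x _
  rw [map_prod]

theorem cycTrace_of_fixed (γ : Monoid.End W) (v : W) (h : γ v = v) : cycTrace p γ v = v ^ p := by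
  unfold cycTrace
  have h1 : ∀ n : ℕ, (γ ^ n) v = v := by
    intro n
    induction n with
    | zero => rfl
    | succ n ih =>
      rw [pow_succ]
      show (γ ^ n) (γ v) = v
      rw [h, ih]
  simp only [h1]
  rw [Finset.prod_const, Finset.card_univ, ZMod.card]

theorem cycTrace_fixed_of_commute (γ δ : Monoid.End W) (hc : δ * γ = γ * δ) (v : W) (h : δ v = v) :
    δ (cycTrace p γ v) = cycTrace p γ v := by
  unfold cycTrace
  rw [map_prod]
  apply Finset.prod_congr rfl
  intro x _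
  have h1 : Commute δ (γ ^ x.val) := (show Commute δ γ from hc).pow_right _
  have h2 : δ ((γ ^ x.val) v) = (δ * γ ^ x.val) v := rfl
  rw [h2, h1.eq]
  show (γ ^ x.val) (δ v) = _
  rw [h]

end

section

variable {H : Type u} [Group H]

/-- an element commuting with `a b^j` and `a b^k` (`j ≠ k`) commutes with `b`. -/
theorem commute_of_commute_two (p : ℕ) [Fact p.Prime] {a b u : H} (hbp : b ^ p = 1) {j k : ZMod p}
    (hjk : j ≠ k) (hj : Commute u (a * b ^ j.val)) (hk : Commute u (a * b ^ k.val)) :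
    Commute u b := by
  have h1 : Commute u ((a * b ^ j.val)⁻¹ * (a * b ^ k.val)) := hj.inv_right.mul_right hk
  have hd : k - j ≠ 0 := sub_ne_zero.mpr (Ne.symm hjk)
  have h2 : (a * b ^ j.val)⁻¹ * (a * b ^ k.val) = b ^ (k - j).val := by
    have h3 : b ^ k.val = b ^ (k - j).val * b ^ j.val := by
      rw [← pow_val_add p hbp, sub_add_cancel]
    rw [h3]
    have h4 : Commute (b ^ (k - j).val) (b ^ j.val) := (Commute.refl b).pow_pow _ _
    rw [h4.eq]
    group
  rw [h2] at h1
  have h5 : (b ^ (k - j).val) ^ ((k - j)⁻¹).val = b := by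
    rw [← pow_val_mul p hbp, mul_inv_cancel₀ hd, ZMod.val_one, pow_one]
  rw [← h5]
  exact h1.pow_right _

variable [Finite H]

theorem prod_card_fixed_le (p : ℕ) [Fact p.Prime] {V : Subgroup H}
    [IsMulCommutative V] (hVp : (Nat.card V).Coprime p) {a b : H}
    (ha : a ∈ Subgroup.normalizer (V : Set H)) (hb : b ∈ Subgroup.normalizer (V : Set H))
    (hab : a * b = b * a) (hap : a ^ p = 1) (hbp : b ^ p = 1)
    (hfix : V ⊓ Subgroup.centralizer {b} = ⊥) :
    ∏ j : ZMod p, Nat.card ↥(V ⊓ Subgroup.centralizer {a * b ^ j.val}) ≤ Nat.card V := by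
  classical
  obtain ⟨aN, haN⟩ : ∃ aN : ↥(Subgroup.normalizer (V : Set H)), (aN : H) = a := ⟨⟨a, ha⟩, rfl⟩
  obtain ⟨bN, hbN⟩ : ∃ bN : ↥(Subgroup.normalizer (V : Set H)), (bN : H) = b := ⟨⟨b, hb⟩, rfl⟩
  have habN : Commute aN bN := by
    apply Subtype.ext; rw [Subgroup.coe_mul, Subgroup.coe_mul, haN, hbN, hab]
  have hapN : aN ^ p = 1 := by
    apply Subtype.ext; rw [Subgroup.coe_pow, haN, hap]; rfl
  have hbpN : bN ^ p = 1 := by
    apply Subtype.ext; rw [Subgroup.coe_pow, hbN, hbp]; rfl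
  obtain ⟨γ, hγ⟩ : ∃ γ : ZMod p → Monoid.End ↥V, γ = fun j => conjEnd V (aN * bN ^ j.val) :=
    ⟨_, rfl⟩
  have hcoe : ∀ j : ZMod p, ((aN * bN ^ j.val : ↥(Subgroup.normalizer (V : Set H))) : H)
      = a * b ^ j.val := by
    intro j; rw [Subgroup.coe_mul, Subgroup.coe_pow, haN, hbN]
  have hγp : ∀ j, γ j ^ p = 1 := by
    intro j
    rw [hγ]
    show conjEnd V (aN * bN ^ j.val) ^ p = 1
    rw [← map_pow]
    have : (aN * bN ^ j.val) ^ p = 1 := by
      rw [(habN.pow_right j.val).mul_pow, hapN, one_mul, ← pow_mul, mul_comm, pow_mul, hbpN,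
        one_pow]
    rw [this, map_one]
  have hγc : ∀ j k, γ j * γ k = γ k * γ j := by
    intro j k
    rw [hγ]
    show conjEnd V (aN * bN ^ j.val) * conjEnd V (aN * bN ^ k.val)
      = conjEnd V (aN * bN ^ k.val) * conjEnd V (aN * bN ^ j.val)
    rw [← map_mul, ← map_mul]
    congr 1
    have h1 : Commute (aN * bN ^ j.val) (aN * bN ^ k.val) := by
      apply Commute.mul_left
      · exact Commute.mul_right (Commute.refl aN) (habN.pow_right _)
      · exact Commute.mul_right (habN.pow_right _).symm ((Commute.refl bN).pow_pow _ _)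
    exact h1.eq
  have hfixed : ∀ (j : ZMod p) (v : ↥V), (v : H) ∈ Subgroup.centralizer {a * b ^ j.val} →
      γ j v = v := by
    intro j v hv
    rw [hγ]
    apply Subtype.ext
    rw [conjEnd_apply_coe, hcoe]
    rw [Subgroup.mem_centralizer_singleton_iff] at hv
    rw [← hv]; group
  -- the product map
  obtain ⟨F, hF⟩ : ∃ F : (∀ j : ZMod p, ↥(V ⊓ Subgroup.centralizer {a * b ^ j.val})) → ↥V,
      F = fun f => ∏ j, ⟨(f j : H), (f j).2.1⟩ := ⟨_, rfl⟩
  have key : ∀ (f : ∀ j : ZMod p, ↥(V ⊓ Subgroup.centralizer {a * b ^ j.val})) (k : ZMod p),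
      cycTrace p (γ k) (F f) = (⟨(f k : H), (f k).2.1⟩ : ↥V) ^ p := by
    intro f k
    rw [hF]
    show cycTrace p (γ k) (∏ j, (⟨(f j : H), (f j).2.1⟩ : ↥V)) = _
    rw [cycTrace_prod, Finset.prod_eq_single k]
    · exact cycTrace_of_fixed p _ _ (hfixed k _ (f k).2.2)
    · intro j _ hjk
      -- trace lies in C_V(a b^j) ∩ C_V(a b^k)
      obtain ⟨u, hu⟩ : ∃ u, u = cycTrace p (γ k) (⟨(f j : H), (f j).2.1⟩ : ↥V) := ⟨_, rfl⟩
      rw [← hu]
      have h1 : γ k u = u := by rw [hu]; exact cycTrace_fixed p (hγp k) _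
      have h2 : γ j u = u := by
        rw [hu]
        exact cycTrace_fixed_of_commute p _ _ (hγc j k) _ (hfixed j _ (f j).2.2)
      rw [hγ] at h1 h2
      have h3 := coe_mem_centralizer_of_conjEnd_eq V _ _ h1
      have h4 := coe_mem_centralizer_of_conjEnd_eq V _ _ h2
      rw [hcoe] at h3 h4
      have c3 : Commute (u : H) (a * b ^ k.val) :=
        Subgroup.mem_centralizer_singleton_iff.mp h3.2
      have c4 : Commute (u : H) (a * b ^ j.val) :=
        Subgroup.mem_centralizer_singleton_iff.mp h4.2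
      have c5 := commute_of_commute_two p hbp hjk c4 c3
      have h5 : (u : H) ∈ V ⊓ Subgroup.centralizer {b} :=
        ⟨u.2, Subgroup.mem_centralizer_singleton_iff.mpr c5.eq⟩
      rw [hfix, Subgroup.mem_bot] at h5
      exact Subtype.ext h5
    · intro h; exact absurd (Finset.mem_univ k) h
  have hinj : Function.Injective F := by
    intro f f' hff
    funext k
    have h1 := key f k
    rw [hff, key f' k] at h1
    have h2 := (powCoprime hVp).injective (a₁ := (⟨(f' k : H), (f' k).2.1⟩ : ↥V))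
      (a₂ := (⟨(f k : H), (f k).2.1⟩ : ↥V)) (by simpa [powCoprime] using h1)
    apply Subtype.ext
    have := congrArg Subtype.val h2
    exact this.symm
  calc ∏ j : ZMod p, Nat.card ↥(V ⊓ Subgroup.centralizer {a * b ^ j.val})
      = Nat.card (∀ j : ZMod p, ↥(V ⊓ Subgroup.centralizer {a * b ^ j.val})) := Nat.card_pi.symm
    _ ≤ Nat.card V := Nat.card_le_card_of_injective F hinj


omit [Finite H] in
theorem centralizer_singleton_conj (y x : H) :
    Subgroup.centralizer ({y * x * y⁻¹} : Set H) = cj y (Subgroup.centralizer ({x} : Set H)) := by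
  ext t
  rw [mem_cj_iff, Subgroup.mem_centralizer_singleton_iff, Subgroup.mem_centralizer_singleton_iff]
  constructor
  · intro h
    calc y⁻¹ * t * y * x = y⁻¹ * (t * (y * x * y⁻¹)) * y := by group
      _ = y⁻¹ * ((y * x * y⁻¹) * t) * y := by rw [h]
      _ = x * (y⁻¹ * t * y) := by group
  · intro h
    calc t * (y * x * y⁻¹) = y * ((y⁻¹ * t * y) * x) * y⁻¹ := by group
      _ = y * (x * (y⁻¹ * t * y)) * y⁻¹ := by rw [h]
      _ = y * x * y⁻¹ * t := by group

omit [Finite H] in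
theorem card_fixed_conj {V : Subgroup H} {y : H} (hy : y ∈ Subgroup.normalizer (V : Set H)) (x : H) :
    Nat.card ↥(V ⊓ Subgroup.centralizer {y * x * y⁻¹}) = Nat.card ↥(V ⊓ Subgroup.centralizer {x}) := by
  have h1 : V ⊓ Subgroup.centralizer {y * x * y⁻¹} = cj y (V ⊓ Subgroup.centralizer {x}) := by
    show _ = (V ⊓ Subgroup.centralizer {x}).map (MulAut.conj y).toMonoidHom
    rw [Subgroup.map_inf _ _ _ (MulAut.conj y).injective]
    show _ = cj y V ⊓ cj y (Subgroup.centralizer {x})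
    rw [cj_le_of_mem_normalizer hy, centralizer_singleton_conj]
  rw [h1, card_cj]

omit [Finite H] in
theorem card_fixed_eq (p : ℕ) [Fact p.Prime] {V : Subgroup H} {a b y : H} (hbp : b ^ p = 1)
    (hy : y ∈ Subgroup.normalizer (V : Set H)) (hyb : y * b = b * y) (s : ZMod p) (hs : s ≠ 0)
    (hya : y * a * y⁻¹ = a * b ^ s.val) (j : ZMod p) :
    Nat.card ↥(V ⊓ Subgroup.centralizer {a * b ^ j.val}) = Nat.card ↥(V ⊓ Subgroup.centralizer {a}) := by
  have hyb' : y * b ^ s.val * y⁻¹ = b ^ s.val := by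
    have hc : Commute y (b ^ s.val) := (show Commute y b from hyb).pow_right _
    rw [hc.eq, mul_inv_cancel_right]
  have hconj := conj_pow_eq_mul_pow (g := y) (y := a) (z := b ^ s.val) hya hyb' (j * s⁻¹).val
  rw [← pow_val_mul p hbp] at hconj
  have e : s * (j * s⁻¹) = j := by
    rw [mul_comm j, ← mul_assoc, mul_inv_cancel₀ hs, one_mul]
  rw [e] at hconj
  rw [← hconj]
  exact card_fixed_conj (Subgroup.pow_mem _ hy _) a

theorem card_fixed_pow_le (p : ℕ) [Fact p.Prime] {V : Subgroup H}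
    [IsMulCommutative V] (hVp : (Nat.card V).Coprime p) {a b y : H}
    (ha : a ∈ Subgroup.normalizer (V : Set H)) (hb : b ∈ Subgroup.normalizer (V : Set H))
    (hab : a * b = b * a) (hap : a ^ p = 1) (hbp : b ^ p = 1)
    (hfix : V ⊓ Subgroup.centralizer {b} = ⊥)
    (hy : y ∈ Subgroup.normalizer (V : Set H)) (hyb : y * b = b * y) (s : ZMod p) (hs : s ≠ 0)
    (hya : y * a * y⁻¹ = a * b ^ s.val) :
    Nat.card ↥(V ⊓ Subgroup.centralizer {a}) ^ p ≤ Nat.card V := by
  have h1 := prod_card_fixed_le p hVp ha hb hab hap hbp hfix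
  rw [Finset.prod_congr rfl (fun j _ =>
    card_fixed_eq p hbp hy hyb s hs hya j), Finset.prod_const,
    Finset.card_univ, ZMod.card] at h1
  exact h1

theorem fixed_ne_bot (p : ℕ) [Fact p.Prime] {V : Subgroup H}
    [IsMulCommutative V] (hVp : (Nat.card V).Coprime p) {a b y : H}
    (ha : a ∈ Subgroup.normalizer (V : Set H)) (hb : b ∈ Subgroup.normalizer (V : Set H))
    (hab : a * b = b * a) (hap : a ^ p = 1) (hbp : b ^ p = 1)
    (hfix : V ⊓ Subgroup.centralizer {b} = ⊥)
    (hy : y ∈ Subgroup.normalizer (V : Set H)) (hyb : y * b = b * y) (s : ZMod p) (hs : s ≠ 0)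
    (hya : y * a * y⁻¹ = a * b ^ s.val) (hV : V ≠ ⊥) :
    V ⊓ Subgroup.centralizer {a} ≠ ⊥ := by
  intro hbot
  apply hV
  have h1 := le_sup_centralizer_of_rank2 p hVp ha hb hab hap hbp
  rw [hfix, sup_bot_eq] at h1
  rw [eq_bot_iff]
  refine h1.trans (iSup_le fun j => ?_)
  have h2 := card_fixed_eq p hbp hy hyb s hs hya j
  rw [hbot, Subgroup.card_bot] at h2
  exact (Subgroup.card_eq_one.mp h2).le

end

end Cfsg.Agent.Lib.H15
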