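import Mathlib
import Cfsg.Prelude.Def_PLocal
import Cfsg.Agent.Lib.H15.MCL
import Cfsg.Agent.Lib.H15.Conj
import Cfsg.Agent.Lib.H15.PGroup

/-!
A general form of the replacement construction `A* = (A ∩ A^x)(A A^x ∩ B)`
(helper15's shared library).
-/

set_option autoImplicit false

namespace Cfsg.Agent.Lib.H15

open scoped Pointwise

variable {G : Type*} [Group G]

/-- **Replacement core.** `A` abelian of largest order, `B` abelian, `x` an element such that `A`
and `x A x⁻¹` normalize each other and `a⁻¹ (x a x⁻¹) ∈ B` for all `a ∈ A`. Then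
`A* = (A ∩ A^x)(A A^x ∩ B)` is again abelian of largest order, lies in `⟨A, A^x⟩ ∩ N(A)`,
`A ∩ B ≤ A* ∩ B`, and the inclusion is strict unless `x` normalizes `A`. -/
theorem replacement_core [Finite G] {A B : Subgroup G}
    (hA : A ∈ Cfsg.maxAbelianSubgroups G) (hB : IsMulCommutative ↥B) (x : G)
    (h1 : cj x A ≤ Subgroup.normalizer (A : Set G))
    (hcomm : ∀ a ∈ A, a⁻¹ * (x * a * x⁻¹) ∈ B) :
    ∃ A' ∈ Cfsg.maxAbelianSubgroups G, A' ≤ A ⊔ cj x A ∧
      A' ≤ Subgroup.normalizer (A : Set G) ∧ A ⊓ B ≤ A' ⊓ B ∧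
      (A' ⊓ B ≤ A ⊓ B → x ∈ Subgroup.normalizer (A : Set G)) := by
  have hAc : IsMulCommutative ↥A := hA.1
  obtain ⟨A₁, hA₁⟩ : ∃ A₁, A₁ = cj x A := ⟨_, rfl⟩
  rw [← hA₁] at h1
  have hA₁c : IsMulCommutative ↥A₁ := by rw [hA₁]; infer_instance
  have hA₁card : Nat.card A₁ = Nat.card A := by rw [hA₁]; exact card_cj x A
  obtain ⟨M, hM⟩ : ∃ M, M = A ⊔ A₁ := ⟨_, rfl⟩
  obtain ⟨Z, hZ⟩ : ∃ Z, Z = A ⊓ A₁ := ⟨_, rfl⟩
  obtain ⟨D, hD⟩ : ∃ D, D = M ⊓ B := ⟨_, rfl⟩
  have hAM : A ≤ M := hM ▸ le_sup_left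
  have hA₁M : A₁ ≤ M := hM ▸ le_sup_right
  have hZA : Z ≤ A := hZ ▸ inf_le_left
  have hZA₁ : Z ≤ A₁ := hZ ▸ inf_le_right
  have hDM : D ≤ M := hD ▸ inf_le_left
  have hDB : D ≤ B := hD ▸ inf_le_right
  have hMset : ((A ⊔ A₁ : Subgroup G) : Set G) = (A : Set G) * (A₁ : Set G) :=
    Subgroup.coe_mul_of_right_le_normalizer_left A A₁ h1
  have hcard1 : Nat.card A * Nat.card A₁ = Nat.card Z * Nat.card M := by
    rw [hZ, hM]; exact card_mul_card_eq_of_coe_sup_eq_mul A A₁ hMset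
  have hZc : Z ≤ Subgroup.centralizer (M : Set G) := by
    rw [hM, centralizer_sup]
    exact le_inf (hZA.trans (Subgroup.le_centralizer_iff_isMulCommutative.mpr hAc))
      (hZA₁.trans (Subgroup.le_centralizer_iff_isMulCommutative.mpr hA₁c))
  have hZD : Z ≤ Subgroup.centralizer (D : Set G) :=
    hZc.trans (Subgroup.centralizer_le (fun y hy => hDM hy))
  have hA'c : IsMulCommutative ↥(Z ⊔ D) :=
    isMulCommutative_sup (isMulCommutative_of_le hAc hZA) (isMulCommutative_of_le hB hDB) hZD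
  -- decomposition of elements of `A₁`
  have key : ∀ c ∈ A₁, ∃ a' ∈ A, ∃ d ∈ D, c = a' * d := by
    intro c hc
    have hc' : x⁻¹ * c * x ∈ A := by rw [hA₁, mem_cj_iff] at hc; exact hc
    refine ⟨x⁻¹ * c * x, hc', (x⁻¹ * c * x)⁻¹ * c, ?_, by group⟩
    rw [hD]
    refine Subgroup.mem_inf.mpr ⟨mul_mem (inv_mem (hAM hc')) (hA₁M hc), ?_⟩
    have := hcomm _ hc'
    have e : x * (x⁻¹ * c * x) * x⁻¹ = c := by group
    rwa [e] at this
  have hMsub : (M : Set G) ⊆ (A : Set G) * (D : Set G) := by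
    intro m hm
    have hm' : m ∈ ((A ⊔ A₁ : Subgroup G) : Set G) := hM ▸ hm
    rw [hMset] at hm'
    obtain ⟨a, ha, c, hc, rfl⟩ := Set.mem_mul.mp hm'
    obtain ⟨a', ha', d, hd, rfl⟩ := key c hc
    exact Set.mem_mul.mpr ⟨a * a', mul_mem ha ha', d, hd, by group⟩
  have hADle : A ⊔ D ≤ M := sup_le hAM hDM
  have hADset : ((A ⊔ D : Subgroup G) : Set G) = (A : Set G) * (D : Set G) := by
    apply Set.Subset.antisymm
    · exact fun y hy => hMsub (hADle hy)
    · rintro _ ⟨a, ha, d, hd, rfl⟩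
      exact mul_mem ((le_sup_left : A ≤ A ⊔ D) ha) ((le_sup_right : D ≤ A ⊔ D) hd)
  have hADM : A ⊔ D = M := by
    apply le_antisymm hADle
    intro m hm
    have := hMsub hm
    rw [← hADset] at this
    exact this
  have hAD : A ⊓ D = A ⊓ B := by
    rw [hD]
    apply le_antisymm
    · exact le_inf inf_le_left (inf_le_right.trans inf_le_right)
    · exact le_inf inf_le_left (le_inf (inf_le_left.trans hAM) inf_le_right)
  have hcard2 : Nat.card A * Nat.card D = Nat.card (A ⊓ B : Subgroup G) * Nat.card M := by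
    have := card_mul_card_eq_of_coe_sup_eq_mul A D hADset
    rwa [hAD, hADM] at this
  have hZDset : ((Z ⊔ D : Subgroup G) : Set G) = (Z : Set G) * (D : Set G) :=
    Subgroup.coe_mul_of_left_le_normalizer_right Z D
      (hZD.trans (Subgroup.centralizer_le_normalizer _))
  have hZDle : Z ⊓ D ≤ A ⊓ B :=
    le_inf (inf_le_left.trans hZA) (inf_le_right.trans hDB)
  have hcard3 : Nat.card Z * Nat.card D =
      Nat.card (Z ⊓ D : Subgroup G) * Nat.card (Z ⊔ D : Subgroup G) :=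
    card_mul_card_eq_of_coe_sup_eq_mul Z D hZDset
  -- `|A*| |Z ∩ D| = |A| |A ∩ B|`
  have hcard4 : Nat.card (Z ⊔ D : Subgroup G) * Nat.card (Z ⊓ D : Subgroup G) =
      Nat.card A * Nat.card (A ⊓ B : Subgroup G) := by
    rw [hA₁card] at hcard1
    have hpos2 : 0 < Nat.card M := Nat.card_pos
    have : Nat.card (Z ⊔ D : Subgroup G) * Nat.card (Z ⊓ D : Subgroup G) * Nat.card M =
        Nat.card A * Nat.card (A ⊓ B : Subgroup G) * Nat.card M := by
      calc Nat.card (Z ⊔ D : Subgroup G) * Nat.card (Z ⊓ D : Subgroup G) * Nat.card M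
          = (Nat.card (Z ⊓ D : Subgroup G) * Nat.card (Z ⊔ D : Subgroup G)) * Nat.card M := by ring
        _ = (Nat.card Z * Nat.card D) * Nat.card M := by rw [hcard3]
        _ = (Nat.card Z * Nat.card M) * Nat.card D := by ring
        _ = (Nat.card A * Nat.card A) * Nat.card D := by rw [hcard1]
        _ = Nat.card A * (Nat.card A * Nat.card D) := by ring
        _ = Nat.card A * (Nat.card (A ⊓ B : Subgroup G) * Nat.card M) := by rw [hcard2]
        _ = Nat.card A * Nat.card (A ⊓ B : Subgroup G) * Nat.card M := by ring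
    exact Nat.eq_of_mul_eq_mul_right hpos2 this
  have hle1 : Nat.card (Z ⊓ D : Subgroup G) ≤ Nat.card (A ⊓ B : Subgroup G) :=
    card_le_card_of_le hZDle
  have hle2 : Nat.card (Z ⊔ D : Subgroup G) ≤ Nat.card A := hA.2 _ hA'c
  have hposA : 0 < Nat.card A := Nat.card_pos
  have hposZD : 0 < Nat.card (Z ⊓ D : Subgroup G) := Nat.card_pos
  have hcardEq : Nat.card (Z ⊔ D : Subgroup G) = Nat.card A := by
    apply le_antisymm hle2
    by_contra hlt
    have hlt' : Nat.card (Z ⊔ D : Subgroup G) < Nat.card A := Nat.lt_of_not_le hlt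
    have : Nat.card (Z ⊔ D : Subgroup G) * Nat.card (Z ⊓ D : Subgroup G) <
        Nat.card A * Nat.card (A ⊓ B : Subgroup G) :=
      Nat.mul_lt_mul_of_lt_of_le hlt' hle1 (Nat.card_pos)
    omega
  have hZDeq : Z ⊓ D = A ⊓ B := by
    apply eq_of_le_of_card_le' hZDle
    rw [hcardEq] at hcard4
    exact (Nat.eq_of_mul_eq_mul_left hposA hcard4).ge
  have hABA₁ : A ⊓ B ≤ A₁ := by
    rw [← hZDeq]
    exact inf_le_left.trans hZA₁
  refine ⟨Z ⊔ D, maxAbelian_of_card_le hA hA'c hcardEq.ge, ?_, ?_, ?_, ?_⟩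
  · rw [← hA₁, ← hM]
    exact sup_le (hZA.trans hAM) hDM
  · apply sup_le
    · exact hZA.trans Subgroup.le_normalizer
    · apply hDM.trans
      rw [hM]
      exact sup_le Subgroup.le_normalizer h1
  · exact le_inf ((le_inf inf_le_left hABA₁).trans (hZ ▸ le_sup_left)) inf_le_right
  · intro hle
    apply mem_normalizer_of_cj_le
    rw [← hA₁]
    intro c hc
    obtain ⟨a', ha', d, hd, rfl⟩ := key c hc
    have hdA : d ∈ A := by
      have : d ∈ (Z ⊔ D) ⊓ B := Subgroup.mem_inf.mpr ⟨(le_sup_right : D ≤ Z ⊔ D) hd, hDB hd⟩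
      exact (hle this).1
    exact mul_mem ha' hdA

end Cfsg.Agent.Lib.H15
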