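import Mathlib
import Cfsg.Prelude.Def_Classical
import Cfsg.Agent.Lib.H15.Tbl

/-! Data for S2931, part 1: a subgroup of order 64 of `A₈` and of `PSp₄(3)` with the same
Schreier table (helper15, machine generated). -/

set_option autoImplicit false

namespace Cfsg.Agent.Lib.H15.S2931a

/-- a permutation of `Fin 8` from its table and the table of its inverse -/
def mkP (f g : Fin 8 → Fin 8) (h1 : ∀ x, g (f x) = x) (h2 : ∀ x, f (g x) = x) :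
    Equiv.Perm (Fin 8) := ⟨f, g, h1, h2⟩
def p0 : Equiv.Perm (Fin 8) := mkP ![5,6,7,4,2,1,0,3] ![6,5,4,7,3,0,1,2] (by decide) (by decide)
def p1 : Equiv.Perm (Fin 8) := mkP ![7,5,4,6,3,0,2,1] ![5,7,6,4,2,1,3,0] (by decide) (by decide)
def p2 : Equiv.Perm (Fin 8) := mkP ![7,5,4,6,2,1,3,0] ![7,5,4,6,2,1,3,0] (by decide) (by decide)
def a0 : ↥(alternatingGroup (Fin 8)) := ⟨p0, by rw [Equiv.Perm.mem_alternatingGroup]; decide +kernel⟩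
def a1 : ↥(alternatingGroup (Fin 8)) := ⟨p1, by rw [Equiv.Perm.mem_alternatingGroup]; decide +kernel⟩
def a2 : ↥(alternatingGroup (Fin 8)) := ⟨p2, by rw [Equiv.Perm.mem_alternatingGroup]; decide +kernel⟩
def gam : Fin 3 → ↥(alternatingGroup (Fin 8)) := ![a0, a1, a2]

def e4 : Fin 2 ⊕ Fin 2 → Fin 4 := Sum.elim (Fin.castAdd 2) (Fin.natAdd 2)

def mk4 (T : Fin 4 → Fin 4 → ZMod 3) : Matrix (Fin 2 ⊕ Fin 2) (Fin 2 ⊕ Fin 2) (ZMod 3) :=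
  Matrix.of fun i j => T (e4 i) (e4 j)
def M0 : Matrix (Fin 2 ⊕ Fin 2) (Fin 2 ⊕ Fin 2) (ZMod 3) := mk4 ![![1,2,2,0],![2,1,0,2],![0,1,1,0],![0,1,0,0]]
def M1 : Matrix (Fin 2 ⊕ Fin 2) (Fin 2 ⊕ Fin 2) (ZMod 3) := mk4 ![![1,0,2,1],![2,1,2,0],![0,1,2,2],![0,1,1,2]]
def M2 : Matrix (Fin 2 ⊕ Fin 2) (Fin 2 ⊕ Fin 2) (ZMod 3) := mk4 ![![0,1,0,2],![1,1,2,2],![2,2,0,2],![2,1,2,2]]
def s0 : Matrix.symplecticGroup (Fin 2) (ZMod 3) := ⟨M0, by rw [SymplecticGroup.mem_iff]; decide +kernel⟩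
def s1 : Matrix.symplecticGroup (Fin 2) (ZMod 3) := ⟨M1, by rw [SymplecticGroup.mem_iff]; decide +kernel⟩
def s2 : Matrix.symplecticGroup (Fin 2) (ZMod 3) := ⟨M2, by rw [SymplecticGroup.mem_iff]; decide +kernel⟩
def lam : Fin 3 → Matrix.symplecticGroup (Fin 2) (ZMod 3) := ![s0, s1, s2]
def wds : Fin 64 → List (Fin 3) := ![[],[0],[1],[2],[0,0],[0,1],[0,2],[1,0],[1,1],[1,2],[2,0],[2,1],[0,0,0],[0,0,1],[0,0,2],[0,1,0],[0,1,1],[0,1,2],[0,2,0],[0,2,1],[1,0,0],[1,0,2],[1,1,0],[1,1,2],[1,2,0],[2,0,0],[2,1,0],[0,0,0,1],[0,0,0,2],[0,0,1,0],[0,0,1,1],[0,0,1,2],[0,0,2,0],[0,0,2,1],[0,1,0,0],[0,1,1,0],[0,2,0,0],[0,2,1,0],[1,0,0,0],[1,0,0,2],[1,0,2,0],[1,1,0,2],[1,1,2,0],[2,0,0,0],[2,0,0,2],[2,1,0,2],[0,0,0,1,0],[0,0,0,1,1],[0,0,1,0,0],[0,0,1,1,0],[0,0,2,0,0],[0,0,2,1,0],[0,1,0,0,0],[0,1,0,0,2],[0,1,1,0,2],[0,2,0,0,0],[0,2,0,0,2],[0,2,1,0,2],[1,0,0,0,1],[1,0,0,2,0],[0,0,0,1,0,0],[0,0,0,1,1,0],[0,0,1,0,0,2],[0,0,2,0,0,2]]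
def rho0 : Fin 64 → Fin 64 := ![1,4,7,10,12,15,18,20,22,24,25,26,0,29,32,34,35,9,36,37,38,40,30,42,31,43,33,46,23,48,49,17,50,51,52,47,55,21,2,59,19,14,54,3,56,13,60,61,45,8,41,11,5,39,28,6,63,27,44,62,57,16,53,58]
def rho1 : Fin 64 → Fin 64 := ![2,5,8,11,13,16,19,12,15,3,17,23,27,30,33,0,29,6,31,10,35,32,38,9,28,40,43,47,21,1,46,14,24,18,49,52,26,55,58,25,54,59,51,53,20,56,4,7,61,45,37,41,44,36,39,62,34,63,60,42,22,57,50,48]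
def rho2 : Fin 64 → Fin 64 := ![3,6,9,0,14,17,1,21,23,2,16,15,28,31,4,11,10,5,30,29,39,7,41,8,27,44,45,24,12,19,18,13,47,46,53,54,56,57,51,20,52,22,58,49,25,26,33,32,62,43,63,38,40,34,35,61,36,37,42,60,59,55,48,50]
def rho : Fin 3 → Fin 64 → Fin 64 := ![rho0, rho1, rho2]

open Cfsg.Agent.Lib.H15.Tbl

theorem hw0 : wds 0 = [] := rfl

set_option maxRecDepth 100000 in
theorem hf : ∀ k i, wprod gam (wds i) * gam k = wprod gam (wds (rho k i)) := by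
  decide +kernel

set_option maxRecDepth 100000 in
theorem hfinj : ∀ i j, wprod gam (wds i) = wprod gam (wds j) → i = j := by
  decide +kernel

/-- `-1` in `Sp₄(3)` -/
def negOne : Matrix.symplecticGroup (Fin 2) (ZMod 3) :=
  ⟨-1, SymplecticGroup.neg_mem (Submonoid.one_mem _)⟩

set_option maxRecDepth 100000 in
theorem hg : ∀ k i, wprod lam (wds i) * lam k = wprod lam (wds (rho k i)) ∨
    wprod lam (wds i) * lam k = negOne * wprod lam (wds (rho k i)) := by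
  decide +kernel

set_option maxRecDepth 100000 in
theorem hgker : ∀ i, (wprod lam (wds i) = 1 ∨ wprod lam (wds i) = negOne) → i = 0 := by
  decide +kernel

end Cfsg.Agent.Lib.H15.S2931a
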