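import Mathlib
import Cfsg.Prelude.Def_Classical
import Cfsg.Agent.Lib.H15.Tbl

/-! Data for S2931, part 2: a subgroup of order 128 of `S₈` and of `O₆⁻(2)` with the same
Schreier table (helper15, machine generated). -/

set_option autoImplicit false

namespace Cfsg.Agent.Lib.H15.S2931b

/-- a permutation of `Fin 8` from its table and the table of its inverse -/
def mkP (f g : Fin 8 → Fin 8) (h1 : ∀ x, g (f x) = x) (h2 : ∀ x, f (g x) = x) :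
    Equiv.Perm (Fin 8) := ⟨f, g, h1, h2⟩
def p0 : Equiv.Perm (Fin 8) := mkP ![2,3,0,6,1,7,4,5] ![2,4,0,1,6,7,3,5] (by decide) (by decide)
def p1 : Equiv.Perm (Fin 8) := mkP ![1,3,0,2,5,7,4,6] ![2,0,3,1,6,4,7,5] (by decide) (by decide)
def p2 : Equiv.Perm (Fin 8) := mkP ![0,1,2,4,3,5,6,7] ![0,1,2,4,3,5,6,7] (by decide) (by decide)
def gam : Fin 3 → Equiv.Perm (Fin 8) := ![p0, p1, p2]

/-- the index type of the six-dimensional space -/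
abbrev I6 : Type := (Fin 2 ⊕ Fin 2) ⊕ Fin 2

def e6 : I6 → Fin 6
  | .inl (.inl i) => ⟨i.val, by omega⟩
  | .inl (.inr i) => ⟨i.val + 2, by omega⟩
  | .inr i => ⟨i.val + 4, by omega⟩

def mk6 (T : Fin 6 → Fin 6 → ZMod 2) : Matrix I6 I6 (ZMod 2) :=
  Matrix.of fun i j => T (e6 i) (e6 j)

/-- the minus-type form over `ZMod 2` -/
abbrev Q2 : (I6 → ZMod 2) → ZMod 2 := Cfsg.quadFormMinus 2 (ZMod 2) 1 1
def N0 : Matrix I6 I6 (ZMod 2) := mk6 ![![0,1,0,0,0,0],![1,0,1,0,0,1],![1,1,1,1,0,0],![1,0,1,0,1,0],![1,0,1,0,0,0],![0,1,1,0,1,1]]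
def N0i : Matrix I6 I6 (ZMod 2) := mk6 ![![1,1,0,1,1,1],![1,0,0,0,0,0],![1,1,0,1,0,1],![1,0,1,0,1,0],![0,0,0,1,1,0],![0,1,0,0,1,0]]
def g0 : Matrix.GeneralLinearGroup I6 (ZMod 2) := ⟨N0, N0i, by decide +kernel, by decide +kernel⟩
theorem g0_mem : g0 ∈ Cfsg.isometryGroup (ZMod 2) Q2 := by
  intro u _
  show Q2 (N0 |>.mulVec u) = Q2 u
  revert u
  decide +kernel
def h0 : ↥(Cfsg.isometryGroup (ZMod 2) Q2) := ⟨g0, g0_mem⟩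
def N1 : Matrix I6 I6 (ZMod 2) := mk6 ![![1,0,0,0,0,0],![1,1,0,1,1,1],![1,0,1,0,0,1],![0,0,0,1,0,0],![1,0,0,0,1,1],![0,0,0,1,0,1]]
def N1i : Matrix I6 I6 (ZMod 2) := mk6 ![![1,0,0,0,0,0],![0,1,0,1,1,0],![1,0,1,1,0,1],![0,0,0,1,0,0],![1,0,0,1,1,1],![0,0,0,1,0,1]]
def g1 : Matrix.GeneralLinearGroup I6 (ZMod 2) := ⟨N1, N1i, by decide +kernel, by decide +kernel⟩
theorem g1_mem : g1 ∈ Cfsg.isometryGroup (ZMod 2) Q2 := by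
  intro u _
  show Q2 (N1 |>.mulVec u) = Q2 u
  revert u
  decide +kernel
def h1 : ↥(Cfsg.isometryGroup (ZMod 2) Q2) := ⟨g1, g1_mem⟩
def N2 : Matrix I6 I6 (ZMod 2) := mk6 ![![0,1,0,0,0,0],![1,0,0,0,0,0],![0,1,0,1,1,0],![1,0,1,0,1,0],![0,0,0,0,1,0],![1,1,0,0,0,1]]
def N2i : Matrix I6 I6 (ZMod 2) := mk6 ![![0,1,0,0,0,0],![1,0,0,0,0,0],![0,1,0,1,1,0],![1,0,1,0,1,0],![0,0,0,0,1,0],![1,1,0,0,0,1]]
def g2 : Matrix.GeneralLinearGroup I6 (ZMod 2) := ⟨N2, N2i, by decide +kernel, by decide +kernel⟩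
theorem g2_mem : g2 ∈ Cfsg.isometryGroup (ZMod 2) Q2 := by
  intro u _
  show Q2 (N2 |>.mulVec u) = Q2 u
  revert u
  decide +kernel
def h2 : ↥(Cfsg.isometryGroup (ZMod 2) Q2) := ⟨g2, g2_mem⟩
def lam : Fin 3 → ↥(Cfsg.isometryGroup (ZMod 2) Q2) := ![h0, h1, h2]
def wds : Fin 128 → List (Fin 3) := ![[],[0],[1],[2],[0,0],[0,1],[0,2],[1,0],[1,1],[1,2],[2,0],[2,1],[0,0,0],[0,0,1],[0,0,2],[0,1,0],[0,1,1],[0,1,2],[0,2,1],[1,0,0],[1,0,2],[1,1,0],[1,1,2],[1,2,0],[1,2,1],[2,0,1],[2,1,1],[0,0,0,1],[0,0,1,0],[0,0,1,1],[0,0,1,2],[0,0,2,1],[0,1,0,0],[0,1,0,2],[0,1,1,0],[0,1,1,2],[0,1,2,0],[0,1,2,1],[0,2,1,1],[1,0,0,0],[1,0,0,1],[1,1,0,0],[1,1,2,0],[1,2,0,1],[1,2,1,1],[2,0,1,0],[2,0,1,1],[2,0,1,2],[2,1,1,0],[2,1,1,2],[0,0,0,1,0],[0,0,0,1,1],[0,0,0,1,2],[0,0,1,0,0],[0,0,1,0,2],[0,0,1,1,0],[0,0,1,1,2],[0,0,1,2,0],[0,0,1,2,1],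[0,0,2,1,1],[0,1,0,0,0],[0,1,0,0,1],[0,1,1,0,0],[0,1,1,2,0],[0,1,2,0,1],[0,1,2,1,1],[1,0,0,0,1],[1,0,0,1,1],[1,0,0,1,2],[1,1,0,0,1],[1,1,2,0,1],[1,2,0,1,0],[1,2,0,1,1],[1,2,0,1,2],[1,2,1,1,0],[1,2,1,1,2],[2,0,1,2,0],[2,0,1,2,1],[2,1,1,2,0],[0,0,0,1,2,0],[0,0,0,1,2,1],[0,0,1,0,0,0],[0,0,1,0,0,1],[0,0,1,1,0,0],[0,0,1,1,2,0],[0,0,1,2,0,1],[0,0,1,2,1,1],[0,1,0,0,0,1],[0,1,0,0,1,1],[0,1,1,0,0,1],[0,1,1,2,0,1],[0,1,2,0,1,0],[0,1,2,0,1,1],[0,1,2,0,1,2],[0,1,2,1,1,0],[0,1,2,1,1,2],[1,0,0,0,1,0],[1,0,0,0,1,1],[1,0,0,1,1,0],[1,0,0,1,2,1],[1,1,0,0,1,1],[1,1,2,0,1,1],[1,1,2,0,1,2],[1,2,0,1,2,0],[1,2,0,1,2,1],[1,2,1,1,2,0],[0,0,0,1,2,0,1],[0,0,0,1,2,1,1],[0,0,1,1,0,0,1],[0,0,1,1,2,0,1],[0,0,1,2,0,1,0],[0,0,1,2,0,1,1],[0,0,1,2,1,1,0],[0,1,0,0,0,1,0],[0,1,0,0,0,1,1],[0,1,0,0,1,1,0],[0,1,1,0,0,1,1],[0,1,1,2,0,1,1],[0,1,2,0,1,2,0],[0,1,2,0,1,2,1],[0,1,2,1,1,2,0],[1,0,0,1,2,1,1],[1,1,2,0,1,2,1],[0,0,0,1,2,0,1,0],[0,0,0,1,2,0,1,1],[0,0,0,1,2,1,1,0],[0,0,1,1,0,0,1,1],[0,0,1,1,2,0,1,1]]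
def rho0 : Fin 128 → Fin 128 := ![1,4,7,10,12,15,3,19,21,23,14,20,0,28,6,32,34,36,33,39,9,41,42,11,38,45,48,50,53,55,57,54,60,17,62,63,18,59,22,2,51,61,24,71,74,52,56,76,68,78,47,49,79,81,30,83,84,31,46,35,5,8,82,37,91,94,96,98,80,97,92,85,86,103,90,105,27,29,40,25,26,13,16,77,58,110,112,113,115,114,111,106,107,118,109,120,73,75,108,72,116,121,119,66,67,69,123,125,104,124,43,44,99,93,95,102,126,101,87,88,89,127,100,64,65,70,122,117]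
def rho1 : Fin 128 → Fin 128 := ![2,5,8,11,13,16,18,12,15,24,25,26,27,29,31,0,28,37,38,40,6,39,36,43,44,46,45,51,1,50,58,59,61,14,60,57,64,65,20,66,67,69,70,72,71,3,54,77,23,76,4,7,80,82,10,81,79,85,86,33,87,88,89,90,92,91,97,96,99,100,101,9,48,104,42,103,93,95,102,106,107,73,75,108,109,111,110,114,113,116,117,17,22,119,63,118,19,21,78,121,115,74,122,53,55,62,124,123,126,127,30,35,84,32,34,41,105,94,47,49,83,125,98,52,56,68,120,112]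
def rho2 : Fin 128 → Fin 128 := ![3,6,9,0,14,17,1,20,22,2,12,19,10,30,4,33,35,5,32,11,7,38,8,39,41,47,49,52,54,56,13,53,18,15,59,16,60,62,21,23,68,24,61,73,75,50,55,25,51,26,45,48,27,31,28,46,29,81,83,34,36,42,37,82,93,95,85,86,40,90,102,96,98,43,97,44,79,84,80,76,78,57,63,58,77,66,67,106,107,109,69,113,115,64,114,65,71,74,72,108,121,116,70,110,112,111,87,88,99,89,103,105,104,91,94,92,101,126,123,125,124,100,127,118,120,119,117,122]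
def rho : Fin 3 → Fin 128 → Fin 128 := ![rho0, rho1, rho2]

open Cfsg.Agent.Lib.H15.Tbl

theorem hw0 : wds 0 = [] := rfl

set_option maxRecDepth 100000 in
theorem hf : ∀ k i, wprod gam (wds i) * gam k = wprod gam (wds (rho k i)) := by
  decide +kernel

set_option maxRecDepth 100000 in
theorem hfinj : ∀ i j, wprod gam (wds i) = wprod gam (wds j) → i = j := by
  decide +kernel

set_option maxRecDepth 100000 in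
theorem hg : ∀ k i, wprod lam (wds i) * lam k = wprod lam (wds (rho k i)) := by
  decide +kernel

set_option maxRecDepth 100000 in
theorem hgker : ∀ i, wprod lam (wds i) = 1 → i = 0 := by
  decide +kernel

end Cfsg.Agent.Lib.H15.S2931b
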