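import Mathlib
import Cfsg.Prelude.Def_Classical
import Cfsg.Agent.Lib.H15.Tbl
import Cfsg.Agent.Lib.H15.S2931a
import Cfsg.Agent.Lib.H15.S2931b
import Cfsg.Agent.Lib.H2.SpCenter
import Cfsg.Agent.S0245
import Cfsg.Agent.S0246
import Cfsg.Agent.S0288

/-! Assembly for S2931 (helper15): Sylow 2-subgroups of `A₈`/`PSp₄(3)` and `S₈`/`O₆⁻(2)`. -/

set_option autoImplicit false

namespace Cfsg.Agent.Lib.H15.S2931c

open Function Cfsg.Agent.Lib.H15.Tbl

theorem fact2 (k m : ℕ) (hm : ¬ 2 ∣ m) : (2 ^ k * m).factorization 2 = k := by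
  have hm0 : m ≠ 0 := by rintro rfl; exact hm (dvd_zero 2)
  rw [Nat.factorization_mul (pow_ne_zero _ (by norm_num)) hm0, Nat.Prime.factorization_pow
    Nat.prime_two]
  simp [Nat.factorization_eq_zero_of_not_dvd hm]

/-! ### Part 2 -/

section part2

variable (K : Type) [Field K] [Fintype K]

open Cfsg.Agent.Lib.H15.S2931b in
/-- transport of isometries along a bijective ring homomorphism from `ZMod 2` -/
def psiHom (φ : ZMod 2 →+* K) (hφ : Bijective φ) :
    ↥(Cfsg.isometryGroup (ZMod 2) Q2) →* ↥(Cfsg.isometryGroup K (Cfsg.quadFormMinus 2 K 1 1)) :=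
  ((Matrix.GeneralLinearGroup.map φ).comp (Subgroup.subtype _)).codRestrict _ (fun g => by
    intro u _
    obtain ⟨u₀, rfl⟩ := hφ.2.comp_left u
    have hcoe : ((Matrix.GeneralLinearGroup.map φ (g : Matrix.GeneralLinearGroup I6 (ZMod 2)) :
        Matrix.GeneralLinearGroup I6 K) : Matrix I6 I6 K) =
        ((g : Matrix.GeneralLinearGroup I6 (ZMod 2)) : Matrix I6 I6 (ZMod 2)).map φ := by
      ext i j
      exact Matrix.GeneralLinearGroup.map_apply φ i j _
    have hQ : ∀ x : I6 → ZMod 2, Cfsg.quadFormMinus 2 K 1 1 (φ ∘ x) = φ (Q2 x) := by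
      intro x
      simp only [Cfsg.quadFormMinus, Q2, Function.comp_apply, map_sum, map_add, map_mul, map_pow,
        map_one]
    have hmv : (((g : Matrix.GeneralLinearGroup I6 (ZMod 2)) : Matrix I6 I6 (ZMod 2)).map φ).mulVec
        (φ ∘ u₀) = φ ∘ (((g : Matrix.GeneralLinearGroup I6 (ZMod 2)) :
          Matrix I6 I6 (ZMod 2)).mulVec u₀) := by
      ext i
      exact (RingHom.map_mulVec φ _ u₀ i).symm
    show Cfsg.quadFormMinus 2 K 1 1 (Matrix.mulVec _ (φ ∘ u₀)) = Cfsg.quadFormMinus 2 K 1 1 (φ ∘ u₀)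
    have h3 : Matrix.mulVec ((Units.coeHom (Matrix I6 I6 K))
        (((Matrix.GeneralLinearGroup.map φ).comp (Subgroup.subtype _)) g)) (φ ∘ u₀) =
        φ ∘ (((g : Matrix.GeneralLinearGroup I6 (ZMod 2)) : Matrix I6 I6 (ZMod 2)).mulVec u₀) := by
      rw [← hmv, ← hcoe]; rfl
    rw [h3, hQ, hQ]
    congr 1
    exact g.2 u₀ u₀)

theorem psiHom_injective (φ : ZMod 2 →+* K) (hφ : Bijective φ) : Injective (psiHom K φ hφ) := by
  intro g g' h
  apply Subtype.ext
  apply Units.ext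
  ext i j
  have h1 := congrArg (fun x : ↥(Cfsg.isometryGroup K (Cfsg.quadFormMinus 2 K 1 1)) =>
    ((x : Matrix.GeneralLinearGroup S2931b.I6 K) : Matrix S2931b.I6 S2931b.I6 K) i j) h
  have h2 : φ ((g : Matrix.GeneralLinearGroup S2931b.I6 (ZMod 2)) i j) =
      φ ((g' : Matrix.GeneralLinearGroup S2931b.I6 (ZMod 2)) i j) := by
    have e1 := Matrix.GeneralLinearGroup.map_apply φ i j (g : Matrix.GeneralLinearGroup _ (ZMod 2))
    have e2 := Matrix.GeneralLinearGroup.map_apply φ i j (g' : Matrix.GeneralLinearGroup _ (ZMod 2))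
    rw [← e1, ← e2]
    exact h1
  exact hφ.1 h2

theorem part2 (hK : Fintype.card K = 2) (a b : K)
    (hab : ∀ z₁ z₂ : K, z₁ ^ 2 + a * z₁ * z₂ + b * z₂ ^ 2 = 0 → z₁ = 0 ∧ z₂ = 0)
    (P' : Sylow 2 (Equiv.Perm (Fin 8)))
    (Q' : Sylow 2 ↥(Cfsg.isometryGroup K (Cfsg.quadFormMinus 2 K a b))) :
    Nonempty (↥(P' : Subgroup (Equiv.Perm (Fin 8))) ≃*
      ↥(Q' : Subgroup ↥(Cfsg.isometryGroup K (Cfsg.quadFormMinus 2 K a b)))) := by
  haveI : Fact (Nat.Prime 2) := ⟨Nat.prime_two⟩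
  haveI : CharP K 2 := charP_of_card_eq_prime hK
  let φ : ZMod 2 →+* K := ZMod.castHom (dvd_refl 2) K
  have hφ : Bijective φ := by
    rw [Fintype.bijective_iff_injective_and_card]
    exact ⟨RingHom.injective φ, by rw [ZMod.card, hK]⟩
  have h01 : ∀ x : K, x = 0 ∨ x = 1 := by
    intro x
    obtain ⟨y, rfl⟩ := hφ.2 x
    fin_cases y
    · left; exact map_zero φ
    · right; exact map_one φ
  have h2 : (1 : K) + 1 = 0 := by
    have := CharP.cast_eq_zero K 2
    norm_num at this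
    rw [← this]; norm_num
  have hb : b = 1 := by
    rcases h01 b with h | h
    · exfalso
      have := (hab 0 1 (by rw [h]; ring)).2
      exact one_ne_zero this
    · exact h
  have ha : a = 1 := by
    rcases h01 a with h | h
    · exfalso
      have := (hab 1 1 (by rw [h, hb]; linear_combination h2)).1
      exact one_ne_zero this
    · exact h
  subst ha hb
  obtain ⟨Γ, hcard, hi1, hi2⟩ := graph_subgroup S2931b.gam S2931b.lam S2931b.wds S2931b.rho 0
    S2931b.hw0 S2931b.hf S2931b.hg (fun i j h => S2931b.hfinj i j h) S2931b.hgker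
  have hc1 : Nat.card (Equiv.Perm (Fin 8)) = 2 ^ 7 * 315 := by
    rw [Nat.card_perm, Nat.card_fin]; rfl
  have hc2 : Nat.card ↥(Cfsg.isometryGroup K (Cfsg.quadFormMinus 2 K 1 1)) = 2 ^ 7 * 405 := by
    have := Cfsg.Agent.S0288.result hK 3 (by norm_num) 1 1 hab
    rw [show (3 - 1 : ℕ) = 2 from rfl] at this
    rw [this]
    norm_num [Finset.prod_range_succ]
  obtain ⟨e1⟩ := sylow_equiv_of_injective 2 _ hi1
    (by rw [hcard, hc1, fact2 7 315 (by norm_num)]; norm_num) P'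
  have hi2' : Injective ((psiHom K φ hφ).comp ((MonoidHom.snd _ _).comp Γ.subtype)) := by
    rw [MonoidHom.coe_comp]
    exact (psiHom_injective K φ hφ).comp hi2
  obtain ⟨e2⟩ := sylow_equiv_of_injective 2 _ hi2'
    (by rw [hcard, hc2, fact2 7 405 (by norm_num)]; norm_num) Q'
  exact ⟨e1.symm.trans e2⟩

end part2

/-! ### Part 1 -/

section part1

variable (F : Type) [Field F] [Fintype F]

theorem J_map' (φ : ZMod 3 →+* F) :
    (Matrix.J (Fin 2) (ZMod 3)).map φ = Matrix.J (Fin 2) F := by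
  ext (i | i) (j | j) <;> simp [Matrix.J, Matrix.one_apply, apply_ite φ]

/-- the map on symplectic groups induced by a ring homomorphism -/
def spMap (φ : ZMod 3 →+* F) :
    Matrix.symplecticGroup (Fin 2) (ZMod 3) →* Matrix.symplecticGroup (Fin 2) F where
  toFun A := ⟨(A : Matrix (Fin 2 ⊕ Fin 2) (Fin 2 ⊕ Fin 2) (ZMod 3)).map φ, by
    rw [SymplecticGroup.mem_iff, ← J_map' F φ, ← Matrix.transpose_map, ← Matrix.map_mul,
      ← Matrix.map_mul, SymplecticGroup.mem_iff.1 A.2]⟩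
  map_one' := by
    apply Subtype.ext
    show (1 : Matrix (Fin 2 ⊕ Fin 2) (Fin 2 ⊕ Fin 2) (ZMod 3)).map φ = 1
    exact Matrix.map_one φ (map_zero φ) (map_one φ)
  map_mul' A B := by
    apply Subtype.ext
    show ((A : Matrix (Fin 2 ⊕ Fin 2) (Fin 2 ⊕ Fin 2) (ZMod 3)) * B).map φ = _
    rw [Matrix.map_mul]; rfl

theorem spMap_injective (φ : ZMod 3 →+* F) (hφ : Injective φ) : Injective (spMap F φ) := by
  intro A B h
  apply Subtype.ext
  ext i j
  have h1 := congrArg (fun x : Matrix.symplecticGroup (Fin 2) F =>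
    (x : Matrix (Fin 2 ⊕ Fin 2) (Fin 2 ⊕ Fin 2) F) i j) h
  exact hφ h1

theorem spMap_negOne (φ : ZMod 3 →+* F) :
    spMap F φ S2931a.negOne = Cfsg.Agent.Lib.H2.Sp.negOne (F := F) 2 := by
  apply Subtype.ext
  show (-1 : Matrix (Fin 2 ⊕ Fin 2) (Fin 2 ⊕ Fin 2) (ZMod 3)).map φ = -1
  ext i j
  simp [Matrix.one_apply, apply_ite φ]

theorem part1 (hF : Fintype.card F = 3) (P : Sylow 2 ↥(alternatingGroup (Fin 8)))
    (Q : Sylow 2 (Cfsg.PSp 2 F)) :
    Nonempty (↥(P : Subgroup ↥(alternatingGroup (Fin 8))) ≃* ↥(Q : Subgroup (Cfsg.PSp 2 F))) := by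
  haveI : Fact (Nat.Prime 2) := ⟨Nat.prime_two⟩
  haveI : Fact (Nat.Prime 3) := ⟨by norm_num⟩
  haveI : CharP F 3 := charP_of_card_eq_prime hF
  let φ : ZMod 3 →+* F := ZMod.castHom (dvd_refl 3) F
  have hφ : Injective φ := RingHom.injective φ
  let Z := Subgroup.center (Matrix.symplecticGroup (Fin 2) F)
  let ψ : Matrix.symplecticGroup (Fin 2) (ZMod 3) →* Cfsg.PSp 2 F :=
    (QuotientGroup.mk' Z).comp (spMap F φ)
  have hcen : ∀ A : Matrix.symplecticGroup (Fin 2) F, A ∈ Z ↔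
      (A = 1 ∨ A = Cfsg.Agent.Lib.H2.Sp.negOne (F := F) 2) := by
    intro A
    have := Cfsg.Agent.Lib.H2.Sp.center_eq (F := F) 2 (by norm_num)
    have h2 : A ∈ Z ↔ A ∈ (Z : Set (Matrix.symplecticGroup (Fin 2) F)) := Iff.rfl
    rw [h2, this]
    simp
  have hψneg : ψ S2931a.negOne = 1 := by
    show QuotientGroup.mk' Z (spMap F φ S2931a.negOne) = 1
    rw [QuotientGroup.mk'_apply, QuotientGroup.eq_one_iff, spMap_negOne, hcen]
    right; rfl
  have hg' : ∀ k i, wprod (fun k => ψ (S2931a.lam k)) (S2931a.wds i) * ψ (S2931a.lam k) =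
      wprod (fun k => ψ (S2931a.lam k)) (S2931a.wds (S2931a.rho k i)) := by
    intro k i
    rw [← map_wprod ψ S2931a.lam, ← map_wprod ψ S2931a.lam, ← map_mul]
    rcases S2931a.hg k i with h | h
    · rw [h]
    · rw [h, map_mul, hψneg, one_mul]
  have hgker' : ∀ i, wprod (fun k => ψ (S2931a.lam k)) (S2931a.wds i) = 1 → i = 0 := by
    intro i hi
    rw [← map_wprod ψ S2931a.lam] at hi
    have h1 : spMap F φ (wprod S2931a.lam (S2931a.wds i)) ∈ Z := by
      have : QuotientGroup.mk' Z (spMap F φ (wprod S2931a.lam (S2931a.wds i))) = 1 := hi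
      rwa [QuotientGroup.mk'_apply, QuotientGroup.eq_one_iff] at this
    apply S2931a.hgker i
    rcases (hcen _).1 h1 with h | h
    · left
      apply spMap_injective F φ hφ
      rw [h, map_one]
    · right
      apply spMap_injective F φ hφ
      rw [h, spMap_negOne]
  obtain ⟨Γ, hcard, hi1, hi2⟩ := graph_subgroup S2931a.gam (fun k => ψ (S2931a.lam k))
    S2931a.wds S2931a.rho 0 S2931a.hw0 S2931a.hf hg' (fun i j h => S2931a.hfinj i j h) hgker'
  have hc1 : Nat.card ↥(alternatingGroup (Fin 8)) = 2 ^ 6 * 315 := by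
    rw [nat_card_alternatingGroup, Nat.card_fin]; rfl
  have hSp : Nat.card (Matrix.symplecticGroup (Fin 2) F) = 51840 := by
    rw [Cfsg.Agent.S0245.result hF 2]
    norm_num [Finset.prod_range_succ]
  have hZ : Nat.card Z = 2 := by
    have := Cfsg.Agent.S0246.result hF 2 (by norm_num)
    rw [this]; rfl
  have hc2 : Nat.card (Cfsg.PSp 2 F) = 2 ^ 6 * 405 := by
    have h := Subgroup.card_eq_card_quotient_mul_card_subgroup Z
    rw [hSp, hZ] at h
    show Nat.card (Matrix.symplecticGroup (Fin 2) F ⧸ Z) = _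
    omega
  obtain ⟨e1⟩ := sylow_equiv_of_injective 2 _ hi1
    (by rw [hcard, hc1, fact2 6 315 (by norm_num)]; norm_num) P
  obtain ⟨e2⟩ := sylow_equiv_of_injective 2 _ hi2
    (by rw [hcard, hc2, fact2 6 405 (by norm_num)]; norm_num) Q
  exact ⟨e1.symm.trans e2⟩

end part1

end Cfsg.Agent.Lib.H15.S2931c
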