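import Mathlib

set_option autoImplicit false

/-!
Sharply 2-transitive sets of collineations of a finite projective space do not exist in
dimension at least 3 (elementary double count on an antiflag).  Part A: points of subspaces.
-/

namespace Cfsg.Agent.Lib.H15.S2T

open Projectivization

variable {F : Type*} [Field F] {n : ℕ}

/-- the points of the projective space lying in a subspace -/
def pts (W : Submodule F (Fin n → F)) : Set (Projectivization F (Fin n → F)) :=
  {x | x.submodule ≤ W}

theorem mk_mem_pts (W : Submodule F (Fin n → F)) (v : Fin n → F) (hv : v ≠ 0) :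
    Projectivization.mk F v hv ∈ pts W ↔ v ∈ W := by
  simp [pts, Projectivization.submodule_mk, Submodule.span_singleton_le_iff_mem]

theorem range_map_subtype (W : Submodule F (Fin n → F)) :
    Set.range (Projectivization.map W.subtype W.injective_subtype) = pts W := by
  ext x
  constructor
  · rintro ⟨y, rfl⟩
    induction y using Projectivization.ind with
    | h w hw =>
      rw [Projectivization.map_mk, mk_mem_pts]
      exact w.2
  · intro hx
    induction x using Projectivization.ind with
    | h v hv =>
      rw [mk_mem_pts] at hx
      have hne : (⟨v, hx⟩ : W) ≠ 0 := by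
        intro h
        apply hv
        exact congrArg Subtype.val h
      refine ⟨Projectivization.mk F (⟨v, hx⟩ : W) hne, ?_⟩
      rw [Projectivization.map_mk]
      rfl

theorem ncard_pts [Finite F] (W : Submodule F (Fin n → F)) :
    (pts W).ncard * (Nat.card F - 1) + 1 = Nat.card W := by
  have hinj : Function.Injective (Projectivization.map W.subtype W.injective_subtype) :=
    Projectivization.map_injective W.subtype W.injective_subtype
  have h1 : (pts W).ncard = Nat.card (Projectivization F W) := by
    rw [← range_map_subtype, ← Set.image_univ, Set.ncard_image_of_injective _ hinj,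
      Set.ncard_univ]
  rw [h1]
  exact (Projectivization.card' (k := F) (V := W)).symm

theorem card_comap [Finite F] {σ : F ≃+* F} (f : (Fin n → F) →ₛₗ[(σ : F →+* F)] (Fin n → F))
    (hf : Function.Injective f) (H : Submodule F (Fin n → F)) :
    Nat.card (H.comap f) = Nat.card H := by
  have hsurj : Function.Surjective f := Finite.surjective_of_injective hf
  refine Nat.card_congr (Equiv.ofBijective
    (fun w : H.comap f => (⟨f w.1, w.2⟩ : H)) ⟨?_, ?_⟩)
  · intro a b hab
    apply Subtype.ext
    apply hf
    exact congrArg Subtype.val hab
  · rintro ⟨y, hy⟩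
    obtain ⟨w, rfl⟩ := hsurj y
    exact ⟨⟨w, hy⟩, rfl⟩

theorem card_inf_of_ne [Finite F] (hn : 2 ≤ n) (H K : Submodule F (Fin n → F))
    (hH : Nat.card H = Nat.card F ^ (n - 1)) (hK : Nat.card K = Nat.card F ^ (n - 1))
    (hne : H ≠ K) : Nat.card (H ⊓ K : Submodule F (Fin n → F)) = Nat.card F ^ (n - 2) := by
  have hq : 2 ≤ Nat.card F := by
    have := Finite.one_lt_card (α := F)
    omega
  have hfH : Module.finrank F H = n - 1 := by
    rw [Module.natCard_eq_pow_finrank (K := F)] at hH
    exact Nat.pow_right_injective hq hH
  have hfK : Module.finrank F K = n - 1 := by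
    rw [Module.natCard_eq_pow_finrank (K := F)] at hK
    exact Nat.pow_right_injective hq hK
  have hsum := Submodule.finrank_sup_add_finrank_inf_eq H K
  have hlt : H < H ⊔ K := by
    refine lt_of_le_of_ne le_sup_left ?_
    intro h
    have hKH : K ≤ H := by
      rw [h]
      exact le_sup_right
    exact hne (Submodule.eq_of_le_of_finrank_eq hKH (by rw [hfH, hfK])).symm
  have h1 := Submodule.finrank_lt_finrank_of_lt hlt
  have h2 : Module.finrank F (H ⊔ K : Submodule F (Fin n → F)) ≤ n := by
    have := Submodule.finrank_le (H ⊔ K)
    simpa using this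
  have h3 : Module.finrank F (H ⊓ K : Submodule F (Fin n → F)) = n - 2 := by omega
  rw [Module.natCard_eq_pow_finrank (K := F), h3]

end Cfsg.Agent.Lib.H15.S2T
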