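import Cfsg.Agent.Lib.H15.S2TA

set_option autoImplicit false

/-!
Sharply 2-transitive sets of collineations: the double count.
-/

namespace Cfsg.Agent.Lib.H15.S2T

open Projectivization

variable {F : Type*} [Field F] {n : ℕ}

/-- the coordinate hyperplane -/
def hyp (i : Fin n) : Submodule F (Fin n → F) :=
  LinearMap.ker (LinearMap.proj i : (Fin n → F) →ₗ[F] F)

theorem mem_hyp (i : Fin n) (v : Fin n → F) : v ∈ hyp (F := F) i ↔ v i = 0 := by
  simp [hyp, LinearMap.mem_ker]

theorem card_hyp [Finite F] (i : Fin n) :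
    Nat.card (hyp (F := F) i) = Nat.card F ^ (n - 1) := by
  have h1 := LinearMap.finrank_range_add_finrank_ker
    (LinearMap.proj i : (Fin n → F) →ₗ[F] F)
  have h2 : LinearMap.range (LinearMap.proj i : (Fin n → F) →ₗ[F] F) = ⊤ :=
    LinearMap.range_eq_top.mpr (LinearMap.proj_surjective i)
  rw [h2, finrank_top, Module.finrank_self, Module.finrank_fin_fun] at h1
  have h3 : Module.finrank F (hyp (F := F) i) = n - 1 := by
    unfold hyp
    omega
  rw [Module.natCard_eq_pow_finrank (K := F), h3]

theorem single_ne_zero (i : Fin n) : (Pi.single i (1 : F) : Fin n → F) ≠ 0 := by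
  intro h
  have := congrFun h i
  simp at this

/-- the arithmetic at the end of the count -/
theorem arith {q Q h r cA T : ℕ} (hq : 2 ≤ q) (hr : r + 1 = q) (hqQ : q ∣ Q)
    (hh : h * r + 1 = q * Q) (hA : cA * r = q * (h * r)) (hT : T = h * h * r + cA)
    (hdiv : Q ∣ T) : False := by
  have hr0 : 0 < r := by omega
  have hcA : cA = q * h := by
    have : cA * r = (q * h) * r := by rw [hA]; ring
    exact Nat.eq_of_mul_eq_mul_right hr0 this
  have hqT : q ∣ r * T := Dvd.dvd.mul_left (hqQ.trans hdiv) r
  obtain ⟨M, hM⟩ := hqQ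
  have h1 : r * T + q * (Q + 1) = q * (Q * (h * r + q)) + 1 := by
    rw [hT, hcA]
    have ha : q * Q = h * r + 1 := hh.symm
    have e1 : r * (h * h * r + q * h) = (h * r) * (h * r) + q * (h * r) := by ring
    have e2 : q * (Q * (h * r + q)) = (q * Q) * (h * r + q) := by ring
    have e3 : q * (Q + 1) = q * Q + q := by ring
    rw [e1, e2, e3, ha]
    ring
  have h2 : q ∣ r * T + q * (Q + 1) := Dvd.dvd.add hqT (Dvd.intro _ rfl)
  rw [h1] at h2
  have h3 : q ∣ 1 := (Nat.dvd_add_right (Dvd.intro _ rfl)).mp h2
  have := Nat.le_of_dvd Nat.one_pos h3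
  omega

theorem no_sharp [Finite F] (hn : 3 ≤ n) (S : Set (Equiv.Perm (Projectivization F (Fin n → F))))
    (hS : ∀ s ∈ S, ∃ (σ : F ≃+* F) (f : (Fin n → F) →ₛₗ[(σ : F →+* F)] (Fin n → F))
      (hf : Function.Injective f), ∀ x, s x = Projectivization.map f hf x)
    (hsharp : ∀ a b c d : Projectivization F (Fin n → F), a ≠ b → c ≠ d →
        ∃! s, s ∈ S ∧ s a = c ∧ s b = d) : False := by
  classical
  haveI : Finite (Projectivization F (Fin n → F)) :=
    (Projectivization.finite_iff_of_finite F (Fin n → F)).mpr inferInstance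
  haveI : Fintype (Projectivization F (Fin n → F)) := Fintype.ofFinite _
  set q := Nat.card F with hqdef
  have hq : 2 ≤ q := by
    have := Finite.one_lt_card (α := F)
    omega
  let i0 : Fin n := ⟨0, by omega⟩
  let i1 : Fin n := ⟨1, by omega⟩
  have hi01 : i1 ≠ i0 := by
    intro h
    have := congrArg Fin.val h
    simp [i0, i1] at this
  set H : Submodule F (Fin n → F) := hyp i0 with hHdef
  have hcH : Nat.card H = q ^ (n - 1) := card_hyp i0
  let p0 : Projectivization F (Fin n → F) :=
    Projectivization.mk F (Pi.single i0 (1 : F)) (single_ne_zero i0)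
  let b0 : Projectivization F (Fin n → F) :=
    Projectivization.mk F (Pi.single i1 (1 : F)) (single_ne_zero i1)
  have hp0 : p0 ∉ pts H := by
    rw [mk_mem_pts, mem_hyp]
    simp
  have hb0 : b0 ∈ pts H := by
    rw [mk_mem_pts, mem_hyp]
    simp [hi01.symm]
  -- finsets
  let A : Finset (Equiv.Perm (Projectivization F (Fin n → F))) :=
    Finset.univ.filter (fun s => s ∈ S ∧ s p0 = p0)
  let Hf : Finset (Projectivization F (Fin n → F)) := Finset.univ.filter (fun x => x ∈ pts H)
  set h := Hf.card with hhdef
  have hHf_ncard : (pts H).ncard = h := by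
    rw [hhdef, Set.ncard_eq_toFinset_card']
    congr 1
    ext x
    simp [Hf]
  have hh : h * (q - 1) + 1 = q ^ (n - 1) := by
    rw [← hHf_ncard, ← hcH]
    exact ncard_pts H
  -- uniqueness helper
  have huniq : ∀ s ∈ A, ∀ s' ∈ A, ∀ x : Projectivization F (Fin n → F), x ≠ p0 →
      s x = s' x → s = s' := by
    intro s hs s' hs' x hx hxx
    simp only [A, Finset.mem_filter, Finset.mem_univ, true_and] at hs hs'
    have hne : p0 ≠ s x := by
      intro h
      apply hx
      apply s.injective
      rw [← h, hs.2]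
    obtain ⟨t, _, ht⟩ := hsharp p0 x p0 (s x) (Ne.symm hx) hne
    rw [ht s ⟨hs.1, hs.2, rfl⟩, ht s' ⟨hs'.1, hs'.2, hxx.symm⟩]
  -- |A| = v - 1
  have hA : A.card = (Finset.univ.erase p0).card := by
    have hb0p : b0 ≠ p0 := by
      intro h
      rw [h] at hb0
      exact hp0 hb0
    refine Finset.card_bij (fun s _ => s b0) ?_ ?_ ?_
    · intro s hs
      simp only [A, Finset.mem_filter, Finset.mem_univ, true_and] at hs
      simp only [Finset.mem_erase, Finset.mem_univ, and_true]
      intro h
      apply hb0p
      apply s.injective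
      rw [h, hs.2]
    · intro s hs s' hs' hss
      exact huniq s hs s' hs' b0 hb0p hss
    · intro d hd
      simp only [Finset.mem_erase, Finset.mem_univ, and_true] at hd
      obtain ⟨s, hs, _⟩ := hsharp p0 b0 p0 d (Ne.symm hb0p) (Ne.symm hd)
      refine ⟨s, ?_, hs.2.2⟩
      simp only [A, Finset.mem_filter, Finset.mem_univ, true_and]
      exact ⟨hs.1, hs.2.1⟩
  have hv : Fintype.card (Projectivization F (Fin n → F)) * (q - 1) + 1 = q ^ n := by
    have := Projectivization.card' (k := F) (V := Fin n → F)
    rw [Nat.card_fun, Nat.card_eq_fintype_card (α := Fin n), Fintype.card_fin,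
      Nat.card_eq_fintype_card (α := Projectivization F (Fin n → F))] at this
    exact this.symm
  -- the double count
  have hcount : ∑ s ∈ A, (Hf.filter (fun x => s x ∈ pts H)).card = h * h := by
    have hswap := Finset.sum_card_bipartiteAbove_eq_sum_card_bipartiteBelow (s := A) (t := Hf)
      (fun s x => s x ∈ pts H)
    have h1 : ∀ s ∈ A, (Hf.filter (fun x => s x ∈ pts H)).card =
        (Finset.bipartiteAbove (fun s x => s x ∈ pts H) Hf s).card := by
      intro s _
      rfl
    rw [Finset.sum_congr rfl h1, hswap]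
    have h2 : ∀ x ∈ Hf, (Finset.bipartiteBelow (fun s x => s x ∈ pts H) A x).card = h := by
      intro x hx
      have hxH : x ∈ pts H := by simpa [Hf] using hx
      have hxp : x ≠ p0 := by
        intro h
        rw [h] at hxH
        exact hp0 hxH
      refine Finset.card_bij (fun s _ => s x) ?_ ?_ ?_
      · intro s hs
        simp only [Finset.bipartiteBelow, Finset.mem_filter] at hs
        simp only [Hf, Finset.mem_filter, Finset.mem_univ, true_and]
        exact hs.2
      · intro s hs s' hs' hss
        simp only [Finset.bipartiteBelow, Finset.mem_filter] at hs hs'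
        exact huniq s hs.1 s' hs'.1 x hxp hss
      · intro y hy
        have hyH : y ∈ pts H := by simpa [Hf] using hy
        have hyp : p0 ≠ y := by
          intro h
          rw [← h] at hyH
          exact hp0 hyH
        obtain ⟨s, hs, _⟩ := hsharp p0 x p0 y (Ne.symm hxp) hyp
        refine ⟨s, ?_, hs.2.2⟩
        simp only [Finset.bipartiteBelow, Finset.mem_filter, A, Finset.mem_univ, true_and]
        refine ⟨⟨hs.1, hs.2.1⟩, ?_⟩
        rw [hs.2.2]
        exact hyH
    rw [Finset.sum_congr rfl h2, Finset.sum_const, smul_eq_mul]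
  -- each term
  have hterm : ∀ s ∈ A, q ^ (n - 2) ∣ (Hf.filter (fun x => s x ∈ pts H)).card * (q - 1) + 1 := by
    intro s hs
    simp only [A, Finset.mem_filter, Finset.mem_univ, true_and] at hs
    obtain ⟨σ, f, hf, hsf⟩ := hS s hs.1
    have hset : (pts (H ⊓ H.comap f)) =
        ((Hf.filter (fun x => s x ∈ pts H) : Finset _) : Set (Projectivization F (Fin n → F))) := by
      ext x
      induction x using Projectivization.ind with
      | h v hv =>
        simp only [Finset.coe_filter, Set.mem_ofPred_eq, Hf, Finset.mem_filter, Finset.mem_univ,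
          true_and]
        rw [hsf, Projectivization.map_mk, mk_mem_pts, mk_mem_pts, mk_mem_pts]
        simp [Submodule.mem_inf, Submodule.mem_comap]
    have hc : (Hf.filter (fun x => s x ∈ pts H)).card = (pts (H ⊓ H.comap f)).ncard := by
      rw [hset, Set.ncard_coe_finset]
    rw [hc, ncard_pts]
    by_cases hHK : H = H.comap f
    · rw [← hHK, inf_idem, hcH]
      exact pow_dvd_pow q (by omega)
    · rw [card_inf_of_ne (by omega) H (H.comap f) hcH
        ((card_comap f hf H).trans hcH) hHK]
  have hsum : q ^ (n - 2) ∣ ∑ s ∈ A, ((Hf.filter (fun x => s x ∈ pts H)).card * (q - 1) + 1) :=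
    Finset.dvd_sum hterm
  rw [Finset.sum_add_distrib, ← Finset.sum_mul, hcount, Finset.sum_const, smul_eq_mul,
    mul_one] at hsum
  -- arithmetic
  have hQ1 : q ^ (n - 1) = q * q ^ (n - 2) := by
    rw [← pow_succ']
    congr 1
    omega
  have hQ2 : q ^ n = q * (q * q ^ (n - 2)) := by
    rw [← pow_succ', ← pow_succ']
    congr 1
    omega
  have hcard_erase : (Finset.univ.erase p0).card =
      Fintype.card (Projectivization F (Fin n → F)) - 1 := by
    rw [Finset.card_erase_of_mem (Finset.mem_univ _), Finset.card_univ]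
  have hvpos : 0 < Fintype.card (Projectivization F (Fin n → F)) :=
    Fintype.card_pos_iff.mpr ⟨p0⟩
  refine arith (q := q) (Q := q ^ (n - 2)) (h := h) (r := q - 1) (cA := A.card)
    (T := h * h * (q - 1) + A.card) hq (by omega) (dvd_pow_self q (by omega))
    (by rw [hh, hQ1]) ?_ rfl hsum
  -- cA * r = q * (h * r)
  rw [hA, hcard_erase]
  have e1 : (Fintype.card (Projectivization F (Fin n → F)) - 1) * (q - 1) + (q - 1) + 1 =
      q * (q * q ^ (n - 2)) := by
    rw [← hQ2, ← hv]
    have : (Fintype.card (Projectivization F (Fin n → F)) - 1) * (q - 1) + (q - 1) =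
        Fintype.card (Projectivization F (Fin n → F)) * (q - 1) := by
      conv_rhs => rw [show Fintype.card (Projectivization F (Fin n → F)) =
        (Fintype.card (Projectivization F (Fin n → F)) - 1) + 1 by omega]
      ring
    omega
  have e2 : q * (h * (q - 1)) + q = q * (q * q ^ (n - 2)) := by
    rw [← hQ1, ← hh]
    ring
  have e3 : (q - 1) + 1 = q := by omega
  omega

end Cfsg.Agent.Lib.H15.S2T
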