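import Cfsg.Agent.Lib.H9.S3571Defs

/-!
helper15: S3571 GROUP block, piece (P0): the socle `T ≃ A_m` of a primitive faithful group is
transitive.
-/

set_option autoImplicit false

namespace Cfsg.Agent.Lib.H15.S3571P0

open Cfsg.Agent.Lib.H9.S3571 Equiv

universe u v

/-- (P0) the socle is transitive. -/
theorem p0 : P0Stmt.{u, v} := by
  intro G Ω _ _ _ _ _ T hT m hm eT hprim hΩ
  have := hT
  have := hprim
  apply MulAction.IsQuasiPreprimitive.isPretransitive_of_normal (N := T)
  intro hfix
  have hT1 : T = ⊥ := by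
    rw [Subgroup.eq_bot_iff_forall]
    intro t ht
    apply FaithfulSMul.eq_of_smul_eq_smul (α := Ω)
    intro ω
    have h1 : ω ∈ MulAction.fixedPoints (↥T) Ω := by rw [hfix]; trivial
    have h2 := h1 ⟨t, ht⟩
    rw [one_smul]
    exact h2
  have hcard : Nat.card ↥T = Nat.card ↥(alternatingGroup (Fin m)) := Nat.card_congr eT.toEquiv
  rw [hT1] at hcard
  have : Nontrivial ↥(alternatingGroup (Fin m)) :=
    alternatingGroup.nontrivial_of_three_le_card (by rw [Nat.card_fin]; omega)
  have h3 : 1 < Nat.card ↥(alternatingGroup (Fin m)) := Finite.one_lt_card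
  rw [← hcard] at h3
  simp at h3

end Cfsg.Agent.Lib.H15.S3571P0
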