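import Cfsg.Agent.Lib.H9.S3571Defs

/-!
helper15: S3571 GROUP block, piece (TR2): pulling the permutation-level conclusion back to `G`.
-/

set_option autoImplicit false

namespace Cfsg.Agent.Lib.H15.S3571TR2

open Cfsg.Agent.Lib.H9.S3571 Equiv

universe u v

/-- (TR2) pulling the permutation-level conclusion back to `G`. -/
theorem tr2 : TR2Stmt.{u, v} := by
  intro G Ω _ _ _ _ T m eT htr r ψ hψ hψT ω hP
  obtain ⟨t, htA, hto, hconj⟩ := hP
  have hψg : ψ ((eT.symm ⟨t, htA⟩ : ↥T) : G) = t := by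
    rw [hψT (eT.symm ⟨t, htA⟩), MulEquiv.apply_symm_apply]
  refine ⟨((eT.symm ⟨t, htA⟩ : ↥T) : G), ?_, ?_⟩
  · have h1 := orderOf_injective ψ hψ ((eT.symm ⟨t, htA⟩ : ↥T) : G)
    rw [hψg] at h1
    rw [← h1, hto]
  · intro ω' hfix
    obtain ⟨h, rfl⟩ := MulAction.exists_smul_eq G ω ω'
    have hmem : h⁻¹ * ((eT.symm ⟨t, htA⟩ : ↥T) : G) * h ∈ MulAction.stabilizer G ω := by
      rw [MulAction.mem_stabilizer_iff, mul_smul, mul_smul, hfix, inv_smul_smul]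
    have hin : (ψ h)⁻¹ * t * ψ h ∈ (MulAction.stabilizer G ω).map ψ := by
      refine ⟨h⁻¹ * ((eT.symm ⟨t, htA⟩ : ↥T) : G) * h, hmem, ?_⟩
      rw [map_mul, map_mul, map_inv, hψg]
    exact hconj (ψ h) ⟨h, rfl⟩ hin

end Cfsg.Agent.Lib.H15.S3571TR2
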