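import Cfsg.Agent.Lib.H9.S3776Defs
import Cfsg.Agent.Lib.H15.IdemTrans

/-!
# S3776 piece (14) R2: `J = K` (helper15)

Route of helper9's frame 3/3 (R2): the layer maps `ph g : V → V`, `[k,g] = ph g (k²)`; if `J` has an element
`j` with `j⁴ ≠ 1` every `ph g` is idempotent; `IdemTrans.zero_or_id` makes every `ph g` trivial or the identity,
so `|G : J| = 2`; an averaging argument gives an `E`-fixed point outside `J`, against `Frame.fix`.
-/

set_option autoImplicit false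

namespace Cfsg.Agent.H15.S3776R2

open Cfsg.Agent.Lib.H9.S3776

universe u

variable {G E : Type u} [Group G] [Group E] {φ : E →* MulAut G} {V K J : Subgroup G}

/-- `[k,g] ∈ V` for `k ∈ K` -/
theorem comm_mem (R : Resid φ V K) {k : G} (hk : k ∈ K) (g : G) : k * g * k⁻¹ * g⁻¹ ∈ V :=
  ((R.kd.mem k).1 hk).2 g

theorem sq_mem (R : Resid φ V K) {k : G} (hk : k ∈ K) : k ^ 2 ∈ V := ((R.kd.mem k).1 hk).1

theorem V_sq (R : Resid φ V K) {v : G} (hv : v ∈ V) : v * v = 1 := by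
  have := (R.fr.mem v).1 hv
  rwa [pow_two] at this

/-- FACT: an element of `J` whose square is in `V` lies in `K` -/
theorem mem_K_of_sq (R : Resid φ V K) (JD : JData φ K J) {x : G} (hx : x ∈ J) (hx2 : x ^ 2 ∈ V) :
    x ∈ K := by
  obtain ⟨z, hzK, hz⟩ := R.sq (x ^ 2) hx2
  have hc : x * z = z * x := (JD.mem x).1 hx z hzK
  have h1 : (x * z⁻¹) ^ 2 = 1 := by
    have hc' : z⁻¹ * x = x * z⁻¹ := by
      calc z⁻¹ * x = z⁻¹ * (x * z) * z⁻¹ := by group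
        _ = z⁻¹ * (z * x) * z⁻¹ := by rw [hc]
        _ = x * z⁻¹ := by group
    calc (x * z⁻¹) ^ 2 = x * (z⁻¹ * x) * z⁻¹ := by rw [pow_two]; group
      _ = x * (x * z⁻¹) * z⁻¹ := by rw [hc']
      _ = x ^ 2 * (z ^ 2)⁻¹ := by rw [pow_two, pow_two]; group
      _ = 1 := by rw [hz, mul_inv_cancel]
  have h2 : x * z⁻¹ ∈ K := R.kd.VK ((R.fr.mem _).2 h1)
  have : x = (x * z⁻¹) * z := by group
  rw [this]
  exact K.mul_mem h2 hzK

/-- `g² ∈ J` -/
theorem sq_mem_J (R : Resid φ V K) (JD : JData φ K J) (g : G) : g ^ 2 ∈ J := by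
  rw [JD.mem]
  intro k hk
  set c := k * g * k⁻¹ * g⁻¹ with hc
  have hcV : c ∈ V := comm_mem R hk g
  have hcc : c * c = 1 := V_sq R hcV
  have hcg : g * c = c * g := R.fr.cen c hcV g
  have h1 : k * g = c * g * k := by rw [hc]; group
  calc g ^ 2 * k = g * g * k := by rw [pow_two]
    _ = (c * c) * g * g * k := by rw [hcc, one_mul]
    _ = c * (c * g) * g * k := by group
    _ = c * (g * c) * g * k := by rw [hcg]
    _ = c * g * (c * g * k) := by group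
    _ = c * g * (k * g) := by rw [h1]
    _ = (c * g * k) * g := by group
    _ = k * g * g := by rw [← h1]
    _ = k * g ^ 2 := by rw [pow_two]; group

/-- a chosen square root in `K` of an element of `V` -/
noncomputable def rt (R : Resid φ V K) (v : V) : G := (R.sq v.1 v.2).choose

theorem rt_mem (R : Resid φ V K) (v : V) : rt R v ∈ K := (R.sq v.1 v.2).choose_spec.1

theorem rt_sq (R : Resid φ V K) (v : V) : rt R v ^ 2 = v.1 := (R.sq v.1 v.2).choose_spec.2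

/-- the layer map -/
noncomputable def ph (R : Resid φ V K) (g : G) (v : V) : V :=
  ⟨rt R v * g * (rt R v)⁻¹ * g⁻¹, comm_mem R (rt_mem R v) g⟩

/-- `ph` does not depend on the chosen root -/
theorem ph_eq (R : Resid φ V K) (g : G) (v : V) {k : G} (hk : k ∈ K) (hk2 : k ^ 2 = v.1) :
    (ph R g v : G) = k * g * k⁻¹ * g⁻¹ := by
  set r := rt R v with hr
  have hrK : r ∈ K := rt_mem R v
  have hr2 : r ^ 2 = v.1 := rt_sq R v
  have hcomm : k * r⁻¹ = r⁻¹ * k := by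
    have := R.ab k hk r hrK
    calc k * r⁻¹ = r⁻¹ * (r * k) * r⁻¹ := by group
      _ = r⁻¹ * (k * r) * r⁻¹ := by rw [this]
      _ = r⁻¹ * k := by group
  have h1 : (k * r⁻¹) ^ 2 = 1 := by
    calc (k * r⁻¹) ^ 2 = k * (r⁻¹ * k) * r⁻¹ := by rw [pow_two]; group
      _ = k * (k * r⁻¹) * r⁻¹ := by rw [hcomm]
      _ = k ^ 2 * (r ^ 2)⁻¹ := by rw [pow_two, pow_two]; group
      _ = 1 := by rw [hk2, hr2, mul_inv_cancel]
  have huV : k * r⁻¹ ∈ V := (R.fr.mem _).2 h1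
  set u := k * r⁻¹ with hu
  have hku : k = u * r := by rw [hu]; group
  have hug : ∀ x : G, x * u = u * x := fun x => R.fr.cen u huV x
  show r * g * r⁻¹ * g⁻¹ = k * g * k⁻¹ * g⁻¹
  rw [hku]
  calc r * g * r⁻¹ * g⁻¹ = u * (r * g * r⁻¹) * u⁻¹ * g⁻¹ := by
        have := hug (r * g * r⁻¹)
        calc r * g * r⁻¹ * g⁻¹ = (r * g * r⁻¹ * u) * u⁻¹ * g⁻¹ := by group
          _ = (u * (r * g * r⁻¹)) * u⁻¹ * g⁻¹ := by rw [this]
          _ = u * (r * g * r⁻¹) * u⁻¹ * g⁻¹ := by group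
    _ = u * r * g * (u * r)⁻¹ * g⁻¹ := by group


theorem ph_mul_right (R : Resid φ V K) (g : G) (v v' : V) :
    ph R g (v * v') = ph R g v * ph R g v' := by
  apply Subtype.ext
  set r := rt R v with hr
  set r' := rt R v' with hr'
  have hrK : r ∈ K := rt_mem R v
  have hr'K : r' ∈ K := rt_mem R v'
  have hsq : (r * r') ^ 2 = (v * v' : V).1 := by
    have hc := R.ab r' hr'K r hrK
    calc (r * r') ^ 2 = r * (r' * r) * r' := by rw [pow_two]; group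
      _ = r * (r * r') * r' := by rw [hc]
      _ = r ^ 2 * r' ^ 2 := by rw [pow_two, pow_two]; group
      _ = (v * v' : V).1 := by rw [rt_sq R v, rt_sq R v']; rfl
  rw [ph_eq R g (v * v') (K.mul_mem hrK hr'K) hsq]
  set c' := r' * g * r'⁻¹ * g⁻¹ with hc'
  have hc'V : c' ∈ V := comm_mem R hr'K g
  have hcen : r * c' = c' * r := R.fr.cen c' hc'V r
  show r * r' * g * (r * r')⁻¹ * g⁻¹ = (r * g * r⁻¹ * g⁻¹) * c'
  have hcen2 : (r * g * r⁻¹ * g⁻¹) * c' = c' * (r * g * r⁻¹ * g⁻¹) :=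
    R.fr.cen c' hc'V _
  rw [hcen2]
  calc r * r' * g * (r * r')⁻¹ * g⁻¹ = (r * c') * g * r⁻¹ * g⁻¹ := by rw [hc']; group
    _ = (c' * r) * g * r⁻¹ * g⁻¹ := by rw [hcen]
    _ = c' * (r * g * r⁻¹ * g⁻¹) := by group

theorem ph_mul_left (R : Resid φ V K) (g h : G) (v : V) :
    ph R (g * h) v = ph R g v * ph R h v := by
  apply Subtype.ext
  set r := rt R v with hr
  have hrK : r ∈ K := rt_mem R v
  set ch := r * h * r⁻¹ * h⁻¹ with hch
  have hchV : ch ∈ V := comm_mem R hrK h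
  have hcen : g * ch = ch * g := R.fr.cen ch hchV g
  show r * (g * h) * r⁻¹ * (g * h)⁻¹ = (r * g * r⁻¹ * g⁻¹) * ch
  calc r * (g * h) * r⁻¹ * (g * h)⁻¹ = (r * g * r⁻¹ * g⁻¹) * (g * ch) * g⁻¹ := by rw [hch]; group
    _ = (r * g * r⁻¹ * g⁻¹) * (ch * g) * g⁻¹ := by rw [hcen]
    _ = (r * g * r⁻¹ * g⁻¹) * ch := by group

theorem ph_equiv (R : Resid φ V K) (e : E) (g : G) (v : V) :
    φ e (ph R g v : G) = (ph R (φ e g) ⟨φ e v.1, R.fr.inv e v.1 v.2⟩ : G) := by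
  set r := rt R v with hr
  have hrK : r ∈ K := rt_mem R v
  have hk : φ e r ∈ K := R.kd.inv e r hrK
  have hk2 : (φ e r) ^ 2 = (⟨φ e v.1, R.fr.inv e v.1 v.2⟩ : V).1 := by
    rw [← map_pow, rt_sq R v]
  rw [ph_eq R (φ e g) _ hk hk2]
  show φ e (r * g * r⁻¹ * g⁻¹) = _
  simp only [map_mul, map_inv]

theorem ph_trivial_iff (R : Resid φ V K) (JD : JData φ K J) (g : G) :
    g ∈ J ↔ ∀ v : V, ph R g v = 1 := by
  constructor
  · intro hg v
    apply Subtype.ext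
    have := (JD.mem g).1 hg (rt R v) (rt_mem R v)
    show rt R v * g * (rt R v)⁻¹ * g⁻¹ = 1
    calc rt R v * g * (rt R v)⁻¹ * g⁻¹ = (g * rt R v)⁻¹⁻¹ * (rt R v)⁻¹ * g⁻¹ := by
          rw [inv_inv, this]
      _ = 1 := by group
  · intro h
    rw [JD.mem]
    intro k hk
    have hk2 : k ^ 2 ∈ V := sq_mem R hk
    have h1 := ph_eq R g ⟨k ^ 2, hk2⟩ hk rfl
    rw [h ⟨k ^ 2, hk2⟩] at h1
    have h2 : k * g * k⁻¹ * g⁻¹ = 1 := h1.symm
    calc g * k = (k * g * k⁻¹ * g⁻¹)⁻¹ * k * g := by group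
      _ = k * g := by rw [h2]; group


/-- an element of order exactly 8 in `J` -/
theorem exists_order_eight (R : Resid φ V K) {j0 : G} (hj0 : j0 ∈ J) (h4 : j0 ^ 4 ≠ 1) :
    ∃ j ∈ J, j ^ 4 ∈ V ∧ j ^ 4 ≠ 1 := by
  classical
  have hex : ∃ r : ℕ, j0 ^ (2 ^ r) = 1 := R.hyp.pG j0
  set r := Nat.find hex with hr
  have hr1 : j0 ^ (2 ^ r) = 1 := Nat.find_spec hex
  have hmin : ∀ s, s < r → j0 ^ (2 ^ s) ≠ 1 := fun s hs => Nat.find_min hex hs
  have hr3 : 3 ≤ r := by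
    by_contra hlt
    push Not at hlt
    apply h4
    have : (4 : ℕ) = 2 ^ r * 2 ^ (2 - r) := by
      rw [← pow_add]
      have : r + (2 - r) = 2 := by omega
      rw [this]; norm_num
    rw [this, pow_mul, hr1, one_pow]
  refine ⟨j0 ^ (2 ^ (r - 3)), J.pow_mem hj0 _, ?_, ?_⟩
  · rw [R.fr.mem, ← pow_mul, ← pow_mul]
    have : 2 ^ (r - 3) * 4 * 2 = 2 ^ r := by
      have h8 : (4 : ℕ) * 2 = 2 ^ 3 := by norm_num
      rw [mul_assoc, h8, ← pow_add]
      congr 1; omega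
    rw [mul_assoc] at this
    rw [this, hr1]
  · rw [← pow_mul]
    have : 2 ^ (r - 3) * 4 = 2 ^ (r - 1) := by
      have h4' : (4 : ℕ) = 2 ^ 2 := by norm_num
      rw [h4', ← pow_add]
      congr 1; omega
    rw [this]
    exact hmin (r - 1) (by omega)

/-- if `J` has an element `j` with `j⁴ ≠ 1` then every element of `V` is a fourth power in `J` -/
theorem fourth_surj (R : Resid φ V K) (JD : JData φ K J) {j0 : G} (hj0 : j0 ∈ J) (h4 : j0 ^ 4 ≠ 1) :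
    ∀ v ∈ V, ∃ j ∈ J, j ^ 4 = v := by
  obtain ⟨j1, hj1, hj1V, hj1ne⟩ := exists_order_eight R hj0 h4
  let W : Subgroup G :=
    { carrier := {v | v ∈ V ∧ ∃ j ∈ J, j ^ 4 = v}
      mul_mem' := by
        rintro a b ⟨ha, j, hj, rfl⟩ ⟨hb, j', hj', rfl⟩
        refine ⟨V.mul_mem ha hb, j * j', J.mul_mem hj hj', ?_⟩
        exact (show Commute j j' from JD.ab j hj j' hj').mul_pow 4
      one_mem' := ⟨V.one_mem, 1, J.one_mem, one_pow 4⟩
      inv_mem' := by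
        rintro a ⟨ha, j, hj, rfl⟩
        exact ⟨V.inv_mem ha, j⁻¹, J.inv_mem hj, inv_pow j 4⟩ }
  have hWV : W ≤ V := fun v hv => hv.1
  have hWinv : Inv φ W := by
    rintro e v ⟨hv, j, hj, rfl⟩
    exact ⟨R.fr.inv e _ hv, φ e j, JD.inv e j hj, (map_pow (φ e) j 4).symm⟩
  rcases R.fr.irr W hWV hWinv with h | h
  · exfalso
    have : j1 ^ 4 ∈ W := ⟨hj1V, j1, hj1, rfl⟩
    rw [h, Subgroup.mem_bot] at this
    exact hj1ne this
  · intro v hv
    have : v ∈ W := h ▸ hv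
    exact this.2

/-- idempotency of the layer maps -/
theorem ph_idem (R : Resid φ V K) (JD : JData φ K J) (hsurj : ∀ v ∈ V, ∃ j ∈ J, j ^ 4 = v)
    (g : G) (v : V) : ph R g (ph R g v) = ph R g v := by
  obtain ⟨j, hj, hj4⟩ := hsurj v.1 v.2
  have hj2J : j ^ 2 ∈ J := J.pow_mem hj 2
  have hj22 : (j ^ 2) ^ 2 = v.1 := by rw [← pow_mul]; exact hj4
  have hj2K : j ^ 2 ∈ K := mem_K_of_sq R JD hj2J (hj22 ▸ v.2)
  set t := g * j⁻¹ * g⁻¹ with ht
  have htJ : t ∈ J := JD.nor.conj_mem j⁻¹ (J.inv_mem hj) g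
  set w := j * g * j⁻¹ * g⁻¹ with hw
  have hwt : w = j * t := by rw [hw, ht]; group
  have hwJ : w ∈ J := hwt ▸ J.mul_mem hj htJ
  have hjt : j * t = t * j := JD.ab j hj t htJ
  have hw2 : w ^ 2 = j ^ 2 * g * (j ^ 2)⁻¹ * g⁻¹ := by
    calc w ^ 2 = j * (t * j) * t := by rw [hwt, pow_two]; group
      _ = j * (j * t) * t := by rw [hjt]
      _ = j ^ 2 * g * (j ^ 2)⁻¹ * g⁻¹ := by rw [ht, pow_two]; group
  have hph1 : (ph R g v : G) = j ^ 2 * g * (j ^ 2)⁻¹ * g⁻¹ := ph_eq R g v hj2K hj22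
  have hw2' : w ^ 2 = (ph R g v : G) := hw2.trans hph1.symm
  have hwK : w ∈ K := mem_K_of_sq R JD hwJ (hw2' ▸ (ph R g v).2)
  have hph2 : (ph R g (ph R g v) : G) = w * g * w⁻¹ * g⁻¹ := ph_eq R g (ph R g v) hwK hw2'
  set w' := w * g * w⁻¹ * g⁻¹ with hw'
  have hg2 : g ^ 2 ∈ J := sq_mem_J R JD g
  have hcomm : g ^ 2 * j = j * g ^ 2 := JD.ab _ hg2 j hj
  have h1 : g ^ 2 * j * (g ^ 2)⁻¹ = w⁻¹ * w' * w⁻¹ * j := by
    rw [hw', hw, pow_two]; group
  have h2 : g ^ 2 * j * (g ^ 2)⁻¹ = j := by rw [hcomm]; group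
  have h3 : w⁻¹ * w' * w⁻¹ = 1 := by
    have : w⁻¹ * w' * w⁻¹ * j = j := h1.symm.trans h2
    calc w⁻¹ * w' * w⁻¹ = (w⁻¹ * w' * w⁻¹ * j) * j⁻¹ := by group
      _ = 1 := by rw [this, mul_inv_cancel]
  have h4 : w' = w ^ 2 := by
    calc w' = w * (w⁻¹ * w' * w⁻¹) * w := by group
      _ = w ^ 2 := by rw [h3, pow_two]; group
  apply Subtype.ext
  rw [hph2, h4, hw2']


/-- multiplicative form of `IdemTrans.zero_or_id` -/
theorem zero_or_id_mul {W : Type u} [CommGroup W] [Finite W] (Tt Ee : Set (W → W))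
    (two : ∀ v : W, v * v = 1)
    (add : ∀ ψ ∈ Tt, ∀ x y : W, ψ (x * y) = ψ x * ψ y)
    (idem : ∀ ψ ∈ Tt, ∀ x : W, ψ (ψ x) = ψ x)
    (sum : ∀ ψ ∈ Tt, ∀ ψ' ∈ Tt, ∃ χ ∈ Tt, ∀ x : W, χ x = ψ x * ψ' x)
    (eadd : ∀ e ∈ Ee, ∀ x y : W, e (x * y) = e x * e y)
    (norm : ∀ e ∈ Ee, ∀ ψ ∈ Tt, ∃ ψ' ∈ Tt, ∀ x : W, ψ (e x) = e (ψ' x))
    (trans : ∀ v w : W, v ≠ 1 → w ≠ 1 → ∃ e ∈ Ee, e v = w) :
    ∀ ψ ∈ Tt, (∀ v : W, ψ v = 1) ∨ (∀ v : W, ψ v = v) :=
  Cfsg.Agent.H15.IdemTrans.zero_or_id (V := Additive W) (Tt := Tt) (Ee := Ee)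
    ⟨two, add, idem, sum, eadd, norm, trans⟩

/-- every layer map is trivial or the identity, if `J` has an element `j` with `j⁴ ≠ 1` -/
theorem ph_dichotomy [Finite G] (R : Resid φ V K) (JD : JData φ K J)
    (hsurj : ∀ v ∈ V, ∃ j ∈ J, j ^ 4 = v) (g : G) :
    (∀ v : V, ph R g v = 1) ∨ (∀ v : V, ph R g v = v) := by
  letI : CommGroup ↥V :=
    { (inferInstance : Group ↥V) with
      mul_comm := fun a b => Subtype.ext (R.fr.cen a.1 a.2 b.1).symm }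
  let Tt : Set (↥V → ↥V) := {ψ | ∃ g : G, ψ = ph R g}
  let Ee : Set (↥V → ↥V) := {ε | ∃ e : E, ε = fun v => ⟨φ e v.1, R.fr.inv e v.1 v.2⟩}
  refine zero_or_id_mul Tt Ee ?_ ?_ ?_ ?_ ?_ ?_ ?_ (ph R g) ⟨g, rfl⟩
  · intro v
    exact Subtype.ext (V_sq R v.2)
  · rintro ψ ⟨g, rfl⟩ x y
    exact ph_mul_right R g x y
  · rintro ψ ⟨g, rfl⟩ x
    exact ph_idem R JD hsurj g x
  · rintro ψ ⟨g, rfl⟩ ψ' ⟨h, rfl⟩
    exact ⟨ph R (g * h), ⟨g * h, rfl⟩, fun x => ph_mul_left R g h x⟩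
  · rintro ε ⟨e, rfl⟩ x y
    exact Subtype.ext (map_mul (φ e) x.1 y.1)
  · rintro ε ⟨e, rfl⟩ ψ ⟨g, rfl⟩
    refine ⟨ph R (φ e⁻¹ g), ⟨_, rfl⟩, fun x => ?_⟩
    apply Subtype.ext
    have h1 := ph_equiv R e (φ e⁻¹ g) x
    have h2 : φ e (φ e⁻¹ g) = g := by
      rw [← MulAut.mul_apply, ← map_mul, mul_inv_cancel, map_one]; rfl
    rw [h2] at h1
    exact h1.symm
  · intro v w hv hw
    obtain ⟨e, he⟩ := R.fr.trans v.1 w.1 v.2 w.2
      (fun h => hv (Subtype.ext h)) (fun h => hw (Subtype.ext h))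
    exact ⟨_, ⟨e, rfl⟩, Subtype.ext he⟩


/-- `J` has exponent dividing 4 -/
theorem exp_four [Finite G] [Finite E] (R : Resid φ V K) (JD : JData φ K J) :
    ∀ j ∈ J, j ^ 4 = 1 := by
  classical
  by_contra hcon
  push Not at hcon
  obtain ⟨j0, hj0, h4⟩ := hcon
  have hsurj := fourth_surj R JD hj0 h4
  have hdich := ph_dichotomy R JD hsurj
  -- an element outside `J`
  have hex : ∃ g0 : G, g0 ∉ J := by
    by_contra h
    push Not at h
    exact JD.ne ((Subgroup.eq_top_iff' J).2 h)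
  obtain ⟨g0, hg0⟩ := hex
  have hid : ∀ g : G, g ∉ J → ∀ v : V, ph R g v = v := by
    intro g hg
    rcases hdich g with h | h
    · exact absurd ((ph_trivial_iff R JD g).2 h) hg
    · exact h
  have hg0inv : g0⁻¹ ∉ J := fun h => hg0 (by simpa using J.inv_mem h)
  have hmem : ∀ e : E, g0⁻¹ * φ e g0 ∈ J := by
    intro e
    have he : φ e g0 ∉ J := by
      intro h
      have h1 := JD.inv e⁻¹ _ h
      have h2 : φ e⁻¹ (φ e g0) = g0 := by
        rw [← MulAut.mul_apply, ← map_mul, inv_mul_cancel, map_one]; rfl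
      rw [h2] at h1
      exact hg0 h1
    rw [ph_trivial_iff R JD]
    intro v
    rw [ph_mul_left, hid _ hg0inv v, hid _ he v]
    exact Subtype.ext (V_sq R v.2)
  -- averaging
  letI : CommGroup ↥J :=
    { (inferInstance : Group ↥J) with
      mul_comm := fun a b => Subtype.ext (JD.ab a.1 a.2 b.1 b.2) }
  haveI : Fintype E := Fintype.ofFinite E
  let jj : E → ↥J := fun e => ⟨g0⁻¹ * φ e g0, hmem e⟩
  let aJ : E → (↥J →* ↥J) := fun e =>
    { toFun := fun x => ⟨φ e x.1, JD.inv e x.1 x.2⟩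
      map_one' := Subtype.ext (map_one (φ e))
      map_mul' := fun x y => Subtype.ext (map_mul (φ e) x.1 y.1) }
  have hcoc : ∀ e f : E, jj (e * f) = jj e * aJ e (jj f) := by
    intro e f
    apply Subtype.ext
    show g0⁻¹ * φ (e * f) g0 = (g0⁻¹ * φ e g0) * φ e (g0⁻¹ * φ f g0)
    rw [map_mul, MulAut.mul_apply, map_mul (φ e), map_inv]
    group
  set P : ↥J := ∏ f : E, jj f with hPdef
  set N := Fintype.card E with hN
  have hP : ∀ e : E, P = jj e ^ N * aJ e P := by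
    intro e
    calc P = ∏ f : E, jj (e * f) := (Equiv.prod_comp (Equiv.mulLeft e) jj).symm
      _ = ∏ f : E, (jj e * aJ e (jj f)) := Finset.prod_congr rfl (fun f _ => hcoc e f)
      _ = (∏ _f : E, jj e) * ∏ f : E, aJ e (jj f) := Finset.prod_mul_distrib
      _ = jj e ^ N * aJ e P := by
        rw [Finset.prod_const, Finset.card_univ, map_prod]
  have hcop : (Nat.card ↥J).Coprime N := by
    haveI : Fact (Nat.Prime 2) := ⟨Nat.prime_two⟩
    obtain ⟨a, ha⟩ := (IsPGroup.iff_card (p := 2) (G := ↥J)).1 (R.hyp.pG.to_subgroup J)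
    rw [ha]
    apply Nat.Coprime.pow_left
    have hodd : Odd N := by rw [hN, ← Nat.card_eq_fintype_card]; exact R.hyp.odd
    exact hodd.coprime_two_left
  let pw : ↥J ≃ ↥J := powCoprime hcop
  have hpw : ∀ x : ↥J, pw x = x ^ N := fun x => rfl
  set u : ↥J := pw.symm P with hu
  have huN : u ^ N = P := by rw [← hpw, hu, Equiv.apply_symm_apply]
  have hau : ∀ e : E, aJ e u = (jj e)⁻¹ * u := by
    intro e
    apply pw.injective
    rw [hpw, hpw, ← map_pow, huN, mul_pow, inv_pow, huN]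
    have := hP e
    calc aJ e P = (jj e ^ N)⁻¹ * (jj e ^ N * aJ e P) := by group
      _ = (jj e ^ N)⁻¹ * P := by rw [← this]
  have hfix : ∀ e : E, φ e (g0 * u.1) = g0 * u.1 := by
    intro e
    have h1 : φ e u.1 = ((jj e)⁻¹ * u : ↥J).1 := congrArg Subtype.val (hau e)
    have h2 : ((jj e)⁻¹ * u : ↥J).1 = (g0⁻¹ * φ e g0)⁻¹ * u.1 := rfl
    rw [map_mul, h1, h2]
    group
  have h1 := R.fr.fix _ hfix
  apply hg0
  have : g0 = (u.1)⁻¹ := by
    calc g0 = (g0 * u.1) * (u.1)⁻¹ := by group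
      _ = (u.1)⁻¹ := by rw [h1, one_mul]
  rw [this]
  exact J.inv_mem u.2

/-- **(R2)** `J = K` -/
theorem r2 : R2Stmt.{u} := by
  intro G E _ _ _ _ φ V K J R JD
  apply le_antisymm
  · intro x hx
    have h4 := exp_four R JD x hx
    apply mem_K_of_sq R JD hx
    rw [R.fr.mem, ← pow_mul]
    exact h4
  · exact JD.KJ

example : R2Stmt.{0} := r2

end Cfsg.Agent.H15.S3776R2
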