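import Cfsg.Agent.Lib.H5.S3777P1Defs

/-!
# S3777 (Vaughan-Lee), piece (S1) = structure of `G/M'` (helper15)

`M` normal of prime index, `N := ⁅M, M⁆`, `A := AA M` = the elements of `M` central modulo `N`.
For `y` with `M ⊔ zpowers y = ⊤`: `m ↦ ⁅m, y⁆ N` is a homomorphism `M → G/N` with kernel `A`
and image `G'/N`; `C_G(y) ≤ A ⊔ zpowers y`; `|G : C_G(y)| = |M : A| * |A : C_A(y)|`.
`s1 : S1Stmt` is the exact cut shape of `Lib/H5/S3777P1Defs`.
-/

set_option autoImplicit false

namespace Cfsg.Agent.H15.S3777B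

open Subgroup
open scoped commutatorElement

universe u

section
variable {G : Type*} [Group G]

/-- `A(M)`: the elements of `M` that are central modulo `⁅M, M⁆`. -/
def AA (M : Subgroup G) [M.Normal] : Subgroup G :=
  M ⊓ (Subgroup.center (G ⧸ ⁅M, M⁆)).comap (QuotientGroup.mk' ⁅M, M⁆)

theorem mem_AA (M : Subgroup G) [M.Normal] (g : G) :
    g ∈ AA M ↔ g ∈ M ∧ ∀ x : G, ⁅g, x⁆ ∈ ⁅M, M⁆ := by
  unfold AA
  rw [Subgroup.mem_inf, Subgroup.mem_comap, Subgroup.mem_center_iff]
  refine and_congr Iff.rfl ⟨fun h x => ?_, fun h q => ?_⟩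
  · rw [← QuotientGroup.eq_one_iff, ← QuotientGroup.mk'_apply, map_commutatorElement,
      commutatorElement_eq_one_iff_mul_comm]
    exact (h _).symm
  · obtain ⟨x, rfl⟩ := QuotientGroup.mk'_surjective ⁅M, M⁆ q
    have := h x
    rw [← QuotientGroup.eq_one_iff, ← QuotientGroup.mk'_apply, map_commutatorElement,
      commutatorElement_eq_one_iff_mul_comm] at this
    exact this.symm

instance AA_normal (M : Subgroup G) [M.Normal] : (AA M).Normal := by
  unfold AA
  infer_instance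

theorem AA_le (M : Subgroup G) [M.Normal] : AA M ≤ M := inf_le_left

theorem comm_le_AA (M : Subgroup G) [M.Normal] : ⁅M, M⁆ ≤ AA M := by
  intro n hn
  rw [mem_AA]
  refine ⟨Subgroup.commutator_le_left M M hn, fun x => ?_⟩
  have h1 : x * n⁻¹ * x⁻¹ ∈ ⁅M, M⁆ :=
    (inferInstance : (⁅M, M⁆).Normal).conj_mem _ (inv_mem hn) x
  have : ⁅n, x⁆ = n * (x * n⁻¹ * x⁻¹) := by rw [commutatorElement_def]; group
  rw [this]
  exact mul_mem hn h1

/-- Key lemma: for `y` with `M ⊔ zpowers y = ⊤` and `m ∈ M`: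
`m ∈ A ↔ ⁅m, y⁆ ∈ ⁅M, M⁆`. -/
theorem mem_AA_iff_of_sup (M : Subgroup G) [M.Normal] {y : G}
    (hy : M ⊔ Subgroup.zpowers y = ⊤) {m : G} (hm : m ∈ M) :
    m ∈ AA M ↔ ⁅m, y⁆ ∈ ⁅M, M⁆ := by
  refine ⟨fun h => ((mem_AA M m).1 h).2 y, fun h => ?_⟩
  rw [mem_AA]
  refine ⟨hm, ?_⟩
  -- the set of x with ⁅m,x⁆ ∈ N is a subgroup containing M and y
  let π := QuotientGroup.mk' ⁅M, M⁆
  let C : Subgroup G := (Subgroup.centralizer {π m}).comap π
  have hC : ∀ x, x ∈ C ↔ ⁅m, x⁆ ∈ ⁅M, M⁆ := by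
    intro x
    show π x ∈ Subgroup.centralizer {π m} ↔ _
    rw [Subgroup.mem_centralizer_singleton_iff, ← QuotientGroup.eq_one_iff,
      ← QuotientGroup.mk'_apply, map_commutatorElement, commutatorElement_eq_one_iff_mul_comm]
    exact eq_comm
  have hMC : M ≤ C := fun x hx => (hC x).2 (Subgroup.commutator_mem_commutator hm hx)
  have hyC : Subgroup.zpowers y ≤ C := by
    rw [Subgroup.zpowers_le]; exact (hC y).2 h
  have : C = ⊤ := top_le_iff.1 (hy ▸ sup_le hMC hyC)
  intro x
  exact (hC x).1 (this ▸ Subgroup.mem_top x)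

theorem comm_mem_of_mem (M : Subgroup G) [M.Normal] {m : G} (hm : m ∈ M) (y : G) :
    ⁅m, y⁆ ∈ M := by
  have : ⁅m, y⁆ = m * (y * m⁻¹ * y⁻¹) := by rw [commutatorElement_def]; group
  rw [this]
  exact mul_mem hm ((inferInstance : M.Normal).conj_mem _ (inv_mem hm) y)

/-- modulo `⁅M,M⁆` conjugation by an element of `M` fixes elements of `M`. -/
theorem mk_conj_eq (M : Subgroup G) [M.Normal] {a c : G} (ha : a ∈ M) (hc : c ∈ M) :
    (QuotientGroup.mk' ⁅M, M⁆) (a * c * a⁻¹) = (QuotientGroup.mk' ⁅M, M⁆) c := by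
  have h : a * c * a⁻¹ = ⁅a, c⁆ * c := by rw [commutatorElement_def]; group
  rw [h, map_mul]
  have : (QuotientGroup.mk' ⁅M, M⁆) ⁅a, c⁆ = 1 := by
    rw [QuotientGroup.mk'_apply, QuotientGroup.eq_one_iff]
    exact Subgroup.commutator_mem_commutator ha hc
  rw [this, one_mul]

theorem mk_comm_of_mem (M : Subgroup G) [M.Normal] {a c : G} (ha : a ∈ M) (hc : c ∈ M) :
    (QuotientGroup.mk' ⁅M, M⁆) a * (QuotientGroup.mk' ⁅M, M⁆) c =
      (QuotientGroup.mk' ⁅M, M⁆) c * (QuotientGroup.mk' ⁅M, M⁆) a := by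
  rw [← commutatorElement_eq_one_iff_mul_comm, ← map_commutatorElement,
    QuotientGroup.mk'_apply, QuotientGroup.eq_one_iff]
  exact Subgroup.commutator_mem_commutator ha hc

/-- the homomorphism `m ↦ ⁅m, y⁆ mod ⁅M,M⁆` on `M`. -/
noncomputable def theta (M : Subgroup G) [M.Normal] (y : G) : M →* G ⧸ ⁅M, M⁆ where
  toFun m := (QuotientGroup.mk' ⁅M, M⁆) ⁅(m : G), y⁆
  map_one' := by simp
  map_mul' a b := by
    have h : ⁅((a * b : M) : G), y⁆ = (a : G) * ⁅(b : G), y⁆ * (a : G)⁻¹ * ⁅(a : G), y⁆ := by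
      rw [commutatorElement_def, commutatorElement_def, commutatorElement_def]
      simp only [Subgroup.coe_mul]; group
    rw [h, map_mul, mk_conj_eq M a.2 (comm_mem_of_mem M b.2 y)]
    exact (mk_comm_of_mem M (comm_mem_of_mem M a.2 y) (comm_mem_of_mem M b.2 y)).symm

theorem theta_apply (M : Subgroup G) [M.Normal] (y : G) (m : M) :
    theta M y m = (QuotientGroup.mk' ⁅M, M⁆) ⁅(m : G), y⁆ := rfl

theorem ker_theta (M : Subgroup G) [M.Normal] {y : G}
    (hy : M ⊔ Subgroup.zpowers y = ⊤) : (theta M y).ker = (AA M).subgroupOf M := by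
  ext m
  rw [MonoidHom.mem_ker, theta_apply, QuotientGroup.mk'_apply, QuotientGroup.eq_one_iff,
    Subgroup.mem_subgroupOf, mem_AA_iff_of_sup M hy m.2]


theorem eq_top_of_sup {M H : Subgroup G} {y : G} (hy : M ⊔ Subgroup.zpowers y = ⊤)
    (h1 : M ≤ H) (h2 : y ∈ H) : H = ⊤ :=
  top_le_iff.1 (hy ▸ sup_le h1 (by rw [Subgroup.zpowers_le]; exact h2))

/-- General criterion: `S` normal, `M`, `y` generate, commutators of generators in `S`
 ⇒ `commutator G ≤ S`. -/
theorem commutator_le_of_gens {M S : Subgroup G} [S.Normal] {y : G}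
    (hy : M ⊔ Subgroup.zpowers y = ⊤)
    (hMM : ∀ a ∈ M, ∀ b ∈ M, ⁅a, b⁆ ∈ S) (hMy : ∀ a ∈ M, ⁅a, y⁆ ∈ S) :
    commutator G ≤ S := by
  rw [← Subgroup.Normal.quotient_commutative_iff_commutator_le]
  let π := QuotientGroup.mk' S
  have hc : ∀ g x : G, π g * π x = π x * π g ↔ ⁅g, x⁆ ∈ S := by
    intro g x
    rw [← commutatorElement_eq_one_iff_mul_comm, ← map_commutatorElement,
      QuotientGroup.mk'_apply, QuotientGroup.eq_one_iff]
  -- centralizer (comap) of π g
  have key : ∀ g : G, (∀ a ∈ M, ⁅g, a⁆ ∈ S) → ⁅g, y⁆ ∈ S → ∀ x, π g * π x = π x * π g := by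
    intro g h1 h2 x
    let C : Subgroup G := (Subgroup.centralizer {π g}).comap π
    have hC : ∀ x, x ∈ C ↔ π g * π x = π x * π g := by
      intro x
      show π x ∈ Subgroup.centralizer {π g} ↔ _
      rw [Subgroup.mem_centralizer_singleton_iff]
      exact eq_comm
    have : C = ⊤ := eq_top_of_sup hy (fun a ha => (hC a).2 ((hc g a).2 (h1 a ha)))
      ((hC y).2 ((hc g y).2 h2))
    exact (hC x).1 (this ▸ Subgroup.mem_top x)
  have hM : ∀ m ∈ M, ∀ x, π m * π x = π x * π m := fun m hm =>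
    key m (fun a ha => hMM m hm a ha) (hMy m hm)
  have hY : ∀ x, π y * π x = π x * π y := by
    refine key y (fun a ha => ?_) ?_
    · rw [← hc]; exact (hM a ha y).symm
    · rw [commutatorElement_self]; exact one_mem S
  let Z : Subgroup G := (Subgroup.center (G ⧸ S)).comap π
  have hZ : ∀ g, g ∈ Z ↔ ∀ q, q * π g = π g * q := by
    intro g
    show π g ∈ Subgroup.center (G ⧸ S) ↔ _
    rw [Subgroup.mem_center_iff]
  have hZtop : Z = ⊤ := by
    refine eq_top_of_sup hy (fun m hm => (hZ m).2 fun q => ?_) ((hZ y).2 fun q => ?_)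
    · obtain ⟨x, rfl⟩ := QuotientGroup.mk'_surjective S q
      exact (hM m hm x).symm
    · obtain ⟨x, rfl⟩ := QuotientGroup.mk'_surjective S q
      exact (hY x).symm
  refine ⟨⟨fun a b => ?_⟩⟩
  obtain ⟨x, rfl⟩ := QuotientGroup.mk'_surjective S a
  have hx : x ∈ Z := hZtop ▸ Subgroup.mem_top x
  exact ((hZ x).1 hx b).symm

theorem mem_normalizer_of {S : Subgroup G} {g : G} (h1 : ∀ s ∈ S, g * s * g⁻¹ ∈ S)
    (h2 : ∀ s ∈ S, g⁻¹ * s * g ∈ S) : g ∈ Subgroup.normalizer (S : Set G) := by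
  rw [Subgroup.mem_normalizer_iff]
  intro s
  refine ⟨h1 s, fun h => ?_⟩
  have := h2 _ h
  simpa [mul_assoc] using this

/-- `S' = π⁻¹(range θ)`. -/
noncomputable def SS (M : Subgroup G) [M.Normal] (y : G) : Subgroup G :=
  (theta M y).range.comap (QuotientGroup.mk' ⁅M, M⁆)

theorem mem_SS (M : Subgroup G) [M.Normal] (y : G) (s : G) :
    s ∈ SS M y ↔ ∃ m ∈ M, (QuotientGroup.mk' ⁅M, M⁆) s = (QuotientGroup.mk' ⁅M, M⁆) ⁅m, y⁆ := by
  unfold SS
  rw [Subgroup.mem_comap, MonoidHom.mem_range]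
  constructor
  · rintro ⟨m, hm⟩
    exact ⟨m, m.2, by rw [← hm, theta_apply]⟩
  · rintro ⟨m, hm, h⟩
    exact ⟨⟨m, hm⟩, by rw [theta_apply, h]⟩

theorem SS_normal (M : Subgroup G) [M.Normal] {y : G}
    (hy : M ⊔ Subgroup.zpowers y = ⊤) : (SS M y).Normal := by
  rw [← Subgroup.normalizer_eq_top_iff]
  have hMn : ∀ a ∈ M, ∀ s ∈ SS M y, a * s * a⁻¹ ∈ SS M y := by
    intro a ha s hs
    rw [mem_SS] at hs ⊢
    obtain ⟨m, hm, h⟩ := hs
    refine ⟨m, hm, ?_⟩
    rw [map_mul, map_mul, h, ← map_mul, ← map_mul, mk_conj_eq M ha (comm_mem_of_mem M hm y)]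
  refine eq_top_of_sup hy (fun a ha => mem_normalizer_of (hMn a ha) ?_) (mem_normalizer_of ?_ ?_)
  · intro s hs
    have := hMn a⁻¹ (inv_mem ha) s hs
    simpa using this
  · intro s hs
    rw [mem_SS] at hs ⊢
    obtain ⟨m, hm, h⟩ := hs
    refine ⟨y * m * y⁻¹, (inferInstance : M.Normal).conj_mem m hm y, ?_⟩
    rw [map_mul, map_mul, h, ← map_mul, ← map_mul]
    congr 1
    rw [commutatorElement_def, commutatorElement_def]; group
  · intro s hs
    rw [mem_SS] at hs ⊢
    obtain ⟨m, hm, h⟩ := hs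
    refine ⟨y⁻¹ * m * y, by simpa using (inferInstance : M.Normal).conj_mem m hm y⁻¹, ?_⟩
    rw [map_mul, map_mul, h, ← map_mul, ← map_mul]
    congr 1
    rw [commutatorElement_def, commutatorElement_def]; group

theorem range_theta (M : Subgroup G) [M.Normal] {y : G}
    (hy : M ⊔ Subgroup.zpowers y = ⊤) :
    (theta M y).range = (commutator G).map (QuotientGroup.mk' ⁅M, M⁆) := by
  apply le_antisymm
  · rintro _ ⟨m, rfl⟩
    rw [theta_apply]
    refine Subgroup.mem_map_of_mem _ ?_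
    rw [commutator_def]
    exact Subgroup.commutator_mem_commutator (Subgroup.mem_top _) (Subgroup.mem_top _)
  · rw [Subgroup.map_le_iff_le_comap]
    have := SS_normal M hy
    refine commutator_le_of_gens (S := SS M y) hy (fun a ha b hb => ?_) (fun a ha => ?_)
    · rw [mem_SS]
      refine ⟨1, one_mem M, ?_⟩
      rw [commutatorElement_one_left, map_one, QuotientGroup.mk'_apply, QuotientGroup.eq_one_iff]
      exact Subgroup.commutator_mem_commutator ha hb
    · rw [mem_SS]
      exact ⟨a, ha, rfl⟩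

/-- (B2): `|G'| = |⁅M,M⁆| * |M : A|`. -/
theorem card_commutator_eq (M : Subgroup G) [M.Normal] {y : G}
    (hy : M ⊔ Subgroup.zpowers y = ⊤) :
    Nat.card (commutator G) = Nat.card (⁅M, M⁆ : Subgroup G) * (AA M).relIndex M := by
  have h1 : (AA M).relIndex M = Nat.card ((commutator G).map (QuotientGroup.mk' ⁅M, M⁆)) := by
    rw [← range_theta M hy, Subgroup.relIndex, ← ker_theta M hy, Subgroup.index_ker]
  have h2 : Nat.card ((commutator G).map (QuotientGroup.mk' ⁅M, M⁆)) =
      (⁅M, M⁆ : Subgroup G).relIndex (commutator G) := by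
    rw [← Subgroup.relIndex_ker, QuotientGroup.ker_mk']
  have hle : (⁅M, M⁆ : Subgroup G) ≤ commutator G := by
    rw [commutator_def]; exact Subgroup.commutator_mono le_top le_top
  rw [h1, h2, ← Subgroup.relIndex_bot_left, ← Subgroup.relIndex_bot_left,
    Subgroup.relIndex_mul_relIndex _ _ _ bot_le hle]

/-- elements of `M` commuting with `y` lie in `A`. -/
theorem mem_AA_of_comm (M : Subgroup G) [M.Normal] {y : G}
    (hy : M ⊔ Subgroup.zpowers y = ⊤) {m : G} (hm : m ∈ M) (hc : m * y = y * m) :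
    m ∈ AA M := by
  rw [mem_AA_iff_of_sup M hy hm, (commutatorElement_eq_one_iff_mul_comm).2 hc]
  exact one_mem _

theorem pow_mem_AA (M : Subgroup G) [M.Normal] {y : G}
    (hy : M ⊔ Subgroup.zpowers y = ⊤) : y ^ M.index ∈ AA M :=
  mem_AA_of_comm M hy (Subgroup.pow_index_mem M y) ((Commute.refl y).pow_left _).eq

theorem centralizer_le (M : Subgroup G) [M.Normal] {y : G}
    (hy : M ⊔ Subgroup.zpowers y = ⊤) :
    Subgroup.centralizer ({y} : Set G) ≤ AA M ⊔ Subgroup.zpowers y := by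
  intro g hg
  rw [Subgroup.mem_centralizer_singleton_iff] at hg
  have hg' : g ∈ M ⊔ Subgroup.zpowers y := hy ▸ Subgroup.mem_top g
  rw [Subgroup.mem_sup_of_normal_left] at hg'
  obtain ⟨m, hm, z, hz, rfl⟩ := hg'
  obtain ⟨k, rfl⟩ := Subgroup.mem_zpowers_iff.1 hz
  have hzy : y ^ k * y = y * y ^ k := ((Commute.refl y).zpow_left k).eq
  have hmy : m * y = y * m := by
    have h1 : m * y ^ k * y = y * (m * y ^ k) := hg
    have h2 : m * y * y ^ k = y * m * y ^ k := by
      calc m * y * y ^ k = m * (y * y ^ k) := by group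
        _ = m * (y ^ k * y) := by rw [hzy]
        _ = m * y ^ k * y := by group
        _ = y * (m * y ^ k) := h1
        _ = y * m * y ^ k := by group
    exact mul_right_cancel h2
  exact Subgroup.mul_mem_sup (mem_AA_of_comm M hy hm hmy) hz

theorem sup_inf_eq (M : Subgroup G) [M.Normal] {y : G}
    (hy : M ⊔ Subgroup.zpowers y = ⊤) :
    (AA M ⊔ Subgroup.zpowers y) ⊓ M = AA M := by
  apply le_antisymm
  · intro x hx
    have hx1 := (Subgroup.mem_inf.1 hx).1
    have hx2 := (Subgroup.mem_inf.1 hx).2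
    rw [Subgroup.mem_sup_of_normal_left] at hx1
    obtain ⟨a, ha, z, hz, rfl⟩ := hx1
    have hzM : z ∈ M := by
      have : z = a⁻¹ * (a * z) := by group
      rw [this]
      exact mul_mem (inv_mem (AA_le M ha)) hx2
    obtain ⟨k, rfl⟩ := Subgroup.mem_zpowers_iff.1 hz
    have hzA : y ^ k ∈ AA M :=
      mem_AA_of_comm M hy hzM ((Commute.refl y).zpow_left k).eq
    exact mul_mem ha hzA
  · exact le_inf le_sup_left (AA_le M)

theorem relIndex_sup (M : Subgroup G) [M.Normal] {y : G}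
    (hy : M ⊔ Subgroup.zpowers y = ⊤) :
    (AA M).relIndex (AA M ⊔ Subgroup.zpowers y) = M.index := by
  have h1 : (AA M ⊔ Subgroup.zpowers y) ⊔ M = ⊤ := by
    apply top_le_iff.1
    rw [← hy]
    exact sup_le le_sup_right (le_sup_of_le_left le_sup_right)
  have h2 := Subgroup.relIndex_sup_right (AA M ⊔ Subgroup.zpowers y) M
  rw [h1, Subgroup.relIndex_top_right] at h2
  rw [h2]
  conv_rhs => rw [← Subgroup.inf_relIndex_left, sup_inf_eq M hy]

/-- (B3) index formula. -/
theorem index_centralizer_eq [Finite G] (M : Subgroup G) [M.Normal] {y : G}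
    (hy : M ⊔ Subgroup.zpowers y = ⊤) :
    (Subgroup.centralizer ({y} : Set G)).index =
      (AA M).relIndex M * (Subgroup.centralizer ({y} : Set G)).relIndex (AA M) := by
  set C := Subgroup.centralizer ({y} : Set G) with hC
  set A := AA M with hA
  have hyC : y ∈ C := by rw [hC, Subgroup.mem_centralizer_singleton_iff]
  have hCK : C ⊔ A = A ⊔ Subgroup.zpowers y := by
    apply le_antisymm
    · exact sup_le (centralizer_le M hy) le_sup_left
    · exact sup_le le_sup_right (le_sup_of_le_left (by rw [Subgroup.zpowers_le]; exact hyC))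
  -- |C : C ⊓ A| = |K0 : A| = p
  have h5 : A.relIndex C = M.index := by
    have := Subgroup.relIndex_sup_right C A
    rw [hCK, relIndex_sup M hy] at this
    exact this.symm
  -- cardinalities
  have e1 : Nat.card C * C.index = Nat.card G := C.card_mul_index
  have e2 : Nat.card M * M.index = Nat.card G := M.card_mul_index
  have e3 : Nat.card A * A.relIndex M = Nat.card M := by
    have := Subgroup.relIndex_mul_relIndex ⊥ A M bot_le (AA_le M)
    rwa [Subgroup.relIndex_bot_left, Subgroup.relIndex_bot_left] at this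
  have e4 : Nat.card (C ⊓ A : Subgroup G) * C.relIndex A = Nat.card A := by
    have := Subgroup.relIndex_mul_relIndex ⊥ (C ⊓ A) A bot_le inf_le_right
    rwa [Subgroup.relIndex_bot_left, Subgroup.relIndex_bot_left, Subgroup.inf_relIndex_right] at this
  have e5 : Nat.card (C ⊓ A : Subgroup G) * A.relIndex C = Nat.card C := by
    have := Subgroup.relIndex_mul_relIndex ⊥ (C ⊓ A) C bot_le inf_le_left
    rwa [Subgroup.relIndex_bot_left, Subgroup.relIndex_bot_left, Subgroup.inf_relIndex_left] at this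
  rw [h5] at e5
  have hpos : 0 < Nat.card (C ⊓ A : Subgroup G) * M.index := by
    rw [e5]; exact Nat.card_pos
  have : Nat.card (C ⊓ A : Subgroup G) * M.index * C.index =
      Nat.card (C ⊓ A : Subgroup G) * M.index * (A.relIndex M * C.relIndex A) := by
    calc Nat.card (C ⊓ A : Subgroup G) * M.index * C.index
        = Nat.card C * C.index := by rw [e5]
      _ = Nat.card G := e1
      _ = Nat.card M * M.index := e2.symm
      _ = Nat.card A * A.relIndex M * M.index := by rw [e3]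
      _ = Nat.card (C ⊓ A : Subgroup G) * C.relIndex A * A.relIndex M * M.index := by rw [e4]
      _ = Nat.card (C ⊓ A : Subgroup G) * M.index * (A.relIndex M * C.relIndex A) := by ring
  exact Nat.eq_of_mul_eq_mul_left hpos this


end

/-- own copy: index `p` subgroups of a finite `p`-group are normal. -/
theorem normal_of_index_p {G : Type*} [Group G] [Finite G] {p : ℕ} [hp : Fact p.Prime]
    (hG : IsPGroup p G) (M : Subgroup G) (hM : M.index = p) : M.Normal := by
  apply Subgroup.normal_of_index_eq_minFac_card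
  obtain ⟨n, hn⟩ := IsPGroup.iff_card.1 hG
  rw [hM, hn]
  have hn0 : n ≠ 0 := by
    rintro rfl
    rw [pow_zero] at hn
    have h1 : M.index ∣ Nat.card G := Subgroup.index_dvd_card M
    rw [hM, hn] at h1
    exact hp.out.one_lt.ne' (Nat.dvd_one.1 h1)
  exact (Nat.Prime.pow_minFac hp.out hn0).symm

/-- own copy: `M` of prime index and `y ∉ M` generate. -/
theorem sup_zpowers_top {G : Type*} [Group G] (K : Subgroup G) {p : ℕ} [hp : Fact p.Prime]
    (hidx : K.index = p) {u : G} (hu : u ∉ K) : K ⊔ Subgroup.zpowers u = ⊤ := by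
  have h1 : K ≤ K ⊔ Subgroup.zpowers u := le_sup_left
  have h2 : (K ⊔ Subgroup.zpowers u).index ∣ K.index := Subgroup.index_dvd_of_le h1
  rw [hidx] at h2
  rcases (Nat.dvd_prime hp.out).mp h2 with h3 | h3
  · exact Subgroup.index_eq_one.mp h3
  · exfalso
    have h4 : K.relIndex (K ⊔ Subgroup.zpowers u) * (K ⊔ Subgroup.zpowers u).index = K.index :=
      Subgroup.relIndex_mul_index h1
    rw [h3, hidx] at h4
    have h5 : K.relIndex (K ⊔ Subgroup.zpowers u) = 1 := by
      have hp0 : 0 < p := hp.out.pos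
      exact Nat.eq_of_mul_eq_mul_right hp0 (by rw [h4, one_mul])
    have h6 : K ⊔ Subgroup.zpowers u ≤ K := Subgroup.relIndex_eq_one.mp h5
    exact hu (h6 (Subgroup.mem_sup_right (Subgroup.mem_zpowers u)))

open Cfsg.Agent.Lib.H5.S3777 in
/-- **(S1)** in the exact cut shape. -/
theorem s1 : Cfsg.Agent.Lib.H5.S3777.S1Stmt.{u} := by
  intro p _ G _ _ hG M f hP hne
  have hMn : M.Normal := normal_of_index_p hG M hP.idx
  have hsup : ∀ y : G, y ∉ M → M ⊔ Subgroup.zpowers y = ⊤ := fun y hy =>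
    sup_zpowers_top M hP.idx hy
  -- some y outside M
  have hMtop : M ≠ ⊤ := by
    intro h
    have := hP.idx
    rw [h, Subgroup.index_top] at this
    exact (Fact.out : p.Prime).one_lt.ne this
  obtain ⟨y0, hy0⟩ : ∃ y : G, y ∉ M := by
    by_contra h
    exact hMtop (top_le_iff.1 fun x _ => by_contra fun hx => h ⟨x, hx⟩)
  -- the relative index is a power of p
  obtain ⟨n, hn⟩ := IsPGroup.iff_card.1 hG
  have hdvd : (AA M).relIndex M ∣ p ^ n := by
    rw [← hn]
    exact (Subgroup.relIndex_dvd_card (AA M) M).trans (Subgroup.card_subgroup_dvd_card M)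
  obtain ⟨lam, -, hlam⟩ := (Nat.dvd_prime_pow (Fact.out : p.Prime)).1 hdvd
  have hcard := card_commutator_eq M (hsup y0 hy0)
  refine ⟨AA M, lam, inferInstance, AA_le M, ?_, ?_, hlam, ?_, ?_, ?_⟩
  · -- 1 ≤ lam
    by_contra h
    have h0 : lam = 0 := by omega
    rw [hlam, h0, pow_zero, mul_one] at hcard
    have hle : (⁅M, M⁆ : Subgroup G) ≤ commutator G := by
      rw [commutator_def]; exact Subgroup.commutator_mono le_top le_top
    exact hne (Subgroup.eq_of_le_of_card_ge hle hcard.le)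
  · rw [hcard, hlam, mul_comm]
  · intro y hy
    have := pow_mem_AA M (hsup y hy)
    rwa [hP.idx] at this
  · intro y hy
    exact centralizer_le M (hsup y hy)
  · intro y hy
    rw [index_centralizer_eq M (hsup y hy), hlam]

end Cfsg.Agent.H15.S3777B
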