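import Cfsg.Agent.Lib.H19.S3797Defs

/-!
# S3797, piece (FIN) (helper15)

A `G`-invariant series of the critical subgroup `K` of `Q = O_2(G)` whose factors are centralised by
`S` forces `S ≤ Q`: the stabiliser `A` of the series is a normal subgroup; an element `y` of odd order
of `A` centralises `K` (coprime stability), hence `Q` (`Crit.faith`), so lies in `C_G(Q) ≤ Q` and is
trivial; thus `A` is a normal `2`-subgroup, `A ≤ Q`.
-/

set_option autoImplicit false

namespace Cfsg.Agent.H15.S3797Fin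

open Cfsg.Agent.Lib.H19.S3797

universe u

section
variable {G : Type u} [Group G]

/-- the stabiliser of the series `L 0 ≤ … ≤ L r` (all `L i` normal). -/
def stab (r : ℕ) (L : ℕ → Subgroup G) (hn : ∀ i, (L i).Normal) : Subgroup G where
  carrier := {g | ∀ i, i < r → ∀ k ∈ L (i + 1), g * k * g⁻¹ * k⁻¹ ∈ L i}
  one_mem' := by
    intro i _ k _
    simp
  mul_mem' := by
    intro a b ha hb i hi k hk
    have h1 : b * k * b⁻¹ * k⁻¹ ∈ L i := hb i hi k hk
    have h2 : a * k * a⁻¹ * k⁻¹ ∈ L i := ha i hi k hk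
    have h3 : a * (b * k * b⁻¹ * k⁻¹) * a⁻¹ ∈ L i := (hn i).conj_mem _ h1 a
    have : a * b * k * (a * b)⁻¹ * k⁻¹ =
        (a * (b * k * b⁻¹ * k⁻¹) * a⁻¹) * (a * k * a⁻¹ * k⁻¹) := by group
    rw [this]
    exact mul_mem h3 h2
  inv_mem' := by
    intro a ha i hi k hk
    have h2 : a * k * a⁻¹ * k⁻¹ ∈ L i := ha i hi k hk
    have h3 : a⁻¹ * (a * k * a⁻¹ * k⁻¹)⁻¹ * a⁻¹⁻¹ ∈ L i := (hn i).conj_mem _ (inv_mem h2) a⁻¹
    have : a⁻¹ * k * a⁻¹⁻¹ * k⁻¹ = a⁻¹ * (a * k * a⁻¹ * k⁻¹)⁻¹ * a⁻¹⁻¹ := by group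
    rw [this]
    exact h3

theorem mem_stab {r : ℕ} {L : ℕ → Subgroup G} {hn : ∀ i, (L i).Normal} {g : G} :
    g ∈ stab r L hn ↔ ∀ i, i < r → ∀ k ∈ L (i + 1), g * k * g⁻¹ * k⁻¹ ∈ L i := Iff.rfl

theorem stab_normal (r : ℕ) (L : ℕ → Subgroup G) (hn : ∀ i, (L i).Normal) :
    (stab r L hn).Normal := by
  refine ⟨fun a ha g => ?_⟩
  rw [mem_stab] at ha ⊢
  intro i hi k hk
  have hk' : g⁻¹ * k * g⁻¹⁻¹ ∈ L (i + 1) := (hn (i + 1)).conj_mem k hk g⁻¹
  have h1 := ha i hi _ hk'
  have h2 := (hn i).conj_mem _ h1 g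
  have : g * a * g⁻¹ * k * (g * a * g⁻¹)⁻¹ * k⁻¹ =
      g * (a * (g⁻¹ * k * g⁻¹⁻¹) * a⁻¹ * (g⁻¹ * k * g⁻¹⁻¹)⁻¹) * g⁻¹ := by group
  rw [this]
  exact h2


/-- an element of odd order of the stabiliser centralises every term `L i` (`i ≤ r`) of the series,
if the terms consist of `2`-elements. -/
theorem centralizes_of_odd [Finite G] {r : ℕ} {L : ℕ → Subgroup G} {hn : ∀ i, (L i).Normal}
    (h0 : L 0 = ⊥) (h2 : ∀ i, i ≤ r → ∀ k ∈ L i, ∃ j : ℕ, k ^ (2 ^ j) = 1)
    {y : G} (hy : y ∈ stab r L hn) (hodd : Odd (orderOf y)) :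
    ∀ i, i ≤ r → ∀ k ∈ L i, y * k * y⁻¹ = k := by
  intro i
  induction i with
  | zero =>
    intro _ k hk
    rw [h0, Subgroup.mem_bot] at hk
    subst hk
    simp
  | succ i ih =>
    intro hi k hk
    have hi' : i < r := hi
    set c := y * k * y⁻¹ * k⁻¹ with hc
    have hcL : c ∈ L i := hy i hi' k hk
    have hcy : y * c * y⁻¹ = c := ih (le_of_lt hi') c hcL
    have hyk : y * k * y⁻¹ = c * k := by rw [hc]; group
    -- y^m k y^-m = c^m k
    have hpow : ∀ m : ℕ, y ^ m * k * (y ^ m)⁻¹ = c ^ m * k := by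
      intro m
      induction m with
      | zero => simp
      | succ m ihm =>
        have h1 : y ^ (m + 1) * k * (y ^ (m + 1))⁻¹ = y * (y ^ m * k * (y ^ m)⁻¹) * y⁻¹ := by
          rw [pow_succ']; group
        have hcm : y * c ^ m * y⁻¹ = c ^ m := by
          have : y * c ^ m * y⁻¹ = (y * c * y⁻¹) ^ m := by
            rw [conj_pow]
          rw [this, hcy]
        rw [h1, ihm]
        calc y * (c ^ m * k) * y⁻¹ = (y * c ^ m * y⁻¹) * (y * k * y⁻¹) := by group
          _ = c ^ m * (c * k) := by rw [hcm, hyk]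
          _ = c ^ (m + 1) * k := by rw [pow_succ]; group
    have hm := hpow (orderOf y)
    rw [pow_orderOf_eq_one] at hm
    have hc1 : c ^ orderOf y = 1 := by
      have : k = c ^ orderOf y * k := by simpa using hm
      exact (mul_eq_right.1 this.symm)
    obtain ⟨j, hj⟩ := h2 i (le_of_lt hi') c hcL
    have hd1 : orderOf c ∣ orderOf y := orderOf_dvd_of_pow_eq_one hc1
    have hd2 : orderOf c ∣ 2 ^ j := orderOf_dvd_of_pow_eq_one hj
    have hco : Nat.Coprime (orderOf y) (2 ^ j) :=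
      Nat.Coprime.pow_right j (Nat.Coprime.symm (Nat.coprime_two_left.2 hodd))
    have : orderOf c = 1 := Nat.eq_one_of_dvd_coprimes hco hd1 hd2
    have hc' : c = 1 := orderOf_eq_one_iff.1 this
    rw [hyk, hc', one_mul]

end

/-- **(FIN)** in the exact cut shape. -/
theorem fin : FinStmt.{u} := by
  intro G _ _ Q V K hF hC S _ hser
  obtain ⟨r, L, h0, hr, hn, hmono, hS⟩ := hser
  -- monotonicity: L i ≤ K for i ≤ r
  have hle' : ∀ j i, i + j = r → L i ≤ K := by
    intro j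
    induction j with
    | zero =>
      intro i hi
      have : i = r := by omega
      rw [this, hr]
    | succ j ih =>
      intro i hi
      exact (hmono i).trans (ih (i + 1) (by omega))
  have hle : ∀ i, i ≤ r → L i ≤ K := fun i hi => hle' (r - i) i (by omega)
  -- elements of the terms are 2-elements
  have h2 : ∀ i, i ≤ r → ∀ k ∈ L i, ∃ j : ℕ, k ^ (2 ^ j) = 1 := by
    intro i hi k hk
    have hkQ : k ∈ Q := hC.KQ (hle i hi hk)
    obtain ⟨j, hj⟩ := hF.Q2 ⟨k, hkQ⟩
    refine ⟨j, ?_⟩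
    have := congrArg Subtype.val hj
    simpa using this
  set A : Subgroup G := stab r L hn with hA
  have hAn : A.Normal := stab_normal r L hn
  -- odd-order elements of A are trivial
  have hodd1 : ∀ y ∈ A, Odd (orderOf y) → y = 1 := by
    intro y hy hodd
    have hcen := centralizes_of_odd (hn := hn) h0 h2 hy hodd r le_rfl
    rw [hr] at hcen
    have hQ := hC.faith y hodd hcen
    have hyC : y ∈ Subgroup.centralizer (Q : Set G) := by
      rw [Subgroup.mem_centralizer_iff]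
      intro q hq
      have := hQ q hq
      calc q * y = (y * q * y⁻¹) * y := by rw [this]
        _ = y * q := by group
    have hyQ : y ∈ Q := hF.cent hyC
    obtain ⟨j, hj⟩ := hF.Q2 ⟨y, hyQ⟩
    have hj' : y ^ (2 ^ j) = 1 := by
      have := congrArg Subtype.val hj
      simpa using this
    have hd : orderOf y ∣ 2 ^ j := orderOf_dvd_of_pow_eq_one hj'
    have hco : Nat.Coprime (orderOf y) (2 ^ j) :=
      Nat.Coprime.pow_right j (Nat.Coprime.symm (Nat.coprime_two_left.2 hodd))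
    have : orderOf y = 1 := Nat.eq_one_of_dvd_coprimes hco dvd_rfl hd
    exact orderOf_eq_one_iff.1 this
  -- A is a 2-group
  have hA2 : IsPGroup 2 A := by
    intro g
    have hpos : orderOf (g : G) ≠ 0 := (orderOf_pos (g : G)).ne'
    obtain ⟨a, m, hm, hnm⟩ := Nat.exists_eq_two_pow_mul_odd hpos
    refine ⟨a, ?_⟩
    have hy : (g : G) ^ (2 ^ a) ∈ A := pow_mem g.2 _
    have hym : ((g : G) ^ (2 ^ a)) ^ m = 1 := by
      rw [← pow_mul, ← hnm, pow_orderOf_eq_one]
    have hodd : Odd (orderOf ((g : G) ^ (2 ^ a))) :=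
      Odd.of_dvd_nat hm (orderOf_dvd_of_pow_eq_one hym)
    have := hodd1 _ hy hodd
    exact Subtype.ext (by simpa using this)
  have hAQ : A ≤ Q := hF.Qmax A hAn hA2
  intro s hs
  apply hAQ
  rw [hA, mem_stab]
  intro i hi k hk
  exact hS s hs i hi k hk

end Cfsg.Agent.H15.S3797Fin
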