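import Cfsg.Agent.Lib.H15.S3797M1Defs

/-! # S3797 M1 piece CHAR (helper15): a non-zero additive character of an additive group sums to 0 -/

set_option autoImplicit false

namespace Cfsg.Agent.H15.S3797M1Char

open Cfsg.Agent.H15.S3797M1

universe u

theorem sgn_add (a b : ZMod 2) : sgn (a + b) = sgn a * sgn b := by
  revert a b; decide

theorem sgn_zero : sgn 0 = 1 := by decide

theorem sgn_ne_zero (a : ZMod 2) (h : a ≠ 0) : sgn a = -1 := by
  revert a; decide

theorem sgn_mul_self (a : ZMod 2) : sgn a * sgn a = 1 := by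
  revert a; decide

theorem charsum : CharSumStmt.{u} := by
  intro A _ _ φ hadd hx
  obtain ⟨x0, hx0⟩ := hx
  have h1 : ∑ x : A, sgn (φ (x + x0)) = ∑ x : A, sgn (φ x) :=
    Fintype.sum_equiv (Equiv.addRight x0) _ _ (fun x => rfl)
  have h2 : sgn (φ x0) = -1 := sgn_ne_zero _ hx0
  have h3 : ∑ x : A, sgn (φ (x + x0)) = - ∑ x : A, sgn (φ x) := by
    simp_rw [hadd, sgn_add, h2]
    simp [Finset.sum_neg_distrib]
  linarith

example : CharSumStmt.{0} := charsum

end Cfsg.Agent.H15.S3797M1Char
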