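import Cfsg.Agent.Lib.H5.S3797MLDefs

/-!
# S3797, main lemma piece (M1) "the count": sub-cut (helper15)

`M1Stmt` (in `Lib/H5/S3797MLDefs`) is cut into six pure pieces; the glue `m1_of` is helper15's.
`sgn : ZMod 2 → ℤ` is the sign character.  All sums are over `Finset.univ` of a `Fintype`.
-/

set_option autoImplicit false

namespace Cfsg.Agent.H15.S3797M1

universe u

/-- the sign character of `ZMod 2`: `0 ↦ 1`, `1 ↦ -1` -/
def sgn (a : ZMod 2) : ℤ := if a = 0 then 1 else -1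

/-- (CHAR) a non-zero additive character sums to zero -/
def CharSumStmt : Prop :=
  ∀ (A : Type u) [AddCommGroup A] [Fintype A] (φ : A → ZMod 2),
    (∀ x y : A, φ (x + y) = φ x + φ y) → (∃ x : A, φ x ≠ 0) → ∑ x : A, sgn (φ x) = 0

/-- (GAUSS) the square of the Gauss sum of a `ZMod 2`-valued quadratic map `f` with polar form `B`
(additive in the left variable) is `0` or `|U| * |Rad B|`. -/
def GaussStmt : Prop :=
  ∀ (U : Type u) [AddCommGroup U] [Fintype U] (f : U → ZMod 2) (B : U → U → ZMod 2),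
    (∀ x y : U, f (x + y) = f x + f y + B x y) →
    (∀ x y z : U, B (x + y) z = B x z + B y z) →
    (∑ x : U, sgn (f x)) ^ 2 = 0 ∨
      (∑ x : U, sgn (f x)) ^ 2 = (Nat.card U : ℤ) * (Nat.card {t : U // ∀ x : U, B x t = 0} : ℤ)

/-- (RAD) the radical of a symmetric biadditive form on a group of exponent 2 has 2-power order -/
def RadStmt : Prop :=
  ∀ (U : Type u) [AddCommGroup U] [Finite U] (B : U → U → ZMod 2),
    (∀ x : U, x + x = 0) → (∀ x y : U, B x y = B y x) →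
    (∀ x y z : U, B (x + y) z = B x z + B y z) →
    ∃ r : ℕ, Nat.card {t : U // ∀ x : U, B x t = 0} = 2 ^ r

/-- (ARITH) `2^u = 1 + (2^n - 1) N` and `(1 - N)^2 ∈ {0, 2^u 2^r}` force `2^u ∈ {1, 2^n, 2^(2n)}`,
and `r = 0` in the last case. -/
def ArithStmt : Prop :=
  ∀ (u n r N : ℕ), 2 ^ u = 1 + (2 ^ n - 1) * N →
    ((1 - (N : ℤ)) ^ 2 = 0 ∨ (1 - (N : ℤ)) ^ 2 = (2 : ℤ) ^ u * (2 : ℤ) ^ r) →
    2 ^ u = 1 ∨ 2 ^ u = 2 ^ n ∨ (2 ^ u = (2 ^ n) ^ 2 ∧ (n = 0 ∨ r = 0))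

/-- (HYP) a proper subgroup of a group of exponent 2 lies in the kernel of a non-zero functional -/
def HypStmt : Prop :=
  ∀ (V : Type u) [AddCommGroup V], (∀ v : V, v + v = 0) →
    ∀ H : AddSubgroup V, H ≠ ⊤ →
      ∃ lam : V → ZMod 2, (∀ v w : V, lam (v + w) = lam v + lam w) ∧ (∃ v : V, lam v ≠ 0) ∧
        ∀ h ∈ H, lam h = 0

/-- (FIBRE) with `κ⁻¹(0) = 0` and all fibres over `V ∖ 0` of order `N`:
`|U| = 1 + (|V| - 1) N` and the Gauss sum of `lam ∘ κ` is `1 - N` (`lam` a non-zero functional). -/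
def FibreStmt : Prop :=
  ∀ (U V : Type u) [AddCommGroup U] [AddCommGroup V] [Fintype U] [Fintype V] (κ : U → V)
    (lam : V → ZMod 2) (N : ℕ),
    κ 0 = 0 → (∀ x : U, κ x = 0 → x = 0) →
    (∀ v : V, v ≠ 0 → Nat.card {x : U // κ x = v} = N) →
    (∀ v w : V, lam (v + w) = lam v + lam w) → (∃ v : V, lam v ≠ 0) →
    Nat.card U = 1 + (Nat.card V - 1) * N ∧ ∑ x : U, sgn (lam (κ x)) = 1 - (N : ℤ)

end Cfsg.Agent.H15.S3797M1
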