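import Cfsg.Agent.Lib.H15.S3814C2Defs

/-!
# S3814, shape (I), Case 2' : assembly of the sub-cut (helper15)
-/

set_option autoImplicit false

namespace Cfsg.Agent.H15.S3814C2

open Cfsg.Agent.H7.S3814Defs

universe u

/-- the four primes -/
theorem four_primes {σ : Finset ℕ} (h4 : σ.card = 4) {p c : ℕ} (hp : p ∈ σ) (hc : c ∈ σ) (hcp : c ≠ p) :
    ∃ a b : ℕ, a ∈ σ ∧ b ∈ σ ∧ a ≠ p ∧ b ≠ p ∧ a ≠ c ∧ b ≠ c ∧ a ≠ b ∧
      ∀ t ∈ σ, t = p ∨ t = c ∨ t = a ∨ t = b := by
  classical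
  have h1 : (σ.erase p).card = 3 := by rw [Finset.card_erase_of_mem hp, h4]
  have hc' : c ∈ σ.erase p := Finset.mem_erase.mpr ⟨hcp, hc⟩
  have h2 : ((σ.erase p).erase c).card = 2 := by rw [Finset.card_erase_of_mem hc', h1]
  obtain ⟨a, b, hab, hS⟩ := Finset.card_eq_two.mp h2
  have hmem : ∀ t, t ∈ (σ.erase p).erase c ↔ t = a ∨ t = b := by
    intro t; rw [hS]; simp
  have ha := (hmem a).mpr (Or.inl rfl)
  have hb := (hmem b).mpr (Or.inr rfl)
  rw [Finset.mem_erase, Finset.mem_erase] at ha hb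
  refine ⟨a, b, ha.2.2, hb.2.2, ha.2.1, hb.2.1, ha.1, hb.1, hab, ?_⟩
  intro t ht
  by_cases htp : t = p
  · exact Or.inl htp
  by_cases htc : t = c
  · exact Or.inr (Or.inl htc)
  have : t ∈ (σ.erase p).erase c :=
    Finset.mem_erase.mpr ⟨htc, Finset.mem_erase.mpr ⟨htp, ht⟩⟩
  rcases (hmem t).mp this with h | h
  · exact Or.inr (Or.inr (Or.inl h))
  · exact Or.inr (Or.inr (Or.inr h))

variable {G : Type u} [Group G]

/-- splitting an element of order `a * b` -/
theorem split_order {a b : ℕ} (ha : a.Prime) (hb : b.Prime) {x : G} (hx : orderOf x = a * b) :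
    orderOf (x ^ b) = a ∧ orderOf (x ^ a) = b ∧ Commute (x ^ b) (x ^ a) := by
  refine ⟨?_, ?_, (Commute.refl x).pow_pow b a⟩
  · rw [orderOf_pow_of_dvd hb.ne_zero (by rw [hx]; exact dvd_mul_left b a), hx,
      Nat.mul_div_cancel _ hb.pos]
  · rw [orderOf_pow_of_dvd ha.ne_zero (by rw [hx]; exact dvd_mul_right a b), hx,
      Nat.mul_div_cancel_left _ ha.pos]

/-- a generator of a subgroup of prime order -/
theorem mem_zpowers_swap [Finite G] {c : ℕ} {z m : G} (hz : orderOf z = c)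
    (hm : orderOf m = c) (h : z ∈ Subgroup.zpowers m) : m ∈ Subgroup.zpowers z := by
  have h1 : Subgroup.zpowers z ≤ Subgroup.zpowers m := by rw [Subgroup.zpowers_le]; exact h
  have h2 : Subgroup.zpowers z = Subgroup.zpowers m :=
    Subgroup.eq_of_le_of_card_ge h1 (by rw [Nat.card_zpowers, Nat.card_zpowers, hz, hm])
  rw [h2]; exact Subgroup.mem_zpowers m

theorem dvd_card_of_normalPrime [Finite G] {K : Subgroup G} {c : ℕ} {m : G} (h : NormalPrime K c m) :
    c ∣ Nat.card K := by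
  obtain ⟨_, hmK, hmc, _⟩ := h
  have h1 : orderOf (⟨m, hmK⟩ : K) = c := by
    rw [Subgroup.orderOf_mk m hmK, hmc]
  rw [← h1]; exact orderOf_dvd_natCard _

/-- the symmetry of `TwoSided` -/
theorem TwoSided.symm {σ : Finset ℕ} {p : ℕ} {V K : Subgroup G} {a b c : ℕ} {mb mc : G}
    (T : TwoSided σ p V K a b c mb mc) : TwoSided σ p V K a c b mc mb where
  ha := T.ha
  hb := T.hc
  hc := T.hb
  hab := T.hac
  hac := T.hab
  hbc := T.hbc.symm
  oddb := T.oddc
  oddc := T.oddb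
  npb := T.npc
  npc := T.npb
  comm := T.comm.symm
  fpfb := T.fpfc
  fpfc := T.fpfb
  goodb := T.goodc
  goodc := T.goodb
  badc := T.badb
  badb := T.badc
  noa := T.noa

/-- one side of the two-sided situation -/
theorem side_contra (hBS : BadSocleStmt.{u}) (hNC : NormalComplStmt.{u})
    (hED : EDataStmt.{u}) (hDE : DiagFromEStmt.{u})
    {σ : Finset ℕ} {p : ℕ} {V K : Subgroup G} (hctx : Ctx σ p V K) {a b c : ℕ} {mb mc : G}
    (T : TwoSided σ p V K a b c mb mc) (hcyc : SideCyc K c) : False := by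
  have := hctx.cex.fin
  obtain ⟨N, hN⟩ := hNC G σ p V K hctx a b c mb mc T
  obtain ⟨E, u1, hE⟩ := hED G σ p V K hctx a b c mb mc T
  obtain ⟨e, heK, z, hzK, he, hz, hez, hemc⟩ := hDE G σ p V K hctx a b c mb mc T N E u1 hN hE
  have hzbad := (T.badc e heK z hzK he hz hez).1
  have hzm := hBS G σ p V K hctx a b c mb mc T hcyc z hzK hz hzbad
  have hmz := mem_zpowers_swap hz T.npc.2.2.1 hzm
  obtain ⟨k, hk⟩ := Subgroup.mem_zpowers_iff.mp hmz
  apply hemc
  rw [← hk]
  exact hez.zpow_right k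

theorem twoSided_contra (hCS : CyclicSideStmt.{u}) (hBS : BadSocleStmt.{u}) (hNC : NormalComplStmt.{u})
    (hED : EDataStmt.{u}) (hDE : DiagFromEStmt.{u})
    {σ : Finset ℕ} {p : ℕ} {V K : Subgroup G} (hctx : Ctx σ p V K) {a b c : ℕ} {mb mc : G}
    (T : TwoSided σ p V K a b c mb mc) : False := by
  rcases hCS G σ p V K hctx a b c mb mc T with h | h
  · exact side_contra hBS hNC hED hDE hctx T h
  · exact side_contra hBS hNC hED hDE hctx T.symm h

/-- the argument once the labelling `a` (all elements of order `a` in `C_K(m)` good) is fixed -/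
theorem main_of_label (hNPB : NPBadStmt.{u}) (hMix : NPMixedStmt.{u}) (hNPC : NPCommStmt.{u})
    (hNPO : NPOddStmt.{u}) (hLab : LabelStmt.{u}) (hE2 : E2Stmt.{u})
    (hCS : CyclicSideStmt.{u}) (hBS : BadSocleStmt.{u}) (hNC : NormalComplStmt.{u})
    (hED : EDataStmt.{u}) (hDE : DiagFromEStmt.{u})
    {σ : Finset ℕ} {p : ℕ} {V K : Subgroup G} (hctx : Ctx σ p V K) {c : ℕ} {m : G}
    (hnp : NormalPrime K c m) (hcσ : c ∈ σ) (hcp : c ≠ p)
    {a b : ℕ} (ha : a ∈ σ) (hb : b ∈ σ) (hap : a ≠ p) (hbp : b ≠ p) (hac : a ≠ c) (hbc : b ≠ c)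
    (hab : a ≠ b) (hall : ∀ t ∈ σ, t = p ∨ t = c ∨ t = a ∨ t = b)
    (lab : ∀ u ∈ K, orderOf u = a → Commute u m → ¬ Fpf u V) : False := by
  have := hctx.cex.fin
  have hap' : a.Prime := hctx.cex.prime a ha
  have hbp' : b.Prime := hctx.cex.prime b hb
  have hcp' : c.Prime := hctx.cex.prime c hcσ
  have hmbad : Fpf m V := hNPB G σ p V K hctx c m hnp
  -- `O_a(K) = 1`
  have noa : ∀ m' : G, ¬ NormalPrime K a m' := fun m' h =>
    lab m' h.2.1 h.2.2.1 (hNPC G K c a m m' hnp h hac) (hNPB G σ p V K hctx a m' h)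
  -- an `ab`-element
  obtain ⟨x, hxK, hx⟩ := hctx.facts.j2 a ha b hb hap hbp hab
  obtain ⟨hu, hw, huw⟩ := split_order hap' hbp' hx
  have huK : x ^ b ∈ K := pow_mem hxK b
  have hwK : x ^ a ∈ K := pow_mem hxK a
  rcases hMix G σ p V K hctx c m hnp a b ha hb hap hbp hac hbc hab (x ^ b) huK (x ^ a) hwK hu hw huw
    with ⟨h1, _, h3⟩ | ⟨h1, _, h3⟩
  · exact lab _ huK hu h1 h3
  have hc2 : c ≠ 2 := hNPO G K c m (x ^ b) hnp huK h1
  by_cases hb' : ∃ mb : G, NormalPrime K b mb
  · obtain ⟨mb, hnpb⟩ := hb'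
    have hcomm : Commute mb m := hNPC G K c b m mb hnp hnpb hbc
    have hmbbad : Fpf mb V := hNPB G σ p V K hctx b mb hnpb
    rcases hLab hMix G σ p V K hctx b mb hnpb a c ha hcσ hap hcp hab (Ne.symm hbc) hac with lab' | lab'
    · -- the two-sided situation
      have hmix' := hMix G σ p V K hctx b mb hnpb a c ha hcσ hap hcp hab (Ne.symm hbc) hac
      have hmix := hMix G σ p V K hctx c m hnp a b ha hb hap hbp hac hbc hab
      -- `b` is odd
      obtain ⟨x', hx'K, hx'⟩ := hctx.facts.j2 a ha c hcσ hap hcp hac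
      obtain ⟨hu', hw', huw'⟩ := split_order hap' hcp' hx'
      have hu'K : x' ^ c ∈ K := pow_mem hx'K c
      have hw'K : x' ^ a ∈ K := pow_mem hx'K a
      have hb2 : b ≠ 2 := by
        rcases hmix' (x' ^ c) hu'K (x' ^ a) hw'K hu' hw' huw' with ⟨k1, _, k3⟩ | ⟨k1, _, _⟩
        · exact absurd k3 (lab' _ hu'K hu' k1)
        · exact hNPO G K b mb (x' ^ c) hnpb hu'K k1
      have T : TwoSided σ p V K a b c mb m :=
        { ha := ⟨ha, hap⟩
          hb := ⟨hb, hbp⟩
          hc := ⟨hcσ, hcp⟩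
          hab := hab
          hac := hac
          hbc := hbc
          oddb := hb2
          oddc := hc2
          npb := hnpb
          npc := hnp
          comm := hcomm
          fpfb := hmbbad
          fpfc := hmbad
          goodb := lab'
          goodc := lab
          badc := by
            intro e heK z hzK he hz hez
            rcases hmix' e heK z hzK he hz hez with ⟨k1, _, k3⟩ | ⟨k1, _, k3⟩
            · exact absurd k3 (lab' e heK he k1)
            · exact ⟨k3, k1⟩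
          badb := by
            intro e heK w hwK' he hw' hew
            rcases hmix e heK w hwK' he hw' hew with ⟨k1, _, k3⟩ | ⟨k1, _, k3⟩
            · exact absurd k3 (lab e heK he k1)
            · exact ⟨k3, k1⟩
          noa := noa }
      exact twoSided_contra hCS hBS hNC hED hDE hctx T
    · -- all elements of order `c` centralising `mb` would be good, but `m` is bad
      exact lab' m hnp.2.1 hnp.2.2.1 hcomm.symm hmbad
  · -- (E2)
    refine hE2 G σ p V K hctx c m hnp hc2 ?_ (x ^ a) hwK (by rw [hw]; exact hbp') (by rw [hw]; exact hbc) h3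
    intro t m' htc h
    have htdvd := dvd_card_of_normalPrime h
    obtain ⟨htσ, htp⟩ := hctx.facts.primes t h.1 htdvd
    rcases hall t htσ with h' | h' | h' | h'
    · exact htp h'
    · exact htc h'
    · exact noa m' (h' ▸ h)
    · exact hb' ⟨m', h' ▸ h⟩

/-- **Assembly of Case 2'.** -/
theorem case2 (hEx : ExNormalPrimeStmt.{u}) (hNPB : NPBadStmt.{u}) (hMix : NPMixedStmt.{u})
    (hNPC : NPCommStmt.{u}) (hNPO : NPOddStmt.{u}) (hLab : LabelStmt.{u}) (hE2 : E2Stmt.{u})
    (hCS : CyclicSideStmt.{u}) (hBS : BadSocleStmt.{u}) (hNC : NormalComplStmt.{u})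
    (hED : EDataStmt.{u}) (hDE : DiagFromEStmt.{u}) : Case2Stmt.{u} := by
  intro G _ σ hG _ p V K hI hKF hcyc
  have hctx : Ctx σ p V K := ⟨hG, hI, hKF, hcyc⟩
  have := hG.fin
  obtain ⟨c, m, hnp⟩ := hEx G σ p V K hctx
  obtain ⟨hcσ, hcp⟩ := hKF.primes c hnp.1 (dvd_card_of_normalPrime hnp)
  obtain ⟨a, b, ha, hb, hap, hbp, hac, hbc, hab, hall⟩ := four_primes hG.card4 hI.hp hcσ hcp
  rcases hLab hMix G σ p V K hctx c m hnp a b ha hb hap hbp hac hbc hab with lab | lab
  · exact main_of_label hNPB hMix hNPC hNPO hLab hE2 hCS hBS hNC hED hDE hctx hnp hcσ hcp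
      ha hb hap hbp hac hbc hab hall lab
  · refine main_of_label hNPB hMix hNPC hNPO hLab hE2 hCS hBS hNC hED hDE hctx hnp hcσ hcp
      hb ha hbp hap hbc hac (Ne.symm hab) ?_ lab
    intro t ht
    rcases hall t ht with h | h | h | h
    · exact Or.inl h
    · exact Or.inr (Or.inl h)
    · exact Or.inr (Or.inr (Or.inr h))
    · exact Or.inr (Or.inr (Or.inl h))

end Cfsg.Agent.H15.S3814C2
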