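import Cfsg.Agent.Lib.H7.S3814Defs2

/-!
# S3814, shape (I), Case 2' : sub-cut (helper15, sub-architect)

Case 2' = every normal abelian subgroup of `K` is cyclic.  Statements only (`Prop`-valued pieces); the assembly
`case2 : pieces → Case2Stmt` is in `Lib/H15/S3814C2Asm.lean`.  All pieces live in ONE universe `u`.

Board notation: `m` of prime order `c` with `⟨m⟩` normal in `K` = `NormalPrime K c m`; `C = C_K(m)` is written
elementwise (`Commute x m`); "bad" = `Fpf x V`, "good" = `¬ Fpf x V`.  `MinSub` is NOT used in Case 2'.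
-/

namespace Cfsg.Agent.H15.S3814C2

open Cfsg.Agent.H7.S3814Defs

universe u

variable {G : Type u} [Group G]

/-- The standing hypotheses of Case 2'. -/
structure Ctx (σ : Finset ℕ) (p : ℕ) (V K : Subgroup G) : Prop where
  cex : IsCex G σ
  shape : ShapeI σ p V K
  facts : KFacts σ p V K
  cyc : ∀ M : Subgroup G, M ≤ K → K ≤ Subgroup.normalizer (M : Set G) →
    (∀ x ∈ M, ∀ y ∈ M, x * y = y * x) → IsCyclic M

/-- `⟨m⟩` is a normal subgroup of prime order `c` of `K`. -/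
def NormalPrime (K : Subgroup G) (c : ℕ) (m : G) : Prop :=
  c.Prime ∧ m ∈ K ∧ orderOf m = c ∧ ∀ k ∈ K, k⁻¹ * m * k ∈ Subgroup.zpowers m

/-- every normal `t`-subgroup of `K` is cyclic (`O_t(K)` is cyclic) -/
def SideCyc (K : Subgroup G) (t : ℕ) : Prop :=
  ∀ Q : Subgroup G, Q ≤ K → K ≤ Subgroup.normalizer (Q : Set G) → IsPGroup t Q → IsCyclic Q

/-- The two-sided situation (E3): `O_b(K) ≠ 1 ≠ O_c(K)`, both labelled with the same prime `a`.
Symmetric in `(b, mb) ↔ (c, mc)`. -/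
structure TwoSided (σ : Finset ℕ) (p : ℕ) (V K : Subgroup G) (a b c : ℕ) (mb mc : G) : Prop where
  ha : a ∈ σ ∧ a ≠ p
  hb : b ∈ σ ∧ b ≠ p
  hc : c ∈ σ ∧ c ≠ p
  hab : a ≠ b
  hac : a ≠ c
  hbc : b ≠ c
  oddb : b ≠ 2
  oddc : c ≠ 2
  npb : NormalPrime K b mb
  npc : NormalPrime K c mc
  comm : Commute mb mc
  fpfb : Fpf mb V
  fpfc : Fpf mc V
  /-- elements of order `a` centralising `mb` (resp. `mc`) are good -/
  goodb : ∀ u ∈ K, orderOf u = a → Commute u mb → ¬ Fpf u V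
  goodc : ∀ u ∈ K, orderOf u = a → Commute u mc → ¬ Fpf u V
  /-- the `c`-part of an `ac`-element is bad and its `a`-part moves `mb`; same with `b`, `mc` -/
  badc : ∀ e ∈ K, ∀ z ∈ K, orderOf e = a → orderOf z = c → Commute e z → Fpf z V ∧ ¬ Commute e mb
  badb : ∀ e ∈ K, ∀ w ∈ K, orderOf e = a → orderOf w = b → Commute e w → Fpf w V ∧ ¬ Commute e mc
  /-- `O_a(K) = 1` -/
  noa : ∀ m' : G, ¬ NormalPrime K a m'

/-! ## Pieces about one normal subgroup of prime order -/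

/-- PIECE ExNP: `K` has a normal subgroup of prime order.
[`K ≠ 1` (KFacts.j1) is solvable: a minimal normal subgroup is elementary abelian, normal abelian, hence cyclic
by `Ctx.cyc`, hence of prime order.] -/
def ExNormalPrimeStmt : Prop :=
  ∀ (G : Type u) [Group G] (σ : Finset ℕ) (p : ℕ) (V K : Subgroup G), Ctx σ p V K →
    ∃ (c : ℕ) (m : G), NormalPrime K c m

/-- PIECE NPBad (A1): the generator of a normal subgroup of prime order is bad.
[`V ⊓ C(m)` is `K`-invariant; `ShapeI.irred`, `ShapeI.faithful`.] -/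
def NPBadStmt : Prop :=
  ∀ (G : Type u) [Group G] (σ : Finset ℕ) (p : ℕ) (V K : Subgroup G), Ctx σ p V K →
    ∀ (c : ℕ) (m : G), NormalPrime K c m → Fpf m V

/-- PIECE NPGood (A2): an element of prime order of `K` that does not centralise `m` is good.
[`⟨m⟩⟨y⟩` is a Frobenius group acting on `V`, `m` acts non-trivially: T1.] -/
def NPGoodStmt : Prop :=
  ∀ (G : Type u) [Group G] (σ : Finset ℕ) (p : ℕ) (V K : Subgroup G), Ctx σ p V K →
    ∀ (c : ℕ) (m : G), NormalPrime K c m →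
      ∀ y ∈ K, (orderOf y).Prime → ¬ Commute y m → ¬ Fpf y V

/-- PIECE NPMixed (A3): for commuting `u`, `w` of orders `a`, `b` (the two primes of `K` other than `c`) EXACTLY one
of them centralises `m`, and that one is bad.
[both: `u w m` has order `abc`; none: `⟨m⟩⟨uw⟩` Frobenius with cyclic complement, `uw` is fpf by (N1), T1;
`u` central good, `w` not: `⟨m⟩⟨w⟩` Frobenius on `C_V(u)`, `m` fpf there, T1 gives a vector fixed by `uw`.] -/
def NPMixedStmt : Prop :=
  ∀ (G : Type u) [Group G] (σ : Finset ℕ) (p : ℕ) (V K : Subgroup G), Ctx σ p V K →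
    ∀ (c : ℕ) (m : G), NormalPrime K c m →
    ∀ a b : ℕ, a ∈ σ → b ∈ σ → a ≠ p → b ≠ p → a ≠ c → b ≠ c → a ≠ b →
      ∀ u ∈ K, ∀ w ∈ K, orderOf u = a → orderOf w = b → Commute u w →
        (Commute u m ∧ ¬ Commute w m ∧ Fpf u V) ∨ (¬ Commute u m ∧ Commute w m ∧ Fpf w V)

/-- PIECE NPComm: generators of normal subgroups of different prime orders commute. -/
def NPCommStmt : Prop :=
  ∀ (G : Type u) [Group G] (K : Subgroup G) (c a : ℕ) (m m' : G),
    NormalPrime K c m → NormalPrime K a m' → a ≠ c → Commute m' m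

/-- PIECE NPOdd: if some element of `K` moves `m` then `c ≠ 2`. -/
def NPOddStmt : Prop :=
  ∀ (G : Type u) [Group G] (K : Subgroup G) (c : ℕ) (m y : G),
    NormalPrime K c m → y ∈ K → ¬ Commute y m → c ≠ 2

/-- PIECE Label (helper27/helper28 (4)-(5)): for one of the two other primes, ALL elements of that order in
`C_K(m)` are good.
[`Y0` Hall `{a,b}`-subgroup of `C = K ⊓ C(m)`; no `ab`-element in `C` (NPMixed); so `O_a(Y0) = 1` or `O_b(Y0) = 1`;
if `B0 = O_b(Y0) ≠ 1` every `u ∈ Y0` of order `a` is fpf on `B0`, `B0⟨u⟩` Frobenius, T1: `u` good; every element of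
order `a` of `C` is conjugate into `Y0`.] -/
def LabelStmt : Prop :=
  NPMixedStmt.{u} →
  ∀ (G : Type u) [Group G] (σ : Finset ℕ) (p : ℕ) (V K : Subgroup G), Ctx σ p V K →
    ∀ (c : ℕ) (m : G), NormalPrime K c m →
    ∀ a b : ℕ, a ∈ σ → b ∈ σ → a ≠ p → b ≠ p → a ≠ c → b ≠ c → a ≠ b →
      (∀ u ∈ K, orderOf u = a → Commute u m → ¬ Fpf u V) ∨
      (∀ w ∈ K, orderOf w = b → Commute w m → ¬ Fpf w V)

/-! ## (E2): `O_t(K) = 1` for both other primes -/

/-- PIECE E2: if `c` is odd and `K` has no normal subgroup of prime order `≠ c`, then no element of prime order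
`≠ c` of `K` is bad.
[`F(K) = O_c(K) =: Q` (a normal `t`-subgroup `≠ 1` gives `Ω₁ Z`, normal abelian, cyclic, so a normal subgroup of
order `t`); `w` bad ⇒ `[Q, w] = 1` by HH = S3765 (`q = c` odd); `w ∈ C_K(F(K)) ≤ F(K)`, a `c`-group.] -/
def E2Stmt : Prop :=
  ∀ (G : Type u) [Group G] (σ : Finset ℕ) (p : ℕ) (V K : Subgroup G), Ctx σ p V K →
    ∀ (c : ℕ) (m : G), NormalPrime K c m → c ≠ 2 →
      (∀ (t : ℕ) (m' : G), t ≠ c → ¬ NormalPrime K t m') →
      ∀ w ∈ K, (orderOf w).Prime → orderOf w ≠ c → Fpf w V → False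

/-! ## (E3): the two-sided situation -/

/-- PIECE CyclicSide (F2): `O_b(K)` or `O_c(K)` is cyclic.
[both non-cyclic, odd: S0126 gives `y, g ∈ O_b`, `z, h ∈ O_c` with `g⁻¹ y g = y mb^i`, `h⁻¹ z h = z mc^j`;
`DiagConj.diag` on `V` gives `W = V ⊓ C(z) ≠ 1`, again on `W` gives a vector fixed by `y z`, against (N1).] -/
def CyclicSideStmt : Prop :=
  ∀ (G : Type u) [Group G] (σ : Finset ℕ) (p : ℕ) (V K : Subgroup G), Ctx σ p V K →
    ∀ (a b c : ℕ) (mb mc : G), TwoSided σ p V K a b c mb mc → SideCyc K c ∨ SideCyc K b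

/-- PIECE BadSocle (F1)+(F3): if `O_c(K)` is cyclic, every bad element of order `c` lies in `⟨mc⟩`.
[`z` centralises `O_b(K)` (HH, `b` odd); if `z` moves the cyclic `Q0 = O_c(K)`, pick `g1 ∈ Q0` with
`[g1, z] = mc^j ≠ 1` and use `DiagConj.diag`; so `z ∈ C_K(F(K)) ≤ F(K) = O_b × O_c` (`noa`), `z ∈ Ω₁(Q0) = ⟨mc⟩`.] -/
def BadSocleStmt : Prop :=
  ∀ (G : Type u) [Group G] (σ : Finset ℕ) (p : ℕ) (V K : Subgroup G), Ctx σ p V K →
    ∀ (a b c : ℕ) (mb mc : G), TwoSided σ p V K a b c mb mc → SideCyc K c →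
      ∀ z ∈ K, orderOf z = c → Fpf z V → z ∈ Subgroup.zpowers mc

/-- a normal `a`-complement of `K` -/
def IsNormalCompl (K N : Subgroup G) (a : ℕ) : Prop :=
  N ≤ K ∧ K ≤ Subgroup.normalizer (N : Set G) ∧ (∀ x ∈ N, orderOf x ≠ a) ∧
    ∀ x ∈ K, ¬ a ∣ orderOf x → x ∈ N

/-- PIECE NormalCompl: `K` has a normal `a`-complement.
[`D = K ⊓ C(mb) ⊓ C(mc)` is normal, has no element of order `a` (`u mb mc` would have order `abc`), `K/D` is abelian;
`N = {x ∈ K | x ^ n ∈ D}`, `n` the `a'`-part of `|K|`.] -/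
def NormalComplStmt : Prop :=
  ∀ (G : Type u) [Group G] (σ : Finset ℕ) (p : ℕ) (V K : Subgroup G), Ctx σ p V K →
    ∀ (a b c : ℕ) (mb mc : G), TwoSided σ p V K a b c mb mc → ∃ N : Subgroup G, IsNormalCompl K N a

/-- the group `E = C_a × C_a` with `E ⊓ C(mc) = ⟨u1⟩` -/
def IsEData (K E : Subgroup G) (a : ℕ) (mc u1 : G) : Prop :=
  E ≤ K ∧ (∀ x ∈ E, ∀ y ∈ E, x * y = y * x) ∧ ¬ IsCyclic E ∧ Nat.card E = a ^ 2 ∧
    u1 ∈ E ∧ orderOf u1 = a ∧ Commute u1 mc ∧ ∀ e ∈ E, Commute e mc → e ∈ Subgroup.zpowers u1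

/-- PIECE EData: from `Rank2 K a`: `E = ⟨e₁, e₂⟩`; `E` acts on `⟨mc⟩` through the cyclic group `Aut(C_c)`, so some
`u1 ∈ E` of order `a` centralises `mc`; not all of `E` does (an element of `E` of order `a` centralising `mb` exists
for the same reason and cannot centralise `mc`: `abc`). -/
def EDataStmt : Prop :=
  ∀ (G : Type u) [Group G] (σ : Finset ℕ) (p : ℕ) (V K : Subgroup G), Ctx σ p V K →
    ∀ (a b c : ℕ) (mb mc : G), TwoSided σ p V K a b c mb mc →
      ∃ (E : Subgroup G) (u1 : G), IsEData K E a mc u1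

/-- PIECE DiagFromE (F4): an element of order `a` that moves `mc` commutes with an element of order `c`.
[`E` acts coprimely on `N`; `Q` an `E`-invariant Sylow `c`-subgroup of `N` = of `K`, `Rank2 Q c`; coprime generation
S0058: if the claim fails, `Q ≤ C(u1)`; `u1` is good, `Q` acts on `W = V ⊓ C(u1) ≠ 1` with all elements of order `c`
fpf (N1), coprime generation on `W` under `C_c × C_c ≤ Q`: `W = 1`.] -/
def DiagFromEStmt : Prop :=
  ∀ (G : Type u) [Group G] (σ : Finset ℕ) (p : ℕ) (V K : Subgroup G), Ctx σ p V K →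
    ∀ (a b c : ℕ) (mb mc : G), TwoSided σ p V K a b c mb mc →
    ∀ (N E : Subgroup G) (u1 : G), IsNormalCompl K N a → IsEData K E a mc u1 →
      ∃ e ∈ K, ∃ z ∈ K, orderOf e = a ∧ orderOf z = c ∧ Commute e z ∧ ¬ Commute e mc

end Cfsg.Agent.H15.S3814C2
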