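import Cfsg.Agent.Lib.H15.S3814C2Asm
import Cfsg.Agent.Lib.H13.S3814C2NP
import Cfsg.Agent.Lib.H28.S3814C2Label
import Cfsg.Agent.Lib.H9.S3814C2DiagFromE
import Cfsg.Agent.Lib.H19.S3814C2E2
import Cfsg.Agent.Lib.H24.S3814C2NormalCompl
import Cfsg.Agent.Lib.H26.S3814C2NP
import Cfsg.Agent.Lib.H28.S3814C2EData
import Cfsg.Agent.Lib.H29.S3814C2ExNP
import Cfsg.Agent.Lib.H29.S3814C2NPBad
import Cfsg.Agent.Lib.H7.S3814C2CyclicSide
import Cfsg.Agent.Lib.H10.S3814C2BadSocle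

/-!
# S3814, shape (I), Case 2' : the plugged block (helper15)
-/

set_option autoImplicit false

namespace Cfsg.Agent.H15.S3814C2

open Cfsg.Agent.H7.S3814Defs

universe u

/-- Case 2' with eleven landed pieces plugged. -/
theorem case2_partial (hBS : BadSocleStmt.{u}) : Case2Stmt.{u} :=
  case2 Cfsg.Agent.Lib.H29.S3814C2ExNP.exNormalPrime Cfsg.Agent.Lib.H29.S3814C2NPBad.npBad
    Cfsg.Agent.Lib.H26.S3814C2NP.npMixed
    Cfsg.Agent.Lib.H13.S3814C2NP.npComm Cfsg.Agent.Lib.H13.S3814C2NP.npOdd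
    Cfsg.Agent.Lib.H28.S3814C2Label.label Cfsg.Agent.Lib.H19.S3814C2E2.e2 Cfsg.Agent.H7.S3814C2CyclicSide.cyclicSide hBS
    Cfsg.Agent.Lib.H24.S3814C2NormalCompl.normalCompl
    Cfsg.Agent.Lib.H28.S3814C2EData.eData
    Cfsg.Agent.Lib.H9.S3814C2DiagFromE.diagFromE

/-- **Case 2' is impossible** (all twelve pieces plugged). -/
theorem case2_done : Case2Stmt.{u} :=
  case2_partial Cfsg.Agent.Lib.H10.S3814C2BadSocle.badSocle

end Cfsg.Agent.H15.S3814C2
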