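import Cfsg.Agent.Lib.H22.S3901Defs

/-!
# S3901, piece (2) PROP A (helper15)

`propA : LLStmt → PropAStmt`: for a prime `r ∉ {p, q}` dividing `|N|` take `R ∈ Syl_r(N)`, `T = N_G(R)` (Frattini:
`G = T N`) and apply the local lemma to `T`, `L = T ∩ N`, `M = T ∩ K`, `V = Z(R)`.
-/

set_option autoImplicit false

namespace Cfsg.Agent.H15.S3901PropA

open Cfsg.Agent.Lib.H22.S3901Defs

universe u

theorem propA : LLStmt.{u} → PropAStmt.{u} := by
  intro hLL G _ _ N K _ _ p q hp hq hpq hNK hKq hKp hKN hpp r hr hrN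
  by_contra hcon
  have hrp : r ≠ p := fun h => hcon (Or.inl h)
  have hrq : r ≠ q := fun h => hcon (Or.inr h)
  have : Fact r.Prime := ⟨hr⟩
  -- a Sylow `r`-subgroup of `N`
  obtain ⟨R⟩ : Nonempty (Sylow r N) := inferInstance
  set R' : Subgroup G := (R : Subgroup N).map N.subtype with hR'
  have hR'N : R' ≤ N := by
    rintro x ⟨y, _, rfl⟩
    exact y.2
  have hR'p : IsPGroup r R' := R.2.map N.subtype
  have hR'nt : Nontrivial R' := by
    have h1 : r ∣ Nat.card (R : Subgroup N) := by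
      have := R.card_eq_multiplicity
      rw [this]
      exact dvd_pow_self r ((Nat.factorization_def _ hr ▸ (hr.factorization_pos_of_dvd Nat.card_pos.ne' hrN).ne'))
    have h2 : Nat.card R' = Nat.card (R : Subgroup N) :=
      Subgroup.card_map_of_injective (Subgroup.subtype_injective N)
    rw [← Finite.one_lt_card_iff_nontrivial, h2]
    exact lt_of_lt_of_le hr.one_lt (Nat.le_of_dvd Nat.card_pos h1)
  -- Frattini
  have hfr : Subgroup.normalizer (R' : Set G) ⊔ N = ⊤ := Sylow.normalizer_sup_eq_top R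
  set T : Subgroup G := Subgroup.normalizer (R' : Set G) with hT
  have hR'T : R' ≤ T := Subgroup.le_normalizer
  -- the centre of `R'`
  set Z : Subgroup G := R' ⊓ Subgroup.centralizer (R' : Set G) with hZ
  have hZne : ∃ z ∈ Z, z ≠ 1 := by
    haveI := hR'nt
    have h1 : Nontrivial (Subgroup.center R') := hR'p.center_nontrivial
    obtain ⟨⟨z, hz⟩, hz1⟩ := exists_ne (1 : Subgroup.center R')
    refine ⟨(z : G), ?_, ?_⟩
    · refine Subgroup.mem_inf.mpr ⟨z.2, ?_⟩
      rw [Subgroup.mem_centralizer_iff]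
      intro x hx
      have := Subgroup.mem_center_iff.mp hz ⟨x, hx⟩
      exact congrArg Subtype.val this
    · intro h
      apply hz1
      apply Subtype.ext
      apply Subtype.ext
      simpa using h
  have hZnorm : ∀ t ∈ T, ∀ z ∈ Z, t * z * t⁻¹ ∈ Z := by
    intro t ht z hz
    obtain ⟨hzR, hzC⟩ := Subgroup.mem_inf.mp hz
    have htn := Subgroup.mem_normalizer_iff.mp ht
    refine Subgroup.mem_inf.mpr ⟨(htn z).mp hzR, ?_⟩
    rw [Subgroup.mem_centralizer_iff]
    intro x hx
    have hx' : t⁻¹ * x * t ∈ R' := by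
      have := (Subgroup.mem_normalizer_iff.mp (inv_mem ht) x).mp hx
      simpa using this
    have hc := Subgroup.mem_centralizer_iff.mp hzC (t⁻¹ * x * t) hx'
    calc x * (t * z * t⁻¹) = t * ((t⁻¹ * x * t) * z) * t⁻¹ := by group
      _ = t * (z * (t⁻¹ * x * t)) * t⁻¹ := by rw [hc]
      _ = t * z * t⁻¹ * x := by group
  -- the subgroups of `T`
  have hVn : (Z.subgroupOf T).Normal := by
    refine ⟨fun v hv t => ?_⟩
    rw [Subgroup.mem_subgroupOf] at hv ⊢
    simpa using hZnorm t t.2 v hv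
  haveI := hVn
  have hTK : T ⊔ K = ⊤ := by
    rw [eq_top_iff, ← hfr]
    exact sup_le_sup_left hNK T
  have hMq : (K.subgroupOf T).index = q := by
    have h1 : K.relIndex T = K.relIndex (T ⊔ K) := (Subgroup.relIndex_sup_right T K).symm
    rw [hTK, Subgroup.relIndex_top_right] at h1
    show K.relIndex T = q
    rw [h1, hKq]
  refine hLL T (N.subgroupOf T) (K.subgroupOf T) (Z.subgroupOf T) p q r hp hq hr hpq hrp.symm hrq.symm
    ?_ hMq ?_ ?_ ?_ ?_ ?_ ?_ ?_
  · intro x hx
    rw [Subgroup.mem_subgroupOf] at hx ⊢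
    exact hNK hx
  · intro m hm
    rw [Subgroup.mem_subgroupOf] at hm
    obtain ⟨j, hj⟩ := hKp m hm
    refine ⟨j, ?_⟩
    rw [Subgroup.mem_subgroupOf]
    simpa using hj
  · obtain ⟨k, hkK, hkN⟩ := hKN
    have hk : k ∈ T ⊔ N := by rw [hfr]; trivial
    obtain ⟨t, ht, n, hn, rfl⟩ := Subgroup.mem_sup_of_normal_right.mp hk
    have htK : t ∈ K := by
      have : t = t * n * n⁻¹ := by group
      rw [this]
      exact mul_mem hkK (inv_mem (hNK hn))
    have htN : t ∉ N := fun h => hkN (mul_mem h hn)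
    exact ⟨⟨t, ht⟩, by rw [Subgroup.mem_subgroupOf]; exact htK, by rw [Subgroup.mem_subgroupOf]; exact htN⟩
  · intro x hx
    rw [Subgroup.mem_subgroupOf] at hx
    have := hpp x hx
    rwa [Subgroup.orderOf_coe] at this
  · intro v hv
    rw [Subgroup.mem_subgroupOf] at hv ⊢
    exact hR'N (Subgroup.mem_inf.mp hv).1
  · obtain ⟨z, hz, hz1⟩ := hZne
    intro h
    have hzT : z ∈ T := hR'T (Subgroup.mem_inf.mp hz).1
    have : (⟨z, hzT⟩ : T) ∈ Z.subgroupOf T := by rw [Subgroup.mem_subgroupOf]; exact hz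
    rw [h, Subgroup.mem_bot] at this
    exact hz1 (congrArg Subtype.val this)
  · intro a ha b hb
    rw [Subgroup.mem_subgroupOf] at ha hb
    apply Subtype.ext
    have h1 := Subgroup.mem_centralizer_iff.mp (Subgroup.mem_inf.mp hb).2 a (Subgroup.mem_inf.mp ha).1
    simpa using h1
  · intro v hv
    rw [Subgroup.mem_subgroupOf] at hv
    obtain ⟨k, hk⟩ := hR'p ⟨(v : G), (Subgroup.mem_inf.mp hv).1⟩
    refine ⟨k, ?_⟩
    apply Subtype.ext
    have := congrArg Subtype.val hk
    simpa using this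

example : LLStmt.{0} → PropAStmt.{0} := propA

end Cfsg.Agent.H15.S3901PropA
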