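import Cfsg.Agent.Lib.H24.S4415GD
import Cfsg.Agent.Lib.H10.S4415BadDefs

/-!
helper15: S4415 GOOD block, piece G5 part (e): in a monomial frame with four lines, if the
elements of `R` permute the lines through the four-group and have sign product `1`, then `R`
satisfies the concrete extraspecial predicate `XS z R` (squares and commutators in `{1,z}`, centre
`{1,z}`), `z = -1`.  The sign cocycle `s` is an input (it is unique since `f i ≠ 0`).
-/

set_option autoImplicit false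

namespace Cfsg.Agent.Lib.H15.S4415G5e

open Cfsg.Agent.Lib.H10.S4415 Cfsg.Agent.Lib.H24.S4415G

section pure

/-- Membership in the four-group of `Perm (Fin 4)`. -/
def IsV4 (σ : Equiv.Perm (Fin 4)) : Prop := σ = 1 ∨ (σ * σ = 1 ∧ ∀ i, σ i ≠ i)

instance : DecidablePred IsV4 := fun σ => by unfold IsV4; infer_instance

def c1 : Equiv.Perm (Fin 4) := Equiv.swap 0 1 * Equiv.swap 2 3
def c2 : Equiv.Perm (Fin 4) := Equiv.swap 0 2 * Equiv.swap 1 3
def c3 : Equiv.Perm (Fin 4) := Equiv.swap 0 3 * Equiv.swap 1 2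

set_option maxRecDepth 100000 in
theorem v4_cases : ∀ σ : Equiv.Perm (Fin 4), IsV4 σ → σ = 1 ∨ σ = c1 ∨ σ = c2 ∨ σ = c3 := by
  decide

set_option maxRecDepth 100000 in
theorem v4_comm : ∀ π σ : Equiv.Perm (Fin 4), IsV4 π → IsV4 σ → π * σ = σ * π := by decide

set_option maxRecDepth 100000 in
theorem v4_sq : ∀ π : Equiv.Perm (Fin 4), IsV4 π → π * π = 1 := by decide

theorem kl4 : ∀ a0 a1 a2 a3 : ZMod 3, (a0 = 1 ∨ a0 = -1) → (a1 = 1 ∨ a1 = -1) →
    (a2 = 1 ∨ a2 = -1) → (a3 = 1 ∨ a3 = -1) → a0 * a1 * a2 * a3 = 1 →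
    (a0 * a1 = 1 ∧ a2 * a3 = 1) ∨ (a0 * a1 = -1 ∧ a2 * a3 = -1) := by decide

theorem ratio4 : ∀ p q p' q' : ZMod 3, (p = 1 ∨ p = -1) → (q = 1 ∨ q = -1) →
    (p' = 1 ∨ p' = -1) → (q' = 1 ∨ q' = -1) → q * p' = (p * p') * (q * q') * (p * q') := by
  decide

theorem sq_one : ∀ p : ZMod 3, (p = 1 ∨ p = -1) → p * p = 1 := by decide

theorem neg_ne_self : ∀ p : ZMod 3, (p = 1 ∨ p = -1) → -1 * p ≠ p * 1 := by decide

theorem cancel_pm : ∀ q x y : ZMod 3, (q = 1 ∨ q = -1) → q * x = y * q → x = y := by decide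

theorem kl_pair (a : Fin 4 → ZMod 3) (ha : ∀ i, a i = 1 ∨ a i = -1) (σ : Equiv.Perm (Fin 4))
    (p q r t : Fin 4) (hp : σ p = q) (hq : σ q = p) (hr : σ r = t) (ht : σ t = r)
    (hall : ∀ i : Fin 4, i = p ∨ i = q ∨ i = r ∨ i = t) (hprod : a p * a q * a r * a t = 1) :
    (∀ i, a i * a (σ i) = 1) ∨ (∀ i, a i * a (σ i) = -1) := by
  rcases kl4 (a p) (a q) (a r) (a t) (ha p) (ha q) (ha r) (ha t) hprod with ⟨h1, h2⟩ | ⟨h1, h2⟩
  · left; intro i
    rcases hall i with rfl | rfl | rfl | rfl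
    · rw [hp]; exact h1
    · rw [hq, mul_comm]; exact h1
    · rw [hr]; exact h2
    · rw [ht, mul_comm]; exact h2
  · right; intro i
    rcases hall i with rfl | rfl | rfl | rfl
    · rw [hp]; exact h1
    · rw [hq, mul_comm]; exact h1
    · rw [hr]; exact h2
    · rw [ht, mul_comm]; exact h2

/-- KEY LEMMA: for an even sign vector `a` and `σ` in the four-group, `i ↦ a i * a (σ i)` is a
constant sign. -/
theorem kl (a : Fin 4 → ZMod 3) (ha : ∀ i, a i = 1 ∨ a i = -1) (hprod : ∏ i, a i = 1)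
    (σ : Equiv.Perm (Fin 4)) (hσ : IsV4 σ) :
    (∀ i, a i * a (σ i) = 1) ∨ (∀ i, a i * a (σ i) = -1) := by
  rw [Fin.prod_univ_four] at hprod
  rcases v4_cases σ hσ with rfl | rfl | rfl | rfl
  · left; intro i; exact sq_one _ (ha i)
  · exact kl_pair a ha c1 0 1 2 3 (by decide) (by decide) (by decide) (by decide) (by decide) hprod
  · refine kl_pair a ha c2 0 2 1 3 (by decide) (by decide) (by decide) (by decide) (by decide) ?_
    rw [← hprod]; ring
  · refine kl_pair a ha c3 0 3 1 2 (by decide) (by decide) (by decide) (by decide) (by decide) ?_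
    rw [← hprod]; ring

end pure

section frame

variable {S E : Type*} [Group S] [AddCommGroup E] [Module (ZMod 3) E]
variable {ρ : Representation (ZMod 3) S E} {R : Subgroup S} {b : S} {W : Submodule (ZMod 3) E}
  {f : Fin 4 → E} {φ : ↥(RB R b) → Equiv.Perm (Fin 4)}

/-- Frame-faithfulness: an element of `R<b>` is determined by its action on the frame. -/
theorem frame_ext (hL : LinCtx ρ R b W) (hM : MonoFrame ρ R b W f φ) {g h : S}
    (hg : g ∈ RB R b) (hh : h ∈ RB R b) (heq : ∀ i, ρ g (f i) = ρ h (f i)) : g = h := by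
  have hk : h⁻¹ * g ∈ RB R b := (RB R b).mul_mem ((RB R b).inv_mem hh) hg
  have h1 : ∀ w ∈ W, ρ (h⁻¹ * g) w = w := by
    intro w hw
    have hspan := hM.span w hw
    have hle : Submodule.span (ZMod 3) (Set.range f) ≤
        LinearMap.eqLocus (ρ (h⁻¹ * g)) LinearMap.id := by
      rw [Submodule.span_le]
      rintro _ ⟨i, rfl⟩
      rw [SetLike.mem_coe, LinearMap.mem_eqLocus]
      have e1 : ρ (h⁻¹ * g) (f i) = ρ h⁻¹ (ρ g (f i)) := by rw [map_mul]; rfl
      have e2 : ρ h⁻¹ (ρ h (f i)) = ρ (h⁻¹ * h) (f i) := by rw [map_mul]; rfl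
      rw [e1, heq i, e2, inv_mul_cancel, map_one]; rfl
    exact LinearMap.mem_eqLocus.mp (hle hspan)
  have := hL.faithful _ hk h1
  exact (inv_mul_eq_one.mp this).symm

/-- The sign cocycle identity. -/
theorem cocycle (hM : MonoFrame ρ R b W f φ) (s : ↥(RB R b) → Fin 4 → ZMod 3)
    (hs : ∀ (g : ↥(RB R b)) (i : Fin 4), ρ (g : S) (f i) = s g i • f (φ g i)) (g h : ↥(RB R b)) (i : Fin 4) :
    s (g * h) i = s h i * s g (φ h i) := by
  have h1 := hs (g * h) i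
  rw [phi_mul hM, Equiv.Perm.mul_apply] at h1
  have h2 : ρ ((g * h : ↥(RB R b)) : S) (f i) = (s h i * s g (φ h i)) • f (φ g (φ h i)) := by
    have e1 : ρ ((g * h : ↥(RB R b)) : S) (f i) = ρ (g : S) (ρ (h : S) (f i)) := by
      rw [Subgroup.coe_mul, map_mul]; rfl
    rw [e1, hs h i, map_smul, hs g (φ h i), smul_smul]
  rw [h1] at h2
  exact smul_left_injective (ZMod 3) (f_ne_zero hM _) h2

/-- Action of a product on the frame. -/
theorem act_mul (hM : MonoFrame ρ R b W f φ) (s : ↥(RB R b) → Fin 4 → ZMod 3)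
    (hs : ∀ (g : ↥(RB R b)) (i : Fin 4), ρ (g : S) (f i) = s g i • f (φ g i)) (g h : ↥(RB R b)) (i : Fin 4) :
    ρ ((g : S) * (h : S)) (f i) = (s h i * s g (φ h i)) • f (φ g (φ h i)) := by
  have h1 := hs (g * h) i
  rw [cocycle hM s hs, phi_mul hM, Equiv.Perm.mul_apply, Subgroup.coe_mul] at h1
  exact h1

theorem ne_neg_self (hM : MonoFrame ρ R b W f φ) (i : Fin 4) : f i ≠ -f i := fun h =>
  f_ne_zero hM i (eq_zero_of_eq_neg h)

/-- G5 part (e): the concrete extraspecial predicate for `R` in a four-line frame. -/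
theorem xs_of_frame4 (hL : LinCtx ρ R b W) (hM : MonoFrame ρ R b W f φ)
    (s : ↥(RB R b) → Fin 4 → ZMod 3)
    (hs : ∀ (g : ↥(RB R b)) (i : Fin 4), ρ (g : S) (f i) = s g i • f (φ g i))
    (hs1 : ∀ g i, s g i = 1 ∨ s g i = -1)
    (hV : ∀ g : ↥(RB R b), (g : S) ∈ R → φ g = 1 ∨ (φ g * φ g = 1 ∧ ∀ i, φ g i ≠ i))
    (hdet : ∀ g : ↥(RB R b), (g : S) ∈ R → ∏ i, s g i = 1)
    (z : S) (hzR : z ∈ R) (hz : ∀ i, ρ z (f i) = -f i)
    (hdiag : ∀ i j : Fin 4, i ≠ j →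
      ∃ g : ↥(RB R b), (g : S) ∈ R ∧ φ g = 1 ∧ s g i = -1 ∧ s g j = 1)
    (htr : ∀ i j : Fin 4, ∃ g : ↥(RB R b), (g : S) ∈ R ∧ φ g i = j) : XS z R := by
  have hRB : R ≤ RB R b := R_le_RB R b
  have hzRB : z ∈ RB R b := hRB hzR
  -- `z` negates every multiple of a frame vector
  have hzsmul : ∀ (c : ZMod 3) (i : Fin 4), ρ z (c • f i) = -(c • f i) := by
    intro c i; rw [map_smul, hz i, smul_neg]
  have hV' : ∀ g : ↥(RB R b), (g : S) ∈ R → IsV4 (φ g) := hV
  refine ⟨hzR, ?_, ?_, ?_, ?_, ?_, ?_, ?_⟩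
  · -- z ≠ 1
    intro h1
    have := hz 0
    rw [h1, map_one] at this
    exact ne_neg_self hM 0 this
  · -- z * z = 1
    refine frame_ext hL hM ((RB R b).mul_mem hzRB hzRB) (RB R b).one_mem ?_
    intro i
    have e1 : ρ (z * z) (f i) = ρ z (ρ z (f i)) := by rw [map_mul]; rfl
    rw [e1, hz i, map_neg, hz i, neg_neg, map_one]; rfl
  · -- z central
    intro g hg
    refine frame_ext hL hM ((RB R b).mul_mem (hRB hg) hzRB) ((RB R b).mul_mem hzRB (hRB hg)) ?_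
    intro i
    have e1 : ρ (g * z) (f i) = ρ g (ρ z (f i)) := by rw [map_mul]; rfl
    have e2 : ρ (z * g) (f i) = ρ z (ρ g (f i)) := by rw [map_mul]; rfl
    have e3 := hs ⟨g, hRB hg⟩ i
    simp only at e3
    rw [e1, e2, hz i, map_neg, e3, hzsmul]
  · -- squares
    intro g hg
    have hv : IsV4 (φ ⟨g, hRB hg⟩) := hV' ⟨g, hRB hg⟩ hg
    have hact : ∀ i, ρ (g * g) (f i) =
        (s ⟨g, hRB hg⟩ i * s ⟨g, hRB hg⟩ (φ ⟨g, hRB hg⟩ i)) • f i := by
      intro i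
      have h1 := act_mul hM s hs ⟨g, hRB hg⟩ ⟨g, hRB hg⟩ i
      have h2 : φ ⟨g, hRB hg⟩ (φ ⟨g, hRB hg⟩ i) = i := by
        have := v4_sq _ hv
        have h3 : (φ ⟨g, hRB hg⟩ * φ ⟨g, hRB hg⟩) i = i := by rw [this]; rfl
        exact h3
      rw [h2] at h1
      exact h1
    rcases kl (s ⟨g, hRB hg⟩) (hs1 _) (hdet _ hg) (φ ⟨g, hRB hg⟩) hv with hc | hc
    · left
      refine frame_ext hL hM ((RB R b).mul_mem (hRB hg) (hRB hg)) (RB R b).one_mem ?_
      intro i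
      rw [hact i, hc i, one_smul, map_one]; rfl
    · right
      refine frame_ext hL hM ((RB R b).mul_mem (hRB hg) (hRB hg)) hzRB ?_
      intro i
      rw [hact i, hc i, hz i, neg_one_smul]
  · -- commutators
    intro g hg h hh
    have hvg : IsV4 (φ ⟨g, hRB hg⟩) := hV' ⟨g, hRB hg⟩ hg
    have hvh : IsV4 (φ ⟨h, hRB hh⟩) := hV' ⟨h, hRB hh⟩ hh
    have hgh := fun i => act_mul hM s hs ⟨g, hRB hg⟩ ⟨h, hRB hh⟩ i
    have hhg := fun i => act_mul hM s hs ⟨h, hRB hh⟩ ⟨g, hRB hg⟩ i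
    simp only at hgh hhg
    have hidx : ∀ i, φ ⟨g, hRB hg⟩ (φ ⟨h, hRB hh⟩ i) = φ ⟨h, hRB hh⟩ (φ ⟨g, hRB hg⟩ i) := by
      intro i
      have := v4_comm _ _ hvg hvh
      have h3 : (φ ⟨g, hRB hg⟩ * φ ⟨h, hRB hh⟩) i = (φ ⟨h, hRB hh⟩ * φ ⟨g, hRB hg⟩) i := by
        rw [this]
      exact h3
    have hratio : ∀ i, s ⟨h, hRB hh⟩ i * s ⟨g, hRB hg⟩ (φ ⟨h, hRB hh⟩ i) =
        (s ⟨g, hRB hg⟩ i * s ⟨g, hRB hg⟩ (φ ⟨h, hRB hh⟩ i)) *
        (s ⟨h, hRB hh⟩ i * s ⟨h, hRB hh⟩ (φ ⟨g, hRB hg⟩ i)) *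
        (s ⟨g, hRB hg⟩ i * s ⟨h, hRB hh⟩ (φ ⟨g, hRB hg⟩ i)) := fun i =>
      ratio4 _ _ _ _ (hs1 _ _) (hs1 _ _) (hs1 _ _) (hs1 _ _)
    have hkey : g * h = h * g ∨ g * h = z * (h * g) := by
      have hRBgh : g * h ∈ RB R b := (RB R b).mul_mem (hRB hg) (hRB hh)
      have hRBhg : h * g ∈ RB R b := (RB R b).mul_mem (hRB hh) (hRB hg)
      have hneg : ∀ i, ρ (z * (h * g)) (f i) = -ρ (h * g) (f i) := by
        intro i
        have e2 : ρ (z * (h * g)) (f i) = ρ z (ρ (h * g) (f i)) := by rw [map_mul]; rfl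
        rw [e2, hhg i, hzsmul]
      rcases kl (s ⟨g, hRB hg⟩) (hs1 _) (hdet _ hg) (φ ⟨h, hRB hh⟩) hvh with hc1 | hc1 <;>
        rcases kl (s ⟨h, hRB hh⟩) (hs1 _) (hdet _ hh) (φ ⟨g, hRB hg⟩) hvg with hc2 | hc2
      · left
        refine frame_ext hL hM hRBgh hRBhg ?_
        intro i
        rw [hgh i, hhg i, hratio i, hc1 i, hc2 i, hidx i, one_mul, one_mul]
      · right
        refine frame_ext hL hM hRBgh ((RB R b).mul_mem hzRB hRBhg) ?_
        intro i
        rw [hneg i, hgh i, hhg i, hratio i, hc1 i, hc2 i, hidx i, one_mul, neg_one_mul, neg_smul]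
      · right
        refine frame_ext hL hM hRBgh ((RB R b).mul_mem hzRB hRBhg) ?_
        intro i
        rw [hneg i, hgh i, hhg i, hratio i, hc1 i, hc2 i, hidx i, mul_one, neg_one_mul, neg_smul]
      · left
        refine frame_ext hL hM hRBgh hRBhg ?_
        intro i
        rw [hgh i, hhg i, hratio i, hc1 i, hc2 i, hidx i]
        have : (-1 : ZMod 3) * -1 = 1 := by decide
        rw [this, one_mul]
    rcases hkey with hk | hk
    · left; rw [hk]; group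
    · right; rw [hk]; group
  · -- centre
    intro g hg hcen
    have hv : IsV4 (φ ⟨g, hRB hg⟩) := hV' ⟨g, hRB hg⟩ hg
    -- Step 1: `g` is diagonal
    have hφ1 : φ ⟨g, hRB hg⟩ = 1 := by
      rcases hv with h1 | ⟨_, hfpf⟩
      · exact h1
      · exfalso
        obtain ⟨d, hdR, hd1, hd0, hdj⟩ :=
          hdiag 0 (φ ⟨g, hRB hg⟩ 0) (fun h => hfpf 0 h.symm)
        have hcomm := hcen (d : S) hdR
        have e1 := act_mul hM s hs ⟨g, hRB hg⟩ d 0
        have e2 := act_mul hM s hs d ⟨g, hRB hg⟩ 0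
        simp only at e1 e2
        rw [hd1] at e1 e2
        simp only [Equiv.Perm.coe_one, id_eq] at e1 e2
        rw [hcomm, e2, hd0, hdj] at e1
        have := smul_left_injective (ZMod 3) (f_ne_zero hM (φ ⟨g, hRB hg⟩ 0)) e1
        exact neg_ne_self _ (hs1 ⟨g, hRB hg⟩ 0) this.symm
    -- Step 2: constant signs
    have hconst : ∀ i, s ⟨g, hRB hg⟩ i = s ⟨g, hRB hg⟩ 0 := by
      intro i
      obtain ⟨h, hhR, hhi⟩ := htr 0 i
      have hcomm := hcen (h : S) hhR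
      have e1 := act_mul hM s hs ⟨g, hRB hg⟩ h 0
      have e2 := act_mul hM s hs h ⟨g, hRB hg⟩ 0
      simp only at e1 e2
      rw [hφ1] at e1 e2
      simp only [Equiv.Perm.coe_one, id_eq] at e1 e2
      rw [hcomm, e2] at e1
      have := smul_left_injective (ZMod 3) (f_ne_zero hM (φ h 0)) e1
      rw [hhi] at this
      exact cancel_pm _ _ _ (hs1 h 0) this.symm
    have hactg : ∀ i, ρ g (f i) = s ⟨g, hRB hg⟩ 0 • f i := by
      intro i
      have := hs ⟨g, hRB hg⟩ i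
      simp only at this
      rw [this, hφ1, hconst i]; rfl
    rcases hs1 ⟨g, hRB hg⟩ 0 with h0 | h0
    · left
      refine frame_ext hL hM (hRB hg) (RB R b).one_mem ?_
      intro i; rw [hactg i, h0, one_smul, map_one]; rfl
    · right
      refine frame_ext hL hM (hRB hg) hzRB ?_
      intro i; rw [hactg i, h0, neg_one_smul, hz i]
  · -- big
    obtain ⟨d, hdR, hd1, hd0, hdj⟩ := hdiag 0 1 (by decide)
    refine ⟨(d : S), hdR, ?_, ?_⟩
    · intro h1
      have := hs d 0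
      rw [h1, map_one, hd1, hd0, neg_one_smul] at this
      exact ne_neg_self hM 0 this
    · intro h1
      have := hs d 1
      rw [h1, hz 1, hd1, hdj, one_smul] at this
      exact ne_neg_self hM 1 this.symm

end frame

end Cfsg.Agent.Lib.H15.S4415G5e
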