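import Cfsg.Agent.Lib.H1.S77.Hyp

/-!
S0429 piece (CLS): `z ∈ cls b ⇒ cls z = cls b`.
-/

set_option autoImplicit false
set_option linter.unusedSectionVars false
set_option linter.unusedVariables false
open Cfsg

namespace Cfsg.Agent.Lib.H15.S77

open Cfsg.Agent.Lib.H1.S77 Finset

section
variable {V : Type*} [Fintype V] [DecidableEq V] {G : SimpleGraph V} [DecidableRel G.Adj]
variable {v0 : V}

/-- (CLS) -/
theorem heq (hG : G.IsSRGWith 77 16 0 4) (hc : HCard G v0) (hn : HNadj G v0) (hd : HDisj G v0) :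
    HClsEq G v0 := by
  intro b hb z hz
  have hzB : z ∈ nB G v0 := cls_subset b hz
  have hsub : cls G v0 b ⊆ cls G v0 z := by
    intro w hw
    have hwB : w ∈ nB G v0 := cls_subset b hw
    rw [mem_cls]
    refine ⟨hwB, ?_⟩
    by_cases hwz : w = z
    · exact Or.inl hwz
    · exact Or.inr ⟨hn b hb z hz w hw, hd b hb z hz w hw (fun h => hwz h.symm)⟩
  have hcard : (cls G v0 z).card ≤ (cls G v0 b).card := by
    rw [hc b hb, hc z hzB]
  exact (Finset.eq_of_subset_of_card_le hsub hcard).symm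

end

end Cfsg.Agent.Lib.H15.S77
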