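import Mathlib
import Cfsg.Prelude.Def_SylowChains
import Cfsg.Agent.Lib.H15.Conj
import Cfsg.Agent.Lib.H15.SylowGraph
import Cfsg.Agent.Lib.H9.UpperPAmb
import Cfsg.Agent.Lib.H7.CharMap
import Cfsg.Agent.Lib.H10.SylowIn
import Cfsg.Agent.Lib.H10.PairTransfer
import Cfsg.Agent.Lib.H14.Subnormal

/-!
helper15: strong Alperin–Goldschmidt, part 1: transport of the family conditions under
conjugation.
-/

set_option autoImplicit false

namespace Cfsg.Agent.Lib.H15.SAG

open Cfsg.Agent.Lib.H15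
open Cfsg.Agent.Lib.H9 (opAmb oppAmb)

universe u

variable {G : Type u} [Group G]

/-- chain-connectedness is invariant under isomorphism. -/
theorem isSylowChainConnected_of_mulEquiv {G₁ G₂ : Type*} [Group G₁] [Group G₂] [Finite G₁] (p : ℕ)
    [Fact p.Prime] (e : G₁ ≃* G₂) (h : Cfsg.IsSylowChainConnected p G₁) :
    Cfsg.IsSylowChainConnected p G₂ := by
  intro S T
  have hes : Function.Surjective e.toMonoidHom := e.surjective
  set f : Sylow p G₁ → Sylow p G₂ := Sylow.mapSurjective hes with hf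
  have hfs : Function.Surjective f := Sylow.mapSurjective_surjective hes p
  have hcoe : ∀ Q : Sylow p G₁, ((f Q : Sylow p G₂) : Subgroup G₂) =
      (Q : Subgroup G₁).map e.toMonoidHom := fun Q => Sylow.coe_mapSurjective hes Q
  have hfi : Function.Injective f := by
    intro Q₁ Q₂ h12
    apply Sylow.ext
    have := congrArg (fun Q : Sylow p G₂ => (Q : Subgroup G₂)) h12
    simp only [hcoe] at this
    exact Subgroup.map_injective e.injective this
  obtain ⟨S', rfl⟩ := hfs S
  obtain ⟨T', rfl⟩ := hfs T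
  obtain ⟨n, c, hc0, hcn, hcle, hcadj⟩ := h S' T'
  refine ⟨n, fun i => f (c i), congrArg f hc0, congrArg f hcn, ?_, ?_⟩
  · intro i
    show ((f S' : Sylow p G₂) : Subgroup G₂) ⊓ ((f T' : Sylow p G₂) : Subgroup G₂) ≤
      ((f (c i) : Sylow p G₂) : Subgroup G₂)
    rw [hcoe, hcoe, hcoe, ← Subgroup.map_inf _ _ _ e.injective]
    exact Subgroup.map_mono (hcle i)
  · intro i
    obtain ⟨h1, h2⟩ := hcadj i
    refine ⟨fun e12 => h1 (hfi e12), ?_⟩
    show ((f (c i.castSucc) : Sylow p G₂) : Subgroup G₂) ⊓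
      ((f (c i.succ) : Sylow p G₂) : Subgroup G₂) ≠ ⊥
    rw [hcoe, hcoe, ← Subgroup.map_inf _ _ _ e.injective]
    intro hbot
    apply h2
    rw [Subgroup.map_eq_bot_iff_of_injective _ e.injective] at hbot
    exact hbot

/-- conjugation as an isomorphism of normalizers. -/
def normEquiv (w : G) (H : Subgroup G) :
    ↥(Subgroup.normalizer (H : Set G)) ≃* ↥(Subgroup.normalizer ((cj w H : Subgroup G) : Set G)) where
  toFun n := ⟨w * n * w⁻¹, by
    rw [normalizer_cj]
    exact conj_mem_cj n.2⟩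
  invFun m := ⟨w⁻¹ * m * w, by
    have h := (normalizer_cj w H).le m.2
    exact mem_cj_iff.mp h⟩
  left_inv n := by
    apply Subtype.ext
    show w⁻¹ * (w * n * w⁻¹) * w = n
    group
  right_inv m := by
    apply Subtype.ext
    show w * (w⁻¹ * m * w) * w⁻¹ = m
    group
  map_mul' a b := by
    apply Subtype.ext
    show w * (a * b) * w⁻¹ = (w * a * w⁻¹) * (w * b * w⁻¹)
    group

theorem normEquiv_map (w : G) (H : Subgroup G) :
    (H.subgroupOf (Subgroup.normalizer (H : Set G))).map (normEquiv w H).toMonoidHom =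
      (cj w H).subgroupOf (Subgroup.normalizer ((cj w H : Subgroup G) : Set G)) := by
  ext ⟨m, hm⟩
  rw [Subgroup.mem_map, Subgroup.mem_subgroupOf]
  constructor
  · rintro ⟨⟨n, hn⟩, hnH, hnm⟩
    have hnm' : w * n * w⁻¹ = m := congrArg Subtype.val hnm
    show m ∈ cj w H
    rw [← hnm']
    exact conj_mem_cj (Subgroup.mem_subgroupOf.mp hnH)
  · intro hmH
    have hmH' : w⁻¹ * m * w ∈ H := mem_cj_iff.mp hmH
    refine ⟨⟨w⁻¹ * m * w, Subgroup.le_normalizer hmH'⟩, Subgroup.mem_subgroupOf.mpr hmH', ?_⟩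
    apply Subtype.ext
    show w * (w⁻¹ * m * w) * w⁻¹ = m
    group

/-- the quotients `N(H)/H` and `N(H^w)/H^w` are isomorphic. -/
theorem nonempty_quot_equiv (w : G) (H : Subgroup G) :
    Nonempty ((↥(Subgroup.normalizer (H : Set G)) ⧸ H.subgroupOf (Subgroup.normalizer (H : Set G))) ≃*
      (↥(Subgroup.normalizer ((cj w H : Subgroup G) : Set G)) ⧸
        (cj w H).subgroupOf (Subgroup.normalizer ((cj w H : Subgroup G) : Set G)))) :=
  ⟨QuotientGroup.congr _ _ (normEquiv w H) (normEquiv_map w H)⟩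

/-- transport of non-connectedness. -/
theorem not_connected_cj [Finite G] (p : ℕ) [Fact p.Prime] (w : G) (H : Subgroup G)
    (h : ¬ Cfsg.IsSylowChainConnected p
      (↥(Subgroup.normalizer (H : Set G)) ⧸ H.subgroupOf (Subgroup.normalizer (H : Set G)))) :
    ¬ Cfsg.IsSylowChainConnected p
      (↥(Subgroup.normalizer ((cj w H : Subgroup G) : Set G)) ⧸
        (cj w H).subgroupOf (Subgroup.normalizer ((cj w H : Subgroup G) : Set G))) := by
  obtain ⟨e⟩ := nonempty_quot_equiv w H
  intro hc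
  exact h (isSylowChainConnected_of_mulEquiv p e.symm hc)

/-- transport of `O_{p',p}` of the normalizer. -/
theorem oppAmb_normalizer_cj (p : ℕ) [Fact p.Prime] (w : G) (H : Subgroup G) :
    oppAmb p (Subgroup.normalizer ((cj w H : Subgroup G) : Set G)) =
      cj w (oppAmb p (Subgroup.normalizer (H : Set G))) := by
  have h1 := Cfsg.Agent.Lib.H7.charMap_map_equiv (X := G) (fun Y _ => Cfsg.pPrimePCore p Y)
    (fun Y Y' _ _ e => Cfsg.Agent.Lib.H7.pPrimePCore_map_equiv p e)
    (Subgroup.normalizer (H : Set G)) (MulAut.conj w)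
  have h2 : (Subgroup.normalizer (H : Set G)).map (MulAut.conj w).toMonoidHom =
      Subgroup.normalizer ((cj w H : Subgroup G) : Set G) := (normalizer_cj w H).symm
  have h3 := Cfsg.Agent.Lib.H7.charMap_congr (X := G) (fun Y _ => Cfsg.pPrimePCore p Y) h2
  unfold oppAmb
  rw [← h3]
  exact h1.symm

end Cfsg.Agent.Lib.H15.SAG
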