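import Mathlib
import Cfsg.Agent.Lib.H15.SAG1
import Cfsg.Agent.Lib.H10.ConjFamily

/-!
helper15: strong Alperin–Goldschmidt, part 2: the family, its invariance under `N_G(P)`, and the
chain relation.
-/

set_option autoImplicit false

namespace Cfsg.Agent.Lib.H15.SAG

open Cfsg.Agent.Lib.H15
open Cfsg.Agent.Lib.H9 (opAmb oppAmb)
open Cfsg.Agent.Lib.H10 (rconj rconj_one rconj_mul rconj_mono rconj_coe rconj_inv_rconj
  rconj_coe_of_mem_normalizer)
open Cfsg.Agent.Lib.H14 (presOf)

universe u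

variable {G : Type u} [Group G]

/-- The conditions on a member `H` of the family, with its subgroup `X`. -/
def Fam (p : ℕ) (P H X : Subgroup G) : Prop :=
  H ≤ P ∧
  ¬ p ∣ (P ⊓ Subgroup.normalizer (H : Set G)).relIndex (Subgroup.normalizer (H : Set G)) ∧
  P ⊓ Subgroup.centralizer (H : Set G) ≤ H ∧
  oppAmb p (Subgroup.normalizer (H : Set G)) = H ⊔ Subgroup.centralizer (H : Set G) ∧
  ¬ Cfsg.IsSylowChainConnected p
      (↥(Subgroup.normalizer (H : Set G)) ⧸ H.subgroupOf (Subgroup.normalizer (H : Set G))) ∧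
  H ≤ X ∧ X ≤ Subgroup.normalizer (H : Set G) ∧
  Subgroup.normalizer (H : Set G) ≤ Subgroup.normalizer (X : Set G) ∧ p ∣ H.relIndex X ∧
  ∀ Y : Subgroup G, H ≤ Y → Y ≤ Subgroup.normalizer (H : Set G) →
    Subgroup.normalizer (H : Set G) ≤ Subgroup.normalizer (Y : Set G) → p ∣ H.relIndex Y → X ≤ Y

theorem cj_sup (w : G) (A B : Subgroup G) : cj w (A ⊔ B) = cj w A ⊔ cj w B :=
  Subgroup.map_sup A B _

theorem cj_inf (w : G) (A B : Subgroup G) : cj w (A ⊓ B) = cj w A ⊓ cj w B :=
  Subgroup.map_inf A B _ (MulAut.conj w).injective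

theorem relIndex_cj (w : G) (A B : Subgroup G) : (cj w A).relIndex (cj w B) = A.relIndex B :=
  Subgroup.relIndex_map_map_of_injective _ _ (MulAut.conj w).injective

theorem cj_le_cj_iff (w : G) {A B : Subgroup G} : cj w A ≤ cj w B ↔ A ≤ B := by
  constructor
  · intro h
    have := cj_mono w⁻¹ h
    rwa [cj_inv_cj, cj_inv_cj] at this
  · exact cj_mono w

/-- invariance of the family under elements normalizing `P`. -/
theorem Fam.cj [Finite G] {p : ℕ} [Fact p.Prime] {P H X : Subgroup G} (h : Fam p P H X) {w : G}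
    (hw : cj w P = P) : Fam p P (cj w H) (cj w X) := by
  obtain ⟨h1, h2, h3, h4, h5, h6, h7, h8, h9, h10⟩ := h
  have hN : Subgroup.normalizer ((Cfsg.Agent.Lib.H15.cj w H : Subgroup G) : Set G) =
      Cfsg.Agent.Lib.H15.cj w (Subgroup.normalizer (H : Set G)) := normalizer_cj w H
  have hC : Subgroup.centralizer ((Cfsg.Agent.Lib.H15.cj w H : Subgroup G) : Set G) =
      Cfsg.Agent.Lib.H15.cj w (Subgroup.centralizer (H : Set G)) := centralizer_cj w H
  refine ⟨?_, ?_, ?_, ?_, not_connected_cj p w H h5, cj_mono w h6, ?_, ?_, ?_, ?_⟩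
  · rw [← hw]; exact cj_mono w h1
  · rw [hN]
    have : P ⊓ Cfsg.Agent.Lib.H15.cj w (Subgroup.normalizer (H : Set G)) =
        Cfsg.Agent.Lib.H15.cj w (P ⊓ Subgroup.normalizer (H : Set G)) := by
      rw [cj_inf, hw]
    rw [this, relIndex_cj]
    exact h2
  · rw [hC]
    have : P ⊓ Cfsg.Agent.Lib.H15.cj w (Subgroup.centralizer (H : Set G)) =
        Cfsg.Agent.Lib.H15.cj w (P ⊓ Subgroup.centralizer (H : Set G)) := by
      rw [cj_inf, hw]
    rw [this]
    exact cj_mono w h3
  · rw [oppAmb_normalizer_cj, h4, cj_sup, hC]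
  · rw [hN]; exact cj_mono w h7
  · rw [hN, normalizer_cj]; exact cj_mono w h8
  · rw [relIndex_cj]; exact h9
  · intro Y hY1 hY2 hY3 hY4
    have e : Y = Cfsg.Agent.Lib.H15.cj w (Cfsg.Agent.Lib.H15.cj w⁻¹ Y) := (cj_cj_inv Y w).symm
    rw [e]
    apply cj_mono w
    apply h10
    · rw [← cj_le_iff]; exact hY1
    · rw [hN] at hY2
      have := cj_mono w⁻¹ hY2
      rwa [cj_inv_cj] at this
    · rw [hN] at hY3
      have := cj_mono w⁻¹ hY3
      rw [cj_inv_cj, ← normalizer_cj] at this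
      exact this
    · have : H.relIndex (Cfsg.Agent.Lib.H15.cj w⁻¹ Y) =
          (Cfsg.Agent.Lib.H15.cj w H).relIndex (Cfsg.Agent.Lib.H15.cj w (Cfsg.Agent.Lib.H15.cj w⁻¹ Y)) :=
        (relIndex_cj w _ _).symm
      rw [this, cj_cj_inv]
      exact hY4

/-- `O^p` commutes with conjugation. -/
theorem presOf_cj (p : ℕ) (w : G) (X : Subgroup G) : presOf p (cj w X) = cj w (presOf p X) := by
  unfold presOf
  show _ = (Subgroup.closure _).map (MulAut.conj w).toMonoidHom
  rw [MonoidHom.map_closure]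
  congr 1
  ext y
  constructor
  · rintro ⟨hy, hyo⟩
    refine ⟨w⁻¹ * y * w, ⟨mem_cj_iff.mp hy, ?_⟩, ?_⟩
    · have : orderOf (w⁻¹ * y * w) = orderOf y := by
        have := orderOf_injective (MulAut.conj w⁻¹).toMonoidHom (MulAut.conj w⁻¹).injective y
        simpa using this
      rw [this]; exact hyo
    · show w * (w⁻¹ * y * w) * w⁻¹ = y
      group
  · rintro ⟨x, ⟨hx, hxo⟩, rfl⟩
    refine ⟨conj_mem_cj hx, ?_⟩
    have : orderOf (w * x * w⁻¹) = orderOf x :=
      orderOf_injective (MulAut.conj w).toMonoidHom (MulAut.conj w).injective x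
    show (orderOf (w * x * w⁻¹)).Coprime p
    rw [this]; exact hxo

/-- The step predicate. -/
def St (p : ℕ) (P H : Subgroup G) (x : G) : Prop :=
  ∃ X : Subgroup G, Fam p P H X ∧ x ∈ presOf p X

theorem St.mem_normalizer {p : ℕ} {P H : Subgroup G} {x : G} (h : St p P H x) :
    x ∈ Subgroup.normalizer (H : Set G) := by
  obtain ⟨X, hF, hx⟩ := h
  exact hF.2.2.2.2.2.2.1 (Cfsg.Agent.Lib.H14.presOf_le p X hx)

theorem St.inv {p : ℕ} {P H : Subgroup G} {x : G} (h : St p P H x) : St p P H x⁻¹ := by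
  obtain ⟨X, hF, hx⟩ := h
  exact ⟨X, hF, Subgroup.inv_mem _ hx⟩

theorem St.cj [Finite G] {p : ℕ} [Fact p.Prime] {P H : Subgroup G} {x : G} (h : St p P H x) {w : G}
    (hw : Cfsg.Agent.Lib.H15.cj w P = P) : St p P (Cfsg.Agent.Lib.H15.cj w H) (w * x * w⁻¹) := by
  obtain ⟨X, hF, hx⟩ := h
  refine ⟨Cfsg.Agent.Lib.H15.cj w X, hF.cj hw, ?_⟩
  rw [presOf_cj]
  exact conj_mem_cj hx

/-- The chain relation. -/
inductive SR (p : ℕ) (P : Subgroup G) : Set G → G → Prop
  | nil (A : Set G) : SR p P A 1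
  | cons (A : Set G) (H : Subgroup G) (x g : G) : St p P H x → A ⊆ (H : Set G) →
      SR p P (rconj x A) g → SR p P A (x * g)

theorem SR.single {p : ℕ} {P : Subgroup G} {A : Set G} {H : Subgroup G} {x : G} (hx : St p P H x)
    (hA : A ⊆ (H : Set G)) : SR p P A x := by
  have := SR.cons A H x 1 hx hA (SR.nil _)
  rwa [mul_one] at this

theorem SR.restrict {p : ℕ} {P : Subgroup G} {A : Set G} {g : G} (h : SR p P A g) :
    ∀ {B : Set G}, B ⊆ A → SR p P B g := by
  induction h with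
  | nil A => intro B _; exact SR.nil _
  | cons A H x g hx hA _ ih =>
    intro B hB
    exact SR.cons B H x g hx (hB.trans hA) (ih (rconj_mono x hB))

theorem SR.trans {p : ℕ} {P : Subgroup G} {A : Set G} {g : G} (h : SR p P A g) :
    ∀ {k : G}, SR p P (rconj g A) k → SR p P A (g * k) := by
  induction h with
  | nil A => intro k hk; rwa [rconj_one, ← one_mul k] at hk
  | cons A H x g hx hA _ ih =>
    intro k hk
    rw [rconj_mul] at hk
    rw [mul_assoc]
    exact SR.cons A H x (g * k) hx hA (ih hk)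

theorem SR.symm {p : ℕ} {P : Subgroup G} {A : Set G} {g : G} (h : SR p P A g) :
    SR p P (rconj g A) g⁻¹ := by
  induction h with
  | nil A => rw [inv_one]; exact SR.nil _
  | cons A H x g hx hA _ ih =>
    rw [rconj_mul, mul_inv_rev]
    refine SR.trans ih ?_
    rw [rconj_inv_rconj]
    refine SR.single hx.inv ?_
    calc rconj x A ⊆ rconj x (H : Set G) := rconj_mono x hA
      _ = (H : Set G) := rconj_coe_of_mem_normalizer hx.mem_normalizer

theorem rconj_inv_coe (w : G) (H : Subgroup G) :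
    rconj w⁻¹ (H : Set G) = ((Cfsg.Agent.Lib.H15.cj w H : Subgroup G) : Set G) := by
  rw [rconj_coe, inv_inv]

/-- conjugation of a chain by an element normalizing `P`. -/
theorem SR.cj [Finite G] {p : ℕ} [Fact p.Prime] {P : Subgroup G} {A : Set G} {g : G}
    (h : SR p P A g) {w : G} (hw : Cfsg.Agent.Lib.H15.cj w P = P) :
    SR p P (rconj w⁻¹ A) (w * g * w⁻¹) := by
  induction h with
  | nil A =>
    have : w * 1 * w⁻¹ = (1 : G) := by group
    rw [this]; exact SR.nil _
  | cons A H x g hx hA _ ih =>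
    have e : w * (x * g) * w⁻¹ = (w * x * w⁻¹) * (w * g * w⁻¹) := by group
    rw [e]
    refine SR.cons _ (Cfsg.Agent.Lib.H15.cj w H) _ _ (hx.cj hw) ?_ ?_
    · rw [← rconj_inv_coe]
      exact rconj_mono _ hA
    · have e2 : rconj (w * x * w⁻¹) (rconj w⁻¹ A) = rconj w⁻¹ (rconj x A) := by
        rw [← rconj_mul, ← rconj_mul]
        congr 1
        group
      rw [e2]
      exact ih

end Cfsg.Agent.Lib.H15.SAG
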