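import Mathlib
import Cfsg.Agent.Lib.H15.SAG2
import Cfsg.Agent.S1854

/-!
helper15: strong Alperin–Goldschmidt, part 3: the relation `Good` and its closure properties.
-/

set_option autoImplicit false

namespace Cfsg.Agent.Lib.H15.SAG

open Cfsg.Agent.Lib.H15
open Cfsg.Agent.Lib.H9 (opAmb oppAmb)
open Cfsg.Agent.Lib.H10 (rconj rconj_one rconj_mul rconj_mono rconj_coe rconj_inv_rconj
  rconj_coe_of_mem_normalizer sylNormFamily)
open Cfsg.Agent.Lib.H14 (presOf)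

universe u

variable {G : Type u} [Group G]

/-- the relation. -/
def Good (p : ℕ) (P : Subgroup G) (A : Set G) (g : G) : Prop :=
  (∃ a ∈ A, a ≠ 1) → ∃ c ∈ Subgroup.centralizer A, ∃ r y : G,
    y ∈ Subgroup.normalizer (P : Set G) ∧ g = c * r * y ∧ SR p P A r

theorem rconj_cent {A : Set G} {c : G} (hc : c ∈ Subgroup.centralizer A) : rconj c A = A :=
  Cfsg.Agent.S1854.rconj_of_mem_centralizer hc

theorem good_res {p : ℕ} {P : Subgroup G} {A B : Set G} {g : G} (h : Good p P A g) (hBA : B ⊆ A) :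
    Good p P B g := by
  rintro ⟨b, hb, hb1⟩
  obtain ⟨c, hc, r, y, hy, hg, hr⟩ := h ⟨b, hBA hb, hb1⟩
  exact ⟨c, Subgroup.centralizer_le hBA hc, r, y, hy, hg, hr.restrict hBA⟩

theorem cj_eq_of_mem_normalizer {P : Subgroup G} {y : G}
    (hy : y ∈ Subgroup.normalizer (P : Set G)) : Cfsg.Agent.Lib.H15.cj y P = P :=
  mem_normalizer_iff_cj_eq.mp hy

theorem good_trans [Finite G] {p : ℕ} [Fact p.Prime] {P : Subgroup G} {A : Set G} {g h : G}
    (h1 : Good p P A g) (h2 : Good p P (rconj g A) h) : Good p P A (g * h) := by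
  rintro ⟨a, ha, ha1⟩
  obtain ⟨c, hc, r, y, hy, hg, hr⟩ := h1 ⟨a, ha, ha1⟩
  have hne' : ∃ b ∈ rconj g A, b ≠ 1 := by
    refine ⟨g⁻¹ * a * g, ⟨a, ha, rfl⟩, ?_⟩
    intro e
    apply ha1
    have : a = g * (g⁻¹ * a * g) * g⁻¹ := by group
    rw [this, e]; group
  obtain ⟨c', hc', r', y', hy', hh, hr'⟩ := h2 hne'
  have hgA : rconj g A = rconj y (rconj r A) := by
    rw [hg, rconj_mul, rconj_mul, rconj_cent hc]
  have hc'' : g * c' * g⁻¹ ∈ Subgroup.centralizer A := by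
    rw [Subgroup.mem_centralizer_iff]
    intro b hb
    have h3 := Subgroup.mem_centralizer_iff.mp hc' (g⁻¹ * b * g) ⟨b, hb, rfl⟩
    calc b * (g * c' * g⁻¹) = g * ((g⁻¹ * b * g) * c') * g⁻¹ := by group
      _ = g * (c' * (g⁻¹ * b * g)) * g⁻¹ := by rw [h3]
      _ = g * c' * g⁻¹ * b := by group
  refine ⟨g * c' * g⁻¹ * c, Subgroup.mul_mem _ hc'' hc, r * (y * r' * y⁻¹), y * y',
    Subgroup.mul_mem _ hy hy', ?_, ?_⟩
  · rw [hh]
    conv_lhs => rw [hg]
    have : g * c' * g⁻¹ * c * (r * (y * r' * y⁻¹)) * (y * y') =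
        g * c' * g⁻¹ * (c * r * y) * r' * y' := by group
    rw [this, ← hg]
    group
  · refine SR.trans hr ?_
    have h4 := SR.cj hr' (w := y) (cj_eq_of_mem_normalizer hy)
    rw [hgA, rconj_inv_rconj] at h4
    exact h4

theorem good_symm [Finite G] {p : ℕ} [Fact p.Prime] {P : Subgroup G} {A : Set G} {g : G}
    (h1 : Good p P A g) : Good p P (rconj g A) g⁻¹ := by
  rintro ⟨b, ⟨a, ha, rfl⟩, hb1⟩
  have ha1 : a ≠ 1 := by
    rintro rfl
    apply hb1
    show g⁻¹ * 1 * g = 1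
    group
  obtain ⟨c, hc, r, y, hy, hg, hr⟩ := h1 ⟨a, ha, ha1⟩
  have hgA : rconj g A = rconj y (rconj r A) := by
    rw [hg, rconj_mul, rconj_mul, rconj_cent hc]
  have hc'' : g⁻¹ * c⁻¹ * g ∈ Subgroup.centralizer (rconj g A) := by
    rw [Subgroup.mem_centralizer_iff]
    rintro _ ⟨b, hb, rfl⟩
    have h3 := Subgroup.mem_centralizer_iff.mp (Subgroup.inv_mem _ hc) b hb
    show g⁻¹ * b * g * (g⁻¹ * c⁻¹ * g) = g⁻¹ * c⁻¹ * g * (g⁻¹ * b * g)
    calc g⁻¹ * b * g * (g⁻¹ * c⁻¹ * g) = g⁻¹ * (b * c⁻¹) * g := by group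
      _ = g⁻¹ * (c⁻¹ * b) * g := by rw [h3]
      _ = g⁻¹ * c⁻¹ * g * (g⁻¹ * b * g) := by group
  have hyi : y⁻¹ ∈ Subgroup.normalizer (P : Set G) := Subgroup.inv_mem _ hy
  refine ⟨g⁻¹ * c⁻¹ * g, hc'', y⁻¹ * r⁻¹ * y, y⁻¹, hyi, ?_, ?_⟩
  · have : g⁻¹ * c⁻¹ * g * (y⁻¹ * r⁻¹ * y) * y⁻¹ = g⁻¹ * c⁻¹ * g * (c * r * y)⁻¹ * c := by group
    rw [this, ← hg]
    group
  · have h4 := SR.cj hr.symm (w := y⁻¹) (cj_eq_of_mem_normalizer hyi)
    rw [inv_inv] at h4
    rw [hgA]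
    exact h4

theorem good_cent {p : ℕ} {P : Subgroup G} {A : Set G} {c : G}
    (hc : c ∈ Subgroup.centralizer A) : Good p P A c := by
  intro _
  exact ⟨c, hc, 1, 1, Subgroup.one_mem _, by group, SR.nil _⟩

theorem good_norm {p : ℕ} {P : Subgroup G} {A : Set G} {y : G}
    (hy : y ∈ Subgroup.normalizer (P : Set G)) : Good p P A y := by
  intro _
  exact ⟨1, Subgroup.one_mem _, 1, y, hy, by group, SR.nil _⟩

theorem good_step {p : ℕ} {P H : Subgroup G} {A : Set G} {x : G} (hx : St p P H x)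
    (hA : A ⊆ (H : Set G)) : Good p P A x := by
  intro _
  exact ⟨1, Subgroup.one_mem _, x, 1, Subgroup.one_mem _, by group, SR.single hx hA⟩

/-- composition inside the normalizer of `U`. -/
theorem good_mul [Finite G] {p : ℕ} [Fact p.Prime] {P U : Subgroup G} {a b : G}
    (ha : a ∈ Subgroup.normalizer (U : Set G)) (h1 : Good p P (U : Set G) a)
    (h2 : Good p P (U : Set G) b) : Good p P (U : Set G) (a * b) := by
  refine good_trans h1 ?_
  rw [rconj_coe_of_mem_normalizer ha]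
  exact h2

theorem good_inv [Finite G] {p : ℕ} [Fact p.Prime] {P U : Subgroup G} {a : G}
    (ha : a ∈ Subgroup.normalizer (U : Set G)) (h1 : Good p P (U : Set G) a) :
    Good p P (U : Set G) a⁻¹ := by
  have := good_symm h1
  rwa [rconj_coe_of_mem_normalizer ha] at this

/-- elements normalizing a larger subgroup of `P`. -/
theorem good_of_bigger [Finite G] {p : ℕ} [Fact p.Prime] {P U T : Subgroup G}
    (hbig : ∀ Q' : Subgroup G, Q' ≤ P → Nat.card U < Nat.card Q' → ∀ g' : G,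
      Q'.map (MulAut.conj g'⁻¹).toMonoidHom ≤ P → Good p P (Q' : Set G) g')
    (hUT : U < T) (hTP : T ≤ P) {m : G} (hm : m ∈ Subgroup.normalizer (T : Set G)) :
    Good p P (U : Set G) m := by
  have hTm : T.map (MulAut.conj m⁻¹).toMonoidHom ≤ P := by
    rw [Cfsg.Agent.Lib.H10.mem_normalizer_iff_map_conj.mp (inv_mem hm)]; exact hTP
  exact good_res (hbig T hTP (Cfsg.Agent.Lib.H10.card_lt_card_of_lt hUT) m hTm)
    (SetLike.coe_subset_coe.mpr hUT.le)

end Cfsg.Agent.Lib.H15.SAG
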