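import Mathlib
import Cfsg.Agent.Lib.H15.SAG3

/-!
helper15: strong Alperin–Goldschmidt, part 4: the easy cases of the local step.
-/

set_option autoImplicit false

namespace Cfsg.Agent.Lib.H15.SAG

open Cfsg.Agent.Lib.H15
open Cfsg.Agent.Lib.H9 (opAmb oppAmb)
open Cfsg.Agent.Lib.H10 (rconj rconj_one rconj_mul rconj_mono rconj_coe rconj_inv_rconj
  rconj_coe_of_mem_normalizer sylNormFamily mem_normalizer_iff_map_conj)
open Cfsg.Agent.Lib.H14 (presOf)

universe u

variable {G : Type u} [Group G]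

/-- a product `c * m` with `c` centralizing `U` and `m` normalizing a larger subgroup of `P`. -/
theorem good_of_factor [Finite G] {p : ℕ} [Fact p.Prime] {P U T : Subgroup G}
    (hbig : ∀ Q' : Subgroup G, Q' ≤ P → Nat.card U < Nat.card Q' → ∀ g' : G,
      Q'.map (MulAut.conj g'⁻¹).toMonoidHom ≤ P → Good p P (Q' : Set G) g')
    (hUT : U < T) (hTP : T ≤ P) {x c m : G}
    (hc : c ∈ Subgroup.centralizer (U : Set G)) (hm : m ∈ Subgroup.normalizer (T : Set G))
    (hx : x = c * m) : Good p P (U : Set G) x := by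
  rw [hx]
  exact good_mul (Subgroup.centralizer_le_normalizer _ hc) (good_cent hc)
    (good_of_bigger hbig hUT hTP hm)

/-- the local step when `U` is not a Goldschmidt member. -/
theorem good_local_easy [Finite G] {p : ℕ} [hp : Fact p.Prime] (P : Sylow p G) (U : Subgroup G)
    (hU : U ∈ sylNormFamily p (P : Subgroup G))
    (hbig : ∀ Q' : Subgroup G, Q' ≤ (P : Subgroup G) → Nat.card U < Nat.card Q' → ∀ g' : G,
      Q'.map (MulAut.conj g'⁻¹).toMonoidHom ≤ (P : Subgroup G) →
        Good p (P : Subgroup G) (Q' : Set G) g')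
    (hne : ¬ ((P : Subgroup G) ⊓ Subgroup.centralizer (U : Set G) ≤ U ∧
      (P : Subgroup G) ⊓ oppAmb p (Subgroup.normalizer (U : Set G)) = U)) :
    ∀ x ∈ Subgroup.normalizer (U : Set G), Good p (P : Subgroup G) (U : Set G) x := by
  intro x hx
  obtain ⟨hUP, hUi⟩ := hU
  have hUp : IsPGroup p U := P.2.to_le hUP
  set N := Subgroup.normalizer (U : Set G) with hN
  set C := Subgroup.centralizer (U : Set G) with hC
  have hCN : C ≤ N := Subgroup.centralizer_le_normalizer _
  have hNC : N ≤ Subgroup.normalizer (C : Set G) :=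
    Cfsg.Agent.S2791.normalizer_le_normalizer_centralizer' U
  by_cases h1 : (P : Subgroup G) ⊓ C ≤ U
  · have h2 : ¬ (P : Subgroup G) ⊓ oppAmb p N = U := fun h => hne ⟨h1, h⟩
    have hUX : U ≤ oppAmb p N :=
      Cfsg.Agent.S1854.le_oppAmb_of_isPGroup Subgroup.le_normalizer le_rfl hUp
    have hlt : U < (P : Subgroup G) ⊓ oppAmb p N :=
      lt_of_le_of_ne (le_inf hUP hUX) (Ne.symm h2)
    obtain ⟨c, hc, m, hm, hxcm⟩ := Cfsg.Agent.S2791.frattini_factor (S := (P : Subgroup G))
      (N := N) (K := oppAmb p N) (C := opAmb p N) P.2 hUi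
      (Cfsg.Agent.Lib.H9.opAmb_le_oppAmb p N)
      (Cfsg.Agent.Lib.H9.oppAmb_le p N) (Cfsg.Agent.Lib.H9.le_normalizer_oppAmb p N)
      (Cfsg.Agent.Lib.H9.le_normalizer_opAmb p N)
      (fun k hk => Cfsg.Agent.Lib.H9.exists_pow_mem_opAmb hk) x hx
    have hcC : c ∈ Subgroup.centralizer (U : Set G) := by
      rw [Subgroup.mem_centralizer_iff]
      intro u hu
      exact (Cfsg.Agent.S1854.opAmb_commute hUp c hc u hu).symm
    exact good_of_factor hbig hlt inf_le_left hcC (Subgroup.mem_inf.mp hm).2 hxcm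
  · obtain ⟨c, hc, m, hm, hxcm⟩ := Cfsg.Agent.S2791.frattini_factor (S := (P : Subgroup G))
      (N := N) (K := C) (C := C) P.2 hUi le_rfl hCN hNC hNC
      (fun k hk => ⟨0, by simpa using hk⟩) x hx
    obtain ⟨hmN, hmT⟩ := Subgroup.mem_inf.mp hm
    have hlt : U < U ⊔ ((P : Subgroup G) ⊓ C) := by
      refine lt_of_le_of_ne le_sup_left ?_
      intro he
      apply h1
      rw [he]
      exact le_sup_right
    have hmT' : m ∈ Subgroup.normalizer ((U ⊔ ((P : Subgroup G) ⊓ C) : Subgroup G) : Set G) := by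
      rw [mem_normalizer_iff_map_conj, Subgroup.map_sup, mem_normalizer_iff_map_conj.mp hmN,
        mem_normalizer_iff_map_conj.mp hmT]
    exact good_of_factor hbig hlt (sup_le hUP inf_le_left) hc hmT' hxcm

/-- for a Goldschmidt member, `O_{p',p}(N_G(U)) = U C_G(U)`. -/
theorem oppAmb_eq_of_gold [Finite G] {p : ℕ} [hp : Fact p.Prime] (P : Sylow p G) (U : Subgroup G)
    (hG : Cfsg.Agent.S1854.Gold p P U) :
    oppAmb p (Subgroup.normalizer (U : Set G)) = U ⊔ Subgroup.centralizer (U : Set G) := by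
  obtain ⟨hUP, hC, hD, -⟩ := hG
  have hUp : IsPGroup p U := P.2.to_le hUP
  obtain ⟨h1, h2, h3, h4, h5⟩ := hD
  apply le_antisymm
  · rw [← h5]
    refine sup_le ?_ le_sup_left
    refine le_trans ?_ le_sup_right
    intro y hy
    rw [Subgroup.mem_centralizer_iff]
    intro u hu
    exact (Cfsg.Agent.S1854.opAmb_commute hUp y hy u hu).symm
  · exact sup_le h2 hC

end Cfsg.Agent.Lib.H15.SAG
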