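import Mathlib
import Cfsg.Agent.Lib.H15.SAG4
import Cfsg.Agent.Lib.H15.SylowGraph

/-!
helper15: strong Alperin–Goldschmidt, part 5: the local step when the Sylow graph of
`N_G(U)/U` is connected.
-/

set_option autoImplicit false

namespace Cfsg.Agent.Lib.H15.SAG

open Cfsg.Agent.Lib.H15
open Cfsg.Agent.Lib.H5 (sylow_mem_smul_iff)
open Cfsg.Agent.Lib.H9 (opAmb oppAmb)
open Cfsg.Agent.Lib.H10 (rconj rconj_one rconj_mul rconj_mono rconj_coe rconj_inv_rconj
  rconj_coe_of_mem_normalizer sylNormFamily mem_normalizer_iff_map_conj)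
open Cfsg.Agent.Lib.H14 (presOf)

universe u

variable {G : Type u} [Group G]

theorem isPGroup_inf_subgroupOf {p : ℕ} (P : Sylow p G) (N : Subgroup G) :
    IsPGroup p (((P : Subgroup G) ⊓ N).subgroupOf N) :=
  (P.2.to_le (inf_le_left : (P : Subgroup G) ⊓ N ≤ P)).comap_subtype

/-- `P ∩ N` as a Sylow subgroup of `N`. -/
noncomputable def inSylow {p : ℕ} [hp : Fact p.Prime] (P : Sylow p G) (N : Subgroup G)
    (hUi : ¬ p ∣ ((P : Subgroup G) ⊓ N).relIndex N) : Sylow p ↥N :=
  (isPGroup_inf_subgroupOf P N).toSylow (show ¬ p ∣ (((P : Subgroup G) ⊓ N).subgroupOf N).index from hUi)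

theorem coe_inSylow {p : ℕ} [hp : Fact p.Prime] (P : Sylow p G) (N : Subgroup G)
    (hUi : ¬ p ∣ ((P : Subgroup G) ⊓ N).relIndex N) :
    ((inSylow P N hUi : Sylow p ↥N) : Subgroup ↥N) = ((P : Subgroup G) ⊓ N).subgroupOf N :=
  IsPGroup.toSylow_coe _ _

/-- the image of `P ∩ N_G(U)` in `N_G(U)/U`, as a Sylow subgroup. -/
noncomputable def barSylow [Finite G] {p : ℕ} [hp : Fact p.Prime] (P : Sylow p G) (U : Subgroup G)
    (hUi : ¬ p ∣ ((P : Subgroup G) ⊓ Subgroup.normalizer (U : Set G)).relIndex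
      (Subgroup.normalizer (U : Set G))) :
    Sylow p (↥(Subgroup.normalizer (U : Set G)) ⧸ U.subgroupOf (Subgroup.normalizer (U : Set G))) :=
  (inSylow P (Subgroup.normalizer (U : Set G)) hUi).mapSurjective
      (QuotientGroup.mk'_surjective (U.subgroupOf (Subgroup.normalizer (U : Set G))))

theorem mem_barSylow_iff [Finite G] {p : ℕ} [hp : Fact p.Prime] (P : Sylow p G) (U : Subgroup G)
    (hUP : U ≤ (P : Subgroup G))
    (hUi : ¬ p ∣ ((P : Subgroup G) ⊓ Subgroup.normalizer (U : Set G)).relIndex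
      (Subgroup.normalizer (U : Set G)))
    (z : ↥(Subgroup.normalizer (U : Set G))) :
    QuotientGroup.mk' (U.subgroupOf (Subgroup.normalizer (U : Set G))) z ∈ barSylow P U hUi ↔
      (z : G) ∈ (P : Subgroup G) := by
  unfold barSylow
  rw [← SetLike.mem_coe, ← Sylow.coe_coe, Sylow.coe_mapSurjective, SetLike.mem_coe,
    coe_inSylow]
  constructor
  · rintro ⟨w, hw, hwz⟩
    have hw : (w : G) ∈ (P : Subgroup G) ⊓ Subgroup.normalizer (U : Set G) := hw
    have h1 : w⁻¹ * z ∈ U.subgroupOf (Subgroup.normalizer (U : Set G)) := by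
      rw [← QuotientGroup.eq]; exact hwz
    rw [Subgroup.mem_subgroupOf] at h1
    have h2 : (z : G) = (w : G) * ((w⁻¹ * z : ↥(Subgroup.normalizer (U : Set G))) : G) := by
      simp
    rw [h2]
    exact Subgroup.mul_mem _ hw.1 (hUP h1)
  · intro hz
    exact ⟨z, Subgroup.mem_subgroupOf.mpr ⟨hz, z.2⟩, rfl⟩

/-- an element of `N_G(U)` whose image fixes the image of `P ∩ N_G(U)` normalizes `P ∩ N_G(U)`. -/
theorem conj_mem_of_smul_eq [Finite G] {p : ℕ} [hp : Fact p.Prime] (P : Sylow p G) (U : Subgroup G)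
    (hUP : U ≤ (P : Subgroup G))
    (hUi : ¬ p ∣ ((P : Subgroup G) ⊓ Subgroup.normalizer (U : Set G)).relIndex
      (Subgroup.normalizer (U : Set G)))
    (k : ↥(Subgroup.normalizer (U : Set G)))
    (hk : QuotientGroup.mk' (U.subgroupOf (Subgroup.normalizer (U : Set G))) k • barSylow P U hUi =
      barSylow P U hUi) {z : G} (hz' : z ∈ (P : Subgroup G) ⊓ Subgroup.normalizer (U : Set G)) :
    (k : G) * z * (k : G)⁻¹ ∈ (P : Subgroup G) ⊓ Subgroup.normalizer (U : Set G) := by
  have hz := Subgroup.mem_inf.mp hz'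
  refine Subgroup.mem_inf.mpr ⟨?_, ?_⟩
  · have h1 : QuotientGroup.mk' (U.subgroupOf (Subgroup.normalizer (U : Set G)))
        (k * ⟨z, hz.2⟩ * k⁻¹) ∈ barSylow P U hUi := by
      rw [← hk, sylow_mem_smul_iff]
      have e : (QuotientGroup.mk' (U.subgroupOf (Subgroup.normalizer (U : Set G))) k)⁻¹ *
          QuotientGroup.mk' (U.subgroupOf (Subgroup.normalizer (U : Set G))) (k * ⟨z, hz.2⟩ * k⁻¹) *
          QuotientGroup.mk' (U.subgroupOf (Subgroup.normalizer (U : Set G))) k =
          QuotientGroup.mk' (U.subgroupOf (Subgroup.normalizer (U : Set G))) ⟨z, hz.2⟩ := by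
        rw [← map_inv, ← map_mul, ← map_mul]
        congr 1
        group
      rw [e, mem_barSylow_iff P U hUP hUi]
      exact hz.1
    rw [mem_barSylow_iff P U hUP hUi] at h1
    exact h1
  · exact Subgroup.mul_mem _ (Subgroup.mul_mem _ k.2 hz.2) (Subgroup.inv_mem _ k.2)

theorem mem_normalizer_of_smul_eq [Finite G] {p : ℕ} [hp : Fact p.Prime] (P : Sylow p G)
    (U : Subgroup G) (hUP : U ≤ (P : Subgroup G))
    (hUi : ¬ p ∣ ((P : Subgroup G) ⊓ Subgroup.normalizer (U : Set G)).relIndex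
      (Subgroup.normalizer (U : Set G)))
    (k : ↥(Subgroup.normalizer (U : Set G)))
    (hk : QuotientGroup.mk' (U.subgroupOf (Subgroup.normalizer (U : Set G))) k • barSylow P U hUi =
      barSylow P U hUi) :
    (k : G) ∈ Subgroup.normalizer
      (((P : Subgroup G) ⊓ Subgroup.normalizer (U : Set G) : Subgroup G) : Set G) := by
  have hk' : QuotientGroup.mk' (U.subgroupOf (Subgroup.normalizer (U : Set G))) k⁻¹ •
      barSylow P U hUi = barSylow P U hUi := by
    rw [map_inv, inv_smul_eq_iff, hk]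
  rw [Subgroup.mem_normalizer_iff]
  intro z
  constructor
  · intro hz
    exact conj_mem_of_smul_eq P U hUP hUi k hk hz
  · intro hz
    have := conj_mem_of_smul_eq P U hUP hUi k⁻¹ hk' hz
    have e : ((k⁻¹ : ↥(Subgroup.normalizer (U : Set G))) : G) * ((k : G) * z * (k : G)⁻¹) *
        ((k⁻¹ : ↥(Subgroup.normalizer (U : Set G))) : G)⁻¹ = z := by
      rw [Subgroup.coe_inv]; group
    rwa [e] at this

/-- the induction along a path in the Sylow graph of `N_G(U)/U`. -/
theorem good_of_sylConn [Finite G] {p : ℕ} [hp : Fact p.Prime] (P : Sylow p G) (U : Subgroup G)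
    (hUP : U < (P : Subgroup G))
    (hUi : ¬ p ∣ ((P : Subgroup G) ⊓ Subgroup.normalizer (U : Set G)).relIndex
      (Subgroup.normalizer (U : Set G)))
    (hbig : ∀ Q' : Subgroup G, Q' ≤ (P : Subgroup G) → Nat.card U < Nat.card Q' → ∀ g' : G,
      Q'.map (MulAut.conj g'⁻¹).toMonoidHom ≤ (P : Subgroup G) →
        Good p (P : Subgroup G) (Q' : Set G) g')
    {T : Sylow p (↥(Subgroup.normalizer (U : Set G)) ⧸ U.subgroupOf (Subgroup.normalizer (U : Set G)))}
    (h : sylConn (barSylow P U hUi) T) :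
    ∀ k : ↥(Subgroup.normalizer (U : Set G)),
      QuotientGroup.mk' (U.subgroupOf (Subgroup.normalizer (U : Set G))) k • barSylow P U hUi = T →
      Good p (P : Subgroup G) (U : Set G) (k : G) := by
  induction h with
  | refl =>
    intro k hk
    have hkN := mem_normalizer_of_smul_eq P U hUP.le hUi k hk
    exact good_of_bigger hbig (Cfsg.Agent.Lib.H10.lt_inf_normalizer_of_lt P.2 hUP) inf_le_left hkN
  | @tail Tb Tc _ hbc ih =>
    intro k' hk'
    obtain ⟨g, hg⟩ := MulAction.exists_smul_eq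
      (↥(Subgroup.normalizer (U : Set G)) ⧸ U.subgroupOf (Subgroup.normalizer (U : Set G)))
      (barSylow P U hUi) Tb
    obtain ⟨k, rfl⟩ := QuotientGroup.mk'_surjective _ g
    have hGk := ih k hg
    obtain ⟨xb, hxb1, hxbB, hxbC⟩ := inf_ne_bot_iff.mp hbc.2
    obtain ⟨x', rfl⟩ := QuotientGroup.mk'_surjective _ xb
    have hxbB' : QuotientGroup.mk' (U.subgroupOf (Subgroup.normalizer (U : Set G))) x' ∈ Tb := hxbB
    have hxbC' : QuotientGroup.mk' (U.subgroupOf (Subgroup.normalizer (U : Set G))) x' ∈ Tc := hxbC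
    rw [← hg, sylow_mem_smul_iff, ← map_inv, ← map_mul, ← map_mul,
      mem_barSylow_iff P U hUP.le hUi] at hxbB'
    rw [← hk', sylow_mem_smul_iff, ← map_inv, ← map_mul, ← map_mul,
      mem_barSylow_iff P U hUP.le hUi] at hxbC'
    set a : G := ((k⁻¹ * x' * k : ↥(Subgroup.normalizer (U : Set G))) : G) with ha
    set j : G := (k : G)⁻¹ * (k' : G) with hj
    have hjN : j ∈ Subgroup.normalizer (U : Set G) :=
      Subgroup.mul_mem _ (Subgroup.inv_mem _ k.2) k'.2
    have hab : j⁻¹ * a * j = ((k'⁻¹ * x' * k' : ↥(Subgroup.normalizer (U : Set G))) : G) := by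
      rw [ha, hj]
      simp only [Subgroup.coe_mul, Subgroup.coe_inv]
      group
    have haU : a ∉ U := by
      intro haU
      apply hxb1
      have h1 : k⁻¹ * x' * k ∈ U.subgroupOf (Subgroup.normalizer (U : Set G)) :=
        Subgroup.mem_subgroupOf.mpr haU
      have h2 : QuotientGroup.mk' (U.subgroupOf (Subgroup.normalizer (U : Set G))) (k⁻¹ * x' * k) = 1 :=
        (QuotientGroup.eq_one_iff _).mpr h1
      rw [map_mul, map_mul, map_inv] at h2
      have h3 := congrArg (fun t => QuotientGroup.mk' (U.subgroupOf (Subgroup.normalizer (U : Set G))) k * t *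
        (QuotientGroup.mk' (U.subgroupOf (Subgroup.normalizer (U : Set G))) k)⁻¹) h2
      simpa [mul_assoc] using h3
    have hlt : U < U ⊔ Subgroup.zpowers a := by
      refine lt_of_le_of_ne le_sup_left ?_
      intro he
      apply haU
      rw [he]
      exact Subgroup.mem_sup_right (Subgroup.mem_zpowers a)
    have hDP : U ⊔ Subgroup.zpowers a ≤ (P : Subgroup G) :=
      sup_le hUP.le (by rw [Subgroup.zpowers_le]; exact hxbB')
    have hmap : (U ⊔ Subgroup.zpowers a).map (MulAut.conj j⁻¹).toMonoidHom ≤ (P : Subgroup G) := by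
      rw [Subgroup.map_sup, mem_normalizer_iff_map_conj.mp (Subgroup.inv_mem _ hjN),
        MonoidHom.map_zpowers]
      refine sup_le hUP.le ?_
      rw [Subgroup.zpowers_le]
      show (MulAut.conj j⁻¹) a ∈ (P : Subgroup G)
      rw [MulAut.conj_apply, inv_inv, hab]
      exact hxbC'
    have hGj : Good p (P : Subgroup G) (U : Set G) j :=
      good_res (hbig _ hDP (Cfsg.Agent.Lib.H10.card_lt_card_of_lt hlt) j hmap)
        (SetLike.coe_subset_coe.mpr le_sup_left)
    have e : (k' : G) = (k : G) * j := by rw [hj]; group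
    rw [e]
    exact good_mul k.2 hGk hGj

/-- the local step when the Sylow graph of `N_G(U)/U` is connected. -/
theorem good_local_connected [Finite G] {p : ℕ} [hp : Fact p.Prime] (P : Sylow p G) (U : Subgroup G)
    (hUP : U < (P : Subgroup G))
    (hUi : ¬ p ∣ ((P : Subgroup G) ⊓ Subgroup.normalizer (U : Set G)).relIndex
      (Subgroup.normalizer (U : Set G)))
    (hbig : ∀ Q' : Subgroup G, Q' ≤ (P : Subgroup G) → Nat.card U < Nat.card Q' → ∀ g' : G,
      Q'.map (MulAut.conj g'⁻¹).toMonoidHom ≤ (P : Subgroup G) →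
        Good p (P : Subgroup G) (Q' : Set G) g')
    (hconn : Cfsg.IsSylowChainConnected p
      (↥(Subgroup.normalizer (U : Set G)) ⧸ U.subgroupOf (Subgroup.normalizer (U : Set G)))) :
    ∀ x ∈ Subgroup.normalizer (U : Set G), Good p (P : Subgroup G) (U : Set G) x := by
  intro x hx
  have h := isSylowChainConnected_iff.mp hconn (barSylow P U hUi)
    (QuotientGroup.mk' (U.subgroupOf (Subgroup.normalizer (U : Set G))) ⟨x, hx⟩ • barSylow P U hUi)
  exact good_of_sylConn P U hUP hUi hbig h ⟨x, hx⟩ rfl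

end Cfsg.Agent.Lib.H15.SAG
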