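import Mathlib
import Cfsg.Agent.Lib.H15.SAG5
import Cfsg.Agent.S3058

/-!
helper15: strong Alperin–Goldschmidt, part 6: the local step when the Sylow graph of
`N_G(U)/U` is not connected: the smallest normal subgroup of order divisible by `p`.
-/

set_option autoImplicit false

namespace Cfsg.Agent.Lib.H15.SAG

open Cfsg.Agent.Lib.H15
open Cfsg.Agent.Lib.H9 (opAmb oppAmb)
open Cfsg.Agent.Lib.H10 (rconj rconj_one rconj_mul rconj_mono rconj_coe rconj_inv_rconj
  rconj_coe_of_mem_normalizer sylNormFamily mem_normalizer_iff_map_conj)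
open Cfsg.Agent.Lib.H14 (presOf)

universe u

variable {G : Type u} [Group G]

theorem dvd_relIndex_of_lt_isPGroup [Finite G] {p : ℕ} [hp : Fact p.Prime] {U T : Subgroup G}
    (hT : IsPGroup p T) (hlt : U < T) : p ∣ U.relIndex T := by
  obtain ⟨n, hn⟩ := hT.index (U.subgroupOf T)
  have h1 : U.relIndex T = p ^ n := hn
  have hn0 : n ≠ 0 := by
    rintro rfl
    rw [pow_zero, Subgroup.relIndex_eq_one] at h1
    exact absurd h1 (not_le_of_gt hlt)
  rw [h1]
  exact dvd_pow_self p hn0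

/-- the order of the image of `Y` in `N_G(U)/U`. -/
theorem card_map_mk_subgroupOf (U Y : Subgroup G) (hYN : Y ≤ Subgroup.normalizer (U : Set G)) :
    Nat.card ((Y.subgroupOf (Subgroup.normalizer (U : Set G))).map
      (QuotientGroup.mk' (U.subgroupOf (Subgroup.normalizer (U : Set G))))) = U.relIndex Y := by
  rw [← Subgroup.relIndex_bot_left, ← Subgroup.relIndex_comap, MonoidHom.comap_bot,
    QuotientGroup.ker_mk', Subgroup.relIndex_subgroupOf hYN]

/-- the normal subgroups of `N_G(U)` above `U` of index over `U` divisible by `p`. -/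
def famY (p : ℕ) (U : Subgroup G) : Set (Subgroup G) :=
  {Y | U ≤ Y ∧ Y ≤ Subgroup.normalizer (U : Set G) ∧
    Subgroup.normalizer (U : Set G) ≤ Subgroup.normalizer (Y : Set G) ∧ p ∣ U.relIndex Y}

theorem le_normalizer_inf {N Y₁ Y₂ : Subgroup G} (h1 : N ≤ Subgroup.normalizer (Y₁ : Set G))
    (h2 : N ≤ Subgroup.normalizer (Y₂ : Set G)) :
    N ≤ Subgroup.normalizer ((Y₁ ⊓ Y₂ : Subgroup G) : Set G) := by
  intro n hn
  rw [Subgroup.mem_normalizer_iff]
  intro y
  rw [Subgroup.mem_inf, Subgroup.mem_inf, ← Subgroup.mem_normalizer_iff.mp (h1 hn) y,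
    ← Subgroup.mem_normalizer_iff.mp (h2 hn) y]

theorem famY_inf [Finite G] {p : ℕ} [hp : Fact p.Prime] {U : Subgroup G}
    (hnc : ¬ Cfsg.IsSylowChainConnected p
      (↥(Subgroup.normalizer (U : Set G)) ⧸ U.subgroupOf (Subgroup.normalizer (U : Set G))))
    {Y₁ Y₂ : Subgroup G} (h1 : Y₁ ∈ famY p U) (h2 : Y₂ ∈ famY p U) : Y₁ ⊓ Y₂ ∈ famY p U := by
  obtain ⟨a1, b1, c1, d1⟩ := h1
  obtain ⟨a2, b2, c2, d2⟩ := h2
  refine ⟨le_inf a1 a2, inf_le_left.trans b1, le_normalizer_inf c1 c2, ?_⟩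
  set N := Subgroup.normalizer (U : Set G) with hN
  set π := QuotientGroup.mk' (U.subgroupOf N) with hπ
  have hsurj : Function.Surjective π := QuotientGroup.mk'_surjective _
  have n1 : ((Y₁.subgroupOf N).map π).Normal :=
    Subgroup.Normal.map (Subgroup.normal_subgroupOf_of_le_normalizer c1) π hsurj
  have n2 : ((Y₂.subgroupOf N).map π).Normal :=
    Subgroup.Normal.map (Subgroup.normal_subgroupOf_of_le_normalizer c2) π hsurj
  have e1 : p ∣ Nat.card ((Y₁.subgroupOf N).map π) := by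
    rw [card_map_mk_subgroupOf U Y₁ b1]; exact d1
  have e2 : p ∣ Nat.card ((Y₂.subgroupOf N).map π) := by
    rw [card_map_mk_subgroupOf U Y₂ b2]; exact d2
  have h3 := Cfsg.Agent.S3058.result p hnc _ _ e1 e2
  have h4 : (Y₁.subgroupOf N).map π ⊓ (Y₂.subgroupOf N).map π ≤
      ((Y₁ ⊓ Y₂).subgroupOf N).map π := by
    rintro t ⟨⟨z1, hz1, rfl⟩, ⟨z2, hz2, hz⟩⟩
    refine ⟨z2, ?_, hz⟩
    have hz1' : (z1 : G) ∈ Y₁ := hz1
    have hz2' : (z2 : G) ∈ Y₂ := hz2
    have h5 : z1⁻¹ * z2 ∈ U.subgroupOf N := by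
      rw [← QuotientGroup.eq]; exact hz.symm
    have h5' : ((z1⁻¹ * z2 : ↥N) : G) ∈ U := h5
    have h6 : (z2 : G) = (z1 : G) * ((z1⁻¹ * z2 : ↥N) : G) := by simp
    show (z2 : G) ∈ Y₁ ⊓ Y₂
    refine Subgroup.mem_inf.mpr ⟨?_, hz2'⟩
    rw [h6]
    exact Y₁.mul_mem hz1' (a1 h5')
  have h7 := h3.trans (Subgroup.card_dvd_of_le h4)
  rwa [card_map_mk_subgroupOf U _ (inf_le_left.trans b1)] at h7

theorem normalizer_mem_famY [Finite G] {p : ℕ} [hp : Fact p.Prime] (P : Sylow p G) {U : Subgroup G}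
    (hUP : U < (P : Subgroup G)) : Subgroup.normalizer (U : Set G) ∈ famY p U := by
  refine ⟨Subgroup.le_normalizer, le_rfl, Subgroup.le_normalizer, ?_⟩
  have hlt := Cfsg.Agent.Lib.H10.lt_inf_normalizer_of_lt P.2 hUP
  have h1 := dvd_relIndex_of_lt_isPGroup (P.2.to_le (inf_le_left :
    (P : Subgroup G) ⊓ Subgroup.normalizer (U : Set G) ≤ P)) hlt
  rw [← Subgroup.relIndex_mul_relIndex U _ _ hlt.le inf_le_right]
  exact Dvd.dvd.mul_right h1 _

/-- the smallest member of `famY`. -/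
theorem exists_min_famY [Finite G] {p : ℕ} [hp : Fact p.Prime] (P : Sylow p G) {U : Subgroup G}
    (hUP : U < (P : Subgroup G))
    (hnc : ¬ Cfsg.IsSylowChainConnected p
      (↥(Subgroup.normalizer (U : Set G)) ⧸ U.subgroupOf (Subgroup.normalizer (U : Set G)))) :
    ∃ X ∈ famY p U, ∀ Y ∈ famY p U, X ≤ Y := by
  obtain ⟨X, hX⟩ := (Set.toFinite (famY p U)).exists_minimal ⟨_, normalizer_mem_famY P hUP⟩
  refine ⟨X, hX.prop, fun Y hY => ?_⟩
  have h1 := famY_inf hnc hX.prop hY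
  exact (hX.le_of_le h1 inf_le_left).trans inf_le_right

/-- the local step when the Sylow graph of `N_G(U)/U` is not connected. -/
theorem good_local_disconnected [Finite G] {p : ℕ} [hp : Fact p.Prime] (P : Sylow p G)
    (U : Subgroup G) (hUP : U < (P : Subgroup G))
    (hUi : ¬ p ∣ ((P : Subgroup G) ⊓ Subgroup.normalizer (U : Set G)).relIndex
      (Subgroup.normalizer (U : Set G)))
    (hbig : ∀ Q' : Subgroup G, Q' ≤ (P : Subgroup G) → Nat.card U < Nat.card Q' → ∀ g' : G,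
      Q'.map (MulAut.conj g'⁻¹).toMonoidHom ≤ (P : Subgroup G) →
        Good p (P : Subgroup G) (Q' : Set G) g')
    (h1 : (P : Subgroup G) ⊓ Subgroup.centralizer (U : Set G) ≤ U)
    (h2 : oppAmb p (Subgroup.normalizer (U : Set G)) = U ⊔ Subgroup.centralizer (U : Set G))
    (hnc : ¬ Cfsg.IsSylowChainConnected p
      (↥(Subgroup.normalizer (U : Set G)) ⧸ U.subgroupOf (Subgroup.normalizer (U : Set G)))) :
    ∀ x ∈ Subgroup.normalizer (U : Set G), Good p (P : Subgroup G) (U : Set G) x := by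
  intro x hx
  obtain ⟨X, ⟨hUX, hXN, hNX, hpX⟩, hmin⟩ := exists_min_famY P hUP hnc
  have hFam : Fam p (P : Subgroup G) U X :=
    ⟨hUP.le, hUi, h1, h2, hnc, hUX, hXN, hNX, hpX, fun Y a b c d => hmin Y ⟨a, b, c, d⟩⟩
  obtain ⟨c, hc, m, hm, hxcm⟩ := Cfsg.Agent.S2791.frattini_factor (S := (P : Subgroup G))
    (N := Subgroup.normalizer (U : Set G)) (K := X) (C := presOf p X) P.2 hUi
    (Cfsg.Agent.Lib.H14.presOf_le p X) hXN hNX
    (hNX.trans (Cfsg.Agent.Lib.H14.presOf_normalized p X))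
    (fun k hk => Cfsg.Agent.Lib.H14.exists_pow_mem_presOf p X k hk) x hx
  have hXi : ¬ p ∣ ((P : Subgroup G) ⊓ X).relIndex X :=
    Cfsg.Agent.S2791.not_dvd_relIndex_inf_of_normal P.2 hUi hXN hNX
  have hlt : U < (P : Subgroup G) ⊓ X := by
    refine lt_of_le_of_ne (le_inf hUP.le hUX) ?_
    intro he
    apply hXi
    rw [← he]
    exact hpX
  rw [hxcm]
  refine good_mul (hXN (Cfsg.Agent.Lib.H14.presOf_le p X hc)) ?_ ?_
  · exact good_step (H := U) ⟨X, hFam, hc⟩ subset_rfl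
  · exact good_of_bigger hbig hlt inf_le_left (Subgroup.mem_inf.mp hm).2

/-- the local step. -/
theorem good_local [Finite G] {p : ℕ} [hp : Fact p.Prime] (P : Sylow p G) (U : Subgroup G)
    (hU : U ∈ sylNormFamily p (P : Subgroup G))
    (hbig : ∀ Q' : Subgroup G, Q' ≤ (P : Subgroup G) → Nat.card U < Nat.card Q' → ∀ g' : G,
      Q'.map (MulAut.conj g'⁻¹).toMonoidHom ≤ (P : Subgroup G) →
        Good p (P : Subgroup G) (Q' : Set G) g') :
    ∀ x ∈ Subgroup.normalizer (U : Set G), Good p (P : Subgroup G) (U : Set G) x := by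
  by_cases hne : (P : Subgroup G) ⊓ Subgroup.centralizer (U : Set G) ≤ U ∧
      (P : Subgroup G) ⊓ oppAmb p (Subgroup.normalizer (U : Set G)) = U
  · obtain ⟨hUP, hUi⟩ := hU
    have hG := Cfsg.Agent.S1854.gold_of P U hUP hUi hne.1 hne.2
    have h2 := oppAmb_eq_of_gold P U hG
    by_cases hUeq : U = (P : Subgroup G)
    · intro x hx
      rw [hUeq] at hx
      exact good_norm hx
    · have hlt : U < (P : Subgroup G) := lt_of_le_of_ne hUP hUeq
      by_cases hconn : Cfsg.IsSylowChainConnected p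
          (↥(Subgroup.normalizer (U : Set G)) ⧸ U.subgroupOf (Subgroup.normalizer (U : Set G)))
      · exact good_local_connected P U hlt hUi hbig hconn
      · exact good_local_disconnected P U hlt hUi hbig hne.1 h2 hconn
  · exact good_local_easy P U hU hbig hne

end Cfsg.Agent.Lib.H15.SAG
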