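import Mathlib
import Cfsg.Agent.Lib.H15.SAG6

/-!
helper15: strong Alperin–Goldschmidt, part 7: the global induction and the indexed form.
-/

set_option autoImplicit false

namespace Cfsg.Agent.Lib.H15.SAG

open Cfsg.Agent.Lib.H15
open Cfsg.Agent.Lib.H9 (opAmb oppAmb)
open Cfsg.Agent.Lib.H10 (rconj rconj_one rconj_mul rconj_mono rconj_coe rconj_inv_rconj
  rconj_coe_of_mem_normalizer sylNormFamily mem_normalizer_iff_map_conj)
open Cfsg.Agent.Lib.H14 (presOf)

universe u

variable {G : Type u} [Group G]

theorem good_subgroup [Finite G] {p : ℕ} [Fact p.Prime] (P : Sylow p G) :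
    ∀ Q : Subgroup G, Q ≤ (P : Subgroup G) → ∀ g : G,
      Q.map (MulAut.conj g⁻¹).toMonoidHom ≤ (P : Subgroup G) →
        Good p (P : Subgroup G) (Q : Set G) g := by
  have key : ∀ n : ℕ, ∀ Q : Subgroup G, Q ≤ (P : Subgroup G) →
      Nat.card (P : Subgroup G) - Nat.card Q = n → ∀ g : G,
      Q.map (MulAut.conj g⁻¹).toMonoidHom ≤ (P : Subgroup G) →
        Good p (P : Subgroup G) (Q : Set G) g := by
    intro n
    induction n using Nat.strong_induction_on with
    | _ n ih =>
      intro Q hQ hn g hg
      have hcQ : Nat.card Q ≤ Nat.card (P : Subgroup G) := Subgroup.card_le_of_le hQ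
      have hbig : ∀ Q' : Subgroup G, Q' ≤ (P : Subgroup G) → Nat.card Q < Nat.card Q' → ∀ g' : G,
          Q'.map (MulAut.conj g'⁻¹).toMonoidHom ≤ (P : Subgroup G) →
            Good p (P : Subgroup G) (Q' : Set G) g' := by
        intro Q' hQ' hlt g' hg'
        have hcQ' : Nat.card Q' ≤ Nat.card (P : Subgroup G) := Subgroup.card_le_of_le hQ'
        exact ih (Nat.card (P : Subgroup G) - Nat.card Q') (by omega) Q' hQ' rfl g' hg'
      apply Cfsg.Agent.Lib.H10.alperin_step P (Good p (P : Subgroup G)) (fun h hB => good_res h hB)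
        (fun h1 h2 => good_trans h1 h2) (fun h => good_symm h) Q hQ g hg hbig
      intro U hU hUcard x hx
      apply good_local P U hU ?_ x hx
      intro Q' hQ' hlt g' hg'
      exact hbig Q' hQ' (by omega) g' hg'
  intro Q hQ g hg
  exact key _ Q hQ rfl g hg

/-- conversion of the chain relation to the indexed form. -/
theorem SR.exists_fin {p : ℕ} {P : Subgroup G} {A : Set G} {g : G} (h : SR p P A g) :
    ∃ (n : ℕ) (H X : Fin n → Subgroup G) (x : Fin n → G), (List.ofFn x).prod = g ∧
      ∀ i : Fin n, Fam p P (H i) (X i) ∧ x i ∈ presOf p (X i) ∧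
        (fun a => (((List.ofFn x).take i.val).prod)⁻¹ * a * ((List.ofFn x).take i.val).prod) '' A ⊆
          (H i : Set G) := by
  induction h with
  | nil A =>
    exact ⟨0, Fin.elim0, Fin.elim0, Fin.elim0, by simp, fun i => i.elim0⟩
  | cons A H0 x0 g hx hA _ ih =>
    obtain ⟨X0, hF0, hx0⟩ := hx
    obtain ⟨n, H, X, x, hprod, hall⟩ := ih
    refine ⟨n + 1, Fin.cons H0 H, Fin.cons X0 X, Fin.cons x0 x, ?_, ?_⟩
    · rw [List.ofFn_succ]
      simp only [Fin.cons_zero, Fin.cons_succ, List.prod_cons]
      rw [hprod]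
    · have hofn : List.ofFn (Fin.cons x0 x : Fin (n + 1) → G) = x0 :: List.ofFn x := by
        rw [List.ofFn_succ]
        simp
      intro i
      refine Fin.cases ?_ (fun j => ?_) i
      · refine ⟨by simpa using hF0, by simpa using hx0, ?_⟩
        rintro _ ⟨a, ha, rfl⟩
        simp only [Fin.val_zero, List.take_zero, List.prod_nil, inv_one, one_mul, mul_one,
          Fin.cons_zero]
        exact hA ha
      · obtain ⟨hF, hxj, himg⟩ := hall j
        refine ⟨by simpa using hF, by simpa using hxj, ?_⟩
        rw [hofn, Fin.val_succ, List.take_succ_cons, List.prod_cons, Fin.cons_succ]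
        have e : (fun a => (x0 * ((List.ofFn x).take j.val).prod)⁻¹ * a *
            (x0 * ((List.ofFn x).take j.val).prod)) '' A =
            rconj (((List.ofFn x).take j.val).prod) (rconj x0 A) := by
          rw [← rconj_mul]
          rfl
        rw [e]
        exact himg

end Cfsg.Agent.Lib.H15.SAG
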