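import Cfsg.Agent.Lib.H7.Components
import Cfsg.Agent.Lib.H7.PComponent3
import Cfsg.Agent.Lib.H7.FStar

/-!
# S2924 piece KEY (helper15): `E(H / O(H)) = 1`

`H` finite, `z ∈ H` an involution inverting `O(H)`, `E(H) = 1`, `E(C_H(z)) = 1`  ⟹  `E(H / O(H)) = 1`.

A component `K̄` of `H̄ = H / O(H)` either lies in the image `C̄` of `C_H(O(H))` - then the `2`-component of `H`
over `K̄` centralizes `O(H)`, hence is quasisimple, a component of `H` - or commutes with `C̄`; as every
`h⁻¹ h^z` lies in `C_H(O(H))`, `z̄` then centralizes `K̄ = [K̄, K̄]`, and `C_L(z)` (`L` the full preimage of `K̄`)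
maps isomorphically onto `K̄` (`O(H)` is abelian of odd order, inverted by `z`), a component of `C_H(z)`.
-/

set_option autoImplicit false

namespace Cfsg.Agent.Lib.H15.SF

open Cfsg
open scoped commutatorElement

universe u

/-- a subgroup inverted by conjugation with some element is commutative. -/
theorem comm_of_inverted {H : Type u} [Group H] (A : Subgroup H) (z : H)
    (hinv : ∀ a ∈ A, z * a * z⁻¹ = a⁻¹) : ∀ a ∈ A, ∀ b ∈ A, a * b = b * a := by
  intro a ha b hb
  have h1 := hinv (b * a) (A.mul_mem hb ha)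
  have h2 : z * (b * a) * z⁻¹ = (z * b * z⁻¹) * (z * a * z⁻¹) := by group
  rw [h2, hinv a ha, hinv b hb, mul_inv_rev] at h1
  have h3 := congrArg (fun x => x⁻¹) h1
  simp only [mul_inv_rev, inv_inv] at h3
  exact h3

/-- commutators are unchanged by factors commuting with everything in sight. -/
theorem commutatorElement_mul_mul {G : Type u} [Group G] {k l c d : G}
    (h1 : Commute c l) (h2 : Commute c d) (h3 : Commute d k) : ⁅k * c, l * d⁆ = ⁅k, l⁆ := by
  rw [commutatorElement_def, commutatorElement_def]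
  have e1 : c * l = l * c := h1.eq
  have e2 : c * d * c⁻¹ = d := by rw [h2.eq, mul_inv_cancel_right]
  have e3 : d * k⁻¹ * d⁻¹ = k⁻¹ := by rw [(h3.inv_right).eq, mul_inv_cancel_right]
  calc k * c * (l * d) * (k * c)⁻¹ * (l * d)⁻¹
      = k * (c * l) * d * c⁻¹ * k⁻¹ * d⁻¹ * l⁻¹ := by group
    _ = k * l * (c * d * c⁻¹) * k⁻¹ * d⁻¹ * l⁻¹ := by rw [e1]; group
    _ = k * l * (d * k⁻¹ * d⁻¹) * l⁻¹ := by rw [e2]; group
    _ = k * l * k⁻¹ * l⁻¹ := by rw [e3]

variable {H : Type u} [Group H] [Finite H]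

/-- **KEY** (step 3 of S2924). -/
theorem layer_quotient_oddCore_eq_bot (z : H) (hz2 : z * z = 1)
    (hinv : ∀ a ∈ oddCore H, z * a * z⁻¹ = a⁻¹)
    (hEH : layer H = ⊥)
    (hEC : layer ↥(Subgroup.centralizer ({z} : Set H)) = ⊥) :
    layer (H ⧸ oddCore H) = ⊥ := by
  classical
  haveI : Fact (Nat.Prime 2) := ⟨Nat.prime_two⟩
  have hzinv : z⁻¹ = z := inv_eq_of_mul_eq_one_right hz2
  set O : Subgroup H := pPrimeCore 2 H with hO
  haveI hOn : O.Normal := Cfsg.Agent.Lib.H22.pPrimeCore_normal 2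
  set π := QuotientGroup.mk' O with hπ
  have hπs : Function.Surjective π := QuotientGroup.mk'_surjective O
  have hOab := comm_of_inverted O z hinv
  have hOodd : (Nat.card O).Coprime 2 := Cfsg.Agent.Lib.H22.card_pPrimeCore_coprime 2
  -- `C_O(z) = 1`
  have hfix : ∀ a ∈ O, z * a * z⁻¹ = a → a = 1 := by
    intro a ha h
    have h1 : a⁻¹ = a := by rw [← hinv a ha, h]
    have h2 : a ^ 2 = 1 := by
      rw [pow_two]
      nth_rewrite 1 [← h1]
      exact inv_mul_cancel a
    have h3 : orderOf a ∣ 2 := orderOf_dvd_of_pow_eq_one h2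
    have h4 : orderOf a ∣ Nat.card O := by
      have := orderOf_dvd_natCard (⟨a, ha⟩ : O)
      rwa [Subgroup.orderOf_mk] at this
    have h5 : orderOf a ∣ Nat.gcd (Nat.card O) 2 := Nat.dvd_gcd h4 h3
    rw [Nat.Coprime] at hOodd
    rw [hOodd, Nat.dvd_one] at h5
    exact orderOf_eq_one_iff.1 h5
  rw [Cfsg.Agent.Lib.H7.layer_eq_bot_iff]
  intro Kb hKb
  -- the centralizer of `O`
  set C : Subgroup H := Subgroup.centralizer (O : Set H) with hC
  haveI hCn : C.Normal := Subgroup.normal_centralizer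
  have hOC : O ≤ C := fun a ha => Subgroup.mem_centralizer_iff.2 (fun b hb => hOab b hb a ha)
  have hcz : ∀ h : H, h⁻¹ * (z * h * z⁻¹) ∈ C := by
    intro h
    rw [hC, Subgroup.mem_centralizer_iff]
    intro a ha
    -- conjugation by `h⁻¹ z h z⁻¹` fixes `a`
    have h1 : z⁻¹ * a * z = a⁻¹ := by
      have := hinv a ha
      rw [hzinv] at this ⊢
      exact this
    have h2 : h * a⁻¹ * h⁻¹ ∈ O := hOn.conj_mem _ (O.inv_mem ha) h
    have h3 := hinv _ h2
    -- `z (h a⁻¹ h⁻¹) z⁻¹ = h a h⁻¹`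
    have h4 : z * (h * a⁻¹ * h⁻¹) * z⁻¹ = h * a * h⁻¹ := by
      rw [h3]; group
    have h5 : (h⁻¹ * (z * h * z⁻¹)) * a * (h⁻¹ * (z * h * z⁻¹))⁻¹ = a := by
      calc (h⁻¹ * (z * h * z⁻¹)) * a * (h⁻¹ * (z * h * z⁻¹))⁻¹
          = h⁻¹ * (z * (h * (z⁻¹ * a * z) * h⁻¹) * z⁻¹) * h := by group
        _ = h⁻¹ * (z * (h * a⁻¹ * h⁻¹) * z⁻¹) * h := by rw [h1]
        _ = h⁻¹ * (h * a * h⁻¹) * h := by rw [h4]
        _ = a := by group
    calc a * (h⁻¹ * (z * h * z⁻¹))
        = ((h⁻¹ * (z * h * z⁻¹)) * a * (h⁻¹ * (z * h * z⁻¹))⁻¹) * (h⁻¹ * (z * h * z⁻¹)) := by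
          rw [h5]
      _ = (h⁻¹ * (z * h * z⁻¹)) * a := by group
  -- the `2`-component over `Kb`
  set K := Cfsg.Agent.Lib.H7.pCompOver 2 Kb with hK
  have hKp : IsPComponent 2 K := Cfsg.Agent.Lib.H7.isPComponent_pCompOver 2 hKb
  have hKmap : K.map π = Kb := Cfsg.Agent.Lib.H7.map_pCompOver 2 hKb
  have hCbn : (C.map π).Normal := hCn.map π hπs
  rcases Cfsg.Agent.Lib.H7.component_le_or_commutator_eq_bot hKb hCbn.isSubnormal with hle | hcomm
  · -- case (a): `K` centralizes `O`
    have hKC : K ≤ C := by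
      intro k hk
      have h0 : π k ∈ Kb := by rw [← hKmap]; exact Subgroup.mem_map_of_mem π hk
      obtain ⟨c, hc, hck⟩ := hle h0
      have h1 : c⁻¹ * k ∈ O := by
        rw [← QuotientGroup.eq]
        exact hck
      have h2 : k = c * (c⁻¹ * k) := by group
      rw [h2]
      exact C.mul_mem hc (hOC h1)
    have hq : IsQuasisimple ↥K := by
      apply Cfsg.Agent.Lib.H7.quasisimple_of_commutator_pPrimeCore_eq_bot 2 hKp
      rw [Cfsg.Agent.Lib.H7.map_pPrimeCore_of_isSubnormal 2 hKp.1,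
        Subgroup.commutator_eq_bot_iff_le_centralizer]
      exact hKC.trans (Subgroup.centralizer_le inf_le_left)
    exact (Cfsg.Agent.Lib.H7.layer_eq_bot_iff.1 hEH) K ⟨hKp.1, hq⟩
  · -- case (b): `Kb` commutes with the image of `C`
    set zb : H ⧸ O := π z with hzb
    have hi : ∀ k ∈ Kb, ∀ c ∈ C.map π, Commute c k := by
      intro k hk c hc
      have h1 := (Subgroup.commutator_eq_bot_iff_le_centralizer.1 hcomm) hk
      exact (Subgroup.mem_centralizer_iff.1 h1 c hc)
    have hii : ∀ k ∈ Kb, ∀ c ∈ C.map π, Commute c (zb * k * zb⁻¹) := by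
      intro k hk c hc
      have h1 : zb⁻¹ * c * zb ∈ C.map π := by
        have := hCbn.conj_mem c hc zb⁻¹
        rwa [inv_inv] at this
      have h2 := (hi k hk _ h1).eq
      unfold Commute SemiconjBy
      calc c * (zb * k * zb⁻¹) = zb * ((zb⁻¹ * c * zb) * k) * zb⁻¹ := by group
        _ = zb * (k * (zb⁻¹ * c * zb)) * zb⁻¹ := by rw [h2]
        _ = zb * k * zb⁻¹ * c := by group
    have hphi : ∀ k ∈ Kb, k⁻¹ * (zb * k * zb⁻¹) ∈ C.map π := by
      intro k hk
      obtain ⟨h, rfl⟩ := hπs k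
      refine ⟨h⁻¹ * (z * h * z⁻¹), hcz h, ?_⟩
      simp only [map_mul, map_inv, hzb]
    -- `zb` centralizes `Kb`
    have hperf : ⁅Kb, Kb⁆ = Kb := Subgroup.isPerfect_iff.1 hKb.2.1
    have hcent : Kb ≤ Subgroup.centralizer ({zb} : Set (H ⧸ O)) := by
      rw [← hperf, Subgroup.commutator_le]
      intro k hk l hl
      rw [Subgroup.mem_centralizer_iff]
      intro y hy
      rw [Set.mem_singleton_iff] at hy
      subst hy
      have h1 : zb * ⁅k, l⁆ * zb⁻¹ = ⁅k * (k⁻¹ * (zb * k * zb⁻¹)), l * (l⁻¹ * (zb * l * zb⁻¹))⁆ := by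
        rw [commutatorElement_def, commutatorElement_def]; group
      have h2 : ⁅k * (k⁻¹ * (zb * k * zb⁻¹)), l * (l⁻¹ * (zb * l * zb⁻¹))⁆ = ⁅k, l⁆ := by
        apply commutatorElement_mul_mul
        · exact hi l hl _ (hphi k hk)
        · exact ((hi l hl _ (hphi k hk)).inv_right).mul_right (hii l hl _ (hphi k hk))
        · exact hi k hk _ (hphi l hl)
      rw [h2] at h1
      calc zb * ⁅k, l⁆ = (zb * ⁅k, l⁆ * zb⁻¹) * zb := by group
        _ = ⁅k, l⁆ * zb := by rw [h1]
    have hzk : ∀ k ∈ Kb, zb * k * zb⁻¹ = k := by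
      intro k hk
      have := Subgroup.mem_centralizer_iff.1 (hcent hk) zb (Set.mem_singleton zb)
      rw [this]; group
    -- the lifting
    set L : Subgroup H := Kb.comap π with hL
    have hOL : O ≤ L := by
      intro a ha
      rw [hL, Subgroup.mem_comap]
      have : π a = 1 := (QuotientGroup.eq_one_iff a).2 ha
      rw [this]; exact Kb.one_mem
    set Cz : Subgroup H := Subgroup.centralizer ({z} : Set H) with hCz
    set R : Subgroup ↥Cz := L.subgroupOf Cz with hR
    have hRsn : R.IsSubnormal := (hKb.1.comap π).subgroupOf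
    have hmem : ∀ x : ↥R, π ((x : ↥Cz) : H) ∈ Kb := by
      intro x
      exact Subgroup.mem_comap.1 (Subgroup.mem_subgroupOf.1 x.2)
    let f : ↥R →* ↥Kb := ((π.comp Cz.subtype).comp R.subtype).codRestrict Kb hmem
    have hfval : ∀ x : ↥R, ((f x : ↥Kb) : H ⧸ O) = π ((x : ↥Cz) : H) := fun x => rfl
    have hfinj : Function.Injective f := by
      rw [injective_iff_map_eq_one]
      intro x hx
      have h1 : π ((x : ↥Cz) : H) = 1 := by
        rw [← hfval, hx]; rfl
      have h2 : ((x : ↥Cz) : H) ∈ O := (QuotientGroup.eq_one_iff _).1 h1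
      have h3 : ((x : ↥Cz) : H) ∈ Cz := (x : ↥Cz).2
      have h4 : z * ((x : ↥Cz) : H) * z⁻¹ = ((x : ↥Cz) : H) := by
        have := Subgroup.mem_centralizer_iff.1 h3 z (Set.mem_singleton z)
        rw [this]; group
      have h5 := hfix _ h2 h4
      apply Subtype.ext
      apply Subtype.ext
      rw [h5]; rfl
    have hfsurj : Function.Surjective f := by
      rintro ⟨kb, hkb⟩
      obtain ⟨h, rfl⟩ := hπs kb
      -- `a = h⁻¹ h^z ∈ O`
      set a := h⁻¹ * (z * h * z⁻¹) with ha
      have haO : a ∈ O := by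
        have h1 : π a = 1 := by
          rw [ha, map_mul, map_inv, map_mul, map_mul, map_inv]
          show (π h)⁻¹ * (zb * π h * zb⁻¹) = 1
          rw [hzk _ hkb]; group
        exact (QuotientGroup.eq_one_iff a).1 h1
      set n := (Nat.card O + 1) / 2 with hn
      have hodd : Nat.card O % 2 = 1 := by
        rcases Nat.mod_two_eq_zero_or_one (Nat.card O) with h0 | h1
        · exfalso
          have : 2 ∣ Nat.gcd (Nat.card O) 2 := Nat.dvd_gcd (Nat.dvd_of_mod_eq_zero h0) dvd_rfl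
          rw [Nat.Coprime] at hOodd
          rw [hOodd] at this
          omega
        · exact h1
      have h2n : n + n = Nat.card O + 1 := by omega
      set b := a ^ n with hb
      have hbO : b ∈ O := O.pow_mem haO n
      have hbb : b * b = a := by
        rw [hb, ← pow_add, h2n, pow_succ]
        have : a ^ Nat.card O = 1 := by
          have h1 : (⟨a, haO⟩ : O) ^ Nat.card O = 1 := pow_card_eq_one'
          have h2 := congrArg (fun x : O => (x : H)) h1
          simp only [Subgroup.coe_pow, Subgroup.coe_one] at h2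
          exact h2
        rw [this, one_mul]
      have hr : z * (h * b) * z⁻¹ = h * b := by
        have h1 : z * b * z⁻¹ = b⁻¹ := hinv b hbO
        calc z * (h * b) * z⁻¹ = h * (h⁻¹ * (z * h * z⁻¹)) * (z * b * z⁻¹) := by group
          _ = h * (b * b) * b⁻¹ := by rw [← ha, h1, hbb]
          _ = h * b := by group
      have hrCz : h * b ∈ Cz := by
        rw [hCz, Subgroup.mem_centralizer_iff]
        intro y hy
        rw [Set.mem_singleton_iff] at hy
        subst hy
        calc y * (h * b) = (y * (h * b) * y⁻¹) * y := by group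
          _ = h * b * y := by rw [hr]
      have hrL : h * b ∈ L := by
        rw [hL, Subgroup.mem_comap, map_mul]
        have : π b = 1 := (QuotientGroup.eq_one_iff b).2 hbO
        rw [this, mul_one]; exact hkb
      refine ⟨⟨⟨h * b, hrCz⟩, ?_⟩, ?_⟩
      · rw [hR, Subgroup.mem_subgroupOf]; exact hrL
      · apply Subtype.ext
        rw [hfval]
        simp only [map_mul]
        have : π b = 1 := (QuotientGroup.eq_one_iff b).2 hbO
        rw [this, mul_one]
    have e : ↥R ≃* ↥Kb := MulEquiv.ofBijective f ⟨hfinj, hfsurj⟩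
    have hRq : IsQuasisimple ↥R := Cfsg.Agent.Lib.H7.quasisimple_of_mulEquiv e.symm hKb.2
    exact (Cfsg.Agent.Lib.H7.layer_eq_bot_iff.1 hEC) R ⟨hRsn, hRq⟩

end Cfsg.Agent.Lib.H15.SF
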