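import Cfsg.Agent.Lib.H15.SFKEY

/-!
# S2924 piece KEY (exact signature of `tools/blueprints/S2924_sigs.lean`), helper15.
-/

set_option autoImplicit false

namespace Cfsg.Agent.Lib.H15.SG

open Cfsg

/-- a fixed-point-free involution inverts (elementary form used for `key`). -/
theorem inverts_of_fpf {X : Type*} [Group X] [Finite X] (T : Subgroup X) (z : X) (hz : z * z = 1)
    (hzT : ∀ a ∈ T, z * a * z⁻¹ ∈ T)
    (hfix : ∀ a ∈ T, z * a * z⁻¹ = a → a = 1) : ∀ a ∈ T, z * a * z⁻¹ = a⁻¹ := by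
  classical
  have hzinv : z⁻¹ = z := inv_eq_of_mul_eq_one_right hz
  let ψ : ↥T → ↥T := fun a => ⟨(a : X)⁻¹ * (z * a * z⁻¹), T.mul_mem (T.inv_mem a.2) (hzT a a.2)⟩
  have hinj : Function.Injective ψ := by
    intro a b hab
    have h1 : (a : X)⁻¹ * (z * a * z⁻¹) = (b : X)⁻¹ * (z * b * z⁻¹) := congrArg Subtype.val hab
    have h2 : z * ((b : X) * (a : X)⁻¹) * z⁻¹ = (b : X) * (a : X)⁻¹ := by
      have e1 : z * (a : X) * z⁻¹ = (a : X) * ((b : X)⁻¹ * (z * b * z⁻¹)) := by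
        rw [← h1]; group
      calc z * ((b : X) * (a : X)⁻¹) * z⁻¹ = (z * b * z⁻¹) * (z * a * z⁻¹)⁻¹ := by group
        _ = (z * b * z⁻¹) * ((a : X) * ((b : X)⁻¹ * (z * b * z⁻¹)))⁻¹ := by rw [e1]
        _ = (b : X) * (a : X)⁻¹ := by group
    have h3 := hfix _ (T.mul_mem b.2 (T.inv_mem a.2)) h2
    apply Subtype.ext
    have : (b : X) = (a : X) := by
      have := mul_inv_eq_one.1 h3
      exact this
    exact this.symm
  have hsurj : Function.Surjective ψ := Finite.injective_iff_surjective.1 hinj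
  intro t ht
  obtain ⟨a, ha⟩ := hsurj ⟨t, ht⟩
  have h1 : t = (a : X)⁻¹ * (z * a * z⁻¹) := (congrArg Subtype.val ha).symm
  rw [h1]
  calc z * ((a : X)⁻¹ * (z * a * z⁻¹)) * z⁻¹ = (z * a * z⁻¹)⁻¹ * ((z * z) * a * (z * z)⁻¹) := by
        group
    _ = (z * a * z⁻¹)⁻¹ * a := by rw [hz]; group
    _ = ((a : X)⁻¹ * (z * a * z⁻¹))⁻¹ := by group

/-- KEY, exact signature. -/
theorem key {H : Type*} [Group H] [Finite H] (z : H) (hz : orderOf z = 2)
    (hE : Cfsg.layer H = ⊥)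
    (hO : Cfsg.pPrimeCore 2 ↥(Subgroup.centralizer ({z} : Set H)) = ⊥)
    (hL : Cfsg.layer ↥(Subgroup.centralizer ({z} : Set H)) = ⊥) :
    Cfsg.layer (H ⧸ Cfsg.pPrimeCore 2 H) = ⊥ := by
  have hz2 : z * z = 1 := by
    have := pow_orderOf_eq_one z
    rw [hz, pow_two] at this
    exact this
  set A : Subgroup H := pPrimeCore 2 H with hA
  haveI hAn : A.Normal := Cfsg.Agent.Lib.H22.pPrimeCore_normal 2
  set Cz : Subgroup H := Subgroup.centralizer ({z} : Set H) with hCz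
  -- `C_A(z) ≤ O(C_H(z)) = 1`
  have hsub : A.subgroupOf Cz ≤ pPrimeCore 2 ↥Cz := by
    apply Cfsg.Agent.Lib.H22.le_pPrimeCore 2 _ inferInstance
    have h1 : Nat.card (A.subgroupOf Cz) = Nat.card ((A.subgroupOf Cz).map Cz.subtype) :=
      Nat.card_congr ((A.subgroupOf Cz).equivMapOfInjective Cz.subtype
        (Subgroup.subtype_injective Cz)).toEquiv
    rw [h1, Subgroup.subgroupOf_map_subtype]
    exact Nat.Coprime.coprime_dvd_left (Subgroup.card_dvd_of_le inf_le_left)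
      (Cfsg.Agent.Lib.H22.card_pPrimeCore_coprime 2)
  have hfix : ∀ a ∈ A, z * a * z⁻¹ = a → a = 1 := by
    intro a ha h
    have haC : a ∈ Cz := by
      rw [hCz, Subgroup.mem_centralizer_iff]
      intro y hy
      rw [Set.mem_singleton_iff] at hy
      subst hy
      calc y * a = (y * a * y⁻¹) * y := by group
        _ = a * y := by rw [h]
    have h1 : (⟨a, haC⟩ : ↥Cz) ∈ A.subgroupOf Cz := Subgroup.mem_subgroupOf.2 ha
    have h2 := hsub h1
    rw [hO, Subgroup.mem_bot] at h2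
    exact congrArg Subtype.val h2
  have hinv : ∀ a ∈ oddCore H, z * a * z⁻¹ = a⁻¹ :=
    inverts_of_fpf A z hz2 (fun a ha => hAn.conj_mem a ha z) hfix
  exact Cfsg.Agent.Lib.H15.SF.layer_quotient_oddCore_eq_bot z hz2 hinv hE hL

end Cfsg.Agent.Lib.H15.SG
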