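import Mathlib
import Cfsg.Agent.Lib.H19.SGTDefs

/-!
S3795 piece STAB (helper15): a fixed-point-free `T` of `2`-power order: the involution of `⟨φ⟩`
stabilizes every weight of an invariant subgroup acting by commuting operators.
-/

set_option autoImplicit false
set_option linter.unusedSectionVars false
set_option linter.unusedVariables false

namespace Cfsg.Agent.Lib.H15.SGT

open Module Cfsg Cfsg.Agent.Lib.H19.SG Cfsg.Agent.Lib.H19.SGT Cfsg.Agent.Lib.H19.ModRep
  Cfsg.Agent.Lib.H1 Cfsg.Agent.Lib.H1.QuadMul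

variable {k : Type*} [Field k] {W : Type*} [AddCommGroup W] [Module k W]

/-- periods of `χ` on an invariant subgroup are closed under multiples -/
theorem period_mul {Q : Type*} [Group Q] {φ : MulAut Q} {B : Subgroup Q}
    (hB : ∀ b, φ b ∈ B ↔ b ∈ B) (χ : Q → k) {d : ℕ}
    (hd : ∀ b ∈ B, χ ((φ ^ d) b) = χ b) (j : ℕ) : ∀ b ∈ B, χ ((φ ^ (d * j)) b) = χ b := by
  induction j with
  | zero => intro b _; simp
  | succ j ih =>
    intro b hb
    rw [Nat.mul_succ, pow_add, MulAut.mul_apply, ih _ ((pow_mem_iff hB d b).mpr hb), hd b hb]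

/-- **STAB** (P2): a fixed-point-free `T` of `2`-power order: the involution of `⟨φ⟩` stabilizes
every weight (with nonzero weight space) of an invariant subgroup acting by commuting operators. -/
theorem stab_of_fpf [FiniteDimensional k W] {Q : Type*} [Group Q] [Finite Q]
    (hQ : (Nat.card Q : k) ≠ 0) {ρ : Representation k Q W} {φ : MulAut Q} {T : Module.End k W}
    {m : ℕ} (hm : 0 < m) (h : Tw ρ φ T (2 ^ m)) {B : Subgroup Q} (hB : ∀ b, φ b ∈ B ↔ b ∈ B)
    (hcomm : ∀ b ∈ B, ∀ b' ∈ B, Commute (ρ b) (ρ b')) (χ : Q → k) (hχ : wtS ρ B χ ≠ ⊥)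
    (hfpf : ∀ w, T w = w → w = 0) : ∀ b ∈ B, χ ((φ ^ 2 ^ (m - 1)) b) = χ b := by
  classical
  have hex : ∃ i : ℕ, ∀ b ∈ B, χ ((φ ^ (2 ^ i)) b) = χ b := by
    refine ⟨m, fun b _ => ?_⟩
    rw [h.hφ, MulAut.one_apply]
  set i₀ := Nat.find hex with hi₀
  have hstab : ∀ b ∈ B, χ ((φ ^ (2 ^ i₀)) b) = χ b := Nat.find_spec hex
  have hmin : ∀ l < i₀, ∃ b ∈ B, χ ((φ ^ (2 ^ l)) b) ≠ χ b := by
    intro l hl
    have := Nat.find_min hex hl
    push Not at this
    exact this
  have hle : i₀ ≤ m := Nat.find_min' hex (fun b _ => by rw [h.hφ, MulAut.one_apply])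
  have hlt : i₀ < m := by
    rcases Nat.lt_or_ge i₀ m with hlt | hge
    · exact hlt
    · exfalso
      have heq : i₀ = m := le_antisymm hle hge
      have hf := fpf_on_weight hQ h hB hcomm χ Nat.prime_two hstab hmin hfpf
      rw [heq, h.hT] at hf
      obtain ⟨w, hw, hw0⟩ := Submodule.exists_mem_ne_zero_of_ne_bot hχ
      exact hw0 (hf w hw (by simp))
  have hpow : 2 ^ (m - 1) = 2 ^ i₀ * 2 ^ (m - 1 - i₀) := by
    rw [← pow_add]
    congr 1
    omega
  rw [hpow]
  exact period_mul hB χ hstab _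

end Cfsg.Agent.Lib.H15.SGT
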