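import Mathlib
import Cfsg.Agent.Lib.H19.SGTDefs
import Cfsg.Agent.Lib.H15.SGTSTAB

/-!
S3795 piece ABEL1 (helper15): `τ = s ^ (2 ^ (n - 1))` centralizes every `s`-invariant abelian
subgroup on which `ρ` is faithful (`ρ s` fixed point free, `s ^ (2 ^ n) = 1`).
-/

set_option autoImplicit false
set_option linter.unusedSectionVars false
set_option linter.unusedVariables false

namespace Cfsg.Agent.Lib.H15.SGT

open Module Cfsg Cfsg.Agent.Lib.H19.SG Cfsg.Agent.Lib.H19.SGT Cfsg.Agent.Lib.H19.ModRep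
  Cfsg.Agent.Lib.H1 Cfsg.Agent.Lib.H1.QuadMul

universe u uΓ

variable {k : Type*} [Field k] {Γ : Type uΓ} [Group Γ] {W : Type*} [AddCommGroup W] [Module k W]

/-- an element of finite order mapping `B` into itself normalizes `B` -/
theorem mem_normalizer_of_pow_eq_one {s : Γ} {N : ℕ} (hN : 0 < N) (hs : s ^ N = 1) (B : Subgroup Γ)
    (hsB : ∀ b ∈ B, s * b * s⁻¹ ∈ B) : s ∈ Subgroup.normalizer (B : Set Γ) := by
  have hpow : ∀ i : ℕ, ∀ b ∈ B, s ^ i * b * (s ^ i)⁻¹ ∈ B := by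
    intro i
    induction i with
    | zero => intro b hb; simpa using hb
    | succ i ih =>
      intro b hb
      have := hsB _ (ih b hb)
      have e : s ^ (i + 1) * b * (s ^ (i + 1))⁻¹ = s * (s ^ i * b * (s ^ i)⁻¹) * s⁻¹ := by
        rw [pow_succ']; group
      rw [e]; exact this
  have hinv : s⁻¹ = s ^ (N - 1) := by
    rw [inv_eq_iff_mul_eq_one, ← pow_succ', Nat.sub_add_cancel hN, hs]
  rw [Subgroup.mem_normalizer_iff]
  intro h
  constructor
  · exact hsB h
  · intro hh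
    have := hpow (N - 1) _ hh
    rw [← hinv] at this
    have e : s⁻¹ * (s * h * s⁻¹) * s⁻¹⁻¹ = h := by group
    rw [e] at this
    exact this

/-- **ABEL1** over an algebraically closed field. -/
theorem tau_comm_of_abelian_closed [IsAlgClosed k] [FiniteDimensional k W] [Finite Γ]
    {ρ : Representation k Γ W} {s : Γ}
    {n : ℕ} (hn : 0 < n) (hs : s ^ 2 ^ n = 1) (hfpf : ∀ w, ρ s w = w → w = 0) (B : Subgroup Γ)
    (hsB : ∀ b ∈ B, s * b * s⁻¹ ∈ B) (hab : ∀ a ∈ B, ∀ b ∈ B, a * b = b * a)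
    (hBk : (Nat.card B : k) ≠ 0) (hfaith : ∀ b ∈ B, ρ b = 1 → b = 1) :
    ∀ b ∈ B, tau s n * b = b * tau s n := by
  classical
  have hsN : s ∈ Subgroup.normalizer (B : Set Γ) :=
    mem_normalizer_of_pow_eq_one (pow_pos (by norm_num) n) hs B hsB
  set φ : MulAut ↥B := conjAut s B hsN with hφ
  set ρB : Representation k ↥B W := ρ.comp B.subtype with hρB
  have hρBa : ∀ b : ↥B, ρB b = ρ (b : Γ) := fun b => rfl
  have hTw : Tw ρB φ (ρ s) (2 ^ n) :=
    { hT := by rw [← map_pow, hs, map_one]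
      hφ := by
        apply MulEquiv.ext
        intro x
        apply Subtype.ext
        rw [conjAut_pow_coe, hs, one_mul, inv_one, mul_one]
        rfl
      htw := by
        intro x
        rw [hρBa, hρBa, conjAut_coe, ← map_mul, ← map_mul]
        congr 1
        group }
  have hcommB : ∀ b ∈ (⊤ : Subgroup ↥B), ∀ b' ∈ (⊤ : Subgroup ↥B), Commute (ρB b) (ρB b') := by
    intro b _ b' _
    show ρB b * ρB b' = ρB b' * ρB b
    rw [← map_mul, ← map_mul]
    congr 1
    apply Subtype.ext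
    exact hab b b.2 b' b'.2
  have hstab : ∀ χ : ↥B → k, wtS ρB ⊤ χ ≠ ⊥ → ∀ b : ↥B, χ ((φ ^ 2 ^ (n - 1)) b) = χ b := by
    intro χ hχ b
    exact stab_of_fpf hBk hn hTw (B := (⊤ : Subgroup ↥B)) (fun b => by simp) hcommB χ hχ hfpf b
      (Subgroup.mem_top b)
  intro b₀ hb₀
  set b₀' : ↥B := ⟨b₀, hb₀⟩ with hb₀'
  have hss : ∀ i : ↥B, Module.End.IsSemisimple (ρB i) := fun i => isSemisimple_apply hBk ρB i
  have hcomm' : ∀ i j : ↥B, Commute (ρB i) (ρB j) := fun i j =>
    hcommB i (Subgroup.mem_top i) j (Subgroup.mem_top j)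
  have heq : ρB ((φ ^ 2 ^ (n - 1)) b₀') = ρB b₀' := by
    apply Cfsg.Agent.Lib.H19.Ward.ext_of_wtF hss hcomm'
    intro χ w hw
    by_cases hw0 : w = 0
    · rw [hw0, map_zero, map_zero]
    · have hwS : w ∈ wtS ρB ⊤ χ := by
        rw [mem_wtS]
        intro b _
        exact (Cfsg.Agent.Lib.H19.Ward.mem_wtF.mp hw) b
      have hne : wtS ρB ⊤ χ ≠ ⊥ := by
        intro hbot
        rw [hbot, Submodule.mem_bot] at hwS
        exact hw0 hwS
      have h1 := (Cfsg.Agent.Lib.H19.Ward.mem_wtF.mp hw) ((φ ^ 2 ^ (n - 1)) b₀')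
      have h2 := (Cfsg.Agent.Lib.H19.Ward.mem_wtF.mp hw) b₀'
      rw [h1, h2, hstab χ hne b₀']
  -- back to `Γ`
  have hcoe : (((φ ^ 2 ^ (n - 1)) b₀' : ↥B) : Γ) = tau s n * b₀ * (tau s n)⁻¹ := by
    rw [hφ, conjAut_pow_coe]
    rfl
  have h3 : ρ (tau s n * b₀ * (tau s n)⁻¹) = ρ b₀ := by
    rw [← hcoe]
    exact heq
  have hmem : tau s n * b₀ * (tau s n)⁻¹ ∈ B := by
    rw [← hcoe]; exact ((φ ^ 2 ^ (n - 1)) b₀').2
  have h4 : ρ (tau s n * b₀ * (tau s n)⁻¹ * b₀⁻¹) = 1 := by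
    rw [map_mul, h3, ← map_mul, mul_inv_cancel, map_one]
  have h5 := hfaith _ (B.mul_mem hmem (B.inv_mem hb₀)) h4
  calc tau s n * b₀ = (tau s n * b₀ * (tau s n)⁻¹ * b₀⁻¹) * b₀ * tau s n := by group
    _ = b₀ * tau s n := by rw [h5, one_mul]

end Cfsg.Agent.Lib.H15.SGT

namespace Cfsg.Agent.Lib.H15.SGT

open Module Cfsg Cfsg.Agent.Lib.H19.SG Cfsg.Agent.Lib.H19.SGT Cfsg.Agent.Lib.H19.ModRep
  Cfsg.Agent.Lib.H1 Cfsg.Agent.Lib.H1.QuadMul
open scoped TensorProduct

universe uΓ'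

variable {k : Type*} [Field k] {Γ : Type uΓ'} [Group Γ] {W : Type*} [AddCommGroup W] [Module k W]

/-- a fixed-point-free operator of `2`-power order on a nonzero space forces odd characteristic -/
theorem two_ne_zero_of_fpf [Nontrivial W] {T : Module.End k W} {n : ℕ} (hT : T ^ 2 ^ n = 1)
    (hfpf : ∀ w, T w = w → w = 0) : (2 : k) ≠ 0 := by
  classical
  intro h2
  haveI : CharP k 2 := CharTwo.of_one_ne_zero_of_two_eq_zero one_ne_zero h2
  haveI : Fact (Nat.Prime 2) := ⟨Nat.prime_two⟩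
  have hpoly : ((Polynomial.X - 1 : Polynomial k)) ^ 2 ^ n = Polynomial.X ^ 2 ^ n - 1 := by
    rw [sub_pow_char_pow, one_pow]
  have hA : (T - 1) ^ 2 ^ n = 0 := by
    have := congrArg (Polynomial.aeval T) hpoly
    simp only [map_pow, map_sub, Polynomial.aeval_X, map_one] at this
    rw [this, hT, sub_self]
  have hex : ∃ j : ℕ, (T - 1) ^ j = 0 := ⟨_, hA⟩
  set j := Nat.find hex with hj
  have hjs : (T - 1) ^ j = 0 := Nat.find_spec hex
  have hj0 : j ≠ 0 := by
    intro h0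
    rw [h0, pow_zero] at hjs
    obtain ⟨w, hw⟩ := exists_ne (0 : W)
    have := congrArg (fun f : Module.End k W => f w) hjs
    simp at this
    exact hw this
  obtain ⟨j', hj'⟩ := Nat.exists_eq_succ_of_ne_zero hj0
  have hmin : (T - 1) ^ j' ≠ 0 := Nat.find_min hex (by rw [← hj, hj']; exact Nat.lt_succ_self j')
  obtain ⟨w, hw⟩ : ∃ w, ((T - 1) ^ j') w ≠ 0 := by
    by_contra hcon
    push Not at hcon
    exact hmin (LinearMap.ext hcon)
  apply hw
  apply hfpf
  have hj'' : j = j' + 1 := hj'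
  have h1 : (T - 1) (((T - 1) ^ j') w) = 0 := by
    rw [← Module.End.mul_apply, ← pow_succ', ← hj'', hjs]
    rfl
  rw [LinearMap.sub_apply, Module.End.one_apply, sub_eq_zero] at h1
  exact h1

/-- **ABEL1**: `τ` centralizes every `s`-invariant abelian subgroup on which `ρ` is faithful. -/
theorem tau_comm_of_abelian [FiniteDimensional k W] [Finite Γ] {ρ : Representation k Γ W} {s : Γ}
    {n : ℕ} (hn : 0 < n) (hs : s ^ 2 ^ n = 1) (hfpf : ∀ w, ρ s w = w → w = 0) (B : Subgroup Γ)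
    (hsB : ∀ b ∈ B, s * b * s⁻¹ ∈ B) (hab : ∀ a ∈ B, ∀ b ∈ B, a * b = b * a)
    (hBk : (Nat.card B : k) ≠ 0) (hfaith : ∀ b ∈ B, ρ b = 1 → b = 1) :
    ∀ b ∈ B, tau s n * b = b * tau s n := by
  classical
  rcases subsingleton_or_nontrivial W with hW | hW
  · -- trivial module: `B` is trivial
    intro b hb
    have : ρ b = 1 := LinearMap.ext fun w => Subsingleton.elim _ _
    rw [hfaith b hb this, mul_one, one_mul]
  · have h2 : (2 : k) ≠ 0 :=
      two_ne_zero_of_fpf (T := ρ s) (n := n) (by rw [← map_pow, hs, map_one]) hfpf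
    let K := AlgebraicClosure k
    have hinj : Function.Injective (algebraMap k K) := (algebraMap k K).injective
    have hK : ((2 ^ n : ℕ) : K) ≠ 0 := by
      have : ((2 ^ n : ℕ) : K) = algebraMap k K ((2 ^ n : ℕ) : k) := (map_natCast _ _).symm
      rw [this]
      intro h0
      have := hinj (h0.trans (map_zero _).symm)
      rw [Nat.cast_pow] at this
      exact h2 (by simpa using pow_eq_zero_iff (n := n) (by omega) |>.mp this)
    have hBk' : ((Nat.card B : ℕ) : K) ≠ 0 := by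
      have : ((Nat.card B : ℕ) : K) = algebraMap k K ((Nat.card B : ℕ) : k) := (map_natCast _ _).symm
      rw [this]
      intro h0
      exact hBk (hinj (h0.trans (map_zero _).symm))
    have hfpf' := fpf_bc' K hK ρ s hs hfpf
    have hfaith' : ∀ b ∈ B, bc K ρ b = 1 → b = 1 := by
      intro b hb h1
      apply hfaith b hb
      apply bc_injective K
      rw [LinearMap.baseChange_one]
      exact h1
    exact tau_comm_of_abelian_closed (k := K) (W := K ⊗[k] W) (ρ := bc K ρ) hn hs hfpf' B hsB hab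
      hBk' hfaith'

end Cfsg.Agent.Lib.H15.SGT
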