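import Mathlib
import Cfsg.Agent.Lib.H19.SGTDefs

/-!
S3795 piece ABEL2 (helper15): if `τ` centralizes `Q` then so does `R = [R, τ]`.
-/

set_option autoImplicit false
set_option linter.unusedSectionVars false
set_option linter.unusedVariables false

namespace Cfsg.Agent.Lib.H15.SGT

open Module Cfsg Cfsg.Agent.Lib.H19.SG Cfsg.Agent.Lib.H19.SGT Cfsg.Agent.Lib.H19.ModRep
  Cfsg.Agent.Lib.H1 Cfsg.Agent.Lib.H1.QuadMul

universe u uΓ

variable {Γ : Type uΓ} [Group Γ]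

/-- **ABEL2**: if `τ` centralizes `Q` then so does `R = [R, τ]`. -/
theorem cent_of_tau_comm {Q R : Subgroup Γ} {τ : Γ} (hRQ : ∀ x ∈ R, ∀ q ∈ Q, x * q * x⁻¹ ∈ Q)
    (hgen : R ≤ Subgroup.closure (commSet R τ)) (hτ : ∀ q ∈ Q, τ * q = q * τ) : Cent R Q := by
  have hτ' : ∀ q ∈ Q, τ⁻¹ * q = q * τ⁻¹ := by
    intro q hq
    have := hτ q hq
    calc τ⁻¹ * q = τ⁻¹ * (q * τ) * τ⁻¹ := by group
      _ = τ⁻¹ * (τ * q) * τ⁻¹ := by rw [this]
      _ = q * τ⁻¹ := by group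
  have hsub : commSet R τ ⊆ (Subgroup.centralizer (Q : Set Γ) : Set Γ) := by
    rintro y ⟨x, hx, rfl⟩
    rw [SetLike.mem_coe, Subgroup.mem_centralizer_iff]
    intro q hq
    have h1 := hτ' q hq
    have h2 := hτ (x * q * x⁻¹) (hRQ x hx q hq)
    calc q * (x⁻¹ * τ * x * τ⁻¹) = x⁻¹ * ((x * q * x⁻¹) * τ) * x * τ⁻¹ := by group
      _ = x⁻¹ * (τ * (x * q * x⁻¹)) * x * τ⁻¹ := by rw [h2]
      _ = x⁻¹ * τ * x * (q * τ⁻¹) := by group
      _ = x⁻¹ * τ * x * (τ⁻¹ * q) := by rw [h1]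
      _ = x⁻¹ * τ * x * τ⁻¹ * q := by group
  have hle : Subgroup.closure (commSet R τ) ≤ Subgroup.centralizer (Q : Set Γ) :=
    (Subgroup.closure_le _).mpr hsub
  intro x hx q hq
  have := hle (hgen hx)
  rw [Subgroup.mem_centralizer_iff] at this
  exact (this q hq).symm

end Cfsg.Agent.Lib.H15.SGT
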