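import Mathlib
import Cfsg.Agent.Lib.H11.SHCSG
import Cfsg.Agent.Lib.H12.SHGLUEA
import Cfsg.Agent.Lib.H10.SHPINV
import Cfsg.Agent.Lib.H10.SHPENDB
import Cfsg.Agent.Lib.H23.BlockPrincipal
import Cfsg.Agent.Lib.H15.SHCSB
import Cfsg.Agent.Lib.L0.CharBasic

/-!
# S3016 piece CASE B, group side, odd `p`, `|H| ≥ 5` (helper15, twin of helper6's piece)

`N_G(H)` transitive on `H ∖ {1}` is impossible when `p` is odd and `|H| ≥ 5`.  Odd-`p` port of my
`Lib/H15/SHCASEB.lean`.  Inputs: helper11's `LocData` + `cs_master` + `sum_block_regular` (S0925(ii)),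
helper12's `TransN` / `mult` / `ker` / `invn`, helper10's INV-p (`char_mul_pElements_ge`) and arithmetic
endgame `endBp_arith_finsum`, my `card_N_eq`.

For `χ` in the principal `p`-block: `d = χ(a)` (a rational integer, constant on `H ∖ {1}`), `f = χ(1)`,
`R := (q-1) d²/f - (q-2) d`; the class-sum identity at `(a, a⁻¹)` says that the sum of `χ` over the bad
pairs is `|G| |C_N(a)| R`, so INV-p gives `((4-3p) f + 4(p-1) d)/p ≤ R` and block orthogonality gives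
`∑ d R = 0`.
-/

set_option autoImplicit false
set_option linter.style.haveILetI false

namespace Cfsg.Agent.Lib.H15.SHP

open Cfsg

variable {G : Type*} [Group G]

/-- (CASE B, odd `p`, `|H| ≥ 5`) -/
theorem caseB_p [Finite G] {p : ℕ} [Fact p.Prime] (hp : p ≠ 2) (M : Ideal AlgInt)
    (hM : IsPModular p M) (H : Subgroup G)
    (hHp : IsPGroup p H) (hHab : ∀ a ∈ H, ∀ b ∈ H, a * b = b * a)
    (hloc : Cfsg.Agent.Lib.H11.SH.LocData p H (principalBlock M G))
    (hncl : Subgroup.normalClosure (H : Set G) = ⊤)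
    (htr : Cfsg.Agent.Lib.H12.SH.TransN H)
    (hq5 : 5 ≤ Nat.card ↥H) : False := by
  classical
  have hpP : p.Prime := Fact.out
  letI : Fintype G := Fintype.ofFinite G
  letI : Fintype ↥(Subgroup.normalizer (H : Set G)) := Fintype.ofFinite _
  letI : Fintype ↥H := Fintype.ofFinite _
  haveI hPr : M.IsPrime := hM.2.1.isPrime
  have hN : ∀ n ∈ Subgroup.normalizer (H : Set G), ∀ h ∈ H, n * h * n⁻¹ ∈ H :=
    fun n hn h hh => (Subgroup.mem_normalizer_iff.1 hn h).1 hh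
  have hp3 : 3 ≤ p := by
    have := hpP.two_le
    omega
  have hp0 : 0 < p := by omega
  -- an element of order `p` of `H`
  obtain ⟨k, hk⟩ := (IsPGroup.iff_card).1 hHp
  have hk1 : k ≠ 0 := by
    rintro rfl
    rw [pow_zero] at hk
    omega
  have hpdvd : p ∣ Nat.card ↥H := by
    rw [hk]
    exact dvd_pow_self p hk1
  have hpq : p ≤ Nat.card ↥H := Nat.le_of_dvd (by omega) hpdvd
  obtain ⟨a', ha'⟩ := exists_prime_orderOf_dvd_card' p hpdvd
  obtain ⟨a, ha, hao⟩ : ∃ a ∈ H, orderOf a = p :=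
    ⟨(a' : G), a'.2, by rw [Subgroup.orderOf_coe]; exact ha'⟩
  have ha1 : a ≠ 1 := by
    rintro rfl
    rw [orderOf_one] at hao
    omega
  have hap : a ^ p = 1 := by rw [← hao, pow_orderOf_eq_one]
  have hai : a⁻¹ ∈ H := H.inv_mem ha
  have hai1 : a⁻¹ ≠ 1 := fun h => ha1 (inv_eq_one.1 h)
  have htr' : ∀ b ∈ H, b ≠ 1 → ∃ n ∈ Subgroup.normalizer (H : Set G), n * a * n⁻¹ = b :=
    fun b hb hb1 => htr b hb a ha hb1 ha1
  -- powers of `a`
  have hapow : ∀ j : ℕ, 0 < j → j < p → a ^ j ≠ 1 := by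
    intro j hj0 hjp h
    have h1 : orderOf a ∣ j := orderOf_dvd_of_pow_eq_one h
    rw [hao] at h1
    have := Nat.le_of_dvd hj0 h1
    omega
  -- the characters
  have hchar : ∀ χ : IrrCharacter G, IsCharacter G (χ : G → ℂ) := by
    intro χ
    obtain ⟨n, ρ, _, h⟩ := χ.2
    exact ⟨n, ρ, h⟩
  have hfex := fun χ : IrrCharacter G => Cfsg.Agent.Lib.H24.irr_one_eq χ
  choose f hfpos hf using hfex
  have hcH : ∀ χ : IrrCharacter G, ∀ b ∈ H, b ≠ 1 → (χ : G → ℂ) b = (χ : G → ℂ) a := by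
    intro χ b hb hb1
    obtain ⟨n, _, rfl⟩ := htr' b hb hb1
    exact Cfsg.Agent.Lib.H12.SH.invn (hchar χ) n a
  set q : ℕ := Nat.card ↥H with hq
  have hq1 : 1 ≤ q := by omega
  -- `f + (q-1) χ(a) = q m`
  have hsumH : ∀ χ : IrrCharacter G, ∃ m : ℕ,
      (f χ : ℂ) + ((q : ℂ) - 1) * (χ : G → ℂ) a = (q : ℂ) * (m : ℂ) := by
    intro χ
    obtain ⟨m, hm1⟩ := Cfsg.Agent.Lib.H12.SH.mult (hchar χ) H (1 : ↥H →* ℂˣ)
    refine ⟨m, ?_⟩
    have h1 : ∑ b : ↥H, (χ : G → ℂ) b * (starRingEnd ℂ) (((1 : ↥H →* ℂˣ) b : ℂˣ) : ℂ) =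
        (f χ : ℂ) + ((q : ℂ) - 1) * (χ : G → ℂ) a := by
      have h2 : ∀ b : ↥H, (χ : G → ℂ) b * (starRingEnd ℂ) (((1 : ↥H →* ℂˣ) b : ℂˣ) : ℂ) =
          (χ : G → ℂ) b := by
        intro b
        simp
      rw [Finset.sum_congr rfl (fun b _ => h2 b),
        ← Finset.add_sum_erase Finset.univ _ (Finset.mem_univ (1 : ↥H))]
      have h3 : ∀ b ∈ (Finset.univ : Finset ↥H).erase 1,
          (χ : G → ℂ) (b : G) = (χ : G → ℂ) a := by
        intro b hb
        have hb1 : b ≠ 1 := (Finset.mem_erase.1 hb).1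
        exact hcH χ b b.2 (fun h => hb1 (Subtype.ext h))
      rw [Finset.sum_congr rfl h3, Finset.sum_const, Finset.card_erase_of_mem (Finset.mem_univ _),
        Finset.card_univ, nsmul_eq_mul, ← Nat.card_eq_fintype_card, Subgroup.coe_one, hf χ, ← hq]
      push_cast [Nat.cast_sub hq1]
      ring
    rw [h1, ← Nat.card_eq_fintype_card, ← hq] at hm1
    exact hm1
  -- `χ(a)` is a rational integer
  have hdex : ∀ χ : IrrCharacter G, ∃ k : ℤ, (χ : G → ℂ) a = k := by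
    intro χ
    obtain ⟨m, hm⟩ := hsumH χ
    have hq1' : ((q : ℂ) - 1) ≠ 0 := by
      have h5 : (5 : ℝ) ≤ (q : ℝ) := by exact_mod_cast hq5
      intro h
      have h2 : ((q : ℝ) : ℂ) = ((1 : ℝ) : ℂ) := by
        push_cast
        linear_combination h
      have h3 : (q : ℝ) = 1 := by exact_mod_cast h2
      linarith
    have hrat : (χ : G → ℂ) a = (((q : ℚ) * (m : ℚ) - (f χ : ℚ)) / ((q : ℚ) - 1) : ℚ) := by
      push_cast
      rw [eq_div_iff hq1']
      linear_combination hm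
    have hint : IsIntegral ℤ ((χ : G → ℂ) a) := Cfsg.Agent.Lib.L0.isCharacter_isIntegral (hchar χ) a
    rw [hrat] at hint
    have h2 : IsIntegral ℤ (((q : ℚ) * (m : ℚ) - (f χ : ℚ)) / ((q : ℚ) - 1) : ℚ) :=
      (isIntegral_algebraMap_iff (algebraMap ℚ ℂ).injective).mp hint
    obtain ⟨n, hn⟩ := IsIntegrallyClosed.isIntegral_iff.mp h2
    refine ⟨n, ?_⟩
    rw [hrat, ← hn]
    simp
  choose d hd using hdex
  have hdH : ∀ χ : IrrCharacter G, ∀ b ∈ H, b ≠ 1 → (χ : G → ℂ) b = (d χ : ℂ) := by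
    intro χ b hb hb1
    rw [hcH χ b hb hb1, hd χ]
  -- the class-sum identity
  obtain ⟨ν, hν, hbad, hm⟩ := Cfsg.Agent.Lib.H11.SH.cs_master hloc
  set c := (Finset.univ.filter (fun n : ↥(Subgroup.normalizer (H : Set G)) =>
    (n : G) * a * (n : G)⁻¹ = a)).card with hc
  have hNc : Fintype.card ↥(Subgroup.normalizer (H : Set G)) = (Nat.card ↥H - 1) * c :=
    Cfsg.Agent.Lib.H15.SH.card_N_eq hN ha ha1 htr'
  have hcpos : 0 < c := Finset.card_pos.2 ⟨1, by simp⟩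
  have hinv_a : ∀ x : G, a * x = 1 ↔ x = a⁻¹ := by
    intro x
    constructor
    · intro h
      exact eq_inv_of_mul_eq_one_right h
    · rintro rfl
      exact mul_inv_cancel a
  have hconj_iff : ∀ m : G, m * a⁻¹ * m⁻¹ = a⁻¹ ↔ m * a * m⁻¹ = a := by
    intro m
    have h1 : m * a⁻¹ * m⁻¹ = (m * a * m⁻¹)⁻¹ := by group
    rw [h1, inv_inj]
  -- number of bad `n` for each `g`
  have hcnt : ∀ g : G, (Finset.univ.filter (fun n : ↥(Subgroup.normalizer (H : Set G)) =>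
      a * (ν g * ((n : G) * a⁻¹ * (n : G)⁻¹) * (ν g)⁻¹) = 1)).card = c := by
    intro g
    refine Finset.card_bij (fun n _ => (⟨ν g, hν g⟩ : ↥(Subgroup.normalizer (H : Set G))) * n)
      ?_ ?_ ?_
    · intro n hn
      simp only [Finset.mem_filter, Finset.mem_univ, true_and] at hn ⊢
      simp only [Subgroup.coe_mul]
      have h4 := (hinv_a _).1 hn
      apply (hconj_iff _).1
      calc ν g * (n : G) * a⁻¹ * (ν g * (n : G))⁻¹
          = ν g * ((n : G) * a⁻¹ * (n : G)⁻¹) * (ν g)⁻¹ := by group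
        _ = a⁻¹ := h4
    · intro n1 _ n2 _ h
      exact mul_left_cancel h
    · intro m hm'
      simp only [Finset.mem_filter, Finset.mem_univ, true_and] at hm'
      refine ⟨(⟨ν g, hν g⟩ : ↥(Subgroup.normalizer (H : Set G)))⁻¹ * m, ?_, by simp⟩
      simp only [Finset.mem_filter, Finset.mem_univ, true_and, Subgroup.coe_mul, Subgroup.coe_inv]
      have h2 : ν g * ((ν g)⁻¹ * (m : G) * a⁻¹ * ((ν g)⁻¹ * (m : G))⁻¹) * (ν g)⁻¹ =
          (m : G) * a⁻¹ * (m : G)⁻¹ := by group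
      rw [h2, (hconj_iff _).2 hm', mul_inv_cancel]
  -- the `n`-sum
  have hsumN : ∀ χ : IrrCharacter G, ∑ n : ↥(Subgroup.normalizer (H : Set G)),
      (if a * ((n : G) * a⁻¹ * (n : G)⁻¹) ≠ 1 then
        (χ : G → ℂ) (a * ((n : G) * a⁻¹ * (n : G)⁻¹)) else 0) =
      (d χ : ℂ) * ((Fintype.card ↥(Subgroup.normalizer (H : Set G)) : ℂ) - (c : ℂ)) := by
    intro χ
    have h1 : ∀ n : ↥(Subgroup.normalizer (H : Set G)),
        (if a * ((n : G) * a⁻¹ * (n : G)⁻¹) ≠ 1 then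
          (χ : G → ℂ) (a * ((n : G) * a⁻¹ * (n : G)⁻¹))
          else 0) = (d χ : ℂ) - (if (n : G) * a * (n : G)⁻¹ = a then (d χ : ℂ) else 0) := by
      intro n
      by_cases h : a * ((n : G) * a⁻¹ * (n : G)⁻¹) = 1
      · rw [if_neg (not_not.2 h), if_pos ((hconj_iff _).1 ((hinv_a _).1 h)), sub_self]
      · rw [if_pos h, if_neg (fun h5 => h ((hinv_a _).2 ((hconj_iff _).2 h5))), sub_zero]
        exact hdH χ _ (H.mul_mem ha (hN n n.2 a⁻¹ hai)) h
    rw [Finset.sum_congr rfl (fun n _ => h1 n), Finset.sum_sub_distrib, Finset.sum_const,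
      Finset.card_univ, nsmul_eq_mul, ← Finset.sum_filter, Finset.sum_const, nsmul_eq_mul]
    ring
  -- notation
  set S : IrrCharacter G → ℂ := fun χ => ∑ g : G, ∑ n : ↥(Subgroup.normalizer (H : Set G)),
    (if a * (ν g * ((n : G) * a⁻¹ * (n : G)⁻¹) * (ν g)⁻¹) = 1 then
      (χ : G → ℂ) (a * (g * ((n : G) * a⁻¹ * (n : G)⁻¹) * g⁻¹)) else 0) with hSdef
  set R : IrrCharacter G → ℝ := fun χ =>
    ((q : ℝ) - 1) * (d χ : ℝ) ^ 2 / (f χ : ℝ) - ((q : ℝ) - 2) * (d χ : ℝ) with hRdef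
  set Kc : IrrCharacter G → ℝ := fun χ =>
    ((4 - 3 * (p : ℝ)) * (f χ : ℝ) + 4 * ((p : ℝ) - 1) * (d χ : ℝ)) / (p : ℝ) with hKdef
  have hfne : ∀ χ : IrrCharacter G, (f χ : ℝ) ≠ 0 := fun χ => by
    have := hfpos χ
    positivity
  have hGpos : 0 < Fintype.card G := Fintype.card_pos
  -- the bad sum equals `c |G| R`
  have hS : ∀ χ ∈ principalBlock M G, S χ = ((c : ℝ) * (Fintype.card G : ℝ) * R χ : ℝ) := by
    intro χ hχ
    have h1 := hm χ hχ a ha a⁻¹ hai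
    rw [hsumN χ, hd χ, hdH χ a⁻¹ hai hai1, hf χ, Nat.card_eq_fintype_card,
      Nat.card_eq_fintype_card, hNc] at h1
    have hfc : (f χ : ℂ) ≠ 0 := by
      have := hfpos χ
      exact_mod_cast this.ne'
    have h2 : S χ = ((q - 1 : ℕ) * c : ℕ) * ((Fintype.card G : ℂ) * (d χ : ℂ) * (d χ : ℂ) /
        (f χ : ℂ)) - (Fintype.card G : ℂ) * ((d χ : ℂ) * ((((q - 1 : ℕ) * c : ℕ) : ℂ) -
        (c : ℂ))) := by
      rw [eq_sub_iff_add_eq, add_comm]
      exact h1.symm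
    rw [h2, hRdef]
    push_cast [Nat.cast_sub hq1]
    field_simp
    ring
  have hcG : (0 : ℝ) < (c : ℝ) * (Fintype.card G : ℝ) := by positivity
  -- INV-p on every pair
  have hinvp : ∀ (χ : IrrCharacter G) (x : G),
      Kc χ ≤ ((χ : G → ℂ) (a * (x * a⁻¹ * x⁻¹))).re := by
    intro χ x
    have hx : (x * a⁻¹ * x⁻¹) ^ p = 1 := by
      rw [conj_pow, inv_pow, hap, inv_one, mul_one, mul_inv_cancel]
    have hxd : ∀ j : ℕ, 0 < j → j < p → (χ : G → ℂ) (a ^ j) = ((d χ : ℝ) : ℂ) := by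
      intro j hj0 hjp
      rw [hdH χ _ (H.pow_mem ha j) (hapow j hj0 hjp)]
      push_cast
      rfl
    have hyd : ∀ j : ℕ, 0 < j → j < p →
        (χ : G → ℂ) ((x * a⁻¹ * x⁻¹) ^ j) = ((d χ : ℝ) : ℂ) := by
      intro j hj0 hjp
      rw [conj_pow, Cfsg.Agent.Lib.H12.SH.invn (hchar χ) x, inv_pow,
        hdH χ _ (H.inv_mem (H.pow_mem ha j)) (fun h => hapow j hj0 hjp (inv_eq_one.1 h))]
      push_cast
      rfl
    have h1 := Cfsg.Agent.Lib.H10.SHP.char_mul_pElements_ge _ (hchar χ) p hp0 a (x * a⁻¹ * x⁻¹)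
      hap hx (d χ : ℝ) hxd hyd
    rw [hf χ] at h1
    simpa [hKdef] using h1
  -- hEV
  have hEV : ∀ χ ∈ principalBlock M G, Kc χ ≤ R χ := by
    intro χ hχ
    have h1 : (S χ).re = (c : ℝ) * (Fintype.card G : ℝ) * R χ := by
      rw [hS χ hχ, Complex.ofReal_re]
    have h2 : (c : ℝ) * (Fintype.card G : ℝ) * Kc χ ≤ (S χ).re := by
      rw [hSdef]
      simp only [Complex.re_sum]
      have h3 : ∀ g : G, (c : ℝ) * Kc χ ≤
          ∑ n : ↥(Subgroup.normalizer (H : Set G)),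
            (if a * (ν g * ((n : G) * a⁻¹ * (n : G)⁻¹) * (ν g)⁻¹) = 1 then
              (χ : G → ℂ) (a * (g * ((n : G) * a⁻¹ * (n : G)⁻¹) * g⁻¹)) else 0).re := by
        intro g
        have h4 : (c : ℝ) * Kc χ =
            ∑ n : ↥(Subgroup.normalizer (H : Set G)),
              (if a * (ν g * ((n : G) * a⁻¹ * (n : G)⁻¹) * (ν g)⁻¹) = 1 then
                Kc χ else 0) := by
          rw [← Finset.sum_filter, Finset.sum_const, hcnt g, nsmul_eq_mul]
        rw [h4]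
        refine Finset.sum_le_sum (fun n _ => ?_)
        by_cases hb : a * (ν g * ((n : G) * a⁻¹ * (n : G)⁻¹) * (ν g)⁻¹) = 1
        · rw [if_pos hb, if_pos hb]
          have h5 : g * ((n : G) * a⁻¹ * (n : G)⁻¹) * g⁻¹ =
              (g * (n : G)) * a⁻¹ * (g * (n : G))⁻¹ := by
            group
          rw [h5]
          exact hinvp χ _
        · rw [if_neg hb, if_neg hb]
          simp
      calc (c : ℝ) * (Fintype.card G : ℝ) * Kc χ
          = ∑ _g : G, (c : ℝ) * Kc χ := by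
            rw [Finset.sum_const, Finset.card_univ, nsmul_eq_mul]
            ring
        _ ≤ _ := Finset.sum_le_sum (fun g _ => h3 g)
    rw [h1] at h2
    exact le_of_mul_le_mul_left h2 hcG
  -- hORTH
  have hBfin : (principalBlock M G).Finite := Set.toFinite _
  have hORTH : ∑ᶠ χ ∈ principalBlock M G, (d χ : ℝ) * R χ = 0 := by
    rw [finsum_mem_eq_finite_toFinset_sum _ hBfin]
    have h1 : (((c : ℝ) * (Fintype.card G : ℝ) *
        ∑ χ ∈ hBfin.toFinset, (d χ : ℝ) * R χ : ℝ) : ℂ) = 0 := by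
      have h2 : (((c : ℝ) * (Fintype.card G : ℝ) *
          ∑ χ ∈ hBfin.toFinset, (d χ : ℝ) * R χ : ℝ) : ℂ) =
          ∑ χ ∈ hBfin.toFinset, (χ : G → ℂ) a * S χ := by
        rw [Finset.mul_sum]
        push_cast
        refine Finset.sum_congr rfl (fun χ hχ => ?_)
        rw [hS χ ((Set.Finite.mem_toFinset hBfin).1 hχ), hd χ]
        push_cast
        ring
      rw [h2, hSdef]
      simp only [Finset.mul_sum]
      rw [Finset.sum_comm]
      refine Finset.sum_eq_zero (fun g _ => ?_)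
      rw [Finset.sum_comm]
      refine Finset.sum_eq_zero (fun n _ => ?_)
      by_cases hb : a * (ν g * ((n : G) * a⁻¹ * (n : G)⁻¹) * (ν g)⁻¹) = 1
      · simp only [if_pos hb]
        have hreg : ¬ p ∣ orderOf (a * (g * ((n : G) * a⁻¹ * (n : G)⁻¹) * g⁻¹)) :=
          hbad g a ha _ (hN n n.2 a⁻¹ hai) hb
        have h3 := Cfsg.Agent.Lib.H11.SH.sum_block_regular M hM
          (a * (g * ((n : G) * a⁻¹ * (n : G)⁻¹) * g⁻¹)) a⁻¹ hreg
          ⟨1, by rw [orderOf_inv, hao, pow_one]⟩ hai1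
        rw [finsum_mem_eq_finite_toFinset_sum _ hBfin, inv_inv] at h3
        rw [← h3]
        refine Finset.sum_congr rfl (fun χ _ => ?_)
        ring
      · simp only [if_neg hb, mul_zero, Finset.sum_const_zero]
    have h4 : (c : ℝ) * (Fintype.card G : ℝ) * ∑ χ ∈ hBfin.toFinset, (d χ : ℝ) * R χ = 0 := by
      exact_mod_cast h1
    rcases mul_eq_zero.1 h4 with h5 | h5
    · exact absurd h5 hcG.ne'
    · exact h5
  -- hCS
  have hCS : ∀ χ ∈ principalBlock M G, ((q : ℝ) - 1) * (d χ : ℝ) ^ 2 =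
      (f χ : ℝ) * (((q : ℝ) - 2) * (d χ : ℝ) + R χ) := by
    intro χ _
    have := hfne χ
    rw [hRdef]
    field_simp
    ring
  -- hdle
  have hpR : (3 : ℝ) ≤ (p : ℝ) := by exact_mod_cast hp3
  have hdle : ∀ χ ∈ principalBlock M G, d χ ≤ (f χ : ℤ) := by
    intro χ _
    have h1 := hinvp χ 1
    have h2 : a * (1 * a⁻¹ * 1⁻¹) = 1 := by rw [one_mul, inv_one, mul_one, mul_inv_cancel]
    rw [h2, hf χ] at h1
    have h3 : ((f χ : ℂ)).re = (f χ : ℝ) := by simp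
    rw [h3, hKdef] at h1
    have hp' : (0 : ℝ) < (p : ℝ) := by linarith
    rw [div_le_iff₀ hp'] at h1
    have h4 : (d χ : ℝ) ≤ (f χ : ℝ) := by
      by_contra hlt
      push Not at hlt
      nlinarith
    exact_mod_cast h4
  -- hmult
  have hmult : ∀ χ ∈ principalBlock M G, (q : ℤ) ∣ (f χ : ℤ) - d χ := by
    intro χ _
    obtain ⟨m, hm1⟩ := hsumH χ
    rw [hd χ] at hm1
    have h4 : ((f χ : ℤ) : ℂ) + (((q : ℤ) : ℂ) - 1) * ((d χ : ℤ) : ℂ) =
        (((q : ℤ) * (m : ℤ) : ℤ) : ℂ) := by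
      push_cast
      exact hm1
    have h5 : (f χ : ℤ) + ((q : ℤ) - 1) * d χ = (q : ℤ) * (m : ℤ) := by
      exact_mod_cast h4
    exact ⟨(m : ℤ) - d χ, by linarith⟩
  -- the trivial character
  have hi₀ : Cfsg.Agent.Lib.H24.trivialIrr G ∈ principalBlock M G :=
    Cfsg.Agent.Lib.H23.trivialIrr_mem_principalBlock
  have hd0 : d (Cfsg.Agent.Lib.H24.trivialIrr G) = 1 := by
    have h1 := hd (Cfsg.Agent.Lib.H24.trivialIrr G)
    rw [Cfsg.Agent.Lib.H24.trivialIrr_apply] at h1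
    exact_mod_cast h1.symm
  have hf0 : f (Cfsg.Agent.Lib.H24.trivialIrr G) = 1 := by
    have h1 := hf (Cfsg.Agent.Lib.H24.trivialIrr G)
    rw [Cfsg.Agent.Lib.H24.trivialIrr_apply] at h1
    exact_mod_cast h1.symm
  -- hdf
  have hdf : ∀ χ ∈ principalBlock M G, χ ≠ Cfsg.Agent.Lib.H24.trivialIrr G → d χ ≠ (f χ : ℤ) := by
    intro χ _ hne hdf'
    apply hne
    have hconst : ∀ b ∈ H, (χ : G → ℂ) b = (χ : G → ℂ) 1 := by
      intro b hb
      by_cases hb1 : b = 1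
      · rw [hb1]
      · rw [hdH χ b hb hb1, hf χ, hdf']
        push_cast
        rfl
    have h1 := Cfsg.Agent.Lib.H12.SH.ker χ.2 H hncl hconst
    exact Subtype.ext h1
  exact Cfsg.Agent.Lib.H10.SHP.endBp_arith_finsum (principalBlock M G)
    (Cfsg.Agent.Lib.H24.trivialIrr G) hi₀ p q hp3 hpq hq5 d f R (fun χ _ => hfpos χ) hd0 hf0 hdf
    hdle hmult hCS hEV hORTH

end Cfsg.Agent.Lib.H15.SHP
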