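import Cfsg.Agent.Lib.H15.CentricLG
import Cfsg.Agent.Lib.H15.QdStable
import Cfsg.Agent.Lib.H15.QdCtl

/-!
# `SL₂(p)`-free normalizers: `N(Z(J(S)))` controls strong fusion (helper15)

`ctl_ZJ_of_sl2free`: `p` odd, `S` Sylow; if for every `P` with `Z(S) ≤ P ≤ S` no subgroup of
`N_G(P)` maps onto `SL₂(p)`, then `N_G(Z(J(S)))` controls strong fusion in `S`.
-/

set_option autoImplicit false

universe u

namespace Cfsg.Agent.Lib.H15.SCF

open Cfsg.Agent.Lib Cfsg.Agent.Lib.H4.ZJ Cfsg.Agent.Lib.H15.ZJS Cfsg.Agent.Lib.H15.NPCS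
open Cfsg.Agent.Lib.H15

section sl2

variable {G : Type u} [Group G]

/-- the centre of `Q` lies in `Z(J(Q))` -/
theorem center_le_WA [Finite G] (Q : Subgroup G) :
    Q ⊓ Subgroup.centralizer (Q : Set G) ≤ WA G Q := by
  show _ ≤ Cfsg.centerThompsonAOf Q
  rw [← ZJ_abClass]
  apply le_ZJ_of_forall_le
  intro A hA
  have hcomm : ∀ x ∈ A, ∀ y ∈ Q ⊓ Subgroup.centralizer (Q : Set G), x * y = y * x := by
    intro x hx y hy
    exact (Subgroup.mem_centralizer_iff.mp hy.2) x (hA.1 hx)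
  have hBcomm : (abClass G).pred (Q ⊓ Subgroup.centralizer (Q : Set G)) := by
    intro x hx y hy
    exact ((Subgroup.mem_centralizer_iff.mp hy.2) x hx.1)
  have hsup : (abClass G).pred (A ⊔ (Q ⊓ Subgroup.centralizer (Q : Set G))) :=
    (abClass G).sup _ _ hA.2.1 hBcomm hcomm
  have hle : A ⊔ (Q ⊓ Subgroup.centralizer (Q : Set G)) ≤ Q := sup_le hA.1 inf_le_left
  have hcard := hA.2.2 _ hle hsup
  have heq : A = A ⊔ (Q ⊓ Subgroup.centralizer (Q : Set G)) :=
    eq_of_le_of_card_le' le_sup_left hcard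
  rw [heq]
  exact le_sup_right

variable {p : ℕ} [hp : Fact p.Prime]

/-- a group involving `Qd(p)` has a subgroup mapping onto `SL₂(p)` -/
theorem exists_sl2_of_involves_qd {Y : Type*} [Group Y] (h : Cfsg.Involves ↥(Cfsg.qd p) Y) :
    ∃ (K : Subgroup Y) (f : ↥K →* Matrix.SpecialLinearGroup (Fin 2) (ZMod p)),
      Function.Surjective f := by
  have hinj : Function.Injective (Cfsg.Agent.Lib.H1.QdStable.beta p) := by
    rw [injective_iff_map_eq_one]
    intro A hA
    have := (Cfsg.Agent.Lib.H15.QdCtl.qdData p).uniq 1 A (by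
      show (Cfsg.Agent.Lib.H1.QdStable.tau p) 1 * (Cfsg.Agent.Lib.H1.QdStable.beta p) A = 1
      rw [map_one, one_mul, hA])
    exact this
  have h1 := Cfsg.Agent.Lib.H26.involves_subgroup (Cfsg.Agent.Lib.H1.QdStable.beta p).range h
  rw [Cfsg.Agent.Lib.H26.involves_iff] at h1
  obtain ⟨K, f, hf⟩ := h1
  exact ⟨K, (MonoidHom.ofInjective hinj).symm.toMonoidHom.comp f,
    (MonoidHom.ofInjective hinj).symm.surjective.comp hf⟩


/-- **`SL₂(p)`-free normalizers of the overgroups of `Z(S)`: `N(Z(J(S)))` controls strong fusion.** -/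
theorem ctl_ZJ_of_sl2free [Finite G] (hp2 : p ≠ 2) (S : Sylow p G)
    (hfree : ∀ P : Subgroup G,
      (S : Subgroup G) ⊓ Subgroup.centralizer ((S : Subgroup G) : Set G) ≤ P → P ≤ (S : Subgroup G) →
      ¬ ∃ (K : Subgroup G) (f : ↥K →* Matrix.SpecialLinearGroup (Fin 2) (ZMod p)),
        K ≤ Subgroup.normalizer (P : Set G) ∧ Function.Surjective f) :
    Ctl (S : Subgroup G) (WA G (S : Subgroup G)) := by
  apply ctl_of_centric_local zFun_WA center_le_WA S
  intro T hTS hTame hTi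
  obtain ⟨H, hH⟩ : ∃ H : Subgroup G, H = Subgroup.normalizer (T : Set G) := ⟨_, rfl⟩
  rw [← hH] at hTi ⊢
  apply ctlIn_of_ctlAll mapFun_WA H ((S : Subgroup G) ⊓ H) ((S : Subgroup G) ⊓ H) inf_le_right
    (S.2.to_le inf_le_left) hTi (stronglyClosed_self _)
  refine ctlAll_of_sections mapFun_WA (normalHyp_WA hp2) (fun X _ _ => zFun_WA) ↥H ?_ _ ↥H rfl
    H10.isSec_self
  intro Y _ _ hsec
  apply isNormalizerPStable_of_not_involves_qd hp2
  intro hinv
  obtain ⟨K₂, f₂, hf₂⟩ := exists_sl2_of_involves_qd hinv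
  obtain ⟨K, f, hf⟩ := hsec
  obtain ⟨c, hc1, hc2⟩ := hTame
  -- the subgroup of `G` mapping onto `SL₂(p)`
  have hιinj : Function.Injective
      (((MulAut.conj c).toMonoidHom.comp H.subtype).comp K.subtype) :=
    ((MulAut.conj c).injective.comp H.subtype_injective).comp K.subtype_injective
  obtain ⟨ι, hι⟩ : ∃ ι : ↥K →* G, ι = ((MulAut.conj c).toMonoidHom.comp H.subtype).comp K.subtype :=
    ⟨_, rfl⟩
  rw [← hι] at hιinj
  apply hfree (cj c T) hc1 hc2
  refine ⟨(K₂.comap f).map ι,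
    (f₂.comp (f.subgroupComap K₂)).comp ((K₂.comap f).equivMapOfInjective ι hιinj).symm.toMonoidHom,
    ?_, ?_⟩
  · rintro _ ⟨k, -, rfl⟩
    rw [H10.normalizer_map_conj]
    refine ⟨((k : ↥H) : G), ?_, ?_⟩
    · have hHle : H ≤ Subgroup.normalizer (T : Set G) := le_of_eq hH
      exact hHle (k : ↥H).2
    · rw [hι]; rfl
  · exact (hf₂.comp (f.subgroupComap_surjective_of_surjective K₂ hf)).comp
      ((K₂.comap f).equivMapOfInjective ι hιinj).symm.surjective

/-- section form of the hypothesis -/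
theorem not_exists_hom_of_not_exists_section {X : Type*} [Group X] (N : Subgroup G)
    (h : ¬ ∃ (H K : Subgroup G) (_ : (K.subgroupOf H).Normal), H ≤ N ∧
      Nonempty ((↥H ⧸ K.subgroupOf H) ≃* X)) :
    ¬ ∃ (K : Subgroup G) (f : ↥K →* X), K ≤ N ∧ Function.Surjective f := by
  rintro ⟨K, f, hKN, hf⟩
  apply h
  have hR : (f.ker.map K.subtype).subgroupOf K = f.ker :=
    Subgroup.comap_map_eq_self_of_injective K.subtype_injective f.ker
  have hn : ((f.ker.map K.subtype).subgroupOf K).Normal := by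
    rw [hR]; infer_instance
  exact ⟨K, f.ker.map K.subtype, hn, hKN, ⟨(QuotientGroup.quotientMulEquivOfEq hR).trans
    (QuotientGroup.quotientKerEquivOfSurjective f hf)⟩⟩

end sl2

end Cfsg.Agent.Lib.H15.SCF
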