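import Mathlib
import Cfsg.Agent.Lib.H4.SLKDefs

/-!
# S2479 pieces P24 (`Rn_four`, `Rn_five`) and P25 (`Rn_six`) (helper15)

The closed forms `tn1 … tn6` of `tnum Q k k` are proved here again (the same statements as the
piece `tnum_small`), so that this file depends on `SLKDefs` only.
-/

set_option autoImplicit false

namespace Cfsg.Agent.Lib.H15.SLK

open Cfsg.Agent.Lib.H12.Cls Cfsg.Agent.Lib.H4.SLK

theorem tn1 (Q : ℕ) : tnum Q 1 1 = Q := by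
  simp [tnum, unum, cnum]

theorem tn2 (Q : ℕ) : tnum Q 2 2 = Q ^ 2 + 2 * Q := by
  simp [tnum, unum, cnum, Finset.sum_range_succ]; ring

theorem tn3 (Q : ℕ) : tnum Q 3 3 = Q ^ 3 + 3 * Q ^ 2 + 2 * Q := by
  simp [tnum, unum, cnum, Finset.sum_range_succ]; ring

theorem tn4 (Q : ℕ) : tnum Q 4 4 + (Q + 1) = (Q + 1) ^ 4 := by
  simp [tnum, unum, cnum, Finset.sum_range_succ]; ring

theorem tn5 (Q : ℕ) : tnum Q 5 5 + (Q + 1) ^ 2 + (Q + 1) = (Q + 1) ^ 5 + 1 := by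
  simp [tnum, unum, cnum, Finset.sum_range_succ]; ring

theorem tn6 (Q : ℕ) : tnum Q 6 6 + (Q + 1) ^ 2 = (Q + 1) ^ 6 := by
  simp [tnum, unum, cnum, Finset.sum_range_succ]; ring

theorem gcd_cases4 (Q : ℕ) : Nat.gcd 4 Q = 1 ∨ Nat.gcd 4 Q = 2 ∨ Nat.gcd 4 Q = 4 := by
  have h : Nat.gcd 4 Q ∣ 4 := Nat.gcd_dvd_left 4 Q
  have hle : Nat.gcd 4 Q ≤ 4 := Nat.le_of_dvd (by norm_num) h
  have hpos : 0 < Nat.gcd 4 Q := Nat.gcd_pos_of_pos_left Q (by norm_num)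
  generalize Nat.gcd 4 Q = g at *
  interval_cases g <;> simp_all

theorem gcd_cases5 (Q : ℕ) : Nat.gcd 5 Q = 1 ∨ Nat.gcd 5 Q = 5 := by
  have h : Nat.gcd 5 Q ∣ 5 := Nat.gcd_dvd_left 5 Q
  have hle : Nat.gcd 5 Q ≤ 5 := Nat.le_of_dvd (by norm_num) h
  have hpos : 0 < Nat.gcd 5 Q := Nat.gcd_pos_of_pos_left Q (by norm_num)
  generalize Nat.gcd 5 Q = g at *
  interval_cases g <;> simp_all

theorem gcd_cases6 (Q : ℕ) :
    Nat.gcd 6 Q = 1 ∨ Nat.gcd 6 Q = 2 ∨ Nat.gcd 6 Q = 3 ∨ Nat.gcd 6 Q = 6 := by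
  have h : Nat.gcd 6 Q ∣ 6 := Nat.gcd_dvd_left 6 Q
  have hle : Nat.gcd 6 Q ≤ 6 := Nat.le_of_dvd (by norm_num) h
  have hpos : 0 < Nat.gcd 6 Q := Nat.gcd_pos_of_pos_left Q (by norm_num)
  generalize Nat.gcd 6 Q = g at *
  interval_cases g <;> simp_all

/-- NUM4 -/
theorem Rn_four (Q : ℕ) (hQ : 1 ≤ Q) : Rn Q 4 ≤ Q * ((Q + 1) ^ 3 + 3 * (Q + 1) ^ 2) := by
  have h4 := tn4 Q
  have hdvd : Nat.gcd 4 Q ∣ Q := Nat.gcd_dvd_right 4 Q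
  unfold Rn
  rcases gcd_cases4 Q with hg | hg | hg
  · rw [hg]
    have : (Nat.divisors 1).erase 1 = ∅ := by decide
    rw [this, Finset.sum_empty]
    nlinarith [h4]
  · rw [hg] at hdvd ⊢
    have : (Nat.divisors 2).erase 1 = {2} := by decide
    rw [this, Finset.sum_singleton]
    have hQ2 : 2 ≤ Q := Nat.le_of_dvd hQ hdvd
    norm_num
    rw [tn2]
    obtain ⟨P, rfl⟩ : ∃ P, Q = P + 2 := ⟨Q - 2, by omega⟩
    nlinarith [h4]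
  · rw [hg] at hdvd ⊢
    have : (Nat.divisors 4).erase 1 = {2, 4} := by decide
    rw [this, Finset.sum_pair (by norm_num)]
    have hQ2 : 4 ≤ Q := Nat.le_of_dvd hQ hdvd
    norm_num
    rw [tn2, tn1]
    obtain ⟨P, rfl⟩ : ∃ P, Q = P + 4 := ⟨Q - 4, by omega⟩
    nlinarith [h4]

/-- NUM5 -/
theorem Rn_five (Q : ℕ) (hQ : 1 ≤ Q) : Rn Q 5 ≤ Q * ((Q + 1) ^ 4 + 3 * (Q + 1) ^ 3) := by
  have h5 := tn5 Q
  have hdvd : Nat.gcd 5 Q ∣ Q := Nat.gcd_dvd_right 5 Q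
  unfold Rn
  rcases gcd_cases5 Q with hg | hg
  · rw [hg]
    have : (Nat.divisors 1).erase 1 = ∅ := by decide
    rw [this, Finset.sum_empty]
    obtain ⟨P, rfl⟩ : ∃ P, Q = P + 1 := ⟨Q - 1, by omega⟩
    nlinarith [h5, pow_pos (show 0 < P + 1 + 1 by omega) 3]
  · rw [hg] at hdvd ⊢
    have : (Nat.divisors 5).erase 1 = {5} := by decide
    rw [this, Finset.sum_singleton]
    have hQ2 : 5 ≤ Q := Nat.le_of_dvd hQ hdvd
    norm_num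
    rw [tn1]
    obtain ⟨P, rfl⟩ : ∃ P, Q = P + 5 := ⟨Q - 5, by omega⟩
    nlinarith [h5, pow_pos (show 0 < P + 5 + 1 by omega) 3]

/-- NUM6 -/
theorem Rn_six (Q : ℕ) (hQ : 1 ≤ Q) : Rn Q 6 ≤ Q * ((Q + 1) ^ 5 + 3 * (Q + 1) ^ 4) := by
  have h6 := tn6 Q
  have hdvd : Nat.gcd 6 Q ∣ Q := Nat.gcd_dvd_right 6 Q
  unfold Rn
  rcases gcd_cases6 Q with hg | hg | hg | hg
  · rw [hg]
    have : (Nat.divisors 1).erase 1 = ∅ := by decide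
    rw [this, Finset.sum_empty]
    obtain ⟨P, rfl⟩ : ∃ P, Q = P + 1 := ⟨Q - 1, by omega⟩
    nlinarith [h6, pow_pos (show 0 < P + 1 + 1 by omega) 4]
  · rw [hg] at hdvd ⊢
    have : (Nat.divisors 2).erase 1 = {2} := by decide
    rw [this, Finset.sum_singleton]
    have hQ2 : 2 ≤ Q := Nat.le_of_dvd hQ hdvd
    norm_num
    rw [tn3]
    obtain ⟨P, rfl⟩ : ∃ P, Q = P + 2 := ⟨Q - 2, by omega⟩
    nlinarith [h6, pow_pos (show 0 < P + 2 + 1 by omega) 4]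
  · rw [hg] at hdvd ⊢
    have : (Nat.divisors 3).erase 1 = {3} := by decide
    rw [this, Finset.sum_singleton]
    have hQ2 : 3 ≤ Q := Nat.le_of_dvd hQ hdvd
    norm_num
    rw [tn2]
    obtain ⟨P, rfl⟩ : ∃ P, Q = P + 3 := ⟨Q - 3, by omega⟩
    nlinarith [h6, pow_pos (show 0 < P + 3 + 1 by omega) 4]
  · rw [hg] at hdvd ⊢
    have : (Nat.divisors 6).erase 1 = {2, 3, 6} := by decide
    rw [this, Finset.sum_insert (by decide), Finset.sum_pair (by norm_num)]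
    have hQ2 : 6 ≤ Q := Nat.le_of_dvd hQ hdvd
    norm_num
    rw [tn3, tn2, tn1]
    obtain ⟨P, rfl⟩ : ∃ P, Q = P + 6 := ⟨Q - 6, by omega⟩
    nlinarith [h6, pow_pos (show 0 < P + 6 + 1 by omega) 4]

end Cfsg.Agent.Lib.H15.SLK
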