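import Mathlib
import Cfsg.Agent.Lib.H4.SLKDefs

/-!
# S2479 piece P26 (`Rn_ge_seven`): the numerical inequality for `n ≥ 7` (helper15)
-/

set_option autoImplicit false

namespace Cfsg.Agent.Lib.H15.SLK

open Cfsg.Agent.Lib.H12.Cls Cfsg.Agent.Lib.H4.SLK

/-- members of the index set of the sum in `Rn` -/
theorem mem_divisors_erase {Q n m : ℕ} (hQ : 1 ≤ Q) (_hn : 1 ≤ n)
    (hm : m ∈ (Nat.divisors (Nat.gcd n Q)).erase 1) :
    2 ≤ m ∧ m ≤ Q ∧ m ∣ n ∧ m ∣ Q := by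
  rw [Finset.mem_erase, Nat.mem_divisors] at hm
  obtain ⟨h1, hd, _⟩ := hm
  have hmQ : m ∣ Q := hd.trans (Nat.gcd_dvd_right n Q)
  have hmn : m ∣ n := hd.trans (Nat.gcd_dvd_left n Q)
  have hle : m ≤ Q := Nat.le_of_dvd hQ hmQ
  have hpos : 0 < m := Nat.pos_of_dvd_of_pos hmQ hQ
  refine ⟨?_, hle, hmn, hmQ⟩
  omega

/-- the number of terms of the sum in `Rn` -/
theorem card_divisors_erase_le {Q n : ℕ} (hQ : 1 ≤ Q) (hn : 1 ≤ n) :
    ((Nat.divisors (Nat.gcd n Q)).erase 1).card ≤ Q - 1 := by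
  have hsub : (Nat.divisors (Nat.gcd n Q)).erase 1 ⊆ Finset.Icc 2 Q := by
    intro m hm
    obtain ⟨h2, hle, _, _⟩ := mem_divisors_erase hQ hn hm
    exact Finset.mem_Icc.mpr ⟨h2, hle⟩
  calc ((Nat.divisors (Nat.gcd n Q)).erase 1).card ≤ (Finset.Icc 2 Q).card :=
        Finset.card_le_card hsub
    _ = Q - 1 := by rw [Nat.card_Icc]; omega

/-- crude bound of the correction sum in `Rn` -/
theorem sum_le_crude {Q n : ℕ} (hQ : 1 ≤ Q) (hn : 1 ≤ n) :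
    ∑ m ∈ (Nat.divisors (Nat.gcd n Q)).erase 1, (m ^ 2 - 1) * tnum Q (n / m) (n / m) ≤
      (Q - 1) * (Q ^ 2 * (Q + 1) ^ (n / 2)) := by
  have hterm : ∀ m ∈ (Nat.divisors (Nat.gcd n Q)).erase 1,
      (m ^ 2 - 1) * tnum Q (n / m) (n / m) ≤ Q ^ 2 * (Q + 1) ^ (n / 2) := by
    intro m hm
    obtain ⟨h2, hle, hmn, _⟩ := mem_divisors_erase hQ hn hm
    have hmpos : 0 < m := by omega
    have hdiv1 : 1 ≤ n / m := by
      have : m ≤ n := Nat.le_of_dvd hn hmn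
      exact (Nat.one_le_div_iff hmpos).mpr this
    have hdiv2 : n / m ≤ n / 2 := Nat.div_le_div_left h2 (by norm_num)
    have ht : tnum Q (n / m) (n / m) ≤ (Q + 1) ^ (n / 2) := by
      have h := tnum_lt Q (n / m) hdiv1
      have h' : (Q + 1) ^ (n / m) ≤ (Q + 1) ^ (n / 2) :=
        Nat.pow_le_pow_right (by omega) hdiv2
      omega
    have hm2 : m ^ 2 - 1 ≤ Q ^ 2 := by
      have : m ^ 2 ≤ Q ^ 2 := Nat.pow_le_pow_left hle 2
      omega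
    exact Nat.mul_le_mul hm2 ht
  calc ∑ m ∈ (Nat.divisors (Nat.gcd n Q)).erase 1, (m ^ 2 - 1) * tnum Q (n / m) (n / m)
      ≤ ((Nat.divisors (Nat.gcd n Q)).erase 1).card • (Q ^ 2 * (Q + 1) ^ (n / 2)) :=
        Finset.sum_le_card_nsmul _ _ _ hterm
    _ = ((Nat.divisors (Nat.gcd n Q)).erase 1).card * (Q ^ 2 * (Q + 1) ^ (n / 2)) := by
        rw [smul_eq_mul]
    _ ≤ (Q - 1) * (Q ^ 2 * (Q + 1) ^ (n / 2)) :=
        Nat.mul_le_mul_right _ (card_divisors_erase_le hQ hn)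

/-- NUMGEN -/
theorem Rn_ge_seven (Q n : ℕ) (hQ : 1 ≤ Q) (hn : 7 ≤ n) :
    Rn Q n ≤ Q * ((Q + 1) ^ (n - 1) + 3 * (Q + 1) ^ (n - 2)) := by
  obtain ⟨k, rfl⟩ : ∃ k, n = k + 7 := ⟨n - 7, by omega⟩
  obtain ⟨P, rfl⟩ : ∃ P, Q = P + 1 := ⟨Q - 1, by omega⟩
  have hS := sum_le_crude (Q := P + 1) (n := k + 7) (by omega) (by omega)
  have hT := tnum_lt (P + 1) (k + 7) (by omega)
  unfold Rn
  have e1 : k + 7 - 1 = (k + 5) + 1 := by omega
  have e2 : k + 7 - 2 = k + 5 := by omega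
  have e3 : k + 7 = (k + 5) + 2 := by omega
  rw [e1, e2]
  rw [e3] at hT
  have hY : (P + 1 + 1) ^ ((k + 7) / 2) * (P + 1 + 1) ^ 2 ≤ (P + 1 + 1) ^ (k + 5) := by
    rw [← pow_add]
    apply Nat.pow_le_pow_right (by omega)
    omega
  set X := (P + 1 + 1) ^ (k + 5) with hX
  set Y := (P + 1 + 1) ^ ((k + 7) / 2) with hYdef
  set S := ∑ m ∈ (Nat.divisors (Nat.gcd (k + 7) (P + 1))).erase 1,
    (m ^ 2 - 1) * tnum (P + 1) ((k + 7) / m) ((k + 7) / m) with hSdef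
  set T := tnum (P + 1) (k + 7) (k + 7) with hTdef
  have hP1 : P + 1 - 1 = P := by omega
  rw [hP1] at hS
  have hT' : T + 1 ≤ X * (P + 1 + 1) ^ 2 := by
    have : (P + 1 + 1) ^ (k + 5 + 2) = X * (P + 1 + 1) ^ 2 := by rw [hX, pow_add]
    rw [this] at hT
    exact hT
  have hS' : S ≤ P * X := by
    calc S ≤ P * ((P + 1) ^ 2 * Y) := hS
      _ ≤ P * (Y * (P + 1 + 1) ^ 2) := by
          apply Nat.mul_le_mul_left
          rw [mul_comm]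
          apply Nat.mul_le_mul_left
          exact Nat.pow_le_pow_left (by omega) 2
      _ ≤ P * X := Nat.mul_le_mul_left _ hY
  have e4 : (P + 1 + 1) ^ (k + 5 + 1) = X * (P + 1 + 1) := by rw [hX, pow_succ]
  rw [e4]
  nlinarith [hT', hS', Nat.zero_le X, Nat.zero_le P, Nat.zero_le (P * X)]

end Cfsg.Agent.Lib.H15.SLK
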