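import Mathlib
import Cfsg.Agent.Lib.H4.SLKDefs
import Cfsg.Agent.Lib.H15.SLKP24
import Cfsg.Agent.Lib.H15.SLKP26

/-!
# S2479 piece P27 (`num_main`): from `Q·k ≤ Rn Q n` to the two upper bounds (helper15)

`Rn_two'`, `Rn_three'` are local copies of the statements of the piece P23, so that this file
depends only on `SLKDefs` and on the files of helper15.
-/

set_option autoImplicit false

namespace Cfsg.Agent.Lib.H15.SLK

open Cfsg.Agent.Lib.H12.Cls Cfsg.Agent.Lib.H4.SLK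

theorem gcd_cases2 (Q : ℕ) : Nat.gcd 2 Q = 1 ∨ Nat.gcd 2 Q = 2 := by
  have h : Nat.gcd 2 Q ∣ 2 := Nat.gcd_dvd_left 2 Q
  have hle : Nat.gcd 2 Q ≤ 2 := Nat.le_of_dvd (by norm_num) h
  have hpos : 0 < Nat.gcd 2 Q := Nat.gcd_pos_of_pos_left Q (by norm_num)
  generalize Nat.gcd 2 Q = g at *
  interval_cases g <;> simp_all

theorem gcd_cases3 (Q : ℕ) : Nat.gcd 3 Q = 1 ∨ Nat.gcd 3 Q = 3 := by
  have h : Nat.gcd 3 Q ∣ 3 := Nat.gcd_dvd_left 3 Q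
  have hle : Nat.gcd 3 Q ≤ 3 := Nat.le_of_dvd (by norm_num) h
  have hpos : 0 < Nat.gcd 3 Q := Nat.gcd_pos_of_pos_left Q (by norm_num)
  generalize Nat.gcd 3 Q = g at *
  interval_cases g <;> simp_all

/-- NUM2 (local copy) -/
theorem Rn_two' (Q : ℕ) (hQ : 1 ≤ Q) : 2 * Rn Q 2 ≤ 5 * ((Q + 1) * Q) := by
  have hdvd : Nat.gcd 2 Q ∣ Q := Nat.gcd_dvd_right 2 Q
  unfold Rn
  rcases gcd_cases2 Q with hg | hg
  · rw [hg]
    have : (Nat.divisors 1).erase 1 = ∅ := by decide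
    rw [this, Finset.sum_empty, tn2]
    nlinarith
  · rw [hg] at hdvd ⊢
    have : (Nat.divisors 2).erase 1 = {2} := by decide
    rw [this, Finset.sum_singleton]
    have hQ2 : 2 ≤ Q := Nat.le_of_dvd hQ hdvd
    norm_num
    rw [tn2, tn1]
    nlinarith

/-- NUM3 (local copy) -/
theorem Rn_three' (Q : ℕ) (hQ : 1 ≤ Q) : Rn Q 3 ≤ Q * ((Q + 1) ^ 2 + 3 * (Q + 1)) := by
  have hdvd : Nat.gcd 3 Q ∣ Q := Nat.gcd_dvd_right 3 Q
  unfold Rn
  rcases gcd_cases3 Q with hg | hg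
  · rw [hg]
    have : (Nat.divisors 1).erase 1 = ∅ := by decide
    rw [this, Finset.sum_empty, tn3]
    nlinarith
  · rw [hg] at hdvd ⊢
    have : (Nat.divisors 3).erase 1 = {3} := by decide
    rw [this, Finset.sum_singleton]
    have hQ2 : 3 ≤ Q := Nat.le_of_dvd hQ hdvd
    norm_num
    rw [tn3, tn1]
    nlinarith

/-- the bound `Rn Q n ≤ Q (q^(n-1) + 3 q^(n-2))` for every `n ≥ 3` -/
theorem Rn_le (Q n : ℕ) (hQ : 1 ≤ Q) (hn : 3 ≤ n) :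
    Rn Q n ≤ Q * ((Q + 1) ^ (n - 1) + 3 * (Q + 1) ^ (n - 2)) := by
  by_cases h7 : 7 ≤ n
  · exact Rn_ge_seven Q n hQ h7
  · have : n = 3 ∨ n = 4 ∨ n = 5 ∨ n = 6 := by omega
    rcases this with rfl | rfl | rfl | rfl
    · simpa using Rn_three' Q hQ
    · exact Rn_four Q hQ
    · exact Rn_five Q hQ
    · exact Rn_six Q hQ

/-- NUMFIN -/
theorem num_main (Q n k : ℕ) (hQ : 1 ≤ Q) (hn : 2 ≤ n) (hk : Q * k ≤ Rn Q n) :
    2 * k ≤ 5 * (Q + 1) ^ (n - 1) ∧ (3 ≤ n → k ≤ (Q + 1) ^ (n - 1) + 3 * (Q + 1) ^ (n - 2)) := by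
  have hQpos : 0 < Q := hQ
  have key : 3 ≤ n → k ≤ (Q + 1) ^ (n - 1) + 3 * (Q + 1) ^ (n - 2) := by
    intro h3
    have h := Rn_le Q n hQ h3
    exact Nat.le_of_mul_le_mul_left (hk.trans h) hQpos
  refine ⟨?_, key⟩
  by_cases h3 : 3 ≤ n
  · have hk' := key h3
    obtain ⟨j, rfl⟩ : ∃ j, n = j + 3 := ⟨n - 3, by omega⟩
    have e1 : j + 3 - 1 = (j + 1) + 1 := by omega
    have e2 : j + 3 - 2 = j + 1 := by omega
    rw [e1, e2] at hk'
    rw [e1, pow_succ] at *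
    nlinarith [Nat.zero_le ((Q + 1) ^ (j + 1))]
  · have : n = 2 := by omega
    subst this
    have h := Rn_two' Q hQ
    have h2 : Q * (2 * k) ≤ Q * (5 * (Q + 1)) := by
      calc Q * (2 * k) = 2 * (Q * k) := by ring
        _ ≤ 2 * Rn Q 2 := Nat.mul_le_mul_left _ hk
        _ ≤ 5 * ((Q + 1) * Q) := h
        _ = Q * (5 * (Q + 1)) := by ring
    have := Nat.le_of_mul_le_mul_left h2 hQpos
    simpa using this

end Cfsg.Agent.Lib.H15.SLK
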