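import Mathlib
import Cfsg.Prelude.Def_Local
import Cfsg.Prelude.Def_CaseTheorems

/-!
S3153 piece ZS (helper15 twin): in a subgroup of 2-rank at most 1 commuting involutions coincide;
a 2-group normalizing it centralizes the involutions of the intersection.
-/

set_option autoImplicit false
open Cfsg

namespace Cfsg.Agent.Lib.H15.STD

/-- UNIQ: in a subgroup of 2-rank at most 1, an element of square 1 commuting with an involution
`t` is `1` or `t`. -/
theorem eq_one_or_eq_of_rank_one {X : Type*} [Group X] [Finite X] (K : Subgroup X)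
    (hr : Cfsg.PRankLE 2 1 ↥K) (t k : X) (ht : orderOf t = 2) (htK : t ∈ K) (hkK : k ∈ K)
    (hk : k ^ 2 = 1) (hkt : k * t = t * k) : k = 1 ∨ k = t := by
  classical
  by_contra hcon
  push_neg at hcon
  obtain ⟨hk1, hkt'⟩ := hcon
  have ht2 : t ^ 2 = 1 := by rw [← ht]; exact pow_orderOf_eq_one t
  have ht1 : t ≠ 1 := by
    intro h; rw [h, orderOf_one] at ht; omega
  set t' : ↥K := ⟨t, htK⟩ with ht'
  set k' : ↥K := ⟨k, hkK⟩ with hk'
  have hcomm : ∀ x ∈ ({t', k'} : Set ↥K), ∀ y ∈ ({t', k'} : Set ↥K), x * y = y * x := by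
    intro x hx y hy
    simp only [Set.mem_insert_iff, Set.mem_singleton_iff] at hx hy
    rcases hx with rfl | rfl <;> rcases hy with rfl | rfl
    · rfl
    · apply Subtype.ext; exact hkt.symm
    · apply Subtype.ext; exact hkt
    · rfl
  let A : Subgroup ↥K := Subgroup.closure ({t', k'} : Set ↥K)
  have hAc : IsMulCommutative ↥A := Subgroup.isMulCommutative_closure hcomm
  have hAcomm : ∀ a b : ↥A, a * b = b * a := fun a b => hAc.is_comm.comm a b
  have hAe : ∀ a ∈ A, a ^ 2 = 1 := by
    intro a ha
    induction ha using Subgroup.closure_induction with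
    | one => simp
    | mem x hx =>
      simp only [Set.mem_insert_iff, Set.mem_singleton_iff] at hx
      rcases hx with rfl | rfl
      · apply Subtype.ext; simpa using ht2
      · apply Subtype.ext; simpa using hk
    | inv x hx ihx =>
      rw [inv_pow, ihx, inv_one]
    | mul x y hx hy ihx ihy =>
      have hxy : x * y = y * x := by
        have := hAcomm ⟨x, hx⟩ ⟨y, hy⟩
        exact congrArg Subtype.val this
      rw [pow_two, mul_assoc, ← mul_assoc y x y, ← hxy, mul_assoc x y y, ← mul_assoc,
        ← pow_two, ← pow_two, ihx, ihy, one_mul]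
  have hcard : Nat.card ↥A ≤ 2 ^ 1 := hr A hAc hAe
  have htA : t' ∈ A := Subgroup.subset_closure (by simp)
  have hkA : k' ∈ A := Subgroup.subset_closure (by simp)
  let f : Fin 3 → ↥A := ![1, ⟨t', htA⟩, ⟨k', hkA⟩]
  have hf : Function.Injective f := by
    intro i j hij
    have h1t : (1 : ↥A) ≠ ⟨t', htA⟩ := by
      intro h
      apply ht1
      have := congrArg (fun a : ↥A => ((a : ↥K) : X)) h
      exact this.symm
    have h1k : (1 : ↥A) ≠ ⟨k', hkA⟩ := by
      intro h
      apply hk1
      have := congrArg (fun a : ↥A => ((a : ↥K) : X)) h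
      exact this.symm
    have htk : (⟨t', htA⟩ : ↥A) ≠ ⟨k', hkA⟩ := by
      intro h
      apply hkt'
      have := congrArg (fun a : ↥A => ((a : ↥K) : X)) h
      exact this.symm
    fin_cases i <;> fin_cases j
    all_goals first
      | rfl
      | exact absurd hij h1t
      | exact absurd hij h1k
      | exact absurd hij htk
      | exact absurd hij.symm h1t
      | exact absurd hij.symm h1k
      | exact absurd hij.symm htk
  have h3 : Nat.card (Fin 3) ≤ Nat.card ↥A := Nat.card_le_card_of_injective f hf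
  rw [Nat.card_fin] at h3
  omega

/-- ZS: a 2-group `S` normalizing `K` (of 2-rank at most 1) centralizes every involution of
`S ⊓ K`. -/
theorem commute_of_rank_one {X : Type*} [Group X] [Finite X] (K S : Subgroup X)
    (hS : IsPGroup 2 ↥S) (hSK : S ≤ Subgroup.normalizer (K : Set X))
    (hr : Cfsg.PRankLE 2 1 ↥K) (t : X) (ht : orderOf t = 2) (htS : t ∈ S) (htK : t ∈ K) :
    ∀ s ∈ S, s * t = t * s := by
  classical
  -- the normal subgroup `T = (S ⊓ K)` of `S`, as a subgroup of `↥S`
  let T : Subgroup ↥S := K.subgroupOf S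
  haveI hTn : T.Normal := by
    constructor
    intro n hn g
    rw [Subgroup.mem_subgroupOf] at hn ⊢
    have := (Subgroup.mem_normalizer_iff.mp (hSK g.2) (n : X)).mp hn
    simpa using this
  have ht1 : t ≠ 1 := by
    intro h; rw [h, orderOf_one] at ht; omega
  have hTne : T ≠ ⊥ := by
    intro h
    have : (⟨t, htS⟩ : ↥S) ∈ T := by rw [Subgroup.mem_subgroupOf]; exact htK
    rw [h, Subgroup.mem_bot] at this
    exact ht1 (congrArg Subtype.val this)
  -- a nontrivial normal subgroup of a p-group meets the centre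
  haveI : Fact (Nat.Prime 2) := ⟨Nat.prime_two⟩
  -- conjugation action of `S` on `T`
  letI : MulAction ↥S ↥T :=
    { smul := fun g n => ⟨g * n * g⁻¹, hTn.conj_mem n n.2 g⟩
      one_smul := fun n => by apply Subtype.ext; simp [HSMul.hSMul]
      mul_smul := fun g h n => by apply Subtype.ext; simp [HSMul.hSMul, mul_assoc] }
  have hsmul : ∀ (g : ↥S) (n : ↥T), ((g • n : ↥T) : ↥S) = g * n * g⁻¹ := fun g n => rfl
  have hmod := hS.card_modEq_card_fixedPoints (↥T)
  have hTeven : 2 ∣ Nat.card ↥T := by
    have hTp : IsPGroup 2 ↥T := hS.to_subgroup T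
    rcases hTp.card_eq_or_dvd with h | h
    · exfalso
      apply hTne
      exact (Subgroup.eq_bot_iff_card T).mpr h
    · exact h
  have hfix2 : 2 ∣ Nat.card (MulAction.fixedPoints ↥S ↥T) := by
    have := (Nat.modEq_zero_iff_dvd.mpr hTeven).symm.trans hmod
    exact (Nat.modEq_zero_iff_dvd.mp this.symm)
  -- so there is a nontrivial fixed point
  have hex : ∃ z : ↥T, z ∈ MulAction.fixedPoints ↥S ↥T ∧ z ≠ 1 := by
    by_contra hno
    push_neg at hno
    have hsub : Subsingleton (MulAction.fixedPoints ↥S ↥T) := by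
      constructor
      intro a b
      apply Subtype.ext
      rw [hno a.1 a.2, hno b.1 b.2]
    have h1mem : (1 : ↥T) ∈ MulAction.fixedPoints ↥S ↥T := by
      intro g
      apply Subtype.ext
      rw [hsmul]; simp
    haveI : Nonempty (MulAction.fixedPoints ↥S ↥T) := ⟨⟨1, h1mem⟩⟩
    have : Nat.card (MulAction.fixedPoints ↥S ↥T) = 1 := Nat.card_unique
    rw [this] at hfix2
    omega
  obtain ⟨z, hzfix, hz1⟩ := hex
  -- `z` as an element of `X`
  set zx : X := ((z : ↥S) : X) with hzx
  have hzK : zx ∈ K := by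
    have := z.2
    rw [Subgroup.mem_subgroupOf] at this
    exact this
  have hzS : zx ∈ S := (z : ↥S).2
  have hzx1 : zx ≠ 1 := by
    intro h
    apply hz1
    apply Subtype.ext; apply Subtype.ext
    exact h
  have hzc : ∀ s ∈ S, s * zx = zx * s := by
    intro s hs
    have := hzfix ⟨s, hs⟩
    have h2 := congrArg (fun n : ↥T => ((n : ↥S) : X)) this
    simp only [hsmul] at h2
    have h3 : s * zx * s⁻¹ = zx := by simpa using h2
    calc s * zx = s * zx * s⁻¹ * s := by group
      _ = zx * s := by rw [h3]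
  -- an involution among the powers of `zx`
  obtain ⟨m, hm⟩ := (IsPGroup.iff_orderOf.mp hS) ⟨zx, hzS⟩
  have hordz : orderOf zx = 2 ^ m := by
    have : orderOf (⟨zx, hzS⟩ : ↥S) = orderOf zx := Subgroup.orderOf_mk zx hzS
    rw [← this]; exact hm
  have hm0 : m ≠ 0 := by
    intro h
    rw [h, pow_zero, orderOf_eq_one_iff] at hordz
    exact hzx1 hordz
  obtain ⟨m', rfl⟩ := Nat.exists_eq_succ_of_ne_zero hm0
  set z0 : X := zx ^ (2 ^ m') with hz0
  have hz0ord : orderOf z0 = 2 := by
    rw [hz0, orderOf_pow' zx (by positivity), hordz, pow_succ]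
    have : Nat.gcd (2 ^ m' * 2) (2 ^ m') = 2 ^ m' := Nat.gcd_eq_right (Dvd.intro _ rfl)
    rw [this, Nat.mul_div_cancel_left _ (by positivity)]
  have hz0K : z0 ∈ K := K.pow_mem hzK _
  have hz0c : ∀ s ∈ S, s * z0 = z0 * s := by
    intro s hs
    have := hzc s hs
    have hcm : Commute s zx := this
    exact (hcm.pow_right _)
  have hz01 : z0 ≠ 1 := by
    intro h; rw [h, orderOf_one] at hz0ord; omega
  have hz02 : z0 ^ 2 = 1 := by rw [← hz0ord]; exact pow_orderOf_eq_one z0
  -- `z0` commutes with `t`, so `z0 = t`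
  have hz0t : z0 * t = t * z0 := (hz0c t htS).symm
  rcases eq_one_or_eq_of_rank_one K hr t z0 ht htK hz0K hz02 hz0t with h | h
  · exact absurd h hz01
  · rw [← h]; exact hz0c

end Cfsg.Agent.Lib.H15.STD
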