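import Mathlib
import Cfsg.Prelude.Def_Local
import Cfsg.Prelude.Def_CaseTheorems
import Cfsg.Agent.Lib.H22.PPrimeCore
import Cfsg.Agent.Lib.H7.STDCENT
import Cfsg.Agent.Lib.H16.STDTIGHT
import Cfsg.Agent.Lib.H16.STDDECOMP
import Cfsg.Agent.Lib.H15.STDZS
import Cfsg.Agent.Lib.H1.STDSYL
import Cfsg.Agent.Lib.H1.STDFOUR

set_option autoImplicit false
open Cfsg

/-! S3153 main argument: a standard subgroup `P` with `m_2(C(P)) <= 1`, odd centre, and a fusion
`t -> g t g⁻¹ ∈ P C(P)` by an element `g` normalizing a Sylow 2-subgroup of `N(P)`, commutes with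
the odd core. -/

namespace Cfsg.Agent.Lib.H15.STD
open Cfsg.Agent.Lib.H7.STD Cfsg.Agent.Lib.H16.STD Cfsg.Agent.Lib.H1.STD

theorem std_main {X : Type*} [Group X] [Finite X] (P : Subgroup X) (hP : Cfsg.IsStandardSubgroup P)
    (hr : Cfsg.PRankLE 2 1 ↥(Subgroup.centralizer (P : Set X))) (hZ : Odd (Nat.card ↥(Subgroup.center ↥P)))
    (S : Sylow 2 ↥(Subgroup.normalizer (P : Set X))) (t : X) (ht : orderOf t = 2) (htS : t ∈ (S : Subgroup ↥(Subgroup.normalizer (P : Set X))).map (Subgroup.normalizer (P : Set X)).subtype)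
    (htP : t ∈ Subgroup.centralizer (P : Set X))
    (g : X) (hgN : ∀ s ∈ (S : Subgroup ↥(Subgroup.normalizer (P : Set X))).map (Subgroup.normalizer (P : Set X)).subtype, g * s * g⁻¹ ∈ (S : Subgroup ↥(Subgroup.normalizer (P : Set X))).map (Subgroup.normalizer (P : Set X)).subtype)
    (hgS : g ∉ (S : Subgroup ↥(Subgroup.normalizer (P : Set X))).map (Subgroup.normalizer (P : Set X)).subtype) (hg2 : g ^ 2 ∈ (S : Subgroup ↥(Subgroup.normalizer (P : Set X))).map (Subgroup.normalizer (P : Set X)).subtype)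
    (hgt : g * t * g⁻¹ ∈ P ⊔ Subgroup.centralizer (P : Set X)) :
    ⁅P, Cfsg.oddCore X⁆ = ⊥ ∧ ¬ P ≤ Cfsg.pPrimeCore 2 X := by
  obtain ⟨hPq, hKt, -, hNK⟩ := hP
  set K : Subgroup X := Subgroup.centralizer (P : Set X) with hK
  set S' : Subgroup X := (S : Subgroup ↥(Subgroup.normalizer (P : Set X))).map (Subgroup.normalizer (P : Set X)).subtype with hS'
  set W : Subgroup X := Cfsg.pPrimeCore 2 X with hW
  have hS'N : S' ≤ Subgroup.normalizer (P : Set X) := Subgroup.map_subtype_le _
  have hS'2 : IsPGroup 2 ↥S' := S.isPGroup'.map (Subgroup.normalizer (P : Set X)).subtype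
  have ht2 : t ^ 2 = 1 := by rw [← ht]; exact pow_orderOf_eq_one t
  have ht1 : t ≠ 1 := by
    intro h; rw [h, orderOf_one] at ht; omega
  have htinv : t⁻¹ = t := by
    rw [inv_eq_iff_mul_eq_one, ← pow_two, ht2]
  -- step 1
  have hCtN : Subgroup.centralizer ({t} : Set X) ≤ Subgroup.normalizer (P : Set X) := by
    rw [hNK]
    exact centralizer_le_normalizer_of_tight K hKt t ht htP
  -- step 2: t central in S'
  have hS'K : S' ≤ Subgroup.normalizer (K : Set X) := by
    rw [← hNK]; exact hS'N
  have htZ : ∀ s ∈ S', s * t = t * s := commute_of_rank_one K S' hS'2 hS'K hr t ht htS htP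
  -- t'
  set t' : X := g * t * g⁻¹ with ht'
  clear_value t'
  have ht'S : t' ∈ S' := by rw [ht']; exact hgN t htS
  have ht'2 : t' ^ 2 = 1 := by
    rw [ht', conj_pow, ht2]; group
  have ht'1 : t' ≠ 1 := by
    intro h
    apply ht1
    have : g⁻¹ * t' * g = t := by rw [ht']; group
    rw [← this, h]; group
  have htt' : t * t' = t' * t := (htZ t' ht'S).symm
  -- t' ≠ t
  have hne : t' ≠ t := by
    intro h
    apply hgS
    have hgC : g ∈ Subgroup.centralizer ({t} : Set X) := by
      rw [Subgroup.mem_centralizer_singleton_iff]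
      have : g * t * g⁻¹ = t := by rw [← ht']; exact h
      calc g * t = g * t * g⁻¹ * g := by group
        _ = t * g := by rw [this]
    exact mem_sylow_of_sq_mem _ S g (hCtN hgC) hgN hg2
  -- g swaps
  have hgt' : g * t' * g⁻¹ = t := by
    have h1 : g ^ 2 * t = t * g ^ 2 := htZ _ hg2
    calc g * t' * g⁻¹ = g ^ 2 * t * (g ^ 2)⁻¹ := by rw [ht', pow_two, mul_inv_rev]; simp only [mul_assoc]
      _ = t * g ^ 2 * (g ^ 2)⁻¹ := by rw [h1]
      _ = t := by group
  -- decomposition
  obtain ⟨r, hrP, k, hkK, hr2, hk2, hrk⟩ := exists_involution_decomp P hZ t' ht'2 hgt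
  have htr : t * r = r * t := by
    have := (Subgroup.mem_centralizer_iff.mp htP) r hrP
    exact this.symm
  have hkr : k * r = r * k := by
    have := (Subgroup.mem_centralizer_iff.mp hkK) r hrP
    exact this.symm
  have hkt : k * t = t * k := by
    have hk' : k = r⁻¹ * t' := by rw [hrk]; group
    have htr' : t * r⁻¹ = r⁻¹ * t := by
      calc t * r⁻¹ = r⁻¹ * (r * t) * r⁻¹ := by group
        _ = r⁻¹ * (t * r) * r⁻¹ := by rw [htr]
        _ = r⁻¹ * t := by group
    rw [hk', mul_assoc, ← htt', ← mul_assoc, ← htr', mul_assoc]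
  have hk1t : k = 1 ∨ k = t := eq_one_or_eq_of_rank_one K hr t k ht htP hkK hk2 hkt
  have hr1 : r ≠ 1 := by
    intro h
    rcases hk1t with h1 | h1
    · apply ht'1; rw [hrk, h, h1]; group
    · apply hne; rw [hrk, h, h1]; group
  have hro : orderOf r = 2 := orderOf_eq_prime hr2 hr1
  -- W facts
  have hWc : (Nat.card W).Coprime 2 := Cfsg.Agent.Lib.H22.card_pPrimeCore_coprime 2
  have hPW : ¬ P ≤ W := by
    intro h
    have h1 : orderOf r ∣ Nat.card W := by
      have := Subgroup.orderOf_dvd_natCard W (h hrP)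
      exact this
    rw [hro] at h1
    have := Nat.Coprime.eq_one_of_dvd hWc.symm h1
    omega
  -- C_W(t) ≤ K
  have hcent : W ⊓ Subgroup.centralizer ({t} : Set X) ≤ K :=
    le_centralizer_of_le_normalizer P W _ hPq hPW inf_le_left (inf_le_right.trans hCtN)
  -- conjugate
  have hcent' : ∀ w ∈ W ⊓ Subgroup.centralizer ({t'} : Set X), ∀ p ∈ P,
      w * (g * p * g⁻¹) = (g * p * g⁻¹) * w := by
    intro w hw p hp
    have hw1 : g⁻¹ * w * g ∈ W ⊓ Subgroup.centralizer ({t} : Set X) := by
      refine Subgroup.mem_inf.mpr ⟨?_, ?_⟩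
      · have := (inferInstance : W.Normal).conj_mem w hw.1 g⁻¹
        simpa using this
      · rw [Subgroup.mem_centralizer_singleton_iff]
        have h2 : w * t' = t' * w := Subgroup.mem_centralizer_singleton_iff.mp hw.2
        have h3 : w * (g * t * g⁻¹) = (g * t * g⁻¹) * w := by rw [← ht']; exact h2
        calc g⁻¹ * w * g * t = g⁻¹ * (w * (g * t * g⁻¹)) * g := by group
          _ = g⁻¹ * ((g * t * g⁻¹) * w) * g := by rw [h3]
          _ = t * (g⁻¹ * w * g) := by group
    have h4 := (Subgroup.mem_centralizer_iff.mp (hcent hw1)) p hp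
    -- h4 : p * (g⁻¹ w g) = (g⁻¹ w g) * p
    calc w * (g * p * g⁻¹) = g * ((g⁻¹ * w * g) * p) * g⁻¹ := by group
      _ = g * (p * (g⁻¹ * w * g)) * g⁻¹ := by rw [h4]
      _ = (g * p * g⁻¹) * w := by group
  refine ⟨?_, hPW⟩
  rcases hk1t with hk1 | hkt1
  · -- Case I: t' = r
    have hrt' : t' = r := by rw [hrk, hk1, mul_one]
    have hgr : g * r * g⁻¹ = t := by rw [← hrt']; exact hgt'
    have hWle : W ≤ Subgroup.centralizer ({t * t'} : Set X) := by
      apply le_of_four_group W _ hWc t t' ht2 ht'2 htt'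
      · intro w hw
        rw [Subgroup.mem_centralizer_singleton_iff]
        have h1 : w * t = t * w := Subgroup.mem_centralizer_singleton_iff.mp hw.2
        have h2 : w * t' = t' * w := by
          have := (Subgroup.mem_centralizer_iff.mp (hcent hw)) r hrP
          rw [hrt']; exact this.symm
        rw [← mul_assoc, h1, mul_assoc, h2, mul_assoc]
      · intro w hw
        rw [Subgroup.mem_centralizer_singleton_iff]
        have h2 : w * t' = t' * w := Subgroup.mem_centralizer_singleton_iff.mp hw.2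
        have h1 : w * t = t * w := by
          have := hcent' w hw r hrP
          rw [hgr] at this; exact this
        rw [← mul_assoc, h1, mul_assoc, h2, mul_assoc]
      · exact inf_le_right
    apply commutator_eq_bot_of_mul_mem_centralizer P W hPq hZ r t hrP hro htP
    rw [Subgroup.mem_centralizer_iff]
    intro w hw
    have := Subgroup.mem_centralizer_singleton_iff.mp (hWle hw)
    rw [← hrt']; exact this
  · -- Case II: t' = r * t
    have hrt' : t' = r * t := by rw [hrk, hkt1]
    have hr' : r = t * t' := by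
      rw [hrt', ← mul_assoc, htr, mul_assoc, ← pow_two, ht2, mul_one]
    have hgr : g * r * g⁻¹ = r := by
      calc g * r * g⁻¹ = (g * t * g⁻¹) * (g * t' * g⁻¹) := by rw [hr']; group
        _ = t' * t := by rw [hgt', ← ht']
        _ = r := by rw [hr', htt']
    have hWle : W ≤ Subgroup.centralizer ({r} : Set X) := by
      apply le_of_four_group W _ hWc t t' ht2 ht'2 htt'
      · intro w hw
        rw [Subgroup.mem_centralizer_singleton_iff]
        have := (Subgroup.mem_centralizer_iff.mp (hcent hw)) r hrP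
        exact this.symm
      · intro w hw
        rw [Subgroup.mem_centralizer_singleton_iff]
        have := hcent' w hw r hrP
        rw [hgr] at this; exact this
      · rw [← hr']; exact inf_le_right
    apply commutator_eq_bot_of_mul_mem_centralizer P W hPq hZ r 1 hrP hro (Subgroup.one_mem _)
    rw [one_mul, Subgroup.mem_centralizer_iff]
    intro w hw
    exact Subgroup.mem_centralizer_singleton_iff.mp (hWle hw)

end Cfsg.Agent.Lib.H15.STD
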