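import Mathlib
import Cfsg.Agent.Lib.H11.UnitaryGen6
import Cfsg.Agent.Lib.H2.Unitary5
import Cfsg.Agent.Lib.H2.HermCount
import Cfsg.Agent.S0779

/-!
# Generation of `SU_n(q)`: transvection centres of a subgroup

For a subgroup `H` of `Cfsg.SU n F q`, `Cen hF H` is the set of isotropic vectors `v` all of whose
unitary transvections `tv hF v c` (`c + c^q = 0`) lie in `H`.  It is `H`-invariant, closed under
scalars and under the "hyperbolic line" rule.  If it contains all isotropic vectors then `H = ⊤`.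
-/

set_option autoImplicit false
set_option linter.unusedSectionVars false
set_option linter.unusedVariables false
set_option linter.unusedSimpArgs false

namespace Cfsg.Agent.Lib.H15.SUGen

open Matrix Cfsg.Agent.Lib.H4 Cfsg.Agent.Lib.H2.Unitary Cfsg.Agent.Lib.H2.Herm

variable {F : Type*} [Field F] [Fintype F] {q n : ℕ}

/-- the hermitian form -/
abbrev hf (q : ℕ) (u v : Fin n → F) : F := Cfsg.hermForm n F q u v

/-! ### Frobenius facts -/

theorem fr_add (hF : Fintype.card F = q ^ 2) (x y : F) : (x + y) ^ q = x ^ q + y ^ q :=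
  add_pow_q hF x y

theorem fr_sub (hF : Fintype.card F = q ^ 2) (x y : F) : (x - y) ^ q = x ^ q - y ^ q :=
  sub_pow_q hF x y

theorem fr_fr (hF : Fintype.card F = q ^ 2) (x : F) : (x ^ q) ^ q = x := pow_q_pow_q hF x

theorem q_ne_zero (hF : Fintype.card F = q ^ 2) : q ≠ 0 := by
  have := two_le_q hF
  omega

theorem fr_zero (hF : Fintype.card F = q ^ 2) : (0 : F) ^ q = 0 := zero_pow (q_ne_zero hF)

theorem fr_neg (hF : Fintype.card F = q ^ 2) (x : F) : (-x) ^ q = -(x ^ q) := by
  have := fr_sub hF 0 x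
  rw [zero_sub, fr_zero hF, zero_sub] at this
  exact this

theorem fr_eq_zero (hF : Fintype.card F = q ^ 2) {x : F} (h : x ^ q = 0) : x = 0 :=
  (pow_eq_zero_iff (q_ne_zero hF)).1 h

theorem fr_inj (hF : Fintype.card F = q ^ 2) {x y : F} (h : x ^ q = y ^ q) : x = y := by
  rw [← fr_fr hF x, ← fr_fr hF y, h]

theorem fr_norm (hF : Fintype.card F = q ^ 2) (x : F) : (x * x ^ q) ^ q = x * x ^ q := by
  rw [mul_pow, fr_fr hF, mul_comm]

theorem fr_cast_q (hF : Fintype.card F = q ^ 2) : (q : F) = 0 := by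
  obtain ⟨p, k, hp, hc, rfl⟩ := exists_q_eq_pow hF
  have hk : k ≠ 0 := by
    rintro rfl
    have := two_le_q hF
    simp at this
  rw [Nat.cast_pow, CharP.cast_eq_zero F p, zero_pow hk]

/-! ### the form -/

theorem hf_add_left (u u' v : Fin n → F) : hf q (u + u') v = hf q u v + hf q u' v :=
  hermForm_add_left n u u' v

theorem hf_smul_left (a : F) (u v : Fin n → F) : hf q (a • u) v = a * hf q u v :=
  hermForm_smul_left n a u v

theorem hf_smul_right (a : F) (u v : Fin n → F) : hf q u (a • v) = a ^ q * hf q u v :=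
  hermForm_smul_right n a u v

theorem hf_add_right (hF : Fintype.card F = q ^ 2) (u v v' : Fin n → F) :
    hf q u (v + v') = hf q u v + hf q u v' := hermForm_add_right n hF u v v'

theorem hf_conj (hF : Fintype.card F = q ^ 2) (u v : Fin n → F) : (hf q u v) ^ q = hf q v u :=
  hermForm_conj n hF u v

theorem hf_zero_left (v : Fin n → F) : hf q (0 : Fin n → F) v = 0 := by
  simp [hf, Cfsg.hermForm]

theorem hf_zero_right (hF : Fintype.card F = q ^ 2) (v : Fin n → F) :
    hf q v (0 : Fin n → F) = 0 := by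
  simp [hf, Cfsg.hermForm, zero_pow (q_ne_zero hF)]

theorem hf_neg_left (u v : Fin n → F) : hf q (-u) v = -hf q u v := by
  have : -u = (-1 : F) • u := by rw [neg_smul, one_smul]
  rw [this, hf_smul_left]; ring

theorem hf_sub_left (u u' v : Fin n → F) : hf q (u - u') v = hf q u v - hf q u' v := by
  rw [sub_eq_add_neg, hf_add_left, hf_neg_left]; ring

theorem hf_neg_right (hF : Fintype.card F = q ^ 2) (u v : Fin n → F) :
    hf q u (-v) = -hf q u v := by
  have : -v = (-1 : F) • v := by rw [neg_smul, one_smul]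
  rw [this, hf_smul_right, fr_neg hF, one_pow]; ring

theorem hf_sub_right (hF : Fintype.card F = q ^ 2) (u v v' : Fin n → F) :
    hf q u (v - v') = hf q u v - hf q u v' := by
  rw [sub_eq_add_neg, hf_add_right hF, hf_neg_right hF]; ring

theorem hf_single_right (hF : Fintype.card F = q ^ 2) (x : Fin n → F) (i : Fin n) :
    hf q x (Pi.single i 1) = x i := by
  classical
  unfold hf Cfsg.hermForm
  rw [Finset.sum_eq_single i]
  · simp
  · intro j _ hj
    rw [Pi.single_apply, if_neg hj, zero_pow (q_ne_zero hF), mul_zero]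
  · intro h; exact absurd (Finset.mem_univ i) h

theorem hf_single_left (hF : Fintype.card F = q ^ 2) (x : Fin n → F) (i : Fin n) :
    hf q (Pi.single i 1) x = x i ^ q := by
  rw [← hf_conj hF, hf_single_right hF]

/-! ### the action -/

/-- the action of `SU` on vectors -/
def act (g : ↥(Cfsg.SU n F q)) (x : Fin n → F) : Fin n → F :=
  ((g : Matrix.SpecialLinearGroup (Fin n) F) : Matrix (Fin n) (Fin n) F) *ᵥ x

theorem act_mul (g h : ↥(Cfsg.SU n F q)) (x : Fin n → F) : act (g * h) x = act g (act h x) := by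
  unfold act
  rw [mul_val_SU, Matrix.mulVec_mulVec]

theorem act_one (x : Fin n → F) : act (1 : ↥(Cfsg.SU n F q)) x = x := by
  unfold act
  show (1 : Matrix (Fin n) (Fin n) F) *ᵥ x = x
  rw [Matrix.one_mulVec]

theorem act_inv_act (g : ↥(Cfsg.SU n F q)) (x : Fin n → F) : act g⁻¹ (act g x) = x := by
  rw [← act_mul, inv_mul_cancel, act_one]

theorem act_act_inv (g : ↥(Cfsg.SU n F q)) (x : Fin n → F) : act g (act g⁻¹ x) = x := by
  rw [← act_mul, mul_inv_cancel, act_one]

theorem act_add (g : ↥(Cfsg.SU n F q)) (x y : Fin n → F) : act g (x + y) = act g x + act g y :=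
  Matrix.mulVec_add _ _ _

theorem act_sub (g : ↥(Cfsg.SU n F q)) (x y : Fin n → F) : act g (x - y) = act g x - act g y :=
  Matrix.mulVec_sub _ _ _

theorem act_smul (g : ↥(Cfsg.SU n F q)) (a : F) (x : Fin n → F) : act g (a • x) = a • act g x :=
  Matrix.mulVec_smul _ _ _

theorem act_neg (g : ↥(Cfsg.SU n F q)) (x : Fin n → F) : act g (-x) = -act g x :=
  Matrix.mulVec_neg _ _

theorem act_zero (g : ↥(Cfsg.SU n F q)) : act g (0 : Fin n → F) = 0 := Matrix.mulVec_zero _

theorem hf_act (g : ↥(Cfsg.SU n F q)) (u v : Fin n → F) : hf q (act g u) (act g v) = hf q u v :=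
  g.2 u v

theorem hf_act_inv (g : ↥(Cfsg.SU n F q)) (u v : Fin n → F) :
    hf q (act g⁻¹ u) v = hf q u (act g v) := by
  rw [← hf_act g (act g⁻¹ u) v, act_act_inv]

theorem ext_act {g h : ↥(Cfsg.SU n F q)} (H : ∀ x, act g x = act h x) : g = h := by
  apply Subtype.ext
  apply Subtype.ext
  exact Matrix.ext_iff_mulVec.2 H

theorem act_pow_smul (g : ↥(Cfsg.SU n F q)) (l : F) (v : Fin n → F) (h : act g v = l • v) (k : ℕ) :
    act (g ^ k) v = l ^ k • v := by
  induction k with
  | zero => rw [pow_zero, pow_zero, act_one, one_smul]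
  | succ k ih => rw [pow_succ, act_mul, h, act_smul, ih, smul_smul, pow_succ, mul_comm]

/-! ### transvections -/

theorem ut_det (hF : Fintype.card F = q ^ 2) (v : Fin n → F) (c : F) :
    (Cfsg.unitaryTransvection n q v c).det = 1 + c * hf q v v := by
  obtain ⟨φ, hφ, hφ2⟩ := exists_frob hF
  rw [← Cfsg.Agent.Lib.H11.UGen.Um_eq φ hφ, Cfsg.Agent.Lib.H11.UGen.Um_det,
    Cfsg.Agent.S0782.Bs_eq_herm φ hφ]

theorem ut_pres (hF : Fintype.card F = q ^ 2) {v : Fin n → F} {c : F} (hv : hf q v v = 0)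
    (hc : c + c ^ q = 0) (x y : Fin n → F) :
    Cfsg.hermForm n F q (Cfsg.unitaryTransvection n q v c *ᵥ x)
      (Cfsg.unitaryTransvection n q v c *ᵥ y) = Cfsg.hermForm n F q x y := by
  rw [unitaryTransvection_mulVec, unitaryTransvection_mulVec]
  show hf q (x + (c * hf q x v) • v) (y + (c * hf q y v) • v) = hf q x y
  rw [hf_add_left, hf_add_right hF, hf_add_right hF, hf_smul_right, hf_smul_left, hf_smul_left,
    hf_smul_right, hv, mul_pow, hf_conj hF]
  linear_combination (hf q v y * hf q x v) * hc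

/-- the unitary transvection as an element of `SU` (trivial if the data are not admissible) -/
noncomputable def tv (hF : Fintype.card F = q ^ 2) (v : Fin n → F) (c : F) : ↥(Cfsg.SU n F q) := by
  classical
  exact if h : hf q v v = 0 ∧ c + c ^ q = 0 then
    mkSU (Cfsg.unitaryTransvection n q v c) (by rw [ut_det hF, h.1, mul_zero, add_zero])
      (ut_pres hF h.1 h.2)
  else 1

theorem tv_val (hF : Fintype.card F = q ^ 2) {v : Fin n → F} {c : F} (hv : hf q v v = 0)
    (hc : c + c ^ q = 0) :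
    (((tv hF v c : ↥(Cfsg.SU n F q)) : Matrix.SpecialLinearGroup (Fin n) F) :
      Matrix (Fin n) (Fin n) F) = Cfsg.unitaryTransvection n q v c := by
  unfold tv
  rw [dif_pos ⟨hv, hc⟩]
  rfl

theorem tv_act (hF : Fintype.card F = q ^ 2) {v : Fin n → F} {c : F} (hv : hf q v v = 0)
    (hc : c + c ^ q = 0) (x : Fin n → F) : act (tv hF v c) x = x + (c * hf q x v) • v := by
  unfold act
  rw [tv_val hF hv hc, unitaryTransvection_mulVec]

theorem hf_act_self (g : ↥(Cfsg.SU n F q)) {v : Fin n → F} (hv : hf q v v = 0) :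
    hf q (act g v) (act g v) = 0 := by rw [hf_act, hv]

theorem conj_tv (hF : Fintype.card F = q ^ 2) (g : ↥(Cfsg.SU n F q)) {v : Fin n → F} {c : F}
    (hv : hf q v v = 0) (hc : c + c ^ q = 0) :
    g * tv hF v c * g⁻¹ = tv hF (act g v) c := by
  apply ext_act
  intro x
  rw [act_mul, act_mul, tv_act hF hv hc, tv_act hF (hf_act_self g hv) hc, act_add, act_smul,
    act_act_inv, hf_act_inv]

theorem tv_smul (hF : Fintype.card F = q ^ 2) {v : Fin n → F} {c : F} (hv : hf q v v = 0)
    (hc : c + c ^ q = 0) (l : F) : tv hF (l • v) c = tv hF v (l * l ^ q * c) := by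
  have hv' : hf q (l • v) (l • v) = 0 := by rw [hf_smul_left, hf_smul_right, hv]; ring
  have hc' : l * l ^ q * c + (l * l ^ q * c) ^ q = 0 := by
    rw [mul_pow, fr_norm hF]; linear_combination (l * l ^ q) * hc
  apply ext_act
  intro x
  rw [tv_act hF hv' hc, tv_act hF hv hc', hf_smul_right, smul_smul]
  congr 2
  ring

theorem tv_zero (hF : Fintype.card F = q ^ 2) {v : Fin n → F} (hv : hf q v v = 0) :
    tv hF v (0 : F) = 1 := by
  apply ext_act
  intro x
  rw [tv_act hF hv (by rw [fr_zero hF, add_zero]), zero_mul, zero_smul, add_zero, act_one]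

theorem tv_zero_left (hF : Fintype.card F = q ^ 2) {c : F} (hc : c + c ^ q = 0) :
    tv hF (0 : Fin n → F) c = 1 := by
  apply ext_act
  intro x
  rw [tv_act hF (hf_zero_left _) hc, smul_zero, add_zero, act_one]

theorem tv_mul (hF : Fintype.card F = q ^ 2) {v : Fin n → F} {c c' : F} (hv : hf q v v = 0)
    (hc : c + c ^ q = 0) (hc' : c' + c' ^ q = 0) :
    tv hF v c * tv hF v c' = tv hF v (c + c') := by
  have hcc : (c + c') + (c + c') ^ q = 0 := by
    rw [fr_add hF]; linear_combination hc + hc'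
  apply ext_act
  intro x
  rw [act_mul, tv_act hF hv hc', tv_act hF hv hc, tv_act hF hv hcc, hf_add_left, hf_smul_left, hv]
  module

theorem tz_neg (hF : Fintype.card F = q ^ 2) {c : F} (hc : c + c ^ q = 0) : -c + (-c) ^ q = 0 := by
  rw [fr_neg hF]; linear_combination -hc

theorem tz_add (hF : Fintype.card F = q ^ 2) {c c' : F} (hc : c + c ^ q = 0)
    (hc' : c' + c' ^ q = 0) : (c + c') + (c + c') ^ q = 0 := by
  rw [fr_add hF]; linear_combination hc + hc'

theorem tz_mul (hF : Fintype.card F = q ^ 2) {c r : F} (hc : c + c ^ q = 0) (hr : r ^ q = r) :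
    r * c + (r * c) ^ q = 0 := by
  rw [mul_pow, hr]; linear_combination r * hc

theorem tv_inv (hF : Fintype.card F = q ^ 2) {v : Fin n → F} {c : F} (hv : hf q v v = 0)
    (hc : c + c ^ q = 0) : (tv hF v c)⁻¹ = tv hF v (-c) := by
  apply inv_eq_of_mul_eq_one_right
  rw [tv_mul hF hv hc (tz_neg hF hc), add_neg_cancel, tv_zero hF hv]

theorem tz_nsmul (hF : Fintype.card F = q ^ 2) {c : F} (hc : c + c ^ q = 0) (k : ℕ) :
    (k : F) * c + ((k : F) * c) ^ q = 0 := by
  apply tz_mul hF hc
  rw [← Nat.cast_pow]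
  induction k with
  | zero => simp [q_ne_zero hF]
  | succ k ih =>
    push_cast at ih ⊢
    rw [fr_add hF, ih, one_pow]

theorem tv_pow (hF : Fintype.card F = q ^ 2) {v : Fin n → F} {c : F} (hv : hf q v v = 0)
    (hc : c + c ^ q = 0) (k : ℕ) : (tv hF v c) ^ k = tv hF v ((k : F) * c) := by
  induction k with
  | zero => rw [pow_zero, Nat.cast_zero, zero_mul, tv_zero hF hv]
  | succ k ih =>
    rw [pow_succ, ih, tv_mul hF hv (tz_nsmul hF hc k) hc]
    congr 1
    push_cast
    ring

/-! ### centres -/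

/-- the isotropic vectors all of whose transvections lie in `H` -/
def Cen (hF : Fintype.card F = q ^ 2) (H : Subgroup ↥(Cfsg.SU n F q)) : Set (Fin n → F) :=
  {v | hf q v v = 0 ∧ ∀ c : F, c + c ^ q = 0 → tv hF v c ∈ H}

theorem Cen_act (hF : Fintype.card F = q ^ 2) {H : Subgroup ↥(Cfsg.SU n F q)}
    {g : ↥(Cfsg.SU n F q)} (hg : g ∈ H) {v : Fin n → F} (hv : v ∈ Cen hF H) :
    act g v ∈ Cen hF H := by
  refine ⟨hf_act_self g hv.1, ?_⟩
  intro c hc
  rw [← conj_tv hF g hv.1 hc]
  exact H.mul_mem (H.mul_mem hg (hv.2 c hc)) (H.inv_mem hg)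

theorem Cen_of_act (hF : Fintype.card F = q ^ 2) {H : Subgroup ↥(Cfsg.SU n F q)}
    {g : ↥(Cfsg.SU n F q)} (hg : g ∈ H) {v : Fin n → F} (hv : act g v ∈ Cen hF H) :
    v ∈ Cen hF H := by
  have := Cen_act hF (H.inv_mem hg) hv
  rwa [act_inv_act] at this

theorem Cen_smul (hF : Fintype.card F = q ^ 2) {H : Subgroup ↥(Cfsg.SU n F q)} (l : F)
    {v : Fin n → F} (hv : v ∈ Cen hF H) : l • v ∈ Cen hF H := by
  refine ⟨by rw [hf_smul_left, hf_smul_right, hv.1]; ring, ?_⟩
  intro c hc
  rw [tv_smul hF hv.1 hc]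
  apply hv.2
  rw [mul_pow, fr_norm hF]; linear_combination (l * l ^ q) * hc

theorem Cen_of_smul (hF : Fintype.card F = q ^ 2) {H : Subgroup ↥(Cfsg.SU n F q)} {l : F}
    (hl : l ≠ 0) {v : Fin n → F} (hv : l • v ∈ Cen hF H) : v ∈ Cen hF H := by
  have := Cen_smul hF l⁻¹ hv
  rwa [smul_smul, inv_mul_cancel₀ hl, one_smul] at this

theorem Cen_zero (hF : Fintype.card F = q ^ 2) {H : Subgroup ↥(Cfsg.SU n F q)} :
    (0 : Fin n → F) ∈ Cen hF H := by
  refine ⟨hf_zero_left _, ?_⟩
  intro c hc
  rw [tv_zero_left hF hc]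
  exact H.one_mem

/-- the hyperbolic line rule -/
theorem Cen_line (hF : Fintype.card F = q ^ 2) {H : Subgroup ↥(Cfsg.SU n F q)}
    {u v : Fin n → F} (hu : u ∈ Cen hF H) (hv : v ∈ Cen hF H) {c : F} (hc : c + c ^ q = 0) :
    v + (c * hf q v u) • u ∈ Cen hF H := by
  have := Cen_act hF (hu.2 c hc) hv
  rwa [tv_act hF hu.1 hc] at this

theorem Cen_mono (hF : Fintype.card F = q ^ 2) {H K : Subgroup ↥(Cfsg.SU n F q)} (h : H ≤ K) :
    Cen hF H ⊆ Cen hF K := fun v hv => ⟨hv.1, fun c hc => h (hv.2 c hc)⟩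

theorem eq_top_of_Cen (hF : Fintype.card F = q ^ 2) (hn : 3 ≤ n) (h32 : ¬ (n = 3 ∧ q = 2))
    {H : Subgroup ↥(Cfsg.SU n F q)} (h : ∀ v : Fin n → F, hf q v v = 0 → v ∈ Cen hF H) :
    H = ⊤ := by
  rw [eq_top_iff, ← Cfsg.Agent.Lib.H11.UGen.su_closure_eq_top hF n hn h32, Subgroup.closure_le]
  rintro A ⟨v, c, hv, hA⟩
  have hone : ∀ A : ↥(Cfsg.SU n F q),
      ((A : Matrix.SpecialLinearGroup (Fin n) F) : Matrix (Fin n) (Fin n) F) = 1 → A = 1 := by
    intro A hA
    apply Subtype.ext
    apply Subtype.ext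
    exact hA
  by_cases hv0 : v = 0
  · have : A = 1 := by
      apply hone
      rw [hA, hv0]
      unfold Cfsg.unitaryTransvection
      ext i j
      simp [Matrix.vecMulVec_apply]
    rw [this]
    exact H.one_mem
  · have hpres : ∀ x y : Fin n → F,
        Cfsg.hermForm n F q ((Cfsg.unitaryTransvection n q v c).mulVec x)
          ((Cfsg.unitaryTransvection n q v c).mulVec y) = Cfsg.hermForm n F q x y := by
      intro x y
      rw [← hA]
      exact A.2 x y
    rcases (Cfsg.Agent.S0779.result hF n v hv0 hv c).1 hpres with hc0 | hc1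
    · have : A = 1 := by
        apply hone
        rw [hA, hc0]
        unfold Cfsg.unitaryTransvection
        simp
      rw [this]
      exact H.one_mem
    · have hq := two_le_q hF
      have hc : c + c ^ q = 0 := by
        have : c ^ q = c ^ (q - 1) * c := by
          rw [← pow_succ, Nat.sub_add_cancel (by omega)]
        rw [this, hc1]; ring
      have : A = tv hF v c := by
        apply Subtype.ext
        apply Subtype.ext
        rw [hA]
        exact (tv_val hF hv hc).symm
      rw [this]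
      exact (h v hv).2 c hc

end Cfsg.Agent.Lib.H15.SUGen
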