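import Cfsg.Agent.Lib.H15.SUGenA

/-!
# Generation of `SU_n(q)`: coordinate planes

Vectors supported on a pair of coordinates, the family `Good` of supports all of whose isotropic
vectors are centres, the criterion `plane_of_two`, and the "kill" lemma: the transvections centred
in a coordinate plane move a vector of non-zero plane-norm to one with a zero coordinate.
-/

set_option autoImplicit false
set_option linter.unusedSectionVars false
set_option linter.unusedVariables false
set_option linter.unusedSimpArgs false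

namespace Cfsg.Agent.Lib.H15.SUGen

open Matrix Cfsg.Agent.Lib.H4 Cfsg.Agent.Lib.H2.Unitary Cfsg.Agent.Lib.H2.Herm

variable {F : Type*} [Field F] [Fintype F] {q n : ℕ}

/-- `v` vanishes outside `T` -/
def SuppIn (T : Finset (Fin n)) (v : Fin n → F) : Prop := ∀ i, i ∉ T → v i = 0

/-- all isotropic vectors supported in `T` are centres -/
def Good (hF : Fintype.card F = q ^ 2) (H : Subgroup ↥(Cfsg.SU n F q)) (T : Finset (Fin n)) : Prop :=
  ∀ v : Fin n → F, hf q v v = 0 → SuppIn T v → v ∈ Cen hF H

/-- a vector of the coordinate plane `{i, j}` -/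
def pv (i j : Fin n) (α β : F) : Fin n → F := α • Pi.single i 1 + β • Pi.single j 1

theorem pv_apply (i j : Fin n) (α β : F) (k : Fin n) :
    pv i j α β k = (if k = i then α else 0) + (if k = j then β else 0) := by
  simp [pv, Pi.single_apply]

theorem pv_left {i j : Fin n} (hij : i ≠ j) (α β : F) : pv i j α β i = α := by
  rw [pv_apply, if_pos rfl, if_neg hij, add_zero]

theorem pv_right {i j : Fin n} (hij : i ≠ j) (α β : F) : pv i j α β j = β := by
  rw [pv_apply, if_neg (Ne.symm hij), if_pos rfl, zero_add]

theorem pv_other {i j k : Fin n} (hi : k ≠ i) (hj : k ≠ j) (α β : F) : pv i j α β k = 0 := by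
  rw [pv_apply, if_neg hi, if_neg hj, add_zero]

theorem suppIn_pv (i j : Fin n) (α β : F) : SuppIn {i, j} (pv i j α β) := by
  intro k hk
  rw [Finset.mem_insert, Finset.mem_singleton] at hk
  push_neg at hk
  exact pv_other hk.1 hk.2 α β

theorem eq_pv_of_suppIn {i j : Fin n} (hij : i ≠ j) {v : Fin n → F} (hv : SuppIn {i, j} v) :
    v = pv i j (v i) (v j) := by
  funext k
  by_cases hi : k = i
  · subst hi; rw [pv_left hij]
  · by_cases hj : k = j
    · subst hj; rw [pv_right hij]
    · rw [pv_other hi hj]
      apply hv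
      rw [Finset.mem_insert, Finset.mem_singleton]
      push_neg
      exact ⟨hi, hj⟩

theorem hf_pv_right (hF : Fintype.card F = q ^ 2) (x : Fin n → F) (i j : Fin n) (α β : F) :
    hf q x (pv i j α β) = x i * α ^ q + x j * β ^ q := by
  unfold pv
  rw [hf_add_right hF, hf_smul_right, hf_smul_right, hf_single_right hF, hf_single_right hF]
  ring

theorem hf_pv_left (hF : Fintype.card F = q ^ 2) (x : Fin n → F) (i j : Fin n) (α β : F) :
    hf q (pv i j α β) x = α * x i ^ q + β * x j ^ q := by
  unfold pv
  rw [hf_add_left, hf_smul_left, hf_smul_left, hf_single_left hF, hf_single_left hF]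

theorem hf_pv_pv (hF : Fintype.card F = q ^ 2) {i j : Fin n} (hij : i ≠ j) (α β γ δ : F) :
    hf q (pv i j α β) (pv i j γ δ) = α * γ ^ q + β * δ ^ q := by
  rw [hf_pv_right hF, pv_left hij, pv_right hij]

theorem pv_smul (i j : Fin n) (l α β : F) : l • pv i j α β = pv i j (l * α) (l * β) := by
  unfold pv
  rw [smul_add, smul_smul, smul_smul]

theorem pv_add (i j : Fin n) (α β γ δ : F) :
    pv i j α β + pv i j γ δ = pv i j (α + γ) (β + δ) := by
  unfold pv
  module

/-- two non-orthogonal centres in a coordinate plane make the plane good -/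
theorem plane_of_two (hF : Fintype.card F = q ^ 2) {H : Subgroup ↥(Cfsg.SU n F q)}
    {i j : Fin n} (hij : i ≠ j) {a b c d : F} (hu : pv i j a b ∈ Cen hF H)
    (hv : pv i j c d ∈ Cen hF H) (hne : hf q (pv i j c d) (pv i j a b) ≠ 0) :
    Good hF H {i, j} := by
  have hu0 : a * a ^ q + b * b ^ q = 0 := by
    have := hu.1; rwa [hf_pv_pv hF hij] at this
  have ha0 : a ≠ 0 := by
    intro ha
    rw [ha, zero_mul, zero_add] at hu0
    have hb : b = 0 := by
      rcases mul_eq_zero.1 hu0 with h | h
      · exact h
      · exact fr_eq_zero hF h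
    apply hne
    rw [hf_pv_pv hF hij, ha, hb, fr_zero hF]; ring
  have hb0 : b ≠ 0 := by
    intro hb
    rw [hb, zero_mul, add_zero] at hu0
    apply ha0
    rcases mul_eq_zero.1 hu0 with h | h
    · exact h
    · exact fr_eq_zero hF h
  have hbq : b ^ q ≠ 0 := pow_ne_zero _ hb0
  -- vectors of the plane orthogonal to `u` are multiples of `u`
  have key : ∀ x y : F, x * a ^ q + y * b ^ q = 0 → pv i j x y = (x / a) • pv i j a b := by
    intro x y hxy
    rw [pv_smul, div_mul_cancel₀ _ ha0]
    congr 1
    have : (y - x / a * b) * b ^ q = 0 := by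
      field_simp
      linear_combination a * hxy - x * hu0
    rcases mul_eq_zero.1 this with h | h
    · linear_combination h
    · exact absurd h hbq
  intro w hw hsupp
  rw [eq_pv_of_suppIn hij hsupp] at hw ⊢
  obtain ⟨x, hx⟩ : ∃ x, x = w i := ⟨_, rfl⟩
  obtain ⟨y, hy⟩ : ∃ y, y = w j := ⟨_, rfl⟩
  rw [← hx, ← hy] at hw ⊢
  rw [hf_pv_pv hF hij] at hw
  by_cases hwu : x * a ^ q + y * b ^ q = 0
  · rw [key x y hwu]
    exact Cen_smul hF _ hu
  · -- rescale `w` so that its pairing with `u` is that of `v`
    obtain ⟨η, hη⟩ : ∃ η, η = hf q (pv i j c d) (pv i j a b) := ⟨_, rfl⟩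
    have hηv : η = c * a ^ q + d * b ^ q := by rw [hη, hf_pv_pv hF hij]
    obtain ⟨l, hl⟩ : ∃ l, l = η / (x * a ^ q + y * b ^ q) := ⟨_, rfl⟩
    have hl0 : l ≠ 0 := by rw [hl]; exact div_ne_zero (by rw [hη]; exact hne) hwu
    apply Cen_of_smul hF hl0
    rw [pv_smul]
    have hpair : (l * x) * a ^ q + (l * y) * b ^ q = η := by
      rw [hl]; field_simp
    -- the difference with `v` is orthogonal to `u`
    have hd : pv i j (l * x - c) (l * y - d) = ((l * x - c) / a) • pv i j a b :=
      key _ _ (by linear_combination hpair + hηv)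
    obtain ⟨s, hs⟩ : ∃ s, s = (l * x - c) / a := ⟨_, rfl⟩
    have hsum : pv i j (l * x) (l * y) = pv i j c d + s • pv i j a b := by
      rw [hs, ← hd, pv_add]; congr 1 <;> ring
    have hv0 : c * c ^ q + d * d ^ q = 0 := by
      have := hv.1; rwa [hf_pv_pv hF hij] at this
    have hw' : (l * x) * (l * x) ^ q + (l * y) * (l * y) ^ q = 0 := by
      rw [mul_pow, mul_pow]; linear_combination (l * l ^ q) * hw
    -- components
    have e1 : l * x = c + s * a := by
      have := congrFun hsum i
      rw [pv_left hij, Pi.add_apply, Pi.smul_apply, pv_left hij, pv_left hij, smul_eq_mul] at this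
      exact this
    have e2 : l * y = d + s * b := by
      have := congrFun hsum j
      rw [pv_right hij, Pi.add_apply, Pi.smul_apply, pv_right hij, pv_right hij, smul_eq_mul] at this
      exact this
    have hηq : η ^ q = c ^ q * a + d ^ q * b := by
      rw [hηv, fr_add hF, mul_pow, mul_pow, fr_fr hF, fr_fr hF]
    have hη0 : η ≠ 0 := by rw [hη]; exact hne
    have hηq0 : η ^ q ≠ 0 := pow_ne_zero _ hη0
    have htz : s / η + (s / η) ^ q = 0 := by
      rw [div_pow]
      field_simp
      rw [e1, e2, fr_add hF, fr_add hF, mul_pow, mul_pow] at hw'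
      rw [hηq, hηv]
      linear_combination hw' - hv0 - (s * s ^ q) * hu0
    have := Cen_line hF hu hv htz
    rw [← hη, div_mul_cancel₀ _ hη0] at this
    rw [hsum]
    exact this

end Cfsg.Agent.Lib.H15.SUGen
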