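import Cfsg.Agent.Lib.H15.SUGenB

/-!
# Generation of `SU_n(q)`: moving vectors inside a hyperbolic plane

For a hyperbolic pair `u, u'` of centres of `H`, three transvections move a vector `x` to any vector
with the same component orthogonal to the plane and the same non-zero plane norm (`path3`).  For a
good coordinate plane this gives the `kill` lemma.
-/

set_option autoImplicit false
set_option linter.unusedSectionVars false
set_option linter.unusedVariables false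
set_option linter.unusedSimpArgs false

namespace Cfsg.Agent.Lib.H15.SUGen

open Matrix Cfsg.Agent.Lib.H4 Cfsg.Agent.Lib.H2.Unitary Cfsg.Agent.Lib.H2.Herm

variable {F : Type*} [Field F] [Fintype F] {q n : ℕ}

/-- a hyperbolic pair of centres of `H` -/
structure HypC (hF : Fintype.card F = q ^ 2) (H : Subgroup ↥(Cfsg.SU n F q))
    (u u' : Fin n → F) : Prop where
  cu : u ∈ Cen hF H
  cu' : u' ∈ Cen hF H
  uu' : hf q u u' = 1

theorem HypC.u'u {hF : Fintype.card F = q ^ 2} {H : Subgroup ↥(Cfsg.SU n F q)}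
    {u u' : Fin n → F} (h : HypC hF H u u') : hf q u' u = 1 := by
  rw [← hf_conj hF, h.uu', one_pow]

theorem step_u {hF : Fintype.card F = q ^ 2} {H : Subgroup ↥(Cfsg.SU n F q)}
    {u : Fin n → F} (hu : u ∈ Cen hF H) (x : Fin n → F) (d : F) (hβ : hf q x u ≠ 0)
    (hd : d * (hf q x u) ^ q + d ^ q * hf q x u = 0) :
    ∃ g ∈ H, act g x = x + d • u := by
  have hβq : (hf q x u) ^ q ≠ 0 := pow_ne_zero _ hβ
  have hc : d / hf q x u + (d / hf q x u) ^ q = 0 := by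
    rw [div_pow]
    field_simp
    linear_combination hd
  refine ⟨tv hF u (d / hf q x u), hu.2 _ hc, ?_⟩
  rw [tv_act hF hu.1 hc, div_mul_cancel₀ _ hβ]

/-- the three-transvection path -/
theorem path3 {hF : Fintype.card F = q ^ 2} {H : Subgroup ↥(Cfsg.SU n F q)}
    {u u' : Fin n → F} (h : HypC hF H u u') (x : Fin n → F) (α' β' : F)
    (hν : α' * β' ^ q + α' ^ q * β' = hf q x u' * (hf q x u) ^ q + (hf q x u') ^ q * hf q x u)
    (hν0 : hf q x u' * (hf q x u) ^ q + (hf q x u') ^ q * hf q x u ≠ 0)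
    (hΔ : hf q x u * β' ^ q - (hf q x u) ^ q * β' ≠ 0) :
    ∃ g ∈ H, act g x = x + (α' - hf q x u') • u + (β' - hf q x u) • u' := by
  obtain ⟨α, hα⟩ : ∃ α, α = hf q x u' := ⟨_, rfl⟩
  obtain ⟨β, hβ⟩ : ∃ β, β = hf q x u := ⟨_, rfl⟩
  rw [← hα, ← hβ] at hν hν0 ⊢
  rw [← hβ] at hΔ
  obtain ⟨ν, hνd⟩ : ∃ ν, ν = α * β ^ q + α ^ q * β := ⟨_, rfl⟩
  obtain ⟨Δ, hΔd⟩ : ∃ Δ, Δ = β * β' ^ q - β ^ q * β' := ⟨_, rfl⟩
  rw [← hνd] at hν hν0
  rw [← hΔd] at hΔ
  have hνq : ν ^ q = ν := by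
    rw [hνd, fr_add hF, mul_pow, mul_pow, fr_fr hF, fr_fr hF]; ring
  have hΔq : Δ ^ q = -Δ := by
    rw [hΔd, fr_sub hF, mul_pow, mul_pow, fr_fr hF, fr_fr hF]; ring
  have hβ0 : β ≠ 0 := by
    intro h0
    apply hΔ
    rw [hΔd, h0, fr_zero hF]; ring
  have hβ'0 : β' ≠ 0 := by
    intro h0
    apply hΔ
    rw [hΔd, h0, fr_zero hF]; ring
  have hββ' : β - β' ≠ 0 := by
    intro h0
    apply hΔ
    have : β = β' := by linear_combination h0
    rw [hΔd, this]; ring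
  obtain ⟨α₁, hα₁⟩ : ∃ α₁, α₁ = ν * (β - β') / Δ := ⟨_, rfl⟩
  have hα₁0 : α₁ ≠ 0 := by
    rw [hα₁]; exact div_ne_zero (mul_ne_zero hν0 hββ') hΔ
  have hα₁q : α₁ ^ q = ν * (β ^ q - β' ^ q) / (-Δ) := by
    rw [hα₁, div_pow, mul_pow, fr_sub hF, hνq, hΔq]
  have T1 : α₁ * β ^ q + α₁ ^ q * β = ν := by
    rw [hα₁q, hα₁]
    field_simp
    rw [hΔd]; ring
  have T2 : α₁ * β' ^ q + α₁ ^ q * β' = ν := by
    rw [hα₁q, hα₁]
    field_simp
    rw [hΔd]; ring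
  -- first step
  obtain ⟨g₁, hg₁, e₁⟩ := step_u h.cu x (α₁ - α) (by rw [← hβ]; exact hβ0) (by
    rw [← hβ, fr_sub hF]; linear_combination T1 + hνd)
  have a1 : hf q (act g₁ x) u' = α₁ := by
    rw [e₁, hf_add_left, hf_smul_left, h.uu', ← hα]; ring
  have b1 : hf q (act g₁ x) u = β := by
    rw [e₁, hf_add_left, hf_smul_left, h.cu.1, ← hβ]; ring
  -- second step
  obtain ⟨g₂, hg₂, e₂⟩ := step_u h.cu' (act g₁ x) (β' - β) (by rw [a1]; exact hα₁0) (by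
    rw [a1, fr_sub hF]; linear_combination T2 - T1)
  have a2 : hf q (act g₂ (act g₁ x)) u' = α₁ := by
    rw [e₂, hf_add_left, hf_smul_left, h.cu'.1, a1]; ring
  have b2 : hf q (act g₂ (act g₁ x)) u = β' := by
    rw [e₂, hf_add_left, hf_smul_left, h.u'u, b1]; ring
  -- third step
  obtain ⟨g₃, hg₃, e₃⟩ := step_u h.cu (act g₂ (act g₁ x)) (α' - α₁) (by rw [b2]; exact hβ'0) (by
    rw [b2, fr_sub hF]; linear_combination hν - T2)
  refine ⟨g₃ * g₂ * g₁, H.mul_mem (H.mul_mem hg₃ hg₂) hg₁, ?_⟩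
  rw [act_mul, act_mul, e₃, e₂, e₁]
  module

/-- scalars for a hyperbolic pair in a coordinate plane -/
theorem exists_scalars (hF : Fintype.card F = q ^ 2) :
    ∃ ω l κ : F, ω * ω ^ q = -1 ∧ l * l ^ q = 1 ∧ l ≠ 0 ∧ 1 - l ≠ 0 ∧ ω ≠ 0 ∧
      κ * (1 - l) = 1 ∧ κ ^ q = -l * κ := by
  have hm1 : ((-1 : F)) ^ q = -1 := by rw [fr_neg hF, one_pow]
  have hcard := card_N_fiber hF (-1 : F) (neg_ne_zero.2 one_ne_zero) hm1
  have hne : Nonempty {x : F // N q x = -1} := by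
    rw [← Finite.card_pos_iff (α := {x : F // N q x = -1})]
    rw [hcard]; omega
  obtain ⟨⟨ω, hω⟩⟩ := hne
  obtain ⟨l, hl, hl1⟩ := exists_norm_one_ne_one hF
  have hl0 : (l : F) ≠ 0 := l.ne_zero
  have h1l : 1 - (l : F) ≠ 0 := sub_ne_zero.2 (Ne.symm hl1)
  have hω0 : ω ≠ 0 := by
    rintro rfl
    unfold N at hω
    rw [zero_mul] at hω
    exact one_ne_zero (neg_eq_zero.1 hω.symm)
  refine ⟨ω, l, (1 - (l : F))⁻¹, hω, hl, hl0, h1l, hω0, inv_mul_cancel₀ h1l, ?_⟩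
  have hL : (l : F) ^ q = (l : F)⁻¹ := eq_inv_of_mul_eq_one_right hl
  have h2 : 1 - (l : F)⁻¹ ≠ 0 := by
    intro h
    apply hl1
    have : (l : F)⁻¹ = 1 := by linear_combination -h
    rw [inv_eq_one] at this
    exact this
  rw [inv_pow, fr_sub hF, one_pow, hL]
  field_simp
  ring

/-- a hyperbolic pair of centres in a good coordinate plane, with its coordinates -/
theorem exists_hypC (hF : Fintype.card F = q ^ 2) {H : Subgroup ↥(Cfsg.SU n F q)}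
    {i j : Fin n} (hij : i ≠ j) (hG : Good hF H {i, j}) :
    ∃ ω l κ : F, ω * ω ^ q = -1 ∧ l * l ^ q = 1 ∧ l ≠ 0 ∧ 1 - l ≠ 0 ∧ ω ≠ 0 ∧
      κ * (1 - l) = 1 ∧ κ ^ q = -l * κ ∧
      HypC hF H (pv i j 1 ω) (pv i j κ (κ * ω * l)) := by
  obtain ⟨ω, l, κ, hω, hl, hl0, h1l, hω0, hκ2, hκ1⟩ := exists_scalars hF
  refine ⟨ω, l, κ, hω, hl, hl0, h1l, hω0, hκ2, hκ1, ?_, ?_, ?_⟩
  · apply hG _ _ (suppIn_pv _ _ _ _)
    rw [hf_pv_pv hF hij, one_pow]; linear_combination hω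
  · apply hG _ _ (suppIn_pv _ _ _ _)
    rw [hf_pv_pv hF hij, mul_pow, mul_pow]
    linear_combination (κ * κ ^ q * (l * l ^ q)) * hω - (κ * κ ^ q) * hl
  · rw [hf_pv_pv hF hij, mul_pow, mul_pow, hκ1]
    linear_combination (-l * κ * l ^ q) * hω + κ * hl + hκ2

/-- the kill lemma -/
theorem kill (hF : Fintype.card F = q ^ 2) {H : Subgroup ↥(Cfsg.SU n F q)}
    {i j : Fin n} (hij : i ≠ j) (hG : Good hF H {i, j}) (x : Fin n → F)
    (hν : x i * x i ^ q + x j * x j ^ q ≠ 0) :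
    ∃ g ∈ H, act g x j = 0 ∧ ∀ k, k ≠ i → k ≠ j → act g x k = x k := by
  obtain ⟨ω, l, κ, hω, hl, hl0, h1l, hω0, hκ2, hκ1, hyp⟩ := exists_hypC hF hij hG
  obtain ⟨W, hW⟩ : ∃ W, W = ω ^ q := ⟨_, rfl⟩
  obtain ⟨L, hL⟩ : ∃ L, L = l ^ q := ⟨_, rfl⟩
  obtain ⟨X, hX⟩ : ∃ X, X = x i ^ q := ⟨_, rfl⟩
  obtain ⟨Y, hY⟩ : ∃ Y, Y = x j ^ q := ⟨_, rfl⟩
  rw [← hW] at hω
  rw [← hL] at hl
  rw [← hX, ← hY] at hν
  have hWq : W ^ q = ω := by rw [hW, fr_fr hF]
  have hLq : L ^ q = l := by rw [hL, fr_fr hF]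
  have hκq : (κ ^ q) ^ q = κ := fr_fr hF κ
  have hα : hf q x (pv i j κ (κ * ω * l)) = x i * (-l * κ) + x j * ((-l * κ) * W * L) := by
    rw [hf_pv_right hF, mul_pow, mul_pow, hκ1, ← hW, ← hL]
  have hβ : hf q x (pv i j 1 ω) = x i + x j * W := by
    rw [hf_pv_right hF, one_pow, ← hW, mul_one]
  have hαq : (hf q x (pv i j κ (κ * ω * l))) ^ q = X * κ + Y * (κ * ω * l) := by
    rw [hf_conj hF, hf_pv_left hF, ← hX, ← hY]; ring
  have hβq : (hf q x (pv i j 1 ω)) ^ q = X + Y * ω := by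
    rw [hf_conj hF, hf_pv_left hF, ← hX, ← hY]; ring
  have hWe : W = -ω⁻¹ := by
    field_simp
    linear_combination hω
  have hLe : L = l⁻¹ := eq_inv_of_mul_eq_one_right hl
  have hκe : κ = (1 - l)⁻¹ := eq_inv_of_mul_eq_one_left hκ2
  have hνeq : hf q x (pv i j κ (κ * ω * l)) * (hf q x (pv i j 1 ω)) ^ q +
      (hf q x (pv i j κ (κ * ω * l))) ^ q * hf q x (pv i j 1 ω) = x i * X + x j * Y := by
    rw [hαq, hβq, hα, hβ, hWe, hLe, hκe]
    field_simp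
    ring
  -- a scalar of norm `ν`
  have hνq : (x i * X + x j * Y) ^ q = x i * X + x j * Y := by
    rw [hX, hY, fr_add hF, fr_norm hF, fr_norm hF]
  have hcard := card_N_fiber hF (x i * X + x j * Y) hν hνq
  have hne : Nonempty {z : F // N q z = x i * X + x j * Y} := by
    rw [← Finite.card_pos_iff (α := {z : F // N q z = x i * X + x j * Y})]
    rw [hcard]; omega
  obtain ⟨⟨ζ₀, hζ₀⟩⟩ := hne
  unfold N at hζ₀
  obtain ⟨l₂, hl₂, hl₂sq⟩ := exists_norm_one_sq_ne_one hF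
  have hζ₀0 : ζ₀ ≠ 0 := by
    rintro rfl
    rw [zero_mul] at hζ₀
    exact hν hζ₀.symm
  obtain ⟨β, hβd⟩ : ∃ β, β = hf q x (pv i j 1 ω) := ⟨_, rfl⟩
  have hβ0 : β ≠ 0 := by
    intro h0
    apply hν
    rw [← hνeq, ← hβd, h0, fr_zero hF]; ring
  have hβq0 : β ^ q ≠ 0 := pow_ne_zero _ hβ0
  obtain ⟨ζ, hζ, hζΔ⟩ : ∃ ζ : F, ζ * ζ ^ q = x i * X + x j * Y ∧ β * ζ ^ q - β ^ q * ζ ≠ 0 := by
    by_cases h0 : β * ζ₀ ^ q - β ^ q * ζ₀ = 0
    · refine ⟨ζ₀ * (l₂ : F), ?_, ?_⟩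
      · rw [mul_pow]; linear_combination hζ₀ + (ζ₀ * ζ₀ ^ q) * hl₂
      · rw [mul_pow]
        have e : β * (ζ₀ ^ q * (l₂ : F) ^ q) - β ^ q * (ζ₀ * (l₂ : F)) =
            β ^ q * ζ₀ * ((l₂ : F) ^ q - (l₂ : F)) := by linear_combination ((l₂ : F) ^ q) * h0
        rw [e]
        apply mul_ne_zero (mul_ne_zero hβq0 hζ₀0)
        intro h
        apply hl₂sq
        apply Units.ext
        rw [Units.val_pow_eq_pow_val, Units.val_one]
        have : (l₂ : F) ^ q = (l₂ : F) := by linear_combination h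
        rw [this] at hl₂
        rw [sq]; exact hl₂
    · exact ⟨ζ₀, hζ₀, h0⟩
  -- apply the path
  have hν' : (κ ^ q * ζ) * ζ ^ q + (κ ^ q * ζ) ^ q * ζ =
      hf q x (pv i j κ (κ * ω * l)) * (hf q x (pv i j 1 ω)) ^ q +
        (hf q x (pv i j κ (κ * ω * l))) ^ q * hf q x (pv i j 1 ω) := by
    rw [hνeq, mul_pow, hκq, hκ1]
    linear_combination (-l * κ + κ) * hζ + (x i * X + x j * Y) * hκ2
  obtain ⟨g, hg, eg⟩ := path3 hyp x (κ ^ q * ζ) ζ hν' (by rw [hνeq]; exact hν)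
    (by rw [← hβd]; exact hζΔ)
  refine ⟨g, hg, ?_, ?_⟩
  · rw [eg, Pi.add_apply, Pi.add_apply, Pi.smul_apply, Pi.smul_apply, pv_right hij, pv_right hij,
      hα, hβ, hκ1, smul_eq_mul, smul_eq_mul, hWe, hLe, hκe]
    field_simp
    ring
  · intro k hki hkj
    rw [eg, Pi.add_apply, Pi.add_apply, Pi.smul_apply, Pi.smul_apply, pv_other hki hkj,
      pv_other hki hkj]
    simp

/-- transitivity of good pairs -/
theorem good_trans (hF : Fintype.card F = q ^ 2) {H : Subgroup ↥(Cfsg.SU n F q)}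
    {i j k : Fin n} (hij : i ≠ j) (hjk : j ≠ k) (hik : i ≠ k) (h1 : Good hF H {i, j})
    (h2 : Good hF H {j, k}) : Good hF H {i, k} := by
  intro v hv hsupp
  have hvj : v j = 0 := by
    apply hsupp
    rw [Finset.mem_insert, Finset.mem_singleton]
    push_neg
    exact ⟨Ne.symm hij, hjk⟩
  by_cases hvk : v k = 0
  · -- then `v` is supported on `{i}`, so also on `{i, j}`
    apply h1 v hv
    intro m hm
    rw [Finset.mem_insert, Finset.mem_singleton] at hm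
    push_neg at hm
    by_cases hmk : m = k
    · rw [hmk]; exact hvk
    · apply hsupp
      rw [Finset.mem_insert, Finset.mem_singleton]
      push_neg
      exact ⟨hm.1, hmk⟩
  · have hν : v j * v j ^ q + v k * v k ^ q ≠ 0 := by
      rw [hvj, zero_mul, zero_add]
      exact mul_ne_zero hvk (pow_ne_zero _ hvk)
    obtain ⟨g, hg, hgk, hgo⟩ := kill hF hjk h2 v hν
    apply Cen_of_act hF hg
    apply h1 _ (hf_act_self g hv)
    intro m hm
    rw [Finset.mem_insert, Finset.mem_singleton] at hm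
    push_neg at hm
    by_cases hmk : m = k
    · rw [hmk]; exact hgk
    · rw [hgo m hm.2 hmk]
      apply hsupp
      rw [Finset.mem_insert, Finset.mem_singleton]
      push_neg
      exact ⟨hm.1, hmk⟩

end Cfsg.Agent.Lib.H15.SUGen
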