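import Cfsg.Agent.Lib.H15.SUGenC

/-!
# Generation of `SU_n(q)`, `q ≠ 2`: from good coordinate pairs to everything
-/

set_option autoImplicit false
set_option linter.unusedSectionVars false
set_option linter.unusedVariables false
set_option linter.unusedSimpArgs false

namespace Cfsg.Agent.Lib.H15.SUGen

open Matrix Cfsg.Agent.Lib.H4 Cfsg.Agent.Lib.H2.Unitary Cfsg.Agent.Lib.H2.Herm

variable {F : Type*} [Field F] [Fintype F] {q n : ℕ}

/-- a generator of the multiplicative group -/
theorem exists_gen (hF : Fintype.card F = q ^ 2) : ∃ g : Fˣ, orderOf g = q ^ 2 - 1 := by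
  obtain ⟨g, hg⟩ := IsCyclic.exists_generator (α := Fˣ)
  refine ⟨g, ?_⟩
  rw [orderOf_eq_card_of_forall_mem_zpowers hg, Nat.card_units, Nat.card_eq_fintype_card, hF]

/-- an element of the fixed field other than `0, 1` -/
theorem exists_fixed_ne (hF : Fintype.card F = q ^ 2) (hq : q ≠ 2) :
    ∃ r : F, r ^ q = r ∧ r ≠ 0 ∧ r ≠ 1 := by
  have hq2 := two_le_q hF
  obtain ⟨g, hg⟩ := exists_gen hF
  refine ⟨(g : F) * (g : F) ^ q, fr_norm hF _, mul_ne_zero g.ne_zero (pow_ne_zero _ g.ne_zero), ?_⟩
  intro h1
  have h2 : g ^ (q + 1) = 1 := by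
    apply Units.ext
    rw [Units.val_pow_eq_pow_val, Units.val_one, pow_succ']
    exact h1
  have h3 := orderOf_dvd_of_pow_eq_one h2
  rw [hg] at h3
  have h4 := Nat.le_of_dvd (by omega) h3
  have h5 : 3 ≤ q := by omega
  have : q ^ 2 ≥ 3 * q := by nlinarith
  omega

/-- changing the norm of a coordinate in characteristic two -/
theorem bump (hF : Fintype.card F = q ^ 2) (h2 : (2 : F) = 0) (hq : q ≠ 2)
    {H : Subgroup ↥(Cfsg.SU n F q)} {i j : Fin n} (hij : i ≠ j) (hG : Good hF H {i, j})
    (x : Fin n → F) (hxi : x i ≠ 0) (hxj : x j ≠ 0) (hN : x i * x i ^ q = x j * x j ^ q) :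
    ∃ g ∈ H, act g x i * (act g x i) ^ q ≠ x i * x i ^ q ∧
      ∀ k, k ≠ i → k ≠ j → act g x k = x k := by
  obtain ⟨θu, hθ, hθ1⟩ := exists_norm_one_ne_one hF
  obtain ⟨θ, hθd⟩ : ∃ θ : F, θ = (θu : F) := ⟨_, rfl⟩
  rw [← hθd] at hθ hθ1
  have hθ0 : θ ≠ 0 := by rw [hθd]; exact θu.ne_zero
  obtain ⟨r, hr, hr0, hr1⟩ := exists_fixed_ne hF hq
  obtain ⟨ω, hωd⟩ : ∃ ω, ω = (θ * x i / x j) ^ q := ⟨_, rfl⟩
  have hωq : ω ^ q = θ * x i / x j := by rw [hωd, fr_fr hF]
  have hxiq : x i ^ q ≠ 0 := pow_ne_zero _ hxi
  have hxjq : x j ^ q ≠ 0 := pow_ne_zero _ hxj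
  have hωN : ω * ω ^ q = 1 := by
    rw [hωq, hωd, div_pow, mul_pow]
    field_simp
    linear_combination (x j * x j ^ q) * hθ + (θ * θ ^ q) * hN
  have hw : hf q (pv i j 1 ω) (pv i j 1 ω) = 0 := by
    rw [hf_pv_pv hF hij, one_pow]; linear_combination hωN + h2
  have hc : r + r ^ q = 0 := by rw [hr]; linear_combination r * h2
  have hwC := hG _ hw (suppIn_pv i j 1 ω)
  refine ⟨tv hF (pv i j 1 ω) r, hwC.2 r hc, ?_, ?_⟩
  · rw [tv_act hF hw hc, Pi.add_apply, Pi.smul_apply, pv_left hij, hf_pv_right hF, hωq, one_pow,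
      smul_eq_mul]
    have e : x i + r * (x i * 1 + x j * (θ * x i / x j)) * 1 = x i * (1 + r * (1 + θ)) := by
      field_simp
    rw [e]
    intro hcon
    rw [mul_pow, fr_add hF, mul_pow, fr_add hF, one_pow, hr] at hcon
    have h3 : (x i * x i ^ q) * ((r + r ^ 2) * (θ + θ ^ q)) = 0 := by
      linear_combination hcon - (x i * x i ^ q * r ^ 2) * hθ -
        (x i * x i ^ q * (r + r ^ 2)) * h2
    have hr1' : 1 + r ≠ 0 := by
      intro h
      apply hr1
      linear_combination h - h2
    have hθθ : θ + θ ^ q ≠ 0 := by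
      intro h
      apply hθ1
      have h4 : (θ - 1) ^ 2 = 0 := by
        linear_combination θ * h - hθ - θ * h2
      have := pow_eq_zero_iff (two_ne_zero) |>.1 h4
      linear_combination this
    have h5 : r + r ^ 2 ≠ 0 := by
      have : r + r ^ 2 = r * (1 + r) := by ring
      rw [this]; exact mul_ne_zero hr0 hr1'
    exact mul_ne_zero (mul_ne_zero hxi hxiq) (mul_ne_zero h5 hθθ) h3
  · intro k hki hkj
    rw [tv_act hF hw hc, Pi.add_apply, Pi.smul_apply, pv_other hki hkj, smul_zero, add_zero]

open Classical in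
/-- the support of a vector -/
noncomputable def supp (v : Fin n → F) : Finset (Fin n) := Finset.univ.filter (fun i => v i ≠ 0)

theorem mem_supp (v : Fin n → F) (i : Fin n) : i ∈ supp v ↔ v i ≠ 0 := by
  unfold supp
  simp

theorem suppIn_of_supp_subset {v : Fin n → F} {T : Finset (Fin n)} (h : supp v ⊆ T) :
    SuppIn T v := by
  intro i hi
  by_contra hne
  exact hi (h ((mem_supp v i).2 hne))

theorem eq_zero_of_supp_empty {v : Fin n → F} (h : supp v = ∅) : v = 0 := by
  funext i
  by_contra hne
  have := (mem_supp v i).2 hne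
  rw [h] at this
  exact absurd this (Finset.notMem_empty i)

/-- from good pairs to all isotropic vectors, `q ≠ 2` -/
theorem all_of_pairs (hF : Fintype.card F = q ^ 2) (hq : q ≠ 2) (hn : 3 ≤ n)
    {H : Subgroup ↥(Cfsg.SU n F q)} (hP : ∀ i j : Fin n, i ≠ j → Good hF H {i, j})
    (v : Fin n → F) (hv : hf q v v = 0) : v ∈ Cen hF H := by
  suffices hk : ∀ k : ℕ, ∀ v : Fin n → F, hf q v v = 0 → (supp v).card ≤ k → v ∈ Cen hF H from
    hk _ v hv le_rfl
  intro k
  induction k with
  | zero =>
    intro v hv hc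
    have : supp v = ∅ := Finset.card_eq_zero.1 (Nat.le_zero.1 hc)
    rw [eq_zero_of_supp_empty this]
    exact Cen_zero hF
  | succ k ih =>
    -- the reduction step
    have reduce : ∀ w : Fin n → F, hf q w w = 0 → (supp w).card ≤ k + 1 →
        ∀ i j : Fin n, i ≠ j → w i ≠ 0 → w j ≠ 0 → w i * w i ^ q + w j * w j ^ q ≠ 0 →
        w ∈ Cen hF H := by
      intro w hw hcw i j hij hwi hwj hν
      obtain ⟨g, hg, hgj, hgo⟩ := kill hF hij (hP i j hij) w hν
      apply Cen_of_act hF hg
      apply ih _ (hf_act_self g hw)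
      have hsub : supp (act g w) ⊆ (supp w).erase j := by
        intro m hm
        rw [mem_supp] at hm
        rw [Finset.mem_erase, mem_supp]
        have hmj : m ≠ j := by
          rintro rfl
          exact hm hgj
        refine ⟨hmj, ?_⟩
        by_cases hmi : m = i
        · rw [hmi]; exact hwi
        · rw [← hgo m hmi hmj]; exact hm
      have h1 := Finset.card_le_card hsub
      rw [Finset.card_erase_of_mem ((mem_supp w j).2 hwj)] at h1
      omega
    intro v hv hc
    by_cases hbig : 2 < (supp v).card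
    · obtain ⟨i, j, l, hi, hj, hl, hij, hil, hjl⟩ := Finset.two_lt_card_iff.1 hbig
      rw [mem_supp] at hi hj hl
      by_cases h1 : v i * v i ^ q + v j * v j ^ q ≠ 0
      · exact reduce v hv hc i j hij hi hj h1
      by_cases h2 : v i * v i ^ q + v l * v l ^ q ≠ 0
      · exact reduce v hv hc i l hil hi hl h2
      by_cases h3 : v j * v j ^ q + v l * v l ^ q ≠ 0
      · exact reduce v hv hc j l hjl hj hl h3
      push_neg at h1 h2 h3
      have hNi : v i * v i ^ q ≠ 0 := mul_ne_zero hi (pow_ne_zero _ hi)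
      have h2F : (2 : F) = 0 := by
        have : (2 : F) * (v i * v i ^ q) = 0 := by linear_combination h1 + h2 - h3
        rcases mul_eq_zero.1 this with h | h
        · exact h
        · exact absurd h hNi
      have hNij : v i * v i ^ q = v j * v j ^ q := by
        linear_combination h1 - (v j * v j ^ q) * h2F
      have hNil : v i * v i ^ q = v l * v l ^ q := by
        linear_combination h2 - (v l * v l ^ q) * h2F
      obtain ⟨g, hg, hgN, hgo⟩ := bump hF h2F hq hij (hP i j hij) v hi hj hNij
      apply Cen_of_act hF hg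
      have hsub : supp (act g v) ⊆ supp v := by
        intro m hm
        rw [mem_supp] at hm ⊢
        by_cases hmi : m = i
        · rw [hmi]; exact hi
        · by_cases hmj : m = j
          · rw [hmj]; exact hj
          · rw [← hgo m hmi hmj]; exact hm
      have hcw : (supp (act g v)).card ≤ k + 1 := le_trans (Finset.card_le_card hsub) hc
      have hwl : act g v l = v l := hgo l (Ne.symm hil) (Ne.symm hjl)
      by_cases hwi : act g v i = 0
      · apply ih _ (hf_act_self g hv)
        have hsub' : supp (act g v) ⊆ (supp v).erase i := by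
          intro m hm
          rw [Finset.mem_erase]
          refine ⟨?_, hsub hm⟩
          rintro rfl
          rw [mem_supp] at hm
          exact hm hwi
        have h1 := Finset.card_le_card hsub'
        rw [Finset.card_erase_of_mem ((mem_supp v i).2 hi)] at h1
        omega
      · apply reduce _ (hf_act_self g hv) hcw i l hil hwi (by rw [hwl]; exact hl)
        rw [hwl, ← hNil]
        intro h
        apply hgN
        linear_combination h - (v i * v i ^ q) * h2F
    · -- support of size at most two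
      push_neg at hbig
      have hn2 : Nontrivial (Fin n) := Fin.nontrivial_iff_two_le.2 (by omega)
      have hpair : ∃ i j : Fin n, i ≠ j ∧ supp v ⊆ {i, j} := by
        rcases Nat.lt_or_ge (supp v).card 2 with h | h
        · rcases Nat.lt_or_ge (supp v).card 1 with h0 | h0
          · have : supp v = ∅ := Finset.card_eq_zero.1 (by omega)
            obtain ⟨i, j, hij⟩ := exists_pair_ne (Fin n)
            exact ⟨i, j, hij, by rw [this]; exact Finset.empty_subset _⟩
          · obtain ⟨i, hi⟩ := Finset.card_eq_one.1 (show (supp v).card = 1 by omega)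
            obtain ⟨j, hj⟩ := exists_ne i
            refine ⟨i, j, Ne.symm hj, ?_⟩
            rw [hi]
            intro m hm
            rw [Finset.mem_singleton] at hm
            rw [hm]; exact Finset.mem_insert_self _ _
        · obtain ⟨i, j, hij, hs⟩ := Finset.card_eq_two.1 (show (supp v).card = 2 by omega)
          exact ⟨i, j, hij, by rw [hs]⟩
      obtain ⟨i, j, hij, hs⟩ := hpair
      exact hP i j hij v hv (suppIn_of_supp_subset hs)

end Cfsg.Agent.Lib.H15.SUGen
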