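import Mathlib
import Cfsg.Agent.Lib.H2.SpPerfect

/-!
# Generation of `Sp_{2m}(F)`: transvection centres of a subgroup and support families

For a subgroup `H` of the symplectic group, `Cen H` is the set of vectors `v` all of whose
transvections `tv m v c` lie in `H`.  It is `H`-invariant, closed under scalars and under
`v + a • u` for non-orthogonal `u, v`.  We show: if `Cen H` contains the standard basis vectors and
every vector supported on two fixed adjacent hyperbolic planes, plus enough "pairs", then it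
contains everything, and `H = ⊤`.
-/

set_option autoImplicit false
set_option linter.unusedSectionVars false
set_option linter.unusedVariables false
set_option linter.unusedSimpArgs false

namespace Cfsg.Agent.Lib.H15.SpGen

open Matrix Cfsg.Agent.Lib.H4 Cfsg.Agent.Lib.H2.Sp

variable {F : Type*} [Field F] {m : ℕ}

local notation "VV" => (Fin m ⊕ Fin m → F)
local notation "GG" => Matrix.symplecticGroup (Fin m) F
local notation "MM" => Matrix (Fin m ⊕ Fin m) (Fin m ⊕ Fin m) F

/-- the form -/
abbrev B (u v : Fin m ⊕ Fin m → F) : F := Cfsg.sympForm m F u v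

/-- the action of the symplectic group on vectors -/
def act (g : GG) (x : VV) : VV := (g : MM) *ᵥ x

theorem act_mul (g h : GG) (x : VV) : act (g * h) x = act g (act h x) := by
  unfold act
  rw [Submonoid.coe_mul, Matrix.mulVec_mulVec]

theorem act_one (x : VV) : act (1 : GG) x = x := by
  unfold act
  rw [Submonoid.coe_one, Matrix.one_mulVec]

theorem act_inv_act (g : GG) (x : VV) : act g⁻¹ (act g x) = x := by
  rw [← act_mul, inv_mul_cancel, act_one]

theorem act_act_inv (g : GG) (x : VV) : act g (act g⁻¹ x) = x := by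
  rw [← act_mul, mul_inv_cancel, act_one]

theorem act_add (g : GG) (x y : VV) : act g (x + y) = act g x + act g y := by
  unfold act
  rw [Matrix.mulVec_add]

theorem act_sub (g : GG) (x y : VV) : act g (x - y) = act g x - act g y := by
  unfold act
  rw [Matrix.mulVec_sub]

theorem act_smul (g : GG) (a : F) (x : VV) : act g (a • x) = a • act g x := by
  unfold act
  rw [Matrix.mulVec_smul]

theorem act_neg (g : GG) (x : VV) : act g (-x) = -act g x := by
  unfold act
  rw [Matrix.mulVec_neg]

theorem act_zero (g : GG) : act g (0 : VV) = 0 := by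
  unfold act
  rw [Matrix.mulVec_zero]

theorem B_act (g : GG) (u v : VV) : B (act g u) (act g v) = B u v :=
  (mem_symplecticGroup_iff_sympForm m g.1).1 g.2 u v

theorem act_tv (v : VV) (c : F) (x : VV) : act (tv m v c) x = x + (c * B x v) • v :=
  tv_mulVec m v c x

theorem conj_tv' (g : GG) (v : VV) (c : F) : g * tv m v c * g⁻¹ = tv m (act g v) c :=
  conj_tv g v c

theorem B_sub_left (u v w : VV) : B (u - v) w = B u w - B v w := by
  have : u - v = u + (-1 : F) • v := by rw [neg_smul, one_smul, sub_eq_add_neg]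
  unfold B
  rw [this, sympForm_add_left, sympForm_smul_left]
  ring

theorem B_sub_right (u v w : VV) : B u (v - w) = B u v - B u w := by
  have : v - w = v + (-1 : F) • w := by rw [neg_smul, one_smul, sub_eq_add_neg]
  unfold B
  rw [this, sympForm_add_right, sympForm_smul_right]
  ring

theorem B_add_left (u v w : VV) : B (u + v) w = B u w + B v w := sympForm_add_left m u v w
theorem B_add_right (u v w : VV) : B u (v + w) = B u v + B u w := sympForm_add_right m u v w
theorem B_smul_left (a : F) (u v : VV) : B (a • u) v = a * B u v := sympForm_smul_left m a u v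
theorem B_smul_right (a : F) (u v : VV) : B u (a • v) = a * B u v := sympForm_smul_right m a u v
theorem B_self (u : VV) : B u u = 0 := sympForm_self m u
theorem B_swap (u v : VV) : B u v = -B v u := sympForm_swap m u v

/-! ### centres of transvections -/

/-- the vectors all of whose transvections lie in `H` -/
def Cen (H : Subgroup GG) : Set VV := {v | ∀ c : F, tv m v c ∈ H}

theorem Cen_act {H : Subgroup GG} {g : GG} (hg : g ∈ H) {v : VV} (hv : v ∈ Cen H) : act g v ∈ Cen H := by
  intro c
  rw [← conj_tv']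
  exact H.mul_mem (H.mul_mem hg (hv c)) (H.inv_mem hg)

theorem Cen_smul {H : Subgroup GG} (a : F) {v : VV} (hv : v ∈ Cen H) : a • v ∈ Cen H := by
  intro c
  rw [tv_smul]
  exact hv _

theorem Cen_zero {H : Subgroup GG} : (0 : VV) ∈ Cen H := by
  intro c
  have := tv_smul (0 : F) (0 : VV) c
  rw [zero_smul] at this
  rw [this]
  simp only [ne_eq, OfNat.ofNat_ne_zero, not_false_eq_true, zero_pow, mul_zero]
  rw [tv_zero_right]
  exact H.one_mem

theorem Cen_neg {H : Subgroup GG} {v : VV} (hv : v ∈ Cen H) : -v ∈ Cen H := by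
  have := Cen_smul (-1 : F) hv
  rwa [neg_one_smul] at this

/-- the basic closure property -/
theorem Cen_add {H : Subgroup GG} {u v : VV} (hu : u ∈ Cen H) (hv : v ∈ Cen H) (hne : B v u ≠ 0) (a : F) :
    v + a • u ∈ Cen H := by
  have := Cen_act (hu (a / B v u)) hv
  rwa [act_tv, div_mul_cancel₀ _ hne] at this

theorem Cen_add' {H : Subgroup GG} {u v : VV} (hu : u ∈ Cen H) (hv : v ∈ Cen H) (hne : B v u ≠ 0) :
    v + u ∈ Cen H := by
  have := Cen_add hu hv hne 1
  rwa [one_smul] at this

theorem eq_top_of_Cen {H : Subgroup GG} (h : ∀ v : VV, v ∈ Cen H) : H = ⊤ := by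
  rw [eq_top_iff, ← TS_eq_top (F := F) m]
  unfold TS
  rw [Subgroup.closure_le]
  rintro g ⟨v, c, rfl⟩
  exact h v c

/-! ### standard basis, plane vectors -/

/-- `e_i` -/
def ee (i : Fin m) : VV := Pi.single (Sum.inl i) 1

/-- `f_i` -/
def ff (i : Fin m) : VV := Pi.single (Sum.inr i) 1

/-- a vector of the `i`-th hyperbolic plane -/
def pv (i : Fin m) (α β : F) : VV := α • ee i + β • ff i

@[simp] theorem pv_inl (i j : Fin m) (α β : F) :
    pv i α β (Sum.inl j) = if j = i then α else 0 := by
  simp [pv, ee, ff, Pi.single_apply]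

@[simp] theorem pv_inr (i j : Fin m) (α β : F) :
    pv i α β (Sum.inr j) = if j = i then β else 0 := by
  simp [pv, ee, ff, Pi.single_apply]

theorem pv_sub (i : Fin m) (a b α β : F) :
    (pv i a b - pv i α β : VV) = pv i (a - α) (b - β) := by
  unfold pv
  rw [sub_smul, sub_smul]
  abel

theorem ee_eq_pv (i : Fin m) : (ee i : VV) = pv i 1 0 := by
  simp [pv]

theorem ff_eq_pv (i : Fin m) : (ff i : VV) = pv i 0 1 := by
  simp [pv]

theorem B_pv (x : VV) (i : Fin m) (α β : F) :
    B x (pv i α β) = α * x (Sum.inr i) - β * x (Sum.inl i) := by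
  unfold B
  rw [sympForm_eq]
  simp only [pv_inl, pv_inr, mul_ite, mul_zero]
  rw [Finset.sum_sub_distrib]
  simp only [Finset.sum_ite_eq', Finset.mem_univ, if_true]
  ring

theorem B_ee (x : VV) (i : Fin m) : B x (ee i) = x (Sum.inr i) := by
  rw [ee_eq_pv, B_pv]; ring

theorem B_ff (x : VV) (i : Fin m) : B x (ff i) = -x (Sum.inl i) := by
  rw [ff_eq_pv, B_pv]; ring

/-- plane `i` is active in `v` -/
def pl (v : VV) (i : Fin m) : Prop := v (Sum.inl i) ≠ 0 ∨ v (Sum.inr i) ≠ 0

theorem not_pl {v : VV} {i : Fin m} : ¬ pl v i ↔ v (Sum.inl i) = 0 ∧ v (Sum.inr i) = 0 := by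
  unfold pl
  push_neg
  rfl

theorem pl_of_B_ne {x : VV} {i : Fin m} {α β : F} (h : B x (pv i α β) ≠ 0) : pl x i := by
  by_contra hn
  rw [not_pl] at hn
  apply h
  rw [B_pv, hn.1, hn.2]
  ring

theorem exists_dual {v : VV} {i : Fin m} (h : pl v i) :
    ∃ α β : F, B v (pv i α β) ≠ 0 := by
  rcases h with h | h
  · exact ⟨0, 1, by rw [B_pv]; simpa using h⟩
  · exact ⟨1, 0, by rw [B_pv]; simpa using h⟩

theorem exists_dual₂ {v v' : VV} {i : Fin m} (h : pl v i) (h' : pl v' i) :
    ∃ α β : F, B v (pv i α β) ≠ 0 ∧ B v' (pv i α β) ≠ 0 := by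
  by_contra hcon
  push_neg at hcon
  have h1 := hcon 1 0
  have h2 := hcon 0 1
  have h3 := hcon 1 1
  simp only [B_pv, one_mul, zero_mul, sub_zero, zero_sub, ne_eq, neg_eq_zero] at h1 h2 h3
  unfold pl at h h'
  by_cases a1 : v (Sum.inr i) = 0
  · have a2 : v (Sum.inl i) ≠ 0 := by
      rcases h with h | h
      · exact h
      · exact absurd a1 h
    have a3 : v' (Sum.inl i) = 0 := h2 a2
    have a4 : v' (Sum.inr i) ≠ 0 := by
      rcases h' with h' | h'
      · exact absurd a3 h'
      · exact h'
    have : v (Sum.inr i) - v (Sum.inl i) ≠ 0 := by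
      rw [a1, zero_sub, neg_ne_zero]; exact a2
    have := h3 this
    rw [a3, sub_zero] at this
    exact a4 this
  · have a3 : v' (Sum.inr i) = 0 := h1 a1
    have a4 : v' (Sum.inl i) ≠ 0 := by
      rcases h' with h' | h'
      · exact h'
      · exact absurd a3 h'
    by_cases a2 : v (Sum.inl i) = 0
    · have : v (Sum.inr i) - v (Sum.inl i) ≠ 0 := by
        rw [a2, sub_zero]; exact a1
      have := h3 this
      rw [a3, zero_sub, neg_eq_zero] at this
      exact a4 this
    · exact a4 (h2 a2)

/-! ### support families -/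

/-- every vector whose active planes are exactly `T` is a centre -/
def Good (H : Subgroup GG) (T : Finset (Fin m)) : Prop :=
  ∀ v : VV, (∀ i, pl v i ↔ i ∈ T) → v ∈ Cen H

theorem good_empty {H : Subgroup GG} : Good H (∅ : Finset (Fin m)) := by
  intro v hv
  have : v = 0 := by
    ext a
    rcases a with i | i
    · have := (not_pl.1 (fun h => by simpa using (hv i).1 h)).1
      simpa using this
    · have := (not_pl.1 (fun h => by simpa using (hv i).1 h)).2
      simpa using this
  rw [this]
  exact Cen_zero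

theorem pv_mem_Cen {H : Subgroup GG} {i : Fin m} (he : (ee i : VV) ∈ Cen H) (hf : (ff i : VV) ∈ Cen H) (α β : F) :
    pv i α β ∈ Cen H := by
  by_cases hβ : β = 0
  · subst hβ
    have : pv i α (0 : F) = α • ee i := by simp [pv]
    rw [this]
    exact Cen_smul α he
  · have h1 : β • (ff i : VV) ∈ Cen H := Cen_smul β hf
    have hne : B (β • (ff i : VV)) (ee i) ≠ 0 := by
      rw [B_smul_left, B_ee]
      simp [ff, hβ]
    have := Cen_add he h1 hne α
    have e : pv i α β = β • ff i + α • ee i := by
      unfold pv; rw [add_comm]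
    rw [e]
    exact this

theorem eq_pv_of_support {v : VV} {i : Fin m} (hv : ∀ j, pl v j ↔ j ∈ ({i} : Finset (Fin m))) :
    v = pv i (v (Sum.inl i)) (v (Sum.inr i)) := by
  ext a
  rcases a with j | j
  · rw [pv_inl]
    by_cases hj : j = i
    · subst hj; simp
    · rw [if_neg hj]
      have : ¬ pl v j := fun h => hj (by simpa using (hv j).1 h)
      exact (not_pl.1 this).1
  · rw [pv_inr]
    by_cases hj : j = i
    · subst hj; simp
    · rw [if_neg hj]
      have : ¬ pl v j := fun h => hj (by simpa using (hv j).1 h)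
      exact (not_pl.1 this).2

theorem good_singleton {H : Subgroup GG} {i : Fin m} (he : (ee i : VV) ∈ Cen H) (hf : (ff i : VV) ∈ Cen H) :
    Good H ({i} : Finset (Fin m)) := by
  intro v hv
  rw [eq_pv_of_support hv]
  exact pv_mem_Cen he hf _ _

/-- the modification lemma: common core of "add a plane" and "remove a plane" -/
theorem good_mod {H : Subgroup GG} {A : Finset (Fin m)} {x y : Fin m} (hxy : x ≠ y) (hA : Good H A)
    (hp : Good H ({x, y} : Finset (Fin m))) (hx : x ∈ A) (v : VV) (a b : F)
    (hab : a ≠ 0 ∨ b ≠ 0) (hvx : pl v x) (hyf : B v (pv y a b) = 0)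
    (hy : y ∈ A ↔ (v (Sum.inl y) - a ≠ 0 ∨ v (Sum.inr y) - b ≠ 0))
    (hoth : ∀ j, j ≠ x → j ≠ y → (pl v j ↔ j ∈ A)) : v ∈ Cen H := by
  obtain ⟨α, β, hαβ⟩ := exists_dual hvx
  set z : VV := pv x α β with hz
  set t : VV := pv y a b + z with ht
  have hzz : α ≠ 0 ∨ β ≠ 0 := by
    by_contra hcon
    push_neg at hcon
    apply hαβ
    rw [hz, hcon.1, hcon.2, B_pv]
    ring
  have hyx : y ≠ x := fun h => hxy h.symm
  -- support of t
  have htl : ∀ j, t (Sum.inl j) = (if j = y then a else 0) + (if j = x then α else 0) := by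
    intro j
    rw [ht, hz, Pi.add_apply, pv_inl, pv_inl]
  have htr : ∀ j, t (Sum.inr j) = (if j = y then b else 0) + (if j = x then β else 0) := by
    intro j
    rw [ht, hz, Pi.add_apply, pv_inr, pv_inr]
  have hts : ∀ j, pl t j ↔ j ∈ ({x, y} : Finset (Fin m)) := by
    intro j
    unfold pl
    rw [htl, htr]
    by_cases h1 : j = x
    · subst h1
      simp only [if_neg hxy, if_true, zero_add, Finset.mem_insert, true_or, iff_true]
      exact hzz
    · by_cases h2 : j = y
      · subst h2
        simp only [if_neg h1, if_true, add_zero, Finset.mem_insert, Finset.mem_singleton, or_true,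
          iff_true]
        exact hab
      · simp [h1, h2]
  have hBtz : B t z = 0 := by
    rw [ht, B_add_left, B_self, add_zero, hz, B_pv, pv_inr, pv_inl]
    simp only [if_neg hxy]
    ring
  have hBvt : B v t = B v z := by
    rw [ht, B_add_right, hyf, zero_add]
  -- support of v - t
  have hus : ∀ j, pl (v - t) j ↔ j ∈ A := by
    intro j
    by_cases h1 : j = x
    · subst h1
      simp only [hx, iff_true]
      apply pl_of_B_ne (α := α) (β := β)
      show B (v - t) z ≠ 0
      rw [B_sub_left, hBtz, sub_zero]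
      exact hαβ
    · by_cases h2 : j = y
      · subst h2
        rw [hy]
        unfold pl
        rw [Pi.sub_apply, Pi.sub_apply, htl, htr]
        simp only [if_neg h1, if_true, add_zero]
      · rw [← hoth j h1 h2]
        unfold pl
        rw [Pi.sub_apply, Pi.sub_apply, htl, htr]
        simp only [if_neg h1, if_neg h2, add_zero, sub_zero]
  have h1 := hA (v - t) hus
  have h2 := hp t hts
  have hne : B (v - t) t ≠ 0 := by
    rw [B_sub_left, B_self, sub_zero, hBvt]
    exact hαβ
  have := Cen_add' h2 h1 hne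
  rwa [sub_add_cancel] at this

theorem good_insert {H : Subgroup GG} {A : Finset (Fin m)} {x y : Fin m} (hA : Good H A) (hx : x ∈ A)
    (hy : y ∉ A) (hp : Good H ({x, y} : Finset (Fin m))) : Good H (insert y A) := by
  intro v hv
  have hxy : x ≠ y := fun h => hy (h ▸ hx)
  have hvy : pl v y := (hv y).2 (Finset.mem_insert_self _ _)
  have hvx : pl v x := (hv x).2 (Finset.mem_insert_of_mem hx)
  refine good_mod hxy hA hp hx v (v (Sum.inl y)) (v (Sum.inr y)) hvy hvx ?_ ?_ ?_
  · rw [B_pv]; ring
  · simp [hy]
  · intro j h1 h2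
    rw [hv j, Finset.mem_insert]
    simp [h2]

theorem good_erase {H : Subgroup GG} {A : Finset (Fin m)} {x y : Fin m} (hA : Good H A) (hx : x ∈ A)
    (hy : y ∈ A) (hxy : x ≠ y) (hp : Good H ({x, y} : Finset (Fin m))) :
    Good H (A.erase y) := by
  intro v hv
  have hvy : ¬ pl v y := fun h => by simpa using (hv y).1 h
  rw [not_pl] at hvy
  have hvx : pl v x := (hv x).2 (Finset.mem_erase.2 ⟨hxy, hx⟩)
  refine good_mod hxy hA hp hx v 1 0 (Or.inl one_ne_zero) hvx ?_ ?_ ?_
  · rw [B_pv, hvy.2]; ring
  · rw [hvy.1, hvy.2]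
    simp [hy]
  · intro j h1 h2
    rw [hv j, Finset.mem_erase]
    simp [h2]

/-- moving one plane component: Lemma A -/
theorem Cen_plane_move {H : Subgroup GG} {i : Fin m} (hP : ∀ α β : F, pv i α β ∈ Cen H) {v v' : VV}
    (hv : v ∈ Cen H) (hpl : pl v i) (hpl' : pl v' i)
    (hag : ∀ j, j ≠ i → v' (Sum.inl j) = v (Sum.inl j) ∧ v' (Sum.inr j) = v (Sum.inr j)) :
    v' ∈ Cen H := by
  set a := v' (Sum.inl i) - v (Sum.inl i) with ha
  set b := v' (Sum.inr i) - v (Sum.inr i) with hb
  have hy : v' = v + pv i a b := by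
    ext k
    rcases k with j | j
    · rw [Pi.add_apply, pv_inl]
      by_cases hj : j = i
      · subst hj; rw [if_pos rfl, ha]; ring
      · rw [if_neg hj, add_zero]; exact (hag j hj).1
    · rw [Pi.add_apply, pv_inr]
      by_cases hj : j = i
      · subst hj; rw [if_pos rfl, hb]; ring
      · rw [if_neg hj, add_zero]; exact (hag j hj).2
  by_cases h0 : B v (pv i a b) = 0
  · obtain ⟨α, β, h1, h2⟩ := exists_dual₂ hpl hpl'
    have s1 : v + pv i α β ∈ Cen H := Cen_add' (hP α β) hv h1
    have e : pv i a b - pv i α β = pv i (a - α) (b - β) := pv_sub i a b α β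
    have hne : B (v + pv i α β) (pv i a b - pv i α β) ≠ 0 := by
      have e1 : B (v + pv i α β) (pv i a b - pv i α β) = - B v' (pv i α β) := by
        rw [hy, B_add_left, B_sub_right, B_sub_right, B_add_left, h0, B_self,
          B_swap (pv i α β) (pv i a b)]
        ring
      rw [e1, neg_ne_zero]
      exact h2
    have s2 := Cen_add' (by rw [e]; exact hP _ _) s1 hne
    have : v + pv i α β + (pv i a b - pv i α β) = v' := by rw [hy]; abel
    rwa [this] at s2
  · rw [hy]
    exact Cen_add' (hP a b) hv h0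

end Cfsg.Agent.Lib.H15.SpGen
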