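import Mathlib
import Cfsg.Agent.Lib.H15.SpGenA

/-!
# Generation of `Sp_{2m}(F)`: the Coxeter element and the main criterion

`coxG` is the monomial element `e_0 → e_1 → … → e_n → f_0 → f_1 → … → f_n → -e_0`.
Main result `eq_top_of_data`: a subgroup `H` containing `coxG`, all transvections centred at `e_0`
and all transvections centred at one vector whose active planes are exactly `0` and `1`, is the
whole symplectic group.
-/

set_option autoImplicit false
set_option linter.unusedSectionVars false
set_option linter.unusedVariables false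
set_option linter.unusedSimpArgs false

namespace Cfsg.Agent.Lib.H15.SpGen

open Matrix Cfsg.Agent.Lib.H4 Cfsg.Agent.Lib.H2.Sp

variable {F : Type*} [Field F] {n : ℕ}

local notation "VV" => (Fin (n + 1) ⊕ Fin (n + 1) → F)
local notation "GG" => Matrix.symplecticGroup (Fin (n + 1)) F
local notation "MM" => Matrix (Fin (n + 1) ⊕ Fin (n + 1)) (Fin (n + 1) ⊕ Fin (n + 1)) F

/-- coordinate formula of the Coxeter element -/
def cox (x : VV) : VV := fun a =>
  match a with
  | Sum.inl j => Fin.cases (-x (Sum.inr (Fin.last n))) (fun j' => x (Sum.inl j'.castSucc)) j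
  | Sum.inr j => Fin.cases (x (Sum.inl (Fin.last n))) (fun j' => x (Sum.inr j'.castSucc)) j

@[simp] theorem cox_inl_zero (x : VV) : cox x (Sum.inl 0) = -x (Sum.inr (Fin.last n)) := rfl
@[simp] theorem cox_inr_zero (x : VV) : cox x (Sum.inr 0) = x (Sum.inl (Fin.last n)) := rfl
@[simp] theorem cox_inl_succ (x : VV) (j : Fin n) :
    cox x (Sum.inl j.succ) = x (Sum.inl j.castSucc) := by
  simp [cox]
@[simp] theorem cox_inr_succ (x : VV) (j : Fin n) :
    cox x (Sum.inr j.succ) = x (Sum.inr j.castSucc) := by
  simp [cox]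

/-- the Coxeter element as a linear map -/
def coxL : VV →ₗ[F] VV where
  toFun := cox
  map_add' x y := by
    ext a
    rcases a with j | j
    · refine Fin.cases ?_ (fun j' => ?_) j
      · simp; ring
      · simp
    · refine Fin.cases ?_ (fun j' => ?_) j
      · simp
      · simp
  map_smul' c x := by
    ext a
    rcases a with j | j
    · refine Fin.cases ?_ (fun j' => ?_) j
      · simp
      · simp
    · refine Fin.cases ?_ (fun j' => ?_) j
      · simp
      · simp

/-- the matrix of the Coxeter element -/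
noncomputable def coxM : MM := LinearMap.toMatrix' (coxL (F := F) (n := n))

theorem coxM_mulVec (x : VV) : (coxM : MM) *ᵥ x = cox x := by
  rw [coxM, LinearMap.toMatrix'_mulVec]
  rfl

theorem coxM_mem : (coxM : MM) ∈ Matrix.symplecticGroup (Fin (n + 1)) F := by
  rw [mem_symplecticGroup_iff_sympForm]
  intro u v
  rw [coxM_mulVec, coxM_mulVec, sympForm_eq, sympForm_eq, Fin.sum_univ_succ,
    Fin.sum_univ_castSucc (f := fun i => u (Sum.inr i) * v (Sum.inl i) - u (Sum.inl i) * v (Sum.inr i))]
  simp only [cox_inl_zero, cox_inr_zero, cox_inl_succ, cox_inr_succ]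
  ring

/-- the Coxeter element -/
noncomputable def coxG : GG := ⟨coxM, coxM_mem⟩

theorem act_cox (x : VV) : act (coxG : GG) x = cox x := coxM_mulVec x

theorem pl_cox_zero (x : VV) : pl (cox x) 0 ↔ pl x (Fin.last n) := by
  unfold pl
  rw [cox_inl_zero, cox_inr_zero, neg_ne_zero, or_comm]

theorem pl_cox_succ (x : VV) (j : Fin n) : pl (cox x) j.succ ↔ pl x j.castSucc := by
  unfold pl
  rw [cox_inl_succ, cox_inr_succ]

theorem ee_inl (i j : Fin (n + 1)) : (ee i : VV) (Sum.inl j) = if j = i then 1 else 0 := by
  simp [ee, Pi.single_apply]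

theorem ee_inr (i j : Fin (n + 1)) : (ee i : VV) (Sum.inr j) = 0 := by
  simp [ee, Pi.single_apply]

theorem ff_inl (i j : Fin (n + 1)) : (ff i : VV) (Sum.inl j) = 0 := by
  simp [ff, Pi.single_apply]

theorem ff_inr (i j : Fin (n + 1)) : (ff i : VV) (Sum.inr j) = if j = i then 1 else 0 := by
  simp [ff, Pi.single_apply]

theorem cox_ee_castSucc (j : Fin n) : cox (ee j.castSucc : VV) = ee j.succ := by
  ext a
  rcases a with k | k
  · refine Fin.cases ?_ (fun k' => ?_) k
    · rw [cox_inl_zero, ee_inr, ee_inl, if_neg (Fin.succ_ne_zero j).symm, neg_zero]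
    · rw [cox_inl_succ, ee_inl, ee_inl]
      simp only [Fin.castSucc_inj, Fin.succ_inj]
  · refine Fin.cases ?_ (fun k' => ?_) k
    · rw [cox_inr_zero, ee_inl, ee_inr, if_neg]
      exact (Fin.castSucc_lt_last j).ne'
    · rw [cox_inr_succ, ee_inr, ee_inr]

theorem cox_ee_last : cox (ee (Fin.last n) : VV) = ff 0 := by
  ext a
  rcases a with k | k
  · refine Fin.cases ?_ (fun k' => ?_) k
    · rw [cox_inl_zero, ee_inr, ff_inl, neg_zero]
    · rw [cox_inl_succ, ee_inl, ff_inl, if_neg]
      exact (Fin.castSucc_lt_last k').ne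
  · refine Fin.cases ?_ (fun k' => ?_) k
    · rw [cox_inr_zero, ee_inl, ff_inr, if_pos rfl, if_pos rfl]
    · rw [cox_inr_succ, ee_inr, ff_inr, if_neg (Fin.succ_ne_zero k')]

theorem cox_ff_castSucc (j : Fin n) : cox (ff j.castSucc : VV) = ff j.succ := by
  ext a
  rcases a with k | k
  · refine Fin.cases ?_ (fun k' => ?_) k
    · rw [cox_inl_zero, ff_inr, ff_inl, if_neg, neg_zero]
      exact (Fin.castSucc_lt_last j).ne'
    · rw [cox_inl_succ, ff_inl, ff_inl]
  · refine Fin.cases ?_ (fun k' => ?_) k
    · rw [cox_inr_zero, ff_inl, ff_inr, if_neg (Fin.succ_ne_zero j).symm]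
    · rw [cox_inr_succ, ff_inr, ff_inr]
      simp only [Fin.castSucc_inj, Fin.succ_inj]

section main

variable {H : Subgroup (Matrix.symplecticGroup (Fin (n + 1)) F)}

end main

theorem ee_mem {H : Subgroup GG} (hw : (coxG : GG) ∈ H) (he0 : (ee 0 : VV) ∈ Cen H) :
    ∀ j : Fin (n + 1), (ee j : VV) ∈ Cen H := by
  intro j
  induction j using Fin.induction with
  | zero => exact he0
  | succ j ih =>
    have := Cen_act hw ih
    rwa [act_cox, cox_ee_castSucc] at this

theorem ff_mem {H : Subgroup GG} (hw : (coxG : GG) ∈ H) (he0 : (ee 0 : VV) ∈ Cen H) :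
    ∀ j : Fin (n + 1), (ff j : VV) ∈ Cen H := by
  intro j
  induction j using Fin.induction with
  | zero =>
    have := Cen_act hw (ee_mem hw he0 (Fin.last n))
    rwa [act_cox, cox_ee_last] at this
  | succ j ih =>
    have := Cen_act hw ih
    rwa [act_cox, cox_ff_castSucc] at this

/-- shifting an adjacent pair by the Coxeter element -/
theorem good_shift {H : Subgroup GG} (hw : (coxG : GG) ∈ H) (j j' : Fin n)
    (hjj : j'.val = j.val + 1)
    (h : Good H ({j.castSucc, j.succ} : Finset (Fin (n + 1)))) :
    Good H ({j'.castSucc, j'.succ} : Finset (Fin (n + 1))) := by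
  intro v hv
  have hx : act (coxG : GG)⁻¹ v ∈ Cen H := by
    apply h
    intro i
    have e : v = cox (act (coxG : GG)⁻¹ v) := by
      rw [← act_cox, act_act_inv]
    refine Fin.lastCases ?_ (fun i' => ?_) i
    · rw [← pl_cox_zero, ← e, hv]
      simp only [Finset.mem_insert, Finset.mem_singleton, Fin.ext_iff, Fin.val_zero,
        Fin.val_castSucc, Fin.val_succ, Fin.val_last]
      have := j.isLt
      have := j'.isLt
      omega
    · rw [← pl_cox_succ, ← e, hv]
      simp only [Finset.mem_insert, Finset.mem_singleton, Fin.ext_iff, Fin.val_castSucc,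
        Fin.val_succ]
      omega
  have := Cen_act hw hx
  rwa [act_act_inv] at this

theorem good_adjacent {H : Subgroup GG} (hw : (coxG : GG) ∈ H)
    (h01 : ∀ j : Fin n, j.val = 0 → Good H ({j.castSucc, j.succ} : Finset (Fin (n + 1)))) :
    ∀ (k : ℕ) (j : Fin n), j.val = k → Good H ({j.castSucc, j.succ} : Finset (Fin (n + 1))) := by
  intro k
  induction k with
  | zero => exact h01
  | succ k ih =>
    intro j hj
    have hk : k < n := by have := j.isLt; omega
    exact good_shift hw ⟨k, hk⟩ j (by simpa using hj) (ih ⟨k, hk⟩ rfl)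

theorem finset_aux {α : Type*} [DecidableEq α] {a b c : α} (hab : a ≠ b) (hbc : b ≠ c) :
    (insert c ({a, b} : Finset α)).erase b = {a, c} := by
  ext i
  simp only [Finset.mem_erase, Finset.mem_insert, Finset.mem_singleton]
  constructor
  · rintro ⟨h1, h2 | h2 | h2⟩
    · exact Or.inr h2
    · exact Or.inl h2
    · exact absurd h2 h1
  · rintro (h | h)
    · subst h; exact ⟨hab, Or.inr (Or.inl rfl)⟩
    · subst h; exact ⟨fun h => hbc h.symm, Or.inl rfl⟩

/-- all "star" pairs `{0, j}` -/
theorem good_star {H : Subgroup GG} (hw : (coxG : GG) ∈ H)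
    (h01 : ∀ j : Fin n, j.val = 0 → Good H ({j.castSucc, j.succ} : Finset (Fin (n + 1)))) :
    ∀ (k : ℕ) (j : Fin n), j.val = k → Good H ({0, j.succ} : Finset (Fin (n + 1))) := by
  intro k
  induction k with
  | zero =>
    intro j hj
    have := h01 j hj
    have e : j.castSucc = 0 := by
      apply Fin.ext
      simpa using hj
    rwa [e] at this
  | succ k ih =>
    intro j hj
    have hk : k < n := by have := j.isLt; omega
    set j0 : Fin n := ⟨k, hk⟩ with hj0
    have h1 : Good H ({0, j0.succ} : Finset (Fin (n + 1))) := ih j0 rfl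
    have h2 : Good H ({j.castSucc, j.succ} : Finset (Fin (n + 1))) :=
      good_adjacent hw h01 (k + 1) j hj
    have e : j.castSucc = j0.succ := by
      apply Fin.ext
      simp [hj0, hj]
    rw [e] at h2
    have hne1 : (0 : Fin (n + 1)) ≠ j0.succ := (Fin.succ_ne_zero j0).symm
    have hne2 : j0.succ ≠ j.succ := by
      intro h
      have := Fin.succ_inj.1 h
      rw [Fin.ext_iff] at this
      simp [hj0] at this
      omega
    have hne3 : (0 : Fin (n + 1)) ≠ j.succ := (Fin.succ_ne_zero j).symm
    have h3 : Good H (insert j.succ ({0, j0.succ} : Finset (Fin (n + 1)))) := by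
      apply good_insert h1 (x := j0.succ)
      · simp
      · simp only [Finset.mem_insert, Finset.mem_singleton, not_or]
        exact ⟨hne3.symm, hne2.symm⟩
      · exact h2
    have h4 := good_erase (x := j.succ) (y := j0.succ) h3 (by simp) (by simp) hne2.symm
      (by rw [Finset.pair_comm]; exact h2)
    rwa [finset_aux hne1 hne2] at h4

/-- everything is good -/
theorem good_all {H : Subgroup GG}
    (hstar : ∀ j : Fin n, Good H ({0, j.succ} : Finset (Fin (n + 1))))
    (hsing : ∀ i : Fin (n + 1), Good H ({i} : Finset (Fin (n + 1)))) :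
    ∀ T : Finset (Fin (n + 1)), Good H T := by
  have claim1 : ∀ S : Finset (Fin (n + 1)), (0 : Fin (n + 1)) ∉ S → Good H (insert 0 S) := by
    intro S
    induction S using Finset.induction_on with
    | empty =>
      intro _
      exact hsing 0
    | insert y S' hy ih =>
      intro h0
      rw [Finset.mem_insert, not_or] at h0
      have hy0 : y ≠ 0 := fun h => h0.1 h.symm
      obtain ⟨j, rfl⟩ := Fin.exists_succ_eq.2 hy0
      have := good_insert (ih h0.2) (x := 0) (y := j.succ) (by simp)
        (by
          simp only [Finset.mem_insert, not_or]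
          exact ⟨hy0, hy⟩) (hstar j)
      rwa [Finset.insert_comm] at this
  intro T
  by_cases h0 : (0 : Fin (n + 1)) ∈ T
  · have := claim1 (T.erase 0) (by simp)
    rwa [Finset.insert_erase h0] at this
  · by_cases hT : T = ∅
    · subst hT; exact good_empty
    · obtain ⟨x, hx⟩ := Finset.nonempty_iff_ne_empty.2 hT
      have hx0 : x ≠ 0 := fun h => h0 (h ▸ hx)
      obtain ⟨j, rfl⟩ := Fin.exists_succ_eq.2 hx0
      have h1 := claim1 T h0
      have h2 := good_erase (x := j.succ) (y := 0) h1 (Finset.mem_insert_of_mem hx)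
        (Finset.mem_insert_self _ _) hx0 (by rw [Finset.pair_comm]; exact hstar j)
      rwa [Finset.erase_insert h0] at h2

theorem Cen_univ_of_good {H : Subgroup GG} (h : ∀ T : Finset (Fin (n + 1)), Good H T) :
    ∀ v : VV, v ∈ Cen H := by
  classical
  intro v
  exact h (Finset.univ.filter (fun i => pl v i)) v (fun i => by simp)

end Cfsg.Agent.Lib.H15.SpGen
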