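import Mathlib
import Cfsg.Agent.Lib.H15.SpGenB

/-!
# Generation of `Sp_{2m}(F)`: the main criterion

`eq_top_of_data`: a subgroup `H` of `Sp_{2(n+2)}(F)` containing the Coxeter element, all
transvections centred at `e_0`, and all transvections centred at one vector whose active planes are
exactly `0` and `1`, is the whole group.
-/

set_option autoImplicit false
set_option linter.unusedSectionVars false
set_option linter.unusedVariables false
set_option linter.unusedSimpArgs false

namespace Cfsg.Agent.Lib.H15.SpGen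

open Matrix Cfsg.Agent.Lib.H4 Cfsg.Agent.Lib.H2.Sp

variable {F : Type*} [Field F] {n : ℕ}

local notation "VV" => (Fin (n + 1 + 1) ⊕ Fin (n + 1 + 1) → F)
local notation "GG" => Matrix.symplecticGroup (Fin (n + 1 + 1)) F

theorem good_zero_one {H : Subgroup GG}
    (hP : ∀ (i : Fin (n + 1 + 1)) (α β : F), (pv i α β : VV) ∈ Cen H)
    (u : VV) (hu : u ∈ Cen H) (hsupp : ∀ i, pl u i ↔ i = 0 ∨ i = 1) :
    Good H ({0, 1} : Finset (Fin (n + 1 + 1))) := by
  intro v hv
  have hv' : ∀ i, pl v i ↔ i = 0 ∨ i = 1 := by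
    intro i; rw [hv i]; simp
  set v₁ : VV := fun a =>
    match a with
    | Sum.inl j => if j = 0 then v (Sum.inl j) else u (Sum.inl j)
    | Sum.inr j => if j = 0 then v (Sum.inr j) else u (Sum.inr j) with hv₁
  have e1l : ∀ j, v₁ (Sum.inl j) = if j = 0 then v (Sum.inl j) else u (Sum.inl j) := fun j => rfl
  have e1r : ∀ j, v₁ (Sum.inr j) = if j = 0 then v (Sum.inr j) else u (Sum.inr j) := fun j => rfl
  have h10 : (1 : Fin (n + 1 + 1)) ≠ 0 := by
    intro h
    rw [Fin.ext_iff] at h
    simp at h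
  have s1 : v₁ ∈ Cen H := by
    refine Cen_plane_move (i := 0) (hP 0) hu ((hsupp 0).2 (Or.inl rfl)) ?_ ?_
    · have := (hv' 0).2 (Or.inl rfl)
      unfold pl at this ⊢
      rw [e1l, e1r, if_pos rfl, if_pos rfl]
      exact this
    · intro j hj
      rw [e1l, e1r, if_neg hj, if_neg hj]
      exact ⟨rfl, rfl⟩
  refine Cen_plane_move (i := 1) (hP 1) s1 ?_ ((hv' 1).2 (Or.inr rfl)) ?_
  · have := (hsupp 1).2 (Or.inr rfl)
    unfold pl at this ⊢
    rw [e1l, e1r, if_neg h10, if_neg h10]
    exact this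
  · intro j hj
    rw [e1l, e1r]
    by_cases hj0 : j = 0
    · rw [if_pos hj0, if_pos hj0]
      exact ⟨rfl, rfl⟩
    · rw [if_neg hj0, if_neg hj0]
      have h1 : ¬ pl v j := fun h => by
        rcases (hv' j).1 h with h | h
        · exact hj0 h
        · exact hj h
      have h2 : ¬ pl u j := fun h => by
        rcases (hsupp j).1 h with h | h
        · exact hj0 h
        · exact hj h
      rw [not_pl] at h1 h2
      rw [h1.1, h1.2, h2.1, h2.2]
      exact ⟨rfl, rfl⟩

/-- the main criterion -/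
theorem eq_top_of_data {H : Subgroup GG} (hw : (coxG : GG) ∈ H) (he0 : (ee 0 : VV) ∈ Cen H)
    (u : VV) (hu : u ∈ Cen H) (hsupp : ∀ i, pl u i ↔ i = 0 ∨ i = 1) : H = ⊤ := by
  have hee := ee_mem hw he0
  have hff := ff_mem hw he0
  have hP : ∀ (i : Fin (n + 1 + 1)) (α β : F), (pv i α β : VV) ∈ Cen H :=
    fun i α β => pv_mem_Cen (hee i) (hff i) α β
  have h01 := good_zero_one hP u hu hsupp
  have h01' : ∀ j : Fin (n + 1), j.val = 0 →
      Good H ({j.castSucc, j.succ} : Finset (Fin (n + 1 + 1))) := by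
    intro j hj
    have e : j = 0 := Fin.ext hj
    subst e
    simpa using h01
  have hstar : ∀ j : Fin (n + 1), Good H ({0, j.succ} : Finset (Fin (n + 1 + 1))) :=
    fun j => good_star hw h01' j.val j rfl
  have hsing : ∀ i : Fin (n + 1 + 1), Good H ({i} : Finset (Fin (n + 1 + 1))) :=
    fun i => good_singleton (hee i) (hff i)
  exact eq_top_of_Cen (Cen_univ_of_good (good_all hstar hsing))

end Cfsg.Agent.Lib.H15.SpGen
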