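import Mathlib
import Cfsg.Agent.Lib.H15.SpGenC

/-!
# Generation of `Sp_{2m}(F)` by two elements, `|F| ≥ 3`

Generators: the Coxeter element and `b = t_{e_0}(1) * (r d r⁻¹)` where `d` is the torus element
scaling `e_1` by a generator `l` of `Fˣ` and `r = t_{e_0+e_1}(1)`.
-/

set_option autoImplicit false
set_option linter.unusedSectionVars false
set_option linter.unusedVariables false
set_option linter.unusedSimpArgs false

namespace Cfsg.Agent.Lib.H15.SpGen

open Matrix Cfsg.Agent.Lib.H4 Cfsg.Agent.Lib.H2.Sp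

variable {F : Type*} [Field F] {n : ℕ}

local notation "VV" => (Fin (n + 1 + 1) ⊕ Fin (n + 1 + 1) → F)
local notation "GG" => Matrix.symplecticGroup (Fin (n + 1 + 1)) F
local notation "MM" =>
  Matrix (Fin (n + 1 + 1) ⊕ Fin (n + 1 + 1)) (Fin (n + 1 + 1) ⊕ Fin (n + 1 + 1)) F

/-- diagonal entries of the torus element -/
def torD (l : F) : Fin (n + 1 + 1) ⊕ Fin (n + 1 + 1) → F := fun a =>
  match a with
  | Sum.inl j => if j = 1 then l else 1
  | Sum.inr j => if j = 1 then l⁻¹ else 1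

theorem torD_inl (l : F) (j : Fin (n + 1 + 1)) :
    torD l (Sum.inl j) = if j = 1 then l else 1 := rfl

theorem torD_inr (l : F) (j : Fin (n + 1 + 1)) :
    torD l (Sum.inr j) = if j = 1 then l⁻¹ else 1 := rfl

theorem torD_pair (l : F) (hl : l ≠ 0) (j : Fin (n + 1 + 1)) :
    torD l (Sum.inl j) * torD l (Sum.inr j) = 1 := by
  rw [torD_inl, torD_inr]
  by_cases h : j = 1
  · rw [if_pos h, if_pos h, mul_inv_cancel₀ hl]
  · rw [if_neg h, if_neg h, mul_one]

theorem diag_mem (l : F) (hl : l ≠ 0) :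
    (Matrix.diagonal (torD (n := n) l) : MM) ∈ Matrix.symplecticGroup (Fin (n + 1 + 1)) F := by
  rw [mem_symplecticGroup_iff_sympForm]
  intro u v
  rw [sympForm_eq, sympForm_eq]
  apply Finset.sum_congr rfl
  intro j _
  simp only [Matrix.mulVec_diagonal]
  have := torD_pair (n := n) l hl j
  linear_combination (u (Sum.inr j) * v (Sum.inl j) - u (Sum.inl j) * v (Sum.inr j)) * this

/-- the torus element -/
noncomputable def torG (l : Fˣ) : GG := ⟨Matrix.diagonal (torD (l : F)), diag_mem _ l.ne_zero⟩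

theorem act_torG (l : Fˣ) (x : VV) (a : Fin (n + 1 + 1) ⊕ Fin (n + 1 + 1)) :
    act (torG l : GG) x a = torD (l : F) a * x a := by
  unfold act torG
  simp only [Matrix.mulVec_diagonal]

theorem torG_one : (torG (1 : Fˣ) : GG) = 1 := by
  apply Subtype.ext
  show Matrix.diagonal (torD ((1 : Fˣ) : F)) = (1 : MM)
  rw [← Matrix.diagonal_one]
  congr 1
  funext a
  rcases a with j | j
  · rw [torD_inl]; simp
  · rw [torD_inr]; simp

theorem torG_mul (l l' : Fˣ) : (torG (l * l') : GG) = torG l * torG l' := by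
  apply Subtype.ext
  show Matrix.diagonal (torD ((l * l' : Fˣ) : F)) =
    (Matrix.diagonal (torD (l : F)) : MM) * Matrix.diagonal (torD (l' : F))
  rw [Matrix.diagonal_mul_diagonal]
  congr 1
  funext a
  rcases a with j | j
  · rw [torD_inl, torD_inl, torD_inl]
    by_cases h : j = 1
    · simp [h]
    · simp [h]
  · rw [torD_inr, torD_inr, torD_inr]
    by_cases h : j = 1
    · simp [h, mul_inv, mul_comm]
    · simp [h]

theorem torG_pow (l : Fˣ) (k : ℕ) : (torG l : GG) ^ k = torG (l ^ k) := by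
  induction k with
  | zero => rw [pow_zero, pow_zero, torG_one]
  | succ k ih => rw [pow_succ, pow_succ, torG_mul, ih]

theorem act_torG_single (l : Fˣ) (a : Fin (n + 1 + 1) ⊕ Fin (n + 1 + 1)) (c : F) :
    act (torG l : GG) (Pi.single a c) = Pi.single a (torD (l : F) a * c) := by
  ext b
  rw [act_torG]
  by_cases h : b = a
  · subst h; simp
  · simp [Pi.single_apply, h]

theorem one_ne_zero' : (1 : Fin (n + 1 + 1)) ≠ 0 := by
  intro h
  rw [Fin.ext_iff] at h
  simp at h

theorem act_torG_ee0 (l : Fˣ) : act (torG l : GG) (ee 0) = ee 0 := by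
  unfold ee
  rw [act_torG_single, torD_inl, if_neg one_ne_zero'.symm, mul_one]

theorem act_torG_ee1 (l : Fˣ) : act (torG l : GG) (ee 1) = (l : F) • ee 1 := by
  unfold ee
  rw [act_torG_single, torD_inl, if_pos rfl, mul_one]
  ext b
  simp [Pi.single_apply]

theorem act_torG_ff1 (l : Fˣ) : act (torG l : GG) (ff 1) = (l : F)⁻¹ • ff 1 := by
  unfold ff
  rw [act_torG_single, torD_inr, if_pos rfl, mul_one]
  ext b
  simp [Pi.single_apply]

/-- the vector `e_0 + e_1` -/
def e01 : VV := ee 0 + ee 1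

theorem B_e01 (x : VV) : B x (e01 : VV) = x (Sum.inr 0) + x (Sum.inr 1) := by
  unfold e01
  rw [B_add_right, B_ee, B_ee]

theorem act_r_ee0 (c : F) : act (tv (n + 1 + 1) (e01 : VV) c) (ee 0) = ee 0 := by
  rw [act_tv, B_e01, ee_inr, ee_inr]
  simp

theorem act_r_ee1 (c : F) : act (tv (n + 1 + 1) (e01 : VV) c) (ee 1) = ee 1 := by
  rw [act_tv, B_e01, ee_inr, ee_inr]
  simp

theorem act_r_ff1 (c : F) :
    act (tv (n + 1 + 1) (e01 : VV) c) (ff 1) = ff 1 + c • (e01 : VV) := by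
  rw [act_tv, B_e01, ff_inr, ff_inr, if_neg one_ne_zero'.symm, if_pos rfl]
  simp

theorem tv_inv (v : VV) (c : F) : (tv (n + 1 + 1) v c)⁻¹ = tv (n + 1 + 1) v (-c) := by
  rw [inv_eq_iff_mul_eq_one, tv_mul, add_neg_cancel, tv_zero_right]

theorem tv_pow (v : VV) (c : F) (k : ℕ) :
    (tv (n + 1 + 1) v c) ^ k = tv (n + 1 + 1) v ((k : F) * c) := by
  induction k with
  | zero => rw [pow_zero, Nat.cast_zero, zero_mul, tv_zero_right]
  | succ k ih =>
    rw [pow_succ, ih, tv_mul]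
    congr 1
    push_cast
    ring

/-- the conjugated torus element -/
noncomputable def dG (l : Fˣ) : GG :=
  tv (n + 1 + 1) (e01 : VV) 1 * torG l * (tv (n + 1 + 1) (e01 : VV) 1)⁻¹

theorem act_dG (l : Fˣ) (x : VV) :
    act (dG l : GG) x =
      act (tv (n + 1 + 1) (e01 : VV) 1) (act (torG l) (act (tv (n + 1 + 1) (e01 : VV) (-1)) x)) := by
  unfold dG
  rw [act_mul, act_mul, tv_inv]

theorem act_dG_ee0 (l : Fˣ) : act (dG l : GG) (ee 0) = ee 0 := by
  rw [act_dG, act_r_ee0, act_torG_ee0, act_r_ee0]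

theorem act_dG_ee1 (l : Fˣ) : act (dG l : GG) (ee 1) = (l : F) • ee 1 := by
  rw [act_dG, act_r_ee1, act_torG_ee1, act_smul, act_r_ee1]

theorem act_torG_e01 (l : Fˣ) : act (torG l : GG) (e01 : VV) = ee 0 + (l : F) • ee 1 := by
  unfold e01
  rw [act_add, act_torG_ee0, act_torG_ee1]

theorem act_r_e01 (c : F) : act (tv (n + 1 + 1) (e01 : VV) c) (e01 : VV) = e01 := by
  rw [act_tv, B_self, mul_zero, zero_smul, add_zero]

theorem act_dG_ff1 (l : Fˣ) :
    act (dG l : GG) (ff 1) =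
      (l : F)⁻¹ • ff 1 + ((l : F)⁻¹ - 1) • ee 0 + ((l : F)⁻¹ - (l : F)) • ee 1 := by
  rw [act_dG, act_r_ff1, act_add, act_smul, act_torG_ff1, act_torG_e01, act_add, act_smul,
    act_smul, act_add, act_smul, act_r_ff1, act_r_ee0, act_r_ee1]
  unfold e01
  module

theorem dG_pow (l : Fˣ) (k : ℕ) :
    (dG l : GG) ^ k =
      tv (n + 1 + 1) (e01 : VV) 1 * torG (l ^ k) * (tv (n + 1 + 1) (e01 : VV) 1)⁻¹ := by
  unfold dG
  rw [conj_pow, torG_pow]

theorem dG_commute (l : Fˣ) :
    Commute (tv (n + 1 + 1) (ee 0 : VV) 1) (dG l : GG) := by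
  have h := conj_tv' (dG l : GG) (ee 0 : VV) 1
  rw [act_dG_ee0] at h
  exact (mul_inv_eq_iff_eq_mul.1 h).symm

/-- support of the mixing vector -/
theorem pl_mix (l : Fˣ) (hl : l ≠ 1) (i : Fin (n + 1 + 1)) :
    pl (act (dG l : GG) (ff 1)) i ↔ i = 0 ∨ i = 1 := by
  rw [act_dG_ff1]
  unfold pl
  simp only [Pi.add_apply, Pi.smul_apply, smul_eq_mul, ee_inl, ee_inr, ff_inl, ff_inr, mul_zero,
    add_zero, zero_add]
  have hl0 : (l : F) ≠ 0 := l.ne_zero
  have hl1 : (l : F)⁻¹ - 1 ≠ 0 := by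
    intro h
    apply hl
    have : (l : F)⁻¹ = 1 := sub_eq_zero.1 h
    have h2 : (l : F) = 1 := by rw [← inv_inv (l : F), this, inv_one]
    exact Units.ext h2
  by_cases h0 : i = 0
  · subst h0
    simp only [if_true, mul_one, if_neg one_ne_zero'.symm, mul_zero, add_zero, true_or, iff_true]
    exact Or.inl hl1
  · by_cases h1 : i = 1
    · subst h1
      simp only [if_true, mul_one, or_true, iff_true]
      exact Or.inr (inv_ne_zero hl0)
    · simp [h0, h1]

end Cfsg.Agent.Lib.H15.SpGen
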