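import Mathlib
import Cfsg.Agent.Lib.H15.SpGenD

/-!
# `Sp_{2m}(F)` is generated by two elements when `|F| ≥ 3`
-/

set_option autoImplicit false
set_option linter.unusedSectionVars false
set_option linter.unusedVariables false
set_option linter.unusedSimpArgs false

namespace Cfsg.Agent.Lib.H15.SpGen

open Matrix Cfsg.Agent.Lib.H4 Cfsg.Agent.Lib.H2.Sp Polynomial

variable {F : Type*} [Field F] {n : ℕ}

local notation "VV" => (Fin (n + 1 + 1) ⊕ Fin (n + 1 + 1) → F)
local notation "GG" => Matrix.symplecticGroup (Fin (n + 1 + 1)) F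

theorem exists_sq_add_sq [Fintype F] (y : F) : ∃ a b : F, a ^ 2 + b ^ 2 = y := by
  classical
  by_cases h2 : ringChar F = 2
  · obtain ⟨a, ha⟩ := FiniteField.isSquare_of_char_two h2 y
    exact ⟨a, 0, by rw [ha]; ring⟩
  · have hodd : Fintype.card F % 2 = 1 := FiniteField.odd_card_of_char_ne_two h2
    obtain ⟨a, b, hab⟩ := FiniteField.exists_root_sum_quadratic (R := F)
      (f := (X : F[X]) ^ 2) (g := (X : F[X]) ^ 2 - C y) (degree_X_pow 2)
      (degree_X_pow_sub_C (by decide) _) hodd
    refine ⟨a, b, ?_⟩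
    simp only [eval_pow, eval_X, eval_sub, eval_C] at hab
    linear_combination hab

theorem act_cox_ee0 : act (coxG : GG) (ee 0 : VV) = ee 1 := by
  rw [act_cox]
  have := cox_ee_castSucc (F := F) (n := n + 1) (0 : Fin (n + 1))
  rwa [Fin.castSucc_zero, Fin.succ_zero_eq_one] at this

theorem exists_gen_of_three_le [Fintype F] (hq : 3 ≤ Fintype.card F) :
    ∃ a b : GG, Subgroup.closure ({a, b} : Set GG) = ⊤ := by
  classical
  obtain ⟨l, hl⟩ := IsCyclic.exists_generator (α := Fˣ)
  have hcu : Fintype.card Fˣ = Fintype.card F - 1 := by convert Fintype.card_units F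
  have hl1 : l ≠ 1 := by
    intro h
    subst h
    have hall : ∀ x : Fˣ, x = 1 := by
      intro x
      have := hl x
      rw [Subgroup.zpowers_one_eq_bot, Subgroup.mem_bot] at this
      exact this
    have : Fintype.card Fˣ ≤ 1 := Fintype.card_le_one_iff.2 (fun x y => by rw [hall x, hall y])
    omega
  set t : GG := tv (n + 1 + 1) (ee 0 : VV) 1 with ht
  set d : GG := dG l with hd
  set a : GG := coxG with ha
  set b : GG := t * d with hb
  refine ⟨a, b, ?_⟩
  set H : Subgroup GG := Subgroup.closure ({a, b} : Set GG) with hH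
  have haH : a ∈ H := Subgroup.subset_closure (by simp)
  have hbH : b ∈ H := Subgroup.subset_closure (by simp)
  -- extract t
  have hpow : b ^ (Fintype.card F - 1) = tv (n + 1 + 1) (ee 0 : VV) (-1) := by
    rw [hb, (dG_commute l).mul_pow, dG_pow, ← hcu, pow_card_eq_one, torG_one, mul_one,
      mul_inv_cancel, mul_one, tv_pow, hcu, Nat.cast_sub (by omega), Nat.cast_one,
      FiniteField.cast_card_eq_zero]
    congr 1
    ring
  have htH : t ∈ H := by
    have h1 : tv (n + 1 + 1) (ee 0 : VV) (-1) ∈ H := by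
      rw [← hpow]; exact H.pow_mem hbH _
    have h2 := H.inv_mem h1
    rwa [tv_inv, neg_neg] at h2
  have hdH : d ∈ H := by
    have : d = t⁻¹ * b := by rw [hb]; group
    rw [this]
    exact H.mul_mem (H.inv_mem htH) hbH
  -- the scaling element
  have hhH : a⁻¹ * d * a ∈ H := H.mul_mem (H.mul_mem (H.inv_mem haH) hdH) haH
  have hact : act (a⁻¹ * d * a) (ee 0 : VV) = (l : F) • ee 0 := by
    rw [act_mul, act_mul, ha, act_cox_ee0, hd, act_dG_ee1, act_smul]
    congr 1
    have := act_inv_act (coxG : GG) (ee 0 : VV)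
    rwa [act_cox_ee0] at this
  have hmul : ∀ c : F, tv (n + 1 + 1) (ee 0 : VV) c ∈ H →
      tv (n + 1 + 1) (ee 0 : VV) (c * (l : F) ^ 2) ∈ H := by
    intro c hc
    have := H.mul_mem (H.mul_mem hhH hc) (H.inv_mem hhH)
    rwa [conj_tv', hact, tv_smul] at this
  have hadd : ∀ c c' : F, tv (n + 1 + 1) (ee 0 : VV) c ∈ H → tv (n + 1 + 1) (ee 0 : VV) c' ∈ H →
      tv (n + 1 + 1) (ee 0 : VV) (c + c') ∈ H := by
    intro c c' hc hc'
    rw [← tv_mul]
    exact H.mul_mem hc hc'
  have hpw : ∀ k : ℕ, tv (n + 1 + 1) (ee 0 : VV) (((l : F) ^ k) ^ 2) ∈ H := by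
    intro k
    induction k with
    | zero => simpa using htH
    | succ k ih =>
      have := hmul _ ih
      have e : ((l : F) ^ k) ^ 2 * (l : F) ^ 2 = ((l : F) ^ (k + 1)) ^ 2 := by ring
      rwa [e] at this
  have hsq : ∀ x : F, tv (n + 1 + 1) (ee 0 : VV) (x ^ 2) ∈ H := by
    intro x
    by_cases hx : x = 0
    · subst hx
      rw [zero_pow (by norm_num), tv_zero_right]
      exact H.one_mem
    · have := hl (Units.mk0 x hx)
      rw [← mem_powers_iff_mem_zpowers] at this
      obtain ⟨k, hk⟩ := this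
      have hk' : (l : F) ^ k = x := by
        have := congrArg (fun u : Fˣ => (u : F)) hk
        simpa using this
      rw [← hk']
      exact hpw k
  have he0 : (ee 0 : VV) ∈ Cen H := by
    intro y
    obtain ⟨p, q, hpq⟩ := exists_sq_add_sq y
    rw [← hpq]
    exact hadd _ _ (hsq p) (hsq q)
  have hu : act d (ff 1 : VV) ∈ Cen H := Cen_act hdH (ff_mem haH he0 1)
  exact eq_top_of_data haH he0 _ hu (pl_mix l hl1)

end Cfsg.Agent.Lib.H15.SpGen
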