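import Cfsg.Agent.Lib.H15.SUGenD
import Cfsg.Agent.Lib.H15.SpGenE

/-!
# Generation of `SU_n(q)`, `q ≠ 2`: the criterion

A subgroup containing a monomial `n`-cycle, the root group of `e_0 + ω e_1` and an element acting
diagonally with distinct entries on the first two coordinates is everything.
-/

set_option autoImplicit false
set_option linter.unusedSectionVars false
set_option linter.unusedVariables false
set_option linter.unusedSimpArgs false

namespace Cfsg.Agent.Lib.H15.SUGen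

open Matrix Cfsg.Agent.Lib.H4 Cfsg.Agent.Lib.H2.Unitary Cfsg.Agent.Lib.H2.Herm

variable {F : Type*} [Field F] [Fintype F] {q : ℕ}

/-- the fixed field of `x ↦ x ^ q` -/
def fixK (hF : Fintype.card F = q ^ 2) : Subfield F where
  carrier := {x | x ^ q = x}
  mul_mem' := by
    intro a b ha hb
    rw [Set.mem_ofPred_eq] at ha hb ⊢
    rw [mul_pow, ha, hb]
  one_mem' := one_pow q
  add_mem' := by
    intro a b ha hb
    rw [Set.mem_ofPred_eq] at ha hb ⊢
    rw [fr_add hF, ha, hb]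
  zero_mem' := fr_zero hF
  neg_mem' := by
    intro a ha
    rw [Set.mem_ofPred_eq] at ha ⊢
    rw [fr_neg hF, ha]
  inv_mem' := by
    intro a ha
    rw [Set.mem_ofPred_eq] at ha ⊢
    rw [inv_pow, ha]

theorem mem_fixK (hF : Fintype.card F = q ^ 2) (x : F) : x ∈ fixK hF ↔ x ^ q = x := Iff.rfl

/-- sums of two squares in the fixed field -/
theorem exists_sq_add_sq_fixed (hF : Fintype.card F = q ^ 2) (r : F) (hr : r ^ q = r) :
    ∃ x y : F, x ^ q = x ∧ y ^ q = y ∧ x ^ 2 + y ^ 2 = r := by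
  haveI : Fintype ↥(fixK hF) := Fintype.ofFinite _
  obtain ⟨a, b, hab⟩ := Cfsg.Agent.Lib.H15.SpGen.exists_sq_add_sq (F := ↥(fixK hF)) ⟨r, hr⟩
  refine ⟨a.1, b.1, a.2, b.2, ?_⟩
  have := congrArg Subtype.val hab
  simpa using this

variable {m : ℕ}

/-- shifting a good pair along a monomial cycle -/
theorem good_shift (hF : Fintype.card F = q ^ 2) {H : Subgroup ↥(Cfsg.SU (m + 1) F q)}
    {a : ↥(Cfsg.SU (m + 1) F q)} (haH : a ∈ H) (s : Fin (m + 1) → F) (hs : ∀ k, s k ≠ 0)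
    (ha : ∀ (x : Fin (m + 1) → F) (k : Fin (m + 1)), act a x k = s k * x (k - 1))
    {i j : Fin (m + 1)} (h : Good hF H {i, j}) : Good hF H {i + 1, j + 1} := by
  intro v hv hsupp
  have hv' : act a (act a⁻¹ v) ∈ Cen hF H := by
    apply Cen_act hF haH
    apply h _ (hf_act_self a⁻¹ hv)
    intro k hk
    have h1 := ha (act a⁻¹ v) (k + 1)
    rw [act_act_inv, add_sub_cancel_right] at h1
    have h2 : v (k + 1) = 0 := by
      apply hsupp
      rw [Finset.mem_insert, Finset.mem_singleton] at hk ⊢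
      push_neg at hk ⊢
      exact ⟨fun h => hk.1 (add_right_cancel h), fun h => hk.2 (add_right_cancel h)⟩
    rw [h2] at h1
    rcases mul_eq_zero.1 h1.symm with h3 | h3
    · exact absurd h3 (hs _)
    · exact h3
  rwa [act_act_inv] at hv'

/-- the shift criterion -/
theorem eq_top_of_shift (hF : Fintype.card F = q ^ 2) (hq : q ≠ 2) (hm : 3 ≤ m + 1)
    {H : Subgroup ↥(Cfsg.SU (m + 1) F q)}
    {a : ↥(Cfsg.SU (m + 1) F q)} (haH : a ∈ H) (s : Fin (m + 1) → F) (hs : ∀ k, s k ≠ 0)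
    (ha : ∀ (x : Fin (m + 1) → F) (k : Fin (m + 1)), act a x k = s k * x (k - 1))
    (h01 : Good hF H {0, 1}) : H = ⊤ := by
  have hadj : ∀ i : Fin (m + 1), Good hF H {i, i + 1} := by
    intro i
    induction i using Fin.induction with
    | zero => rw [zero_add]; exact h01
    | succ i ih =>
      have := good_shift hF haH s hs ha ih
      rw [Fin.coeSucc_eq_succ] at this
      exact this
  have hlt : ∀ j i : Fin (m + 1), i < j → Good hF H {i, j} := by
    intro j
    induction j using Fin.induction with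
    | zero => intro i hi; exact absurd hi (Fin.not_lt_zero i)
    | succ j ih =>
      intro i hi
      have hle : i ≤ j.castSucc := Fin.le_castSucc_iff.2 hi
      have hadj' : Good hF H {j.castSucc, j.succ} := by
        have := hadj j.castSucc
        rwa [Fin.coeSucc_eq_succ] at this
      rcases eq_or_lt_of_le hle with h | h
      · rw [h]; exact hadj'
      · exact good_trans hF (ne_of_lt h) (ne_of_lt Fin.castSucc_lt_succ) (ne_of_lt hi)
          (ih i h) hadj'
  have hP : ∀ i j : Fin (m + 1), i ≠ j → Good hF H {i, j} := by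
    intro i j hij
    rcases lt_or_gt_of_ne hij with h | h
    · exact hlt j i h
    · rw [Finset.pair_comm]; exact hlt i j h
  apply eq_top_of_Cen hF hm (fun h => hq h.2)
  exact all_of_pairs hF hq hm hP

/-- the data criterion -/
theorem eq_top_of_data (hF : Fintype.card F = q ^ 2) (hq : q ≠ 2) (hm : 3 ≤ m + 1)
    {H : Subgroup ↥(Cfsg.SU (m + 1) F q)}
    {a : ↥(Cfsg.SU (m + 1) F q)} (haH : a ∈ H) (s : Fin (m + 1) → F) (hs : ∀ k, s k ≠ 0)
    (ha : ∀ (x : Fin (m + 1) → F) (k : Fin (m + 1)), act a x k = s k * x (k - 1))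
    (ω c₀ : F) (hω : ω * ω ^ q = -1) (hc₀ : c₀ + c₀ ^ q = 0) (hc₀0 : c₀ ≠ 0)
    (hsq : ∀ r : F, r ^ q = r → tv hF (pv (0 : Fin (m + 1)) 1 1 ω) (r ^ 2 * c₀) ∈ H)
    {g₃ : ↥(Cfsg.SU (m + 1) F q)} (hg₃ : g₃ ∈ H) (δ₀ δ₁ : F) (hδ : δ₀ ≠ δ₁)
    (hact : act g₃ (pv (0 : Fin (m + 1)) 1 1 ω) = pv 0 1 δ₀ (δ₁ * ω)) : H = ⊤ := by
  have h01 : (0 : Fin (m + 1)) ≠ 1 := by
    obtain ⟨m', rfl⟩ : ∃ m', m = m' + 1 := ⟨m - 1, by omega⟩
    exact Fin.zero_ne_one
  have hiso : hf q (pv (0 : Fin (m + 1)) 1 1 ω) (pv 0 1 1 ω) = 0 := by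
    rw [hf_pv_pv hF h01, one_pow]; linear_combination hω
  have hv0 : pv (0 : Fin (m + 1)) 1 1 ω ∈ Cen hF H := by
    refine ⟨hiso, ?_⟩
    intro c hc
    have hc₀q : c₀ ^ q ≠ 0 := pow_ne_zero _ hc₀0
    have hr : (c / c₀) ^ q = c / c₀ := by
      rw [div_pow]
      field_simp
      linear_combination c₀ * hc - c * hc₀
    obtain ⟨x, y, hx, hy, hxy⟩ := exists_sq_add_sq_fixed hF (c / c₀) hr
    have hx2 : (x ^ 2) ^ q = x ^ 2 := by rw [← pow_mul, mul_comm, pow_mul, hx]
    have hy2 : (y ^ 2) ^ q = y ^ 2 := by rw [← pow_mul, mul_comm, pow_mul, hy]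
    have := H.mul_mem (hsq x hx) (hsq y hy)
    rw [tv_mul hF hiso (tz_mul hF hc₀ hx2) (tz_mul hF hc₀ hy2)] at this
    have e : x ^ 2 * c₀ + y ^ 2 * c₀ = c := by
      rw [← add_mul, hxy, div_mul_cancel₀ _ hc₀0]
    rwa [e] at this
  have hv1 : pv (0 : Fin (m + 1)) 1 δ₀ (δ₁ * ω) ∈ Cen hF H := by
    rw [← hact]; exact Cen_act hF hg₃ hv0
  apply eq_top_of_shift hF hq hm haH s hs ha
  apply plane_of_two hF h01 hv0 hv1
  rw [hf_pv_pv hF h01, one_pow]
  intro h
  apply hδ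
  linear_combination h - δ₁ * hω

end Cfsg.Agent.Lib.H15.SUGen
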