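import Cfsg.Agent.Lib.H15.SUGenE

/-!
# Generation of `SU_n(q)`: explicit elements

Monomial elements (in particular the signed `n`-cycle and diagonal elements) and the hyperbolic
rotations of `SU_n(q)`, with their action on vectors.
-/

set_option autoImplicit false
set_option linter.unusedSectionVars false
set_option linter.unusedVariables false
set_option linter.unusedSimpArgs false

namespace Cfsg.Agent.Lib.H15.SUGen

open Matrix Cfsg.Agent.Lib.H4 Cfsg.Agent.Lib.H2.Unitary Cfsg.Agent.Lib.H2.Herm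

variable {F : Type*} [Field F] [Fintype F] {q n : ℕ}

/-! ### monomial elements -/

/-- the monomial element `x ↦ (d i * x (σ i))_i` -/
def monSU (σ : Equiv.Perm (Fin n)) (d : Fin n → F) (hd : ∀ i, d i * d i ^ q = 1)
    (hdet : (∏ i, d i) * (((Equiv.Perm.sign σ : ℤˣ) : ℤ) : F) = 1) : ↥(Cfsg.SU n F q) :=
  mkSU (Matrix.diagonal d * σ.permMatrix F)
    (by rw [Matrix.det_mul, Matrix.det_diagonal, Matrix.det_permutation]; exact hdet)
    (by
      intro u v
      rw [← Matrix.mulVec_mulVec, ← Matrix.mulVec_mulVec, diag_preserve _ hd, perm_preserve])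

theorem monSU_act (σ : Equiv.Perm (Fin n)) (d : Fin n → F) (hd : ∀ i, d i * d i ^ q = 1)
    (hdet : (∏ i, d i) * (((Equiv.Perm.sign σ : ℤˣ) : ℤ) : F) = 1) (x : Fin n → F) (i : Fin n) :
    act (monSU σ d hd hdet) x i = d i * x (σ i) := by
  unfold act monSU
  rw [mkSU_val, ← Matrix.mulVec_mulVec, Matrix.mulVec_diagonal, Matrix.permMatrix_mulVec]
  rfl

/-- diagonal elements -/
def dgSU (d : Fin n → F) (hd : ∀ i, d i * d i ^ q = 1) (hdet : ∏ i, d i = 1) : ↥(Cfsg.SU n F q) :=
  monSU 1 d hd (by rw [Equiv.Perm.sign_one, hdet]; simp)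

theorem dgSU_act (d : Fin n → F) (hd : ∀ i, d i * d i ^ q = 1) (hdet : ∏ i, d i = 1)
    (x : Fin n → F) (i : Fin n) : act (dgSU d hd hdet) x i = d i * x i := by
  unfold dgSU
  rw [monSU_act]
  rfl

theorem dgSU_pow_act (d : Fin n → F) (hd : ∀ i, d i * d i ^ q = 1) (hdet : ∏ i, d i = 1)
    (k : ℕ) (x : Fin n → F) (i : Fin n) : act (dgSU d hd hdet ^ k) x i = d i ^ k * x i := by
  induction k generalizing x with
  | zero => rw [pow_zero, act_one, pow_zero, one_mul]
  | succ k ih => rw [pow_succ, act_mul, ih, dgSU_act, pow_succ]; ring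

/-! ### the signed cycle -/

variable {m : ℕ}

/-- the signs of the cycle -/
def sgn (F : Type*) [Field F] (m : ℕ) (k : Fin (m + 1)) : F := if k = 0 then (-1) ^ m else 1

theorem sgn_ne_zero (k : Fin (m + 1)) : sgn F m k ≠ 0 := by
  unfold sgn
  split_ifs
  · exact pow_ne_zero _ (neg_ne_zero.2 one_ne_zero)
  · exact one_ne_zero

theorem sgn_of_ne {k : Fin (m + 1)} (hk : k ≠ 0) : sgn F m k = 1 := by
  unfold sgn
  rw [if_neg hk]

/-- the signed `n`-cycle -/
def cycSU (hF : Fintype.card F = q ^ 2) (m : ℕ) : ↥(Cfsg.SU (m + 1) F q) :=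
  monSU (finRotate (m + 1))⁻¹ (sgn F m)
    (by
      intro k
      unfold sgn
      split_ifs
      · rw [← pow_succ', ← pow_mul, mul_comm, pow_mul, neg_one_pow_q_succ hF, one_pow]
      · rw [one_pow, mul_one])
    (by
      rw [Equiv.Perm.sign_inv, sign_finRotate]
      unfold sgn
      rw [Finset.prod_ite_eq' Finset.univ (0 : Fin (m + 1))]
      simp only [Finset.mem_univ, if_true, Nat.add_sub_cancel]
      push_cast
      rw [← mul_pow]
      simp)

theorem cycSU_act (hF : Fintype.card F = q ^ 2) (x : Fin (m + 1) → F) (k : Fin (m + 1)) :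
    act (cycSU hF m) x k = sgn F m k * x (k - 1) := by
  unfold cycSU
  rw [monSU_act]
  congr 2
  rw [Equiv.Perm.inv_eq_iff_eq, finRotate_apply, sub_add_cancel]

/-- general facts about an element acting as a monomial cycle -/
theorem cyc_inv_act {a : ↥(Cfsg.SU (m + 1) F q)} (s : Fin (m + 1) → F) (hs : ∀ k, s k ≠ 0)
    (ha : ∀ (x : Fin (m + 1) → F) (k : Fin (m + 1)), act a x k = s k * x (k - 1))
    (x : Fin (m + 1) → F) (k : Fin (m + 1)) : act a⁻¹ x k = (s (k + 1))⁻¹ * x (k + 1) := by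
  have h1 := ha (act a⁻¹ x) (k + 1)
  rw [act_act_inv, add_sub_cancel_right] at h1
  rw [h1, ← mul_assoc, inv_mul_cancel₀ (hs _), one_mul]

theorem cyc_act_pv {a : ↥(Cfsg.SU (m + 1) F q)} (s : Fin (m + 1) → F)
    (ha : ∀ (x : Fin (m + 1) → F) (k : Fin (m + 1)), act a x k = s k * x (k - 1))
    (i j : Fin (m + 1)) (α β : F) :
    act a (pv i j α β) = pv (i + 1) (j + 1) (s (i + 1) * α) (s (j + 1) * β) := by
  funext k
  rw [ha, pv_apply, pv_apply]
  by_cases h1 : k = i + 1
  · by_cases h2 : k = j + 1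
    · rw [if_pos h1, if_pos h2, if_pos (by rw [h1, add_sub_cancel_right]),
        if_pos (by rw [h2, add_sub_cancel_right]), h1.symm, h2.symm]; ring
    · rw [if_pos h1, if_neg h2, if_pos (by rw [h1, add_sub_cancel_right]),
        if_neg (fun h => h2 (by rw [← h, sub_add_cancel])), h1.symm]; ring
  · by_cases h2 : k = j + 1
    · rw [if_neg h1, if_pos h2, if_neg (fun h => h1 (by rw [← h, sub_add_cancel])),
        if_pos (by rw [h2, add_sub_cancel_right]), h2.symm]; ring
    · rw [if_neg h1, if_neg h2, if_neg (fun h => h1 (by rw [← h, sub_add_cancel])),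
        if_neg (fun h => h2 (by rw [← h, sub_add_cancel]))]; ring

theorem cyc_inv_act_pv {a : ↥(Cfsg.SU (m + 1) F q)} (s : Fin (m + 1) → F) (hs : ∀ k, s k ≠ 0)
    (ha : ∀ (x : Fin (m + 1) → F) (k : Fin (m + 1)), act a x k = s k * x (k - 1))
    (i j : Fin (m + 1)) (α β : F) :
    act a⁻¹ (pv (i + 1) (j + 1) α β) = pv i j ((s (i + 1))⁻¹ * α) ((s (j + 1))⁻¹ * β) := by
  have h := cyc_act_pv s ha i j ((s (i + 1))⁻¹ * α) ((s (j + 1))⁻¹ * β)
  rw [← mul_assoc, ← mul_assoc, mul_inv_cancel₀ (hs _), mul_inv_cancel₀ (hs _), one_mul,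
    one_mul] at h
  rw [← h, act_inv_act]

/-! ### hyperbolic rotations -/

/-- the Frobenius as a ring homomorphism -/
noncomputable def frob (hF : Fintype.card F = q ^ 2) : F →+* F := Classical.choose (exists_frob hF)

theorem frob_apply (hF : Fintype.card F = q ^ 2) (x : F) : frob hF x = x ^ q :=
  (Classical.choose_spec (exists_frob hF)).1 x

theorem frob_frob (hF : Fintype.card F = q ^ 2) (x : F) : frob hF (frob hF x) = x :=
  (Classical.choose_spec (exists_frob hF)).2 x

/-- the rotation `u ↦ l u`, `u' ↦ l⁻¹ u'` for a hyperbolic pair and `l` in the fixed field -/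
noncomputable def rotSU (hF : Fintype.card F = q ^ 2) (l : F) (u u' : Fin n → F) :
    ↥(Cfsg.SU n F q) := by
  classical
  exact if h : l ≠ 0 ∧ l ^ q = l ∧ hf q u u = 0 ∧ hf q u' u' = 0 ∧ hf q u u' = 1 then
    mkSU (Cfsg.Agent.S0782.rot (frob hF) l u u')
      (by
        have h1 : Cfsg.Agent.S0837.Bs (frob hF) n u u' = 1 := by
          rw [Cfsg.Agent.S0782.Bs_eq_herm (frob hF) (frob_apply hF)]
          show hf q u' u = 1
          rw [← hf_conj hF, h.2.2.2.2, one_pow]
        have h2 : Cfsg.Agent.S0837.Bs (frob hF) n u' u = 1 := by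
          rw [Cfsg.Agent.S0782.Bs_eq_herm (frob hF) (frob_apply hF)]
          exact h.2.2.2.2
        rw [Cfsg.Agent.S0782.rot_det (frob hF) l h.1 u u' h1 h2, frob_apply hF, h.2.1,
          mul_inv_cancel₀ h.1])
      (by
        intro x y
        have h1 : Cfsg.Agent.S0837.Bs (frob hF) n u u' = 1 := by
          rw [Cfsg.Agent.S0782.Bs_eq_herm (frob hF) (frob_apply hF)]
          show hf q u' u = 1
          rw [← hf_conj hF, h.2.2.2.2, one_pow]
        have h2 : Cfsg.Agent.S0837.Bs (frob hF) n u' u = 1 := by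
          rw [Cfsg.Agent.S0782.Bs_eq_herm (frob hF) (frob_apply hF)]
          exact h.2.2.2.2
        have h3 : Cfsg.Agent.S0837.Bs (frob hF) n u u = 0 := by
          rw [Cfsg.Agent.S0782.Bs_eq_herm (frob hF) (frob_apply hF)]
          exact h.2.2.1
        have h4 : Cfsg.Agent.S0837.Bs (frob hF) n u' u' = 0 := by
          rw [Cfsg.Agent.S0782.Bs_eq_herm (frob hF) (frob_apply hF)]
          exact h.2.2.2.1
        have := Cfsg.Agent.S0782.rot_preserves (frob hF) (frob_frob hF) l h.1 u u' h3 h4 h1 h2 y x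
        rw [Cfsg.Agent.S0782.Bs_eq_herm (frob hF) (frob_apply hF),
          Cfsg.Agent.S0782.Bs_eq_herm (frob hF) (frob_apply hF)] at this
        exact this)
  else 1

theorem rotSU_act (hF : Fintype.card F = q ^ 2) {l : F} {u u' : Fin n → F} (hl0 : l ≠ 0)
    (hl : l ^ q = l) (hu : hf q u u = 0) (hu' : hf q u' u' = 0) (huu' : hf q u u' = 1)
    (x : Fin n → F) :
    act (rotSU hF l u u') x = x + ((l - 1) * hf q x u') • u + ((l⁻¹ - 1) * hf q x u) • u' := by
  unfold act rotSU
  rw [dif_pos ⟨hl0, hl, hu, hu', huu'⟩, mkSU_val]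
  have h4 : Cfsg.Agent.S0837.Bs (frob hF) n u' u' = 0 := by
    rw [Cfsg.Agent.S0782.Bs_eq_herm (frob hF) (frob_apply hF)]
    exact hu'
  rw [Cfsg.Agent.S0782.rot_mulVec (frob hF) l u u' h4,
    Cfsg.Agent.S0782.Bs_eq_herm (frob hF) (frob_apply hF),
    Cfsg.Agent.S0782.Bs_eq_herm (frob hF) (frob_apply hF), frob_apply hF, hl, smul_smul, smul_smul]

end Cfsg.Agent.Lib.H15.SUGen
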