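import Cfsg.Agent.Lib.H15.SUGenG

/-!
# Generation of `SU_n(q)`, `n ≥ 4`, `q ≥ 3`: the two generators
-/

set_option autoImplicit false
set_option linter.unusedSectionVars false
set_option linter.unusedVariables false
set_option linter.unusedSimpArgs false
set_option maxHeartbeats 800000

namespace Cfsg.Agent.Lib.H15.SUGen

open Matrix Cfsg.Agent.Lib.H4 Cfsg.Agent.Lib.H2.Unitary Cfsg.Agent.Lib.H2.Herm

variable {F : Type*} [Field F] [Fintype F] {q n : ℕ}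

theorem dgSU_act_pv (d : Fin n → F) (hd : ∀ i, d i * d i ^ q = 1) (hdet : ∏ i, d i = 1)
    (k : ℕ) (i j : Fin n) (α β : F) :
    act (dgSU d hd hdet ^ k) (pv i j α β) = pv i j (d i ^ k * α) (d j ^ k * β) := by
  funext r
  rw [dgSU_pow_act, pv_apply, pv_apply]
  by_cases h1 : r = i
  · subst h1
    by_cases h2 : r = j
    · subst h2; simp; ring
    · simp [h2]
  · by_cases h2 : r = j
    · subst h2; simp [h1]
    · simp [h1, h2]

theorem pow_card_sub_one' (hF : Fintype.card F = q ^ 2) {x : F} (hx : x ≠ 0) :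
    x ^ (q ^ 2 - 1) = 1 := by
  rw [← hF]; exact FiniteField.pow_card_sub_one_eq_one x hx

theorem ne_zero_of_norm {x : F} (hx : x * x ^ q = 1) : x ≠ 0 := by
  rintro rfl
  rw [zero_mul] at hx
  exact zero_ne_one hx

variable {m : ℕ}

theorem exists_gen_params (hF : Fintype.card F = q ^ 2) (hq : q ≠ 2) (m : ℕ) (θ lam : F) (k : ℕ)
    (hθ : θ * θ ^ q = 1) (hlam : lam ^ q = lam) (hlam0 : lam ≠ 0) (hlamk : lam ^ k = 1)
    (hθk : θ ^ k ≠ θ⁻¹ ^ k)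
    (hsq : ∀ r : F, r ^ q = r → r = 0 ∨ ∃ j : ℕ, r ^ 2 = (lam ^ 2) ^ j) :
    ∃ a b : ↥(Cfsg.SU (m + 3 + 1) F q),
      Subgroup.closure ({a, b} : Set ↥(Cfsg.SU (m + 3 + 1) F q)) = ⊤ := by
  have hq2 := two_le_q hF
  obtain ⟨ω, l, κ, hω, hl, hl0, h1l, hω0, hκ2, hκ1⟩ := exists_scalars hF
  obtain ⟨c₀, hc₀0, hc₀⟩ := exists_tz hF
  have hθ0 : θ ≠ 0 := ne_zero_of_norm hθ
  obtain ⟨hu, hu', huu'⟩ := hyp_pair_facts hF (f23 (m := m)) hω hl hκ2 hκ1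
  have hv0 := (hyp_pair_facts hF (f01 (m := m)) hω hl hκ2 hκ1).1
  obtain ⟨u, hud⟩ : ∃ u : Fin (m + 3 + 1) → F, u = pv 2 3 1 ω := ⟨_, rfl⟩
  obtain ⟨u', hu'd⟩ : ∃ u' : Fin (m + 3 + 1) → F, u' = pv 2 3 κ (κ * ω * l) := ⟨_, rfl⟩
  obtain ⟨v0, hv0d⟩ : ∃ v0 : Fin (m + 3 + 1) → F, v0 = pv 0 1 1 ω := ⟨_, rfl⟩
  rw [← hud, ← hu'd] at huu'
  rw [← hud] at hu
  rw [← hu'd] at hu'
  rw [← hv0d] at hv0
  obtain ⟨a, had⟩ : ∃ a, a = cycSU hF (m + 3) := ⟨_, rfl⟩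
  obtain ⟨dg, hdgd⟩ : ∃ dg, dg = dgSU (dth m θ) (dth_norm (q := q) hθ) (dth_prod hθ0) := ⟨_, rfl⟩
  obtain ⟨ρ, hρd⟩ : ∃ ρ, ρ = rotSU hF lam u u' := ⟨_, rfl⟩
  obtain ⟨t, htd⟩ : ∃ t, t = tv hF v0 c₀ := ⟨_, rfl⟩
  have ha : ∀ (x : Fin (m + 3 + 1) → F) (r : Fin (m + 3 + 1)),
      act a x r = sgn F (m + 3) r * x (r - 1) := by
    intro x r; rw [had]; exact cycSU_act hF x r
  have hs : ∀ r : Fin (m + 3 + 1), sgn F (m + 3) r ≠ 0 := sgn_ne_zero
  -- the action of the cycle on plane vectors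
  have a01 : ∀ α β : F, act a (pv 0 1 α β) = pv 1 2 α β := by
    intro α β
    rw [cyc_act_pv _ ha, fs01, fs12, sgn_of_ne f01.symm, sgn_of_ne f02.symm, one_mul, one_mul]
  have a12 : ∀ α β : F, act a (pv 1 2 α β) = pv 2 3 α β := by
    intro α β
    rw [cyc_act_pv _ ha, fs12, fs23, sgn_of_ne f02.symm, sgn_of_ne f03.symm, one_mul, one_mul]
  have ai01 : ∀ α β : F, act a⁻¹ (pv 1 2 α β) = pv 0 1 α β := by
    intro α β
    rw [← a01, act_inv_act]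
  have ai12 : ∀ α β : F, act a⁻¹ (pv 2 3 α β) = pv 1 2 α β := by
    intro α β
    rw [← a12, act_inv_act]
  -- the rotation
  have hρact : ∀ x : Fin (m + 3 + 1) → F, act ρ x =
      x + ((lam - 1) * hf q x u') • u + ((lam⁻¹ - 1) * hf q x u) • u' := by
    intro x; rw [hρd]; exact rotSU_act hF hlam0 hlam hu hu' huu' x
  have hρfix : ∀ x : Fin (m + 3 + 1) → F, x 2 = 0 → x 3 = 0 → act ρ x = x := by
    intro x h2 h3
    rw [hρact, hud, hu'd, hf_pv_right hF, hf_pv_right hF, h2, h3]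
    simp
  have hρu : act ρ u = lam • u := by
    rw [hρact, hu, huu']
    module
  -- the diagonal element
  have hdgpv : ∀ (j : ℕ) (i i' : Fin (m + 3 + 1)) (α β : F),
      act (dg ^ j) (pv i i' α β) = pv i i' (dth m θ i ^ j * α) (dth m θ i' ^ j * β) := by
    intro j i i' α β; rw [hdgd]; exact dgSU_act_pv _ _ _ j i i' α β
  have hdgpv1 : ∀ (i i' : Fin (m + 3 + 1)) (α β : F),
      act dg (pv i i' α β) = pv i i' (dth m θ i * α) (dth m θ i' * β) := by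
    intro i i' α β
    have := hdgpv 1 i i' α β
    rwa [pow_one, pow_one, pow_one] at this
  have hdgact : ∀ (x : Fin (m + 3 + 1) → F) (i : Fin (m + 3 + 1)),
      act dg x i = dth m θ i * x i := by
    intro x i; rw [hdgd]; exact dgSU_act _ _ _ x i
  have hdgu : act dg u = θ⁻¹ • u := by
    rw [hud, hdgpv1, dth_2, dth_3, pv_smul]
  have hdgu' : act dg u' = θ⁻¹ • u' := by
    rw [hu'd, hdgpv1, dth_2, dth_3, pv_smul]
  have hcomm : Commute dg ρ := by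
    apply ext_act
    intro x
    rw [act_mul, act_mul, hρact, hρact, act_add, act_add, act_smul, act_smul, hdgu, hdgu']
    have e1 : hf q (act dg x) u' = θ⁻¹ * hf q x u' := by
      rw [hu'd, hf_pv_right hF, hf_pv_right hF, hdgact, hdgact, dth_2, dth_3]; ring
    have e2 : hf q (act dg x) u = θ⁻¹ * hf q x u := by
      rw [hud, hf_pv_right hF, hf_pv_right hF, hdgact, hdgact, dth_2, dth_3]; ring
    rw [e1, e2]
    module
  obtain ⟨D, hDd⟩ : ∃ D, D = dg * ρ := ⟨_, rfl⟩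
  have hDv0 : act D v0 = θ • v0 := by
    rw [hDd, act_mul, hρfix v0 (by rw [hv0d]; exact pv_other f02.symm f12.symm _ _)
      (by rw [hv0d]; exact pv_other f03.symm f13.symm _ _), hv0d, hdgpv1, dth_0, dth_1, pv_smul]
  have hDt : Commute D t := by
    have h1 := conj_tv hF D hv0 hc₀
    rw [hDv0, tv_smul hF hv0 hc₀, hθ, one_mul, ← htd] at h1
    have : D * t = t * D := by
      calc D * t = D * t * D⁻¹ * D := by group
        _ = t * D := by rw [h1]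
    exact this
  -- orders
  have hdgN : dg ^ (q ^ 2 - 1) = 1 := by
    apply ext_act
    intro x
    funext i
    rw [hdgd, dgSU_pow_act, act_one, pow_card_sub_one' hF (ne_zero_of_norm (dth_norm hθ i)),
      one_mul]
  have hρpow : ∀ j : ℕ, ρ ^ j = rotSU hF (lam ^ j) u u' := by
    intro j; rw [hρd]; exact rotSU_pow hF hlam0 hlam hu hu' huu' j
  have hρN : ρ ^ (q ^ 2 - 1) = 1 := by
    rw [hρpow, pow_card_sub_one' hF hlam0, rotSU_one hF hu hu' huu']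
  have hρk : ρ ^ k = 1 := by
    rw [hρpow, hlamk, rotSU_one hF hu hu' huu']
  have hDN : D ^ (q ^ 2 - 1) = 1 := by
    rw [hDd, hcomm.mul_pow, hdgN, hρN, one_mul]
  have hDk : D ^ k = dg ^ k := by
    rw [hDd, hcomm.mul_pow, hρk, mul_one]
  have hcast : ((q ^ 2 - 1 : ℕ) : F) = -1 := by
    have h1 : 1 ≤ q ^ 2 := Nat.one_le_pow _ _ (by omega)
    rw [Nat.cast_sub h1, Nat.cast_pow, fr_cast_q hF]
    simp
  obtain ⟨b, hbd⟩ : ∃ b, b = t * D := ⟨_, rfl⟩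
  have hbN : b ^ (q ^ 2 - 1) = t⁻¹ := by
    rw [hbd, hDt.symm.mul_pow, hDN, mul_one, htd, tv_pow hF hv0 hc₀, hcast,
      tv_inv hF hv0 hc₀]
    congr 1
    ring
  refine ⟨a, b, ?_⟩
  obtain ⟨H, hHd⟩ : ∃ H, H = Subgroup.closure ({a, b} : Set ↥(Cfsg.SU (m + 3 + 1) F q)) :=
    ⟨_, rfl⟩
  rw [← hHd]
  have haH : a ∈ H := by
    rw [hHd]; exact Subgroup.subset_closure (Set.mem_insert _ _)
  have hbH : b ∈ H := by
    rw [hHd]; exact Subgroup.subset_closure (Set.mem_insert_of_mem _ rfl)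
  have htH : t ∈ H := by
    have := H.pow_mem hbH (q ^ 2 - 1)
    rw [hbN] at this
    exact (H.inv_mem_iff).1 this
  have hDH : D ∈ H := by
    have : D = t⁻¹ * b := by rw [hbd]; group
    rw [this]
    exact H.mul_mem (H.inv_mem htH) hbH
  -- the scaling element
  obtain ⟨g₂, hg₂d⟩ : ∃ g₂, g₂ = a⁻¹ * a⁻¹ * D * a * a := ⟨_, rfl⟩
  have hg₂H : g₂ ∈ H := by
    rw [hg₂d]
    exact H.mul_mem (H.mul_mem (H.mul_mem (H.mul_mem (H.inv_mem haH) (H.inv_mem haH)) hDH) haH) haH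
  have hDu : act D u = (θ⁻¹ * lam) • u := by
    rw [hDd, act_mul, hρu, act_smul, hdgu, smul_smul, mul_comm]
  have hg₂v : act g₂ v0 = (θ⁻¹ * lam) • v0 := by
    rw [hg₂d, act_mul, act_mul, act_mul, act_mul, hv0d, a01, a12, ← hud, hDu, act_smul, act_smul,
      hud, ai12, ai01]
  have hnorm : (θ⁻¹ * lam) * (θ⁻¹ * lam) ^ q = lam ^ 2 := by
    rw [mul_pow, inv_pow, hlam]
    have : θ⁻¹ * (θ ^ q)⁻¹ = 1 := by rw [← mul_inv, hθ, inv_one]
    linear_combination (lam ^ 2) * this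
  have hsq' : ∀ r : F, r ^ q = r → tv hF (pv (0 : Fin (m + 3 + 1)) 1 1 ω) (r ^ 2 * c₀) ∈ H := by
    intro r hr
    rw [← hv0d]
    rcases hsq r hr with rfl | ⟨j, hj⟩
    · rw [zero_pow two_ne_zero, zero_mul, tv_zero hF hv0]
      exact H.one_mem
    · have h1 := conj_tv hF (g₂ ^ j) hv0 hc₀
      rw [act_pow_smul g₂ _ v0 hg₂v j, tv_smul hF hv0 hc₀] at h1
      have h2 : (θ⁻¹ * lam) ^ j * ((θ⁻¹ * lam) ^ j) ^ q = r ^ 2 := by
        rw [hj, ← hnorm, mul_pow ((θ⁻¹ * lam)) (((θ⁻¹ * lam)) ^ q) j]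
        congr 1
        ring
      rw [h2] at h1
      rw [← h1, ← htd]
      exact H.mul_mem (H.mul_mem (H.pow_mem hg₂H j) htH) (H.inv_mem (H.pow_mem hg₂H j))
  -- the second point
  obtain ⟨g₃, hg₃d⟩ : ∃ g₃, g₃ = a⁻¹ * D ^ k * a := ⟨_, rfl⟩
  have hg₃H : g₃ ∈ H := by
    rw [hg₃d]
    exact H.mul_mem (H.mul_mem (H.inv_mem haH) (H.pow_mem hDH k)) haH
  have hg₃v : act g₃ (pv (0 : Fin (m + 3 + 1)) 1 1 ω) = pv 0 1 (θ ^ k) (θ⁻¹ ^ k * ω) := by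
    rw [hg₃d, act_mul, act_mul, a01, hDk, hdgpv, dth_1, dth_2, ai01, mul_one]
  exact eq_top_of_data hF hq (by omega) haH (sgn F (m + 3)) hs ha ω c₀ hω hc₀ hc₀0 hsq' hg₃H
    (θ ^ k) (θ⁻¹ ^ k) hθk hg₃v

end Cfsg.Agent.Lib.H15.SUGen
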