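import Cfsg.Agent.Lib.H15.SUGenH

/-!
# Generation of `SU_n(q)`, `n ≥ 4`, `q ≥ 3`: choice of the parameters
-/

set_option autoImplicit false
set_option linter.unusedSectionVars false
set_option linter.unusedVariables false
set_option linter.unusedSimpArgs false

namespace Cfsg.Agent.Lib.H15.SUGen

open Matrix Cfsg.Agent.Lib.H4 Cfsg.Agent.Lib.H2.Unitary Cfsg.Agent.Lib.H2.Herm

variable {F : Type*} [Field F] [Fintype F] {q : ℕ}

theorem exists_gen_three (hF : Fintype.card F = q ^ 2) (hq : q = 3) (m : ℕ) :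
    ∃ a b : ↥(Cfsg.SU (m + 3 + 1) F q),
      Subgroup.closure ({a, b} : Set ↥(Cfsg.SU (m + 3 + 1) F q)) = ⊤ := by
  obtain ⟨θ, hθ, hθ2⟩ := exists_norm_one_sq_ne_one hF
  have hθ0 : (θ : F) ≠ 0 := θ.ne_zero
  apply exists_gen_params hF (by omega) m (θ : F) 1 1 hθ (one_pow q) one_ne_zero (one_pow 1)
  · rw [pow_one, pow_one]
    intro h
    apply hθ2
    apply Units.ext
    rw [Units.val_pow_eq_pow_val, Units.val_one, sq]
    have : (θ : F) * (θ : F) = (θ : F) * (θ : F)⁻¹ := by rw [← h]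
    rw [this, mul_inv_cancel₀ hθ0]
  · intro r hr
    subst hq
    have h1 : r * (r ^ 2 - 1) = 0 := by linear_combination hr
    rcases mul_eq_zero.1 h1 with h | h
    · exact Or.inl h
    · exact Or.inr ⟨0, by rw [pow_zero]; linear_combination h⟩

theorem exists_gen_four (hF : Fintype.card F = q ^ 2) (hq : 4 ≤ q) (m : ℕ) :
    ∃ a b : ↥(Cfsg.SU (m + 3 + 1) F q),
      Subgroup.closure ({a, b} : Set ↥(Cfsg.SU (m + 3 + 1) F q)) = ⊤ := by
  classical
  obtain ⟨g, hg⟩ := IsCyclic.exists_generator (α := Fˣ)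
  have hord : orderOf g = q ^ 2 - 1 := by
    rw [orderOf_eq_card_of_forall_mem_zpowers hg, Nat.card_units, Nat.card_eq_fintype_card, hF]
  have hg0 : (g : F) ≠ 0 := g.ne_zero
  have hfac : q ^ 2 - 1 = (q - 1) * (q + 1) := by
    obtain ⟨r, rfl⟩ : ∃ r, q = r + 1 := ⟨q - 1, by omega⟩
    simp only [Nat.add_sub_cancel]
    have : (r + 1) ^ 2 = r * (r + 1 + 1) + 1 := by ring
    rw [this, Nat.add_sub_cancel]
  have hgN : (g : F) ^ (q ^ 2 - 1) = 1 := pow_card_sub_one' hF hg0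
  obtain ⟨θ, hθd⟩ : ∃ θ : F, θ = (g : F) ^ (q - 1) := ⟨_, rfl⟩
  obtain ⟨lam, hlamd⟩ : ∃ lam : F, lam = (g : F) * (g : F) ^ q := ⟨_, rfl⟩
  have hθ : θ * θ ^ q = 1 := by
    rw [hθd, ← pow_succ', ← pow_mul, ← hfac, hgN]
  have hlam : lam ^ q = lam := by rw [hlamd]; exact fr_norm hF _
  have hlam0 : lam ≠ 0 := by rw [hlamd]; exact mul_ne_zero hg0 (pow_ne_zero _ hg0)
  have hlamk : lam ^ (q - 1) = 1 := by
    have h1 : lam * lam ^ (q - 1) = lam * 1 := by
      rw [← pow_succ', Nat.sub_add_cancel (by omega), hlam, mul_one]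
    exact mul_left_cancel₀ hlam0 h1
  have hlam' : lam = (g : F) ^ (q + 1) := by rw [hlamd, pow_succ']
  apply exists_gen_params hF (by omega) m θ lam (q - 1) hθ hlam hlam0 hlamk
  · intro h
    have hθ0 : θ ≠ 0 := by rw [hθd]; exact pow_ne_zero _ hg0
    have h1 : θ ^ (q - 1) * θ ^ (q - 1) = 1 := by
      nth_rewrite 2 [h]
      rw [inv_pow, mul_inv_cancel₀ (pow_ne_zero _ hθ0)]
    rw [hθd, ← pow_mul, ← pow_add] at h1
    have h2 : g ^ ((q - 1) * (q - 1) + (q - 1) * (q - 1)) = 1 := by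
      apply Units.ext
      rw [Units.val_pow_eq_pow_val, Units.val_one]
      exact h1
    have h3 := orderOf_dvd_of_pow_eq_one h2
    rw [hord, hfac] at h3
    have h4 : (q - 1) * (q + 1) ∣ (q - 1) * (2 * (q - 1)) := by
      have : (q - 1) * (q - 1) + (q - 1) * (q - 1) = (q - 1) * (2 * (q - 1)) := by ring
      rwa [this] at h3
    have h5 : q + 1 ∣ 2 * (q - 1) := Nat.dvd_of_mul_dvd_mul_left (by omega) h4
    have h6 : q + 1 ∣ 2 * (q + 1) - 2 * (q - 1) := Nat.dvd_sub (Dvd.intro_left 2 rfl) h5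
    have h7 : 2 * (q + 1) - 2 * (q - 1) = 4 := by omega
    rw [h7] at h6
    have := Nat.le_of_dvd (by norm_num) h6
    omega
  · intro r hr
    by_cases hr0 : r = 0
    · exact Or.inl hr0
    · right
      have hmem := hg (Units.mk0 r hr0)
      rw [← mem_powers_iff_mem_zpowers] at hmem
      obtain ⟨i, hi⟩ := hmem
      have hi' : (g : F) ^ i = r := by
        have := congrArg Units.val hi
        rwa [Units.val_pow_eq_pow_val, Units.val_mk0] at this
      have hrk : r ^ (q - 1) = 1 := by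
        have h1 : r * r ^ (q - 1) = r * 1 := by
          rw [← pow_succ', Nat.sub_add_cancel (by omega), hr, mul_one]
        exact mul_left_cancel₀ hr0 h1
      have h2 : g ^ (i * (q - 1)) = 1 := by
        apply Units.ext
        rw [Units.val_pow_eq_pow_val, Units.val_one, pow_mul, hi', hrk]
      have h3 := orderOf_dvd_of_pow_eq_one h2
      rw [hord, hfac, mul_comm i] at h3
      have h4 : q + 1 ∣ i := Nat.dvd_of_mul_dvd_mul_left (by omega) h3
      obtain ⟨j, hj⟩ := h4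
      refine ⟨j, ?_⟩
      rw [← hi', hj, hlam', pow_mul]
      ring

/-- `SU_n(q)`, `n ≥ 4`, `q ≥ 3`, is generated by two elements -/
theorem exists_gen_ge_three (hF : Fintype.card F = q ^ 2) (hq : q ≠ 2) (m : ℕ) :
    ∃ a b : ↥(Cfsg.SU (m + 3 + 1) F q),
      Subgroup.closure ({a, b} : Set ↥(Cfsg.SU (m + 3 + 1) F q)) = ⊤ := by
  have hq2 := two_le_q hF
  by_cases h3 : q = 3
  · exact exists_gen_three hF h3 m
  · exact exists_gen_four hF (by omega) m

end Cfsg.Agent.Lib.H15.SUGen
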