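import Cfsg.Agent.Lib.H15.SUGenI

/-!
# Generation of `SU_n(2)`: from good pairs and one centre of support four to everything
-/

set_option autoImplicit false
set_option linter.unusedSectionVars false
set_option linter.unusedVariables false
set_option linter.unusedSimpArgs false

namespace Cfsg.Agent.Lib.H15.SUGen

open Matrix Cfsg.Agent.Lib.H4 Cfsg.Agent.Lib.H2.Unitary Cfsg.Agent.Lib.H2.Herm

variable {F : Type*} [Field F] [Fintype F] {n : ℕ}

/-! ### the field with four elements -/

theorem two_eq_zero (hF : Fintype.card F = 2 ^ 2) : (2 : F) = 0 := by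
  have := fr_cast_q hF
  exact_mod_cast this

theorem add_self_zero (hF : Fintype.card F = 2 ^ 2) (x : F) : x + x = 0 := by
  linear_combination x * two_eq_zero hF

theorem cube_one (hF : Fintype.card F = 2 ^ 2) {x : F} (hx : x ≠ 0) : x ^ 3 = 1 := by
  have := pow_card_sub_one' hF hx
  norm_num at this
  exact this

theorem inv_eq_sq (hF : Fintype.card F = 2 ^ 2) {x : F} (hx : x ≠ 0) : x⁻¹ = x ^ 2 := by
  apply inv_eq_of_mul_eq_one_right
  rw [← pow_succ']
  exact cube_one hF hx

theorem tz_one (hF : Fintype.card F = 2 ^ 2) : (1 : F) + 1 ^ 2 = 0 := by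
  rw [one_pow]; exact add_self_zero hF 1

theorem iso_pv (hF : Fintype.card F = 2 ^ 2) {i j : Fin n} (hij : i ≠ j) {γ : F} (hγ : γ ≠ 0) :
    hf 2 (pv i j 1 γ) (pv i j 1 γ) = 0 := by
  rw [hf_pv_pv hF hij, one_pow, ← pow_succ', cube_one hF hγ, mul_one]
  exact add_self_zero hF 1

/-- an element other than `0, 1`, with its equation -/
theorem exists_omega (hF : Fintype.card F = 2 ^ 2) :
    ∃ ω : F, ω ≠ 0 ∧ ω ≠ 1 ∧ 1 + ω + ω ^ 2 = 0 := by
  obtain ⟨l, hl, hl1⟩ := exists_norm_one_ne_one hF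
  refine ⟨l, l.ne_zero, hl1, ?_⟩
  have h3 : ((l : F) - 1) * (1 + (l : F) + (l : F) ^ 2) = 0 := by
    have := cube_one hF l.ne_zero
    linear_combination this
  rcases mul_eq_zero.1 h3 with h | h
  · exact absurd (by linear_combination h) hl1
  · exact h

/-! ### swaps and twists -/

theorem swap_act (hF : Fintype.card F = 2 ^ 2) {i j : Fin n} (hij : i ≠ j) (x : Fin n → F) :
    act (tv hF (pv i j 1 1) 1) x = fun k => x (Equiv.swap i j k) := by
  rw [tv_act hF (iso_pv hF hij one_ne_zero) (tz_one hF), hf_pv_right hF]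
  funext k
  rw [Pi.add_apply, Pi.smul_apply, smul_eq_mul]
  by_cases hi : k = i
  · subst hi
    rw [pv_left hij, Equiv.swap_apply_left]
    linear_combination add_self_zero hF (x k)
  · by_cases hj : k = j
    · subst hj
      rw [pv_right hij, Equiv.swap_apply_right]
      linear_combination add_self_zero hF (x k)
    · rw [pv_other hi hj, Equiv.swap_apply_of_ne_of_ne hi hj]
      ring

/-- the twist -/
def tw (i j : Fin n) (γ : F) (x : Fin n → F) : Fin n → F :=
  fun k => if k = i then γ * x k else if k = j then γ⁻¹ * x k else x k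

theorem twist_act (hF : Fintype.card F = 2 ^ 2) {i j : Fin n} (hij : i ≠ j) {γ : F} (hγ : γ ≠ 0)
    (x : Fin n → F) :
    act (tv hF (pv i j 1 1) 1 * tv hF (pv i j 1 γ) 1) x = tw i j γ x := by
  rw [act_mul, swap_act hF hij, tv_act hF (iso_pv hF hij hγ) (tz_one hF), hf_pv_right hF]
  have h3 := cube_one hF hγ
  funext k
  unfold tw
  by_cases hi : k = i
  · subst hi
    rw [if_pos rfl, Equiv.swap_apply_left, Pi.add_apply, Pi.smul_apply, pv_right hij, smul_eq_mul]
    linear_combination (x j) * h3 + add_self_zero hF (x j)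
  · by_cases hj : k = j
    · subst hj
      rw [if_neg hi, if_pos rfl, Equiv.swap_apply_right, Pi.add_apply, Pi.smul_apply, pv_left hij,
        smul_eq_mul, inv_eq_sq hF hγ]
      linear_combination add_self_zero hF (x i)
    · rw [if_neg hi, if_neg hj, Equiv.swap_apply_of_ne_of_ne hi hj, Pi.add_apply, Pi.smul_apply,
        pv_other hi hj, smul_zero, add_zero]

theorem Cen_swap (hF : Fintype.card F = 2 ^ 2) {H : Subgroup ↥(Cfsg.SU n F 2)} {i j : Fin n}
    (hij : i ≠ j) (hG : Good hF H {i, j}) {y : Fin n → F} (hy : y ∈ Cen hF H) :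
    (fun k => y (Equiv.swap i j k)) ∈ Cen hF H := by
  rw [← swap_act hF hij]
  apply Cen_act hF _ hy
  exact (hG _ (iso_pv hF hij one_ne_zero) (suppIn_pv _ _ _ _)).2 1 (tz_one hF)

theorem Cen_of_swap (hF : Fintype.card F = 2 ^ 2) {H : Subgroup ↥(Cfsg.SU n F 2)} {i j : Fin n}
    (hij : i ≠ j) (hG : Good hF H {i, j}) {y : Fin n → F}
    (hy : (fun k => y (Equiv.swap i j k)) ∈ Cen hF H) : y ∈ Cen hF H := by
  have := Cen_swap hF hij hG hy
  simpa using this

theorem Cen_twist (hF : Fintype.card F = 2 ^ 2) {H : Subgroup ↥(Cfsg.SU n F 2)} {i j : Fin n}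
    (hij : i ≠ j) (hG : Good hF H {i, j}) {γ : F} (hγ : γ ≠ 0) {y : Fin n → F}
    (hy : y ∈ Cen hF H) : tw i j γ y ∈ Cen hF H := by
  rw [← twist_act hF hij hγ]
  apply Cen_act hF _ hy
  apply H.mul_mem
  · exact (hG _ (iso_pv hF hij one_ne_zero) (suppIn_pv _ _ _ _)).2 1 (tz_one hF)
  · exact (hG _ (iso_pv hF hij hγ) (suppIn_pv _ _ _ _)).2 1 (tz_one hF)

end Cfsg.Agent.Lib.H15.SUGen
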