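import Cfsg.Agent.Lib.H15.SUGenJ

/-!
# Generation of `SU_n(2)`: good pairs and one centre of weight four give everything
-/

set_option autoImplicit false
set_option linter.unusedSectionVars false
set_option linter.unusedVariables false
set_option linter.unusedSimpArgs false

namespace Cfsg.Agent.Lib.H15.SUGen

open Matrix Cfsg.Agent.Lib.H4 Cfsg.Agent.Lib.H2.Unitary Cfsg.Agent.Lib.H2.Herm

variable {F : Type*} [Field F] [Fintype F] {n : ℕ}

theorem tz_cases (hF : Fintype.card F = 2 ^ 2) {c : F} (hc : c + c ^ 2 = 0) : c = 0 ∨ c = 1 := by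
  have h : c * (c + 1) = 0 := by linear_combination hc
  rcases mul_eq_zero.1 h with h | h
  · exact Or.inl h
  · right
    linear_combination h - two_eq_zero hF

theorem Cen_of_one (hF : Fintype.card F = 2 ^ 2) {H : Subgroup ↥(Cfsg.SU n F 2)}
    {v : Fin n → F} (hv : hf 2 v v = 0) (h1 : tv hF v 1 ∈ H) : v ∈ Cen hF H := by
  refine ⟨hv, ?_⟩
  intro c hc
  rcases tz_cases hF hc with rfl | rfl
  · rw [tv_zero hF hv]; exact H.one_mem
  · exact h1

/-- centres are permuted by all permutations once all pairs are good -/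
theorem Cen_perm (hF : Fintype.card F = 2 ^ 2) {H : Subgroup ↥(Cfsg.SU n F 2)}
    (hP : ∀ i j : Fin n, i ≠ j → Good hF H {i, j}) (σ : Equiv.Perm (Fin n)) :
    ∀ y : Fin n → F, y ∈ Cen hF H → (fun k => y (σ k)) ∈ Cen hF H := by
  refine Equiv.Perm.swap_induction_on σ ?_ ?_
  · intro y hy; exact hy
  · intro f x y hxy ih v hv
    exact ih _ (Cen_swap hF hxy (hP x y hxy) hv)

/-! ### vectors of weight four -/

/-- a vector with four coordinates -/
def q4 (i j k l : Fin n) (a b c d : F) : Fin n → F := pv i j a b + pv k l c d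

theorem q4_at1 {i j k l : Fin n} (hij : i ≠ j) (hik : i ≠ k) (hil : i ≠ l) (a b c d : F) :
    q4 i j k l a b c d i = a := by
  unfold q4
  rw [Pi.add_apply, pv_left hij, pv_other hik hil, add_zero]

theorem q4_at2 {i j k l : Fin n} (hij : i ≠ j) (hjk : j ≠ k) (hjl : j ≠ l) (a b c d : F) :
    q4 i j k l a b c d j = b := by
  unfold q4
  rw [Pi.add_apply, pv_right hij, pv_other hjk hjl, add_zero]

theorem q4_other {i j k l m : Fin n} (hi : m ≠ i) (hj : m ≠ j) (hk : m ≠ k) (hl : m ≠ l)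
    (a b c d : F) : q4 i j k l a b c d m = 0 := by
  unfold q4
  rw [Pi.add_apply, pv_other hi hj, pv_other hk hl, add_zero]

theorem q4_perm23 (i j k l : Fin n) (a b c d : F) :
    q4 i j k l a b c d = q4 j k i l b c a d := by
  unfold q4 pv; module

theorem q4_perm34 (i j k l : Fin n) (a b c d : F) :
    q4 i j k l a b c d = q4 k l i j c d a b := by
  unfold q4; rw [add_comm]

theorem q4_smul (i j k l : Fin n) (lam a b c d : F) :
    lam • q4 i j k l a b c d = q4 i j k l (lam * a) (lam * b) (lam * c) (lam * d) := by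
  unfold q4; rw [smul_add, pv_smul, pv_smul]

theorem q4_comp (σ : Equiv.Perm (Fin n)) (i j k l : Fin n) (a b c d : F) :
    (fun m => q4 (σ i) (σ j) (σ k) (σ l) a b c d (σ m)) = q4 i j k l a b c d := by
  funext m
  unfold q4
  simp only [Pi.add_apply, pv_apply, EmbeddingLike.apply_eq_iff_eq]

theorem tw_add (i j : Fin n) (γ : F) (x y : Fin n → F) :
    tw i j γ (x + y) = tw i j γ x + tw i j γ y := by
  funext k
  unfold tw
  simp only [Pi.add_apply]
  split_ifs <;> ring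

theorem tw_pv_same {i j : Fin n} (hij : i ≠ j) (γ a b : F) :
    tw i j γ (pv i j a b) = pv i j (γ * a) (γ⁻¹ * b) := by
  funext k
  unfold tw
  by_cases hi : k = i
  · subst hi; rw [if_pos rfl, pv_left hij, pv_left hij]
  · by_cases hj : k = j
    · subst hj; rw [if_neg hi, if_pos rfl, pv_right hij, pv_right hij]
    · rw [if_neg hi, if_neg hj, pv_other hi hj, pv_other hi hj]

theorem tw_pv_other {i j k l : Fin n} (hki : k ≠ i) (hkj : k ≠ j) (hli : l ≠ i) (hlj : l ≠ j)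
    (γ c d : F) : tw i j γ (pv k l c d) = pv k l c d := by
  funext m
  unfold tw
  by_cases hi : m = i
  · subst hi; rw [if_pos rfl, pv_other (Ne.symm hki) (Ne.symm hli), mul_zero]
  · by_cases hj : m = j
    · subst hj; rw [if_neg hi, if_pos rfl, pv_other (Ne.symm hkj) (Ne.symm hlj), mul_zero]
    · rw [if_neg hi, if_neg hj]

section adjust

variable (hF : Fintype.card F = 2 ^ 2) {H : Subgroup ↥(Cfsg.SU n F 2)}
  (hP : ∀ i j : Fin n, i ≠ j → Good hF H {i, j})

include hP in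
theorem q4_adj12 {i j k l : Fin n} (hij : i ≠ j) (hik : i ≠ k) (hil : i ≠ l) (hjk : j ≠ k)
    (hjl : j ≠ l) {a b c d : F} (h : q4 i j k l a b c d ∈ Cen hF H) {a' : F} (ha : a ≠ 0)
    (ha' : a' ≠ 0) : q4 i j k l a' (a / a' * b) c d ∈ Cen hF H := by
  have hγ : a' / a ≠ 0 := div_ne_zero ha' ha
  have := Cen_twist hF hij (hP i j hij) hγ h
  unfold q4 at this ⊢
  rw [tw_add, tw_pv_same hij, tw_pv_other (Ne.symm hik) (Ne.symm hjk) (Ne.symm hil)
    (Ne.symm hjl)] at this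
  have e1 : a' / a * a = a' := div_mul_cancel₀ _ ha
  have e2 : (a' / a)⁻¹ = a / a' := inv_div _ _
  rwa [e1, e2] at this

include hP in
theorem q4_all {i j k l : Fin n} (hij : i ≠ j) (hik : i ≠ k) (hil : i ≠ l) (hjk : j ≠ k)
    (hjl : j ≠ l) (hkl : k ≠ l) {a0 b0 c0 d0 : F} (ha0 : a0 ≠ 0) (hb0 : b0 ≠ 0) (hc0 : c0 ≠ 0)
    (hd0 : d0 ≠ 0) (h0 : q4 i j k l a0 b0 c0 d0 ∈ Cen hF H) {a b c d : F} (ha : a ≠ 0)
    (hb : b ≠ 0) (hc : c ≠ 0) (hd : d ≠ 0) : q4 i j k l a b c d ∈ Cen hF H := by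
  obtain ⟨lam, hlam⟩ : ∃ lam : F, lam = (a * b * c * d) / (a0 * b0 * c0 * d0) := ⟨_, rfl⟩
  have hX : a0 * b0 * c0 * d0 ≠ 0 := mul_ne_zero (mul_ne_zero (mul_ne_zero ha0 hb0) hc0) hd0
  have hY : a * b * c * d ≠ 0 := mul_ne_zero (mul_ne_zero (mul_ne_zero ha hb) hc) hd
  have hlam0 : lam ≠ 0 := by rw [hlam]; exact div_ne_zero hY hX
  have hE : lam * (a0 * b0 * c0 * d0) = a * b * c * d := by
    rw [hlam]; exact div_mul_cancel₀ _ hX
  have h3 := cube_one hF hlam0
  have h1 := Cen_smul hF lam h0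
  rw [q4_smul] at h1
  -- first coordinate
  have h2 := q4_adj12 hF hP hij hik hil hjk hjl h1 (mul_ne_zero hlam0 ha0) ha
  obtain ⟨b1, hb1⟩ : ∃ b1 : F, b1 = lam * a0 / a * (lam * b0) := ⟨_, rfl⟩
  rw [← hb1] at h2
  have hb10 : b1 ≠ 0 := by
    rw [hb1]
    exact mul_ne_zero (div_ne_zero (mul_ne_zero hlam0 ha0) ha) (mul_ne_zero hlam0 hb0)
  -- second coordinate
  rw [q4_perm23] at h2
  have h4 := q4_adj12 hF hP hjk (Ne.symm hij) hjl (Ne.symm hik) hkl h2 hb10 hb
  obtain ⟨c1, hc1⟩ : ∃ c1 : F, c1 = b1 / b * (lam * c0) := ⟨_, rfl⟩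
  rw [← hc1, ← q4_perm23] at h4
  have hc10 : c1 ≠ 0 := by
    rw [hc1]
    exact mul_ne_zero (div_ne_zero hb10 hb) (mul_ne_zero hlam0 hc0)
  -- third coordinate
  rw [q4_perm34] at h4
  have h5 := q4_adj12 hF hP hkl (Ne.symm hik) (Ne.symm hjk) (Ne.symm hil) (Ne.symm hjl) h4
    hc10 hc
  rw [← q4_perm34] at h5
  have e : c1 / c * (lam * d0) = d := by
    rw [hc1, hb1]
    field_simp
    linear_combination (lam ^ 3) * hE + (a * b * c * d) * h3
  rwa [e] at h5

theorem inj4 {α : Type*} {i j k l : α} (hij : i ≠ j) (hik : i ≠ k) (hil : i ≠ l) (hjk : j ≠ k)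
    (hjl : j ≠ l) (hkl : k ≠ l) : Function.Injective ![i, j, k, l] := by
  intro x y hxy
  fin_cases x <;> fin_cases y <;> simp_all

include hP in
theorem q4_any {i0 j0 k0 l0 : Fin n} (hij0 : i0 ≠ j0) (hik0 : i0 ≠ k0) (hil0 : i0 ≠ l0)
    (hjk0 : j0 ≠ k0) (hjl0 : j0 ≠ l0) (hkl0 : k0 ≠ l0) {a0 b0 c0 d0 : F} (ha0 : a0 ≠ 0)
    (hb0 : b0 ≠ 0) (hc0 : c0 ≠ 0) (hd0 : d0 ≠ 0) (h0 : q4 i0 j0 k0 l0 a0 b0 c0 d0 ∈ Cen hF H)
    {i j k l : Fin n} (hij : i ≠ j) (hik : i ≠ k) (hil : i ≠ l) (hjk : j ≠ k)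
    (hjl : j ≠ l) (hkl : k ≠ l) {a b c d : F} (ha : a ≠ 0)
    (hb : b ≠ 0) (hc : c ≠ 0) (hd : d ≠ 0) : q4 i j k l a b c d ∈ Cen hF H := by
  obtain ⟨σ, hσ⟩ := Equiv.Perm.exists_extending_pair ![i, j, k, l] ![i0, j0, k0, l0]
    (inj4 hij hik hil hjk hjl hkl) (inj4 hij0 hik0 hil0 hjk0 hjl0 hkl0)
  have e0 : σ i = i0 := hσ 0
  have e1 : σ j = j0 := hσ 1
  have e2 : σ k = k0 := hσ 2
  have e3 : σ l = l0 := hσ 3
  have h1 : q4 (σ i) (σ j) (σ k) (σ l) a b c d ∈ Cen hF H := by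
    rw [e0, e1, e2, e3]
    exact q4_all hF hP hij0 hik0 hil0 hjk0 hjl0 hkl0 ha0 hb0 hc0 hd0 h0 ha hb hc hd
  have h2 := Cen_perm hF hP σ _ h1
  rwa [q4_comp] at h2

end adjust

/-! ### parity of the weight -/

theorem hf_self_card (hF : Fintype.card F = 2 ^ 2) (v : Fin n → F) :
    hf 2 v v = ((supp v).card : F) := by
  classical
  unfold hf Cfsg.hermForm supp
  rw [Finset.card_filter]
  push_cast
  apply Finset.sum_congr rfl
  intro i _
  by_cases h : v i = 0
  · simp [h]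
  · rw [if_pos h, ← pow_succ', cube_one hF h]

theorem card_even (hF : Fintype.card F = 2 ^ 2) {v : Fin n → F} (hv : hf 2 v v = 0) :
    Even (supp v).card := by
  rw [hf_self_card hF] at hv
  rcases Nat.even_or_odd (supp v).card with h | h
  · exact h
  · exfalso
    obtain ⟨t, ht⟩ := h
    rw [ht] at hv
    push_cast at hv
    have : (1 : F) = 0 := by linear_combination hv - (t : F) * two_eq_zero hF
    exact one_ne_zero this

theorem exists_four {α : Type*} [DecidableEq α] {s : Finset α} (h : 4 ≤ s.card) :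
    ∃ a b c d, a ∈ s ∧ b ∈ s ∧ c ∈ s ∧ d ∈ s ∧ a ≠ b ∧ a ≠ c ∧ a ≠ d ∧ b ≠ c ∧ b ≠ d ∧
      c ≠ d := by
  obtain ⟨a, ha⟩ := Finset.card_pos.1 (show 0 < s.card by omega)
  have h3 : 2 < (s.erase a).card := by rw [Finset.card_erase_of_mem ha]; omega
  obtain ⟨b, c, d, hb, hc, hd, hbc, hbd, hcd⟩ := Finset.two_lt_card_iff.1 h3
  rw [Finset.mem_erase] at hb hc hd
  exact ⟨a, b, c, d, ha, hb.2, hc.2, hd.2, Ne.symm hb.1, Ne.symm hc.1, Ne.symm hd.1, hbc, hbd,
    hcd⟩

/-- from good pairs and the vectors of weight four to all isotropic vectors -/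
theorem all_two (hF : Fintype.card F = 2 ^ 2) (hn : 2 ≤ n) {H : Subgroup ↥(Cfsg.SU n F 2)}
    (hP : ∀ i j : Fin n, i ≠ j → Good hF H {i, j})
    (hQ : ∀ i j k l : Fin n, i ≠ j → i ≠ k → i ≠ l → j ≠ k → j ≠ l → k ≠ l →
      ∀ a b c d : F, a ≠ 0 → b ≠ 0 → c ≠ 0 → d ≠ 0 → q4 i j k l a b c d ∈ Cen hF H)
    (v : Fin n → F) (hv : hf 2 v v = 0) : v ∈ Cen hF H := by
  suffices hk : ∀ k : ℕ, ∀ v : Fin n → F, hf 2 v v = 0 → (supp v).card ≤ k → v ∈ Cen hF H from
    hk _ v hv le_rfl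
  intro k
  induction k with
  | zero =>
    intro v hv hc
    have : supp v = ∅ := Finset.card_eq_zero.1 (Nat.le_zero.1 hc)
    rw [eq_zero_of_supp_empty this]
    exact Cen_zero hF
  | succ k ih =>
    intro v hv hc
    by_cases hbig : 2 < (supp v).card
    · have h4 : 4 ≤ (supp v).card := by
        obtain ⟨t, ht⟩ := card_even hF hv
        omega
      obtain ⟨i1, i2, i3, i4, m1, m2, m3, m4, h12, h13, h14, h23, h24, h34⟩ := exists_four h4
      have m1' := m1
      have m2' := m2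
      rw [mem_supp] at m1 m2 m3 m4
      obtain ⟨ω, hω0, hω1, hω⟩ := exists_omega hF
      have cω := cube_one hF hω0
      obtain ⟨y, hy⟩ : ∃ y, y = q4 i1 i2 i3 i4 (v i1) (v i2) (ω ^ 2 * v i3) (ω * v i4) :=
        ⟨_, rfl⟩
      have hyC : y ∈ Cen hF H := by
        rw [hy]
        exact hQ i1 i2 i3 i4 h12 h13 h14 h23 h24 h34 _ _ _ _ m1 m2
          (mul_ne_zero (pow_ne_zero _ hω0) m3) (mul_ne_zero hω0 m4)
      have hvy : hf 2 v y = 1 := by
        rw [hy]
        unfold q4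
        rw [hf_add_right hF, hf_pv_right hF, hf_pv_right hF]
        have c1 := cube_one hF m1
        have c2 := cube_one hF m2
        have c3 := cube_one hF m3
        have c4 := cube_one hF m4
        linear_combination c1 + c2 + ω ^ 4 * c3 + ω ^ 2 * c4 + hω + ω * cω
      have hg : tv hF y 1 ∈ H := hyC.2 1 (tz_one hF)
      apply Cen_of_act hF hg
      have hact : act (tv hF y 1) v = v + y := by
        rw [tv_act hF hyC.1 (tz_one hF), hvy, mul_one, one_smul]
      apply ih _ (hf_act_self _ hv)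
      rw [hact]
      have hsub : supp (v + y) ⊆ ((supp v).erase i1).erase i2 := by
        intro m hm
        rw [mem_supp, Pi.add_apply] at hm
        have hm1 : m ≠ i1 := by
          rintro rfl
          apply hm
          rw [hy, q4_at1 h12 h13 h14]
          exact add_self_zero hF _
        have hm2 : m ≠ i2 := by
          rintro rfl
          apply hm
          rw [hy, q4_at2 h12 h23 h24]
          exact add_self_zero hF _
        rw [Finset.mem_erase, Finset.mem_erase, mem_supp]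
        refine ⟨hm2, hm1, ?_⟩
        intro hvm
        apply hm
        have hm3 : m ≠ i3 := by rintro rfl; exact m3 hvm
        have hm4 : m ≠ i4 := by rintro rfl; exact m4 hvm
        rw [hvm, hy, q4_other hm1 hm2 hm3 hm4, add_zero]
      have h1 := Finset.card_le_card hsub
      rw [Finset.card_erase_of_mem (Finset.mem_erase.2 ⟨Ne.symm h12, m2'⟩),
        Finset.card_erase_of_mem m1'] at h1
      omega
    · -- support of size at most two
      push_neg at hbig
      have hn2 : Nontrivial (Fin n) := Fin.nontrivial_iff_two_le.2 hn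
      have hpair : ∃ i j : Fin n, i ≠ j ∧ supp v ⊆ {i, j} := by
        rcases Nat.lt_or_ge (supp v).card 2 with h | h
        · rcases Nat.lt_or_ge (supp v).card 1 with h0 | h0
          · have : supp v = ∅ := Finset.card_eq_zero.1 (by omega)
            obtain ⟨i, j, hij⟩ := exists_pair_ne (Fin n)
            exact ⟨i, j, hij, by rw [this]; exact Finset.empty_subset _⟩
          · obtain ⟨i, hi⟩ := Finset.card_eq_one.1 (show (supp v).card = 1 by omega)
            obtain ⟨j, hj⟩ := exists_ne i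
            refine ⟨i, j, Ne.symm hj, ?_⟩
            rw [hi]
            intro m hm
            rw [Finset.mem_singleton] at hm
            rw [hm]; exact Finset.mem_insert_self _ _
        · obtain ⟨i, j, hij, hs⟩ := Finset.card_eq_two.1 (show (supp v).card = 2 by omega)
          exact ⟨i, j, hij, by rw [hs]⟩
      obtain ⟨i, j, hij, hs⟩ := hpair
      exact hP i j hij v hv (suppIn_of_supp_subset hs)

/-- the criterion for `q = 2` -/
theorem eq_top_two (hF : Fintype.card F = 2 ^ 2) (hn : 4 ≤ n) {H : Subgroup ↥(Cfsg.SU n F 2)}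
    (hP : ∀ i j : Fin n, i ≠ j → Good hF H {i, j})
    {i0 j0 k0 l0 : Fin n} (hij0 : i0 ≠ j0) (hik0 : i0 ≠ k0) (hil0 : i0 ≠ l0)
    (hjk0 : j0 ≠ k0) (hjl0 : j0 ≠ l0) (hkl0 : k0 ≠ l0) {a0 b0 c0 d0 : F} (ha0 : a0 ≠ 0)
    (hb0 : b0 ≠ 0) (hc0 : c0 ≠ 0) (hd0 : d0 ≠ 0) (h0 : q4 i0 j0 k0 l0 a0 b0 c0 d0 ∈ Cen hF H) :
    H = ⊤ := by
  apply eq_top_of_Cen hF (by omega) (fun h => by omega)
  apply all_two hF (by omega) hP
  intro i j k l hij hik hil hjk hjl hkl a b c d ha hb hc hd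
  exact q4_any hF hP hij0 hik0 hil0 hjk0 hjl0 hkl0 ha0 hb0 hc0 hd0 h0 hij hik hil hjk hjl hkl
    ha hb hc hd

end Cfsg.Agent.Lib.H15.SUGen
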