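import Cfsg.Agent.Lib.H15.SUGenK

/-!
# Generation of `SU_n(2)`: tools for the explicit generators
-/

set_option autoImplicit false
set_option linter.unusedSectionVars false
set_option linter.unusedVariables false
set_option linter.unusedSimpArgs false

namespace Cfsg.Agent.Lib.H15.SUGen

open Matrix Cfsg.Agent.Lib.H4 Cfsg.Agent.Lib.H2.Unitary Cfsg.Agent.Lib.H2.Herm

variable {F : Type*} [Field F] [Fintype F] {q n : ℕ}

/-- moving a good pair by a monomial element -/
theorem good_mon (hF : Fintype.card F = q ^ 2) {H : Subgroup ↥(Cfsg.SU n F q)}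
    {g : ↥(Cfsg.SU n F q)} (hgH : g ∈ H) (σ : Equiv.Perm (Fin n)) (s : Fin n → F)
    (hs : ∀ k, s k ≠ 0) (hg : ∀ (x : Fin n → F) (k : Fin n), act g x k = s k * x (σ k))
    {i j : Fin n} (h : Good hF H {σ i, σ j}) : Good hF H {i, j} := by
  intro v hv hsupp
  have hv' : act g (act g⁻¹ v) ∈ Cen hF H := by
    apply Cen_act hF hgH
    apply h _ (hf_act_self g⁻¹ hv)
    intro k hk
    have h1 := hg (act g⁻¹ v) (σ.symm k)
    rw [act_act_inv, Equiv.apply_symm_apply] at h1
    have h2 : v (σ.symm k) = 0 := by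
      apply hsupp
      rw [Finset.mem_insert, Finset.mem_singleton] at hk ⊢
      push_neg at hk ⊢
      exact ⟨fun h => hk.1 (by rw [← h, Equiv.apply_symm_apply]),
        fun h => hk.2 (by rw [← h, Equiv.apply_symm_apply])⟩
    rw [h2] at h1
    rcases mul_eq_zero.1 h1.symm with h3 | h3
    · exact absurd h3 (hs _)
    · exact h3
  rwa [act_act_inv] at hv'

theorem monSU_act_pv (σ : Equiv.Perm (Fin n)) (d : Fin n → F) (hd : ∀ i, d i * d i ^ q = 1)
    (hdet : (∏ i, d i) * (((Equiv.Perm.sign σ : ℤˣ) : ℤ) : F) = 1) (i j : Fin n) (α β : F) :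
    act (monSU σ d hd hdet) (pv (σ i) (σ j) α β) = pv i j (d i * α) (d j * β) := by
  funext k
  rw [monSU_act, pv_apply, pv_apply]
  simp only [EmbeddingLike.apply_eq_iff_eq]
  by_cases h1 : k = i
  · subst h1
    by_cases h2 : k = j
    · subst h2; simp; ring
    · simp [h2]
  · by_cases h2 : k = j
    · subst h2; simp [h1]
    · simp [h1, h2]

theorem inv_pow_perm (σ : Equiv.Perm (Fin n)) (d : Fin n → F) (hinv : ∀ i, d (σ i) = d i)
    (k : ℕ) (i : Fin n) : d ((σ ^ k) i) = d i := by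
  induction k with
  | zero => rfl
  | succ k ih => rw [pow_succ', Equiv.Perm.mul_apply, hinv, ih]

theorem monSU_pow_act (σ : Equiv.Perm (Fin n)) (d : Fin n → F) (hd : ∀ i, d i * d i ^ q = 1)
    (hdet : (∏ i, d i) * (((Equiv.Perm.sign σ : ℤˣ) : ℤ) : F) = 1)
    (hinv : ∀ i, d (σ i) = d i) (k : ℕ) (x : Fin n → F) (i : Fin n) :
    act (monSU σ d hd hdet ^ k) x i = d i ^ k * x ((σ ^ k) i) := by
  induction k generalizing x with
  | zero => rw [pow_zero, act_one, pow_zero, one_mul, pow_zero]; rfl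
  | succ k ih =>
    rw [pow_succ (monSU σ d hd hdet), act_mul, ih, monSU_act, inv_pow_perm σ d hinv,
      pow_succ (d i), pow_succ' σ, Equiv.Perm.mul_apply]
    ring

theorem monSU_cube (σ : Equiv.Perm (Fin n)) (d : Fin n → F) (hd : ∀ i, d i * d i ^ q = 1)
    (hdet : (∏ i, d i) * (((Equiv.Perm.sign σ : ℤˣ) : ℤ) : F) = 1)
    (hinv : ∀ i, d (σ i) = d i) (hσ : σ ^ 3 = 1) (hd3 : ∀ i, d i ^ 3 = 1) :
    monSU σ d hd hdet ^ 3 = 1 := by
  apply ext_act
  intro x
  funext i
  rw [monSU_pow_act σ d hd hdet hinv, hσ, hd3, one_mul, act_one]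
  rfl

theorem comm_orders {G : Type*} [Group G] {H : Subgroup G} {t d : G} (hc : d * t * d⁻¹ = t)
    (ht : t ^ 2 = 1) (hd : d ^ 3 = 1) (hb : t * d ∈ H) : t ∈ H ∧ d ∈ H := by
  have hcomm : Commute t d := by
    show t * d = d * t
    have : d * t = t * d := by
      calc d * t = d * t * d⁻¹ * d := by group
        _ = t * d := by rw [hc]
    exact this.symm
  have h3 : (t * d) ^ 3 = t := by
    rw [hcomm.mul_pow, hd, mul_one, pow_succ, ht, one_mul]
  have h4 : (t * d) ^ 4 = d := by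
    rw [hcomm.mul_pow, show t ^ 4 = (t ^ 2) ^ 2 by rw [← pow_mul], ht, one_pow, one_mul, pow_succ,
      hd, one_mul]
  exact ⟨h3 ▸ H.pow_mem hb 3, h4 ▸ H.pow_mem hb 4⟩

/-- extracting the transvection and the monomial part from their product -/
theorem mem_of_prod (hF : Fintype.card F = 2 ^ 2) {z : Fin n → F} (hz : hf 2 z z = 0)
    {d : ↥(Cfsg.SU n F 2)} {l : F} (hl : l ≠ 0) (hdz : act d z = l • z) (hd3 : d ^ 3 = 1)
    {H : Subgroup ↥(Cfsg.SU n F 2)} (hb : tv hF z 1 * d ∈ H) : z ∈ Cen hF H ∧ d ∈ H := by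
  have hc : d * tv hF z 1 * d⁻¹ = tv hF z 1 := by
    rw [conj_tv hF d hz (tz_one hF), hdz, tv_smul hF hz (tz_one hF)]
    congr 1
    rw [mul_one, ← pow_succ']
    exact cube_one hF hl
  have ht : tv hF z (1 : F) ^ 2 = 1 := by
    rw [tv_pow hF hz (tz_one hF)]
    have : ((2 : ℕ) : F) * 1 = 0 := by
      push_cast
      rw [mul_one]; exact two_eq_zero hF
    rw [this, tv_zero hF hz]
  obtain ⟨h1, h2⟩ := comm_orders hc ht hd3 hb
  exact ⟨Cen_of_one hF hz h1, h2⟩

theorem sgn_two (h2 : (2 : F) = 0) (m : ℕ) (k : Fin (m + 1)) : sgn F m k = 1 := by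
  unfold sgn
  split_ifs
  · have : (-1 : F) = 1 := by linear_combination -h2
    rw [this, one_pow]
  · rfl

/-! ### from one adjacent pair to all pairs -/

variable {m : ℕ}

theorem pairs_of_shift (hF : Fintype.card F = q ^ 2) {H : Subgroup ↥(Cfsg.SU (m + 1) F q)}
    {a : ↥(Cfsg.SU (m + 1) F q)} (haH : a ∈ H) (s : Fin (m + 1) → F) (hs : ∀ k, s k ≠ 0)
    (ha : ∀ (x : Fin (m + 1) → F) (k : Fin (m + 1)), act a x k = s k * x (k - 1))
    (h01 : Good hF H {0, 1}) : ∀ i j : Fin (m + 1), i ≠ j → Good hF H {i, j} := by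
  have hadj : ∀ i : Fin (m + 1), Good hF H {i, i + 1} := by
    intro i
    induction i using Fin.induction with
    | zero => rw [zero_add]; exact h01
    | succ i ih =>
      have := good_shift hF haH s hs ha ih
      rw [Fin.coeSucc_eq_succ] at this
      exact this
  have hlt : ∀ j i : Fin (m + 1), i < j → Good hF H {i, j} := by
    intro j
    induction j using Fin.induction with
    | zero => intro i hi; exact absurd hi (Fin.not_lt_zero i)
    | succ j ih =>
      intro i hi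
      have hle : i ≤ j.castSucc := Fin.le_castSucc_iff.2 hi
      have hadj' : Good hF H {j.castSucc, j.succ} := by
        have := hadj j.castSucc
        rwa [Fin.coeSucc_eq_succ] at this
      rcases eq_or_lt_of_le hle with h | h
      · rw [h]; exact hadj'
      · exact good_trans hF (ne_of_lt h) (ne_of_lt Fin.castSucc_lt_succ) (ne_of_lt hi)
          (ih i h) hadj'
  intro i j hij
  rcases lt_or_gt_of_ne hij with h | h
  · exact hlt j i h
  · rw [Finset.pair_comm]; exact hlt i j h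

/-! ### the three-cycle on the first three coordinates -/

/-- the three-cycle `0 ↦ 1 ↦ 2 ↦ 0` -/
def sig3 (m : ℕ) : Equiv.Perm (Fin (m + 3 + 1)) := Equiv.swap 0 1 * Equiv.swap 1 2

theorem sig3_0 : sig3 m 0 = 1 := by
  unfold sig3
  rw [Equiv.Perm.mul_apply, Equiv.swap_apply_of_ne_of_ne f01 f02, Equiv.swap_apply_left]

theorem sig3_1 : sig3 m 1 = 2 := by
  unfold sig3
  rw [Equiv.Perm.mul_apply, Equiv.swap_apply_left,
    Equiv.swap_apply_of_ne_of_ne f02.symm f12.symm]

theorem sig3_2 : sig3 m 2 = 0 := by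
  unfold sig3
  rw [Equiv.Perm.mul_apply, Equiv.swap_apply_right, Equiv.swap_apply_right]

theorem sig3_other {k : Fin (m + 3 + 1)} (h0 : k ≠ 0) (h1 : k ≠ 1) (h2 : k ≠ 2) :
    sig3 m k = k := by
  unfold sig3
  rw [Equiv.Perm.mul_apply, Equiv.swap_apply_of_ne_of_ne h1 h2,
    Equiv.swap_apply_of_ne_of_ne h0 h1]

theorem sig3_3 : sig3 m 3 = 3 := sig3_other f03.symm f13.symm f23.symm

theorem sig3_sign : Equiv.Perm.sign (sig3 m) = 1 := by
  unfold sig3
  rw [Equiv.Perm.sign_mul, Equiv.Perm.sign_swap f01, Equiv.Perm.sign_swap f12]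
  rfl

theorem sig3_cube : sig3 m ^ 3 = 1 := by
  have h : (sig3 m).IsThreeCycle := by
    unfold sig3
    rw [Equiv.swap_comm 0 1]
    exact Equiv.Perm.isThreeCycle_swap_mul_swap_same f01.symm f12 f02
  have h2 := pow_orderOf_eq_one (sig3 m)
  rwa [h.orderOf] at h2

theorem sig3_det (d : Fin (m + 3 + 1) → F) (h : ∏ i, d i = 1) :
    (∏ i, d i) * (((Equiv.Perm.sign (sig3 m) : ℤˣ) : ℤ) : F) = 1 := by
  rw [sig3_sign, h]; simp

theorem cube_ite {θ : F} (hθ : θ ^ 3 = 1) (c : Prop) [Decidable c] :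
    (if c then θ else 1) ^ 3 = 1 := by
  split_ifs
  · exact hθ
  · exact one_pow 3

/-! ### the standard vector of weight four -/

/-- `e_0 + e_1 + e_2 + e_3` -/
def z4 (F : Type*) [Field F] (m : ℕ) : Fin (m + 3 + 1) → F := q4 0 1 2 3 1 1 1 1

theorem z4_iso (hF : Fintype.card F = 2 ^ 2) : hf 2 (z4 F m) (z4 F m) = 0 := by
  unfold z4 q4
  rw [hf_add_left, hf_add_right hF, hf_add_right hF, hf_pv_pv hF f01, hf_pv_pv hF f23,
    hf_pv_right hF, hf_pv_right hF, pv_other f02.symm f12.symm, pv_other f03.symm f13.symm,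
    pv_other f02 f03, pv_other f12 f13]
  linear_combination 2 * two_eq_zero hF

end Cfsg.Agent.Lib.H15.SUGen
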