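import Cfsg.Agent.Lib.H15.SUGenL

/-!
# Two generators of `SU_4(2)`
-/

set_option autoImplicit false
set_option linter.unusedSectionVars false
set_option linter.unusedVariables false
set_option linter.unusedSimpArgs false

namespace Cfsg.Agent.Lib.H15.SUGen

open Matrix Cfsg.Agent.Lib.H4 Cfsg.Agent.Lib.H2.Unitary Cfsg.Agent.Lib.H2.Herm

variable {F : Type*} [Field F] [Fintype F]

theorem fs30 : (3 : Fin (0 + 3 + 1)) + 1 = 0 := by decide

/-- the diagonal twist `(ω, ω², 1, 1)` -/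
def eps4 (ω : F) (k : Fin (0 + 3 + 1)) : F :=
  (if k = 0 then ω else 1) * (if k = 1 then ω ^ 2 else 1)

theorem eps4_0 (ω : F) : eps4 ω 0 = ω := by
  unfold eps4
  rw [if_pos rfl, if_neg f01, mul_one]

theorem eps4_1 (ω : F) : eps4 ω 1 = ω ^ 2 := by
  unfold eps4
  rw [if_neg f01.symm, if_pos rfl, one_mul]

theorem eps4_2 (ω : F) : eps4 ω 2 = 1 := by
  unfold eps4
  rw [if_neg f02.symm, if_neg f12.symm, one_mul]

theorem eps4_3 (ω : F) : eps4 ω 3 = 1 := by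
  unfold eps4
  rw [if_neg f03.symm, if_neg f13.symm, one_mul]

theorem eps4_norm {ω : F} (h1 : ω * ω ^ 2 = 1) (h2 : ω ^ 2 * (ω ^ 2) ^ 2 = 1)
    (k : Fin (0 + 3 + 1)) : eps4 ω k * eps4 ω k ^ 2 = 1 := by
  unfold eps4
  exact norm_mul (norm_ite h1 _) (norm_ite h2 _)

theorem eps4_prod {ω : F} (h1 : ω * ω ^ 2 = 1) : ∏ k, eps4 ω k = 1 := by
  unfold eps4
  rw [Finset.prod_mul_distrib, Finset.prod_ite_eq' Finset.univ (0 : Fin (0 + 3 + 1)),
    Finset.prod_ite_eq' Finset.univ (1 : Fin (0 + 3 + 1))]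
  simp only [Finset.mem_univ, if_true]
  exact h1

theorem eps4_ne {ω : F} (h1 : ω * ω ^ 2 = 1) (h2 : ω ^ 2 * (ω ^ 2) ^ 2 = 1)
    (k : Fin (0 + 3 + 1)) : eps4 ω k ≠ 0 := by
  intro h
  have := eps4_norm h1 h2 k
  rw [h, zero_mul] at this
  exact zero_ne_one this

theorem exists_gen_two_four (hF : Fintype.card F = 2 ^ 2) :
    ∃ a b : ↥(Cfsg.SU (0 + 3 + 1) F 2), Subgroup.closure {a, b} = ⊤ := by
  obtain ⟨ω, hω0, hω1, hω⟩ := exists_omega hF
  have cω := cube_one hF hω0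
  have h2 := two_eq_zero hF
  have hn1 : ω * ω ^ 2 = 1 := by rw [← pow_succ']; exact cω
  have hn2 : ω ^ 2 * (ω ^ 2) ^ 2 = 1 := by linear_combination (ω ^ 3 + 1) * cω
  obtain ⟨a, haD⟩ : ∃ a : ↥(Cfsg.SU (0 + 3 + 1) F 2),
      a = dgSU (eps4 ω) (eps4_norm hn1 hn2) (eps4_prod hn1) * cycSU hF (0 + 3) := ⟨_, rfl⟩
  have ha : ∀ (x : Fin (0 + 3 + 1) → F) (k : Fin (0 + 3 + 1)),
      act a x k = eps4 ω k * x (k - 1) := by
    intro x k
    rw [haD, act_mul, dgSU_act, cycSU_act, sgn_two h2, one_mul]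
  obtain ⟨P, hPD⟩ : ∃ P : ↥(Cfsg.SU (0 + 3 + 1) F 2),
      P = monSU (sig3 0) (fun _ => (1 : F)) (fun _ => by rw [one_pow, mul_one])
        (sig3_det _ (by simp)) := ⟨_, rfl⟩
  have hP3 : P ^ 3 = 1 := by
    rw [hPD]
    exact monSU_cube _ _ _ _ (fun _ => rfl) sig3_cube (fun _ => one_pow 3)
  have hPact : ∀ (i j : Fin (0 + 3 + 1)) (α β : F),
      act P (pv (sig3 0 i) (sig3 0 j) α β) = pv i j α β := by
    intro i j α β
    rw [hPD, monSU_act_pv, one_mul, one_mul]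
  have hPz : act P (z4 F 0) = (1 : F) • z4 F 0 := by
    have e : z4 F 0 = pv (sig3 0 0) (sig3 0 1) 1 1 + pv (sig3 0 2) (sig3 0 3) 1 1 := by
      rw [sig3_0, sig3_1, sig3_2, sig3_3]
      unfold z4 q4 pv
      module
    rw [one_smul]
    nth_rewrite 1 [e]
    rw [act_add, hPact, hPact]
    rfl
  refine ⟨a, tv hF (z4 F 0) 1 * P, ?_⟩
  obtain ⟨H, hH⟩ : ∃ H : Subgroup ↥(Cfsg.SU (0 + 3 + 1) F 2),
      H = Subgroup.closure {a, tv hF (z4 F 0) 1 * P} := ⟨_, rfl⟩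
  rw [← hH]
  have haH : a ∈ H := by
    rw [hH]; exact Subgroup.subset_closure (Set.mem_insert _ _)
  have hbH : tv hF (z4 F 0) 1 * P ∈ H := by
    rw [hH]; exact Subgroup.subset_closure (Set.mem_insert_of_mem _ rfl)
  obtain ⟨hzC, hPH⟩ := mem_of_prod hF (z4_iso hF) one_ne_zero hPz hP3 hbH
  -- the image of `z` under `a`
  have haz : act a (z4 F 0) = pv 1 2 (ω ^ 2) 1 + pv 3 0 1 ω := by
    unfold z4 q4
    rw [act_add, cyc_act_pv (eps4 ω) ha, cyc_act_pv (eps4 ω) ha, fs01, fs12, fs23, fs30, eps4_0,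
      eps4_1, eps4_2, eps4_3, mul_one, mul_one, mul_one]
  have hazC : pv 1 2 (ω ^ 2) 1 + pv 3 0 1 ω ∈ Cen hF H := by
    rw [← haz]; exact Cen_act hF haH hzC
  have hform : hf 2 (pv (1 : Fin (0 + 3 + 1)) 2 (ω ^ 2) 1 + pv 3 0 1 ω) (z4 F 0) = 1 := by
    unfold z4 q4
    rw [hf_add_right hF, hf_pv_right hF, hf_pv_right hF]
    simp only [Pi.add_apply]
    rw [pv_other f01 f02, pv_right f03.symm, pv_left f12, pv_other f13 f01.symm, pv_right f12,
      pv_other f23 f02.symm, pv_other f13.symm f23.symm, pv_left f03.symm]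
    linear_combination hω
  have hw : pv (0 : Fin (0 + 3 + 1)) 1 (ω ^ 2) ω ∈ Cen hF H := by
    have h := Cen_line hF hzC hazC (tz_one hF)
    rw [hform, mul_one, one_smul] at h
    have e : pv (1 : Fin (0 + 3 + 1)) 2 (ω ^ 2) 1 + pv 3 0 1 ω + z4 F 0 =
        pv 0 1 (ω + 1) (ω ^ 2 + 1) + (2 : F) • (Pi.single 2 1 + Pi.single 3 1) := by
      unfold z4 q4 pv
      module
    have e1 : ω + 1 = ω ^ 2 := by linear_combination hω - ω ^ 2 * h2
    have e2 : ω ^ 2 + 1 = ω := by linear_combination hω - ω * h2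
    rw [e, e1, e2, h2, zero_smul, add_zero] at h
    exact h
  have h12 : pv (1 : Fin (0 + 3 + 1)) 2 1 1 ∈ Cen hF H := by
    have h := Cen_act hF haH hw
    rw [cyc_act_pv (eps4 ω) ha, fs01, fs12, eps4_1, eps4_2] at h
    have e : pv (1 : Fin (0 + 3 + 1)) 2 (ω ^ 2 * ω ^ 2) (1 * ω) = ω • pv 1 2 1 1 := by
      rw [pv_smul]
      congr 1
      · linear_combination ω * cω
      · ring
    rw [e] at h
    exact Cen_of_smul hF hω0 h
  have h01 : pv (0 : Fin (0 + 3 + 1)) 1 1 1 ∈ Cen hF H := by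
    have h := Cen_act hF hPH h12
    have e := hPact 0 1 1 1
    rw [sig3_0, sig3_1] at e
    rwa [e] at h
  have hG : Good hF H {(0 : Fin (0 + 3 + 1)), 1} := by
    apply plane_of_two hF f01 h01 hw
    rw [hf_pv_pv hF f01]
    intro h
    have : (1 : F) = 0 := by linear_combination hω - h
    exact one_ne_zero this
  have hPairs := pairs_of_shift hF haH (eps4 ω) (eps4_ne hn1 hn2) ha hG
  exact eq_top_two hF (by norm_num) hPairs f01 f02 f03 f12 f13 f23 one_ne_zero one_ne_zero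
    one_ne_zero one_ne_zero hzC

end Cfsg.Agent.Lib.H15.SUGen
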