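import Cfsg.Agent.Lib.H15.SUGenM

/-!
# Two generators of `SU_n(2)`, `n ≥ 5`
-/

set_option autoImplicit false
set_option linter.unusedSectionVars false
set_option linter.unusedVariables false
set_option linter.unusedSimpArgs false

namespace Cfsg.Agent.Lib.H15.SUGen

open Matrix Cfsg.Agent.Lib.H4 Cfsg.Agent.Lib.H2.Unitary Cfsg.Agent.Lib.H2.Herm

variable {F : Type*} [Field F] [Fintype F] {m : ℕ}

theorem fv4 : ((4 : Fin (m + 1 + 3 + 1)) : ℕ) = 4 := by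
  show 4 % (m + 1 + 3 + 1) = 4
  exact Nat.mod_eq_of_lt (by omega)

theorem f04 : (0 : Fin (m + 1 + 3 + 1)) ≠ 4 := by rw [Ne, Fin.ext_iff, fv0, fv4]; omega
theorem f14 : (1 : Fin (m + 1 + 3 + 1)) ≠ 4 := by rw [Ne, Fin.ext_iff, fv1, fv4]; omega
theorem f24 : (2 : Fin (m + 1 + 3 + 1)) ≠ 4 := by rw [Ne, Fin.ext_iff, fv2, fv4]; omega
theorem f34 : (3 : Fin (m + 1 + 3 + 1)) ≠ 4 := by rw [Ne, Fin.ext_iff, fv3, fv4]; omega

theorem fs34 : (3 : Fin (m + 1 + 3 + 1)) + 1 = 4 := by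
  apply Fin.ext
  rw [Fin.val_add, fv1, fv3, fv4]
  exact Nat.mod_eq_of_lt (by omega)

theorem sig3_4 : sig3 (m + 1) 4 = 4 := sig3_other f04.symm f14.symm f24.symm

/-- the constant function one -/
def one5 (F : Type*) [Field F] (m : ℕ) : Fin (m + 1 + 3 + 1) → F := fun _ => 1

/-- the diagonal entries `(δ, δ, δ, δ, δ², 1, …)` -/
def dd5 (m : ℕ) (δ : F) (k : Fin (m + 1 + 3 + 1)) : F :=
  (if k = 0 then δ else 1) * (if k = 1 then δ else 1) * (if k = 2 then δ else 1) *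
    (if k = 3 then δ else 1) * (if k = 4 then δ ^ 2 else 1)

theorem dd5_0 (δ : F) : dd5 m δ 0 = δ := by
  unfold dd5
  rw [if_pos rfl, if_neg f01, if_neg f02, if_neg f03, if_neg f04]; ring
theorem dd5_1 (δ : F) : dd5 m δ 1 = δ := by
  unfold dd5
  rw [if_neg f01.symm, if_pos rfl, if_neg f12, if_neg f13, if_neg f14]; ring
theorem dd5_2 (δ : F) : dd5 m δ 2 = δ := by
  unfold dd5
  rw [if_neg f02.symm, if_neg f12.symm, if_pos rfl, if_neg f23, if_neg f24]; ring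
theorem dd5_3 (δ : F) : dd5 m δ 3 = δ := by
  unfold dd5
  rw [if_neg f03.symm, if_neg f13.symm, if_neg f23.symm, if_pos rfl, if_neg f34]; ring
theorem dd5_4 (δ : F) : dd5 m δ 4 = δ ^ 2 := by
  unfold dd5
  rw [if_neg f04.symm, if_neg f14.symm, if_neg f24.symm, if_neg f34.symm, if_pos rfl]; ring

theorem dd5_norm {δ : F} (h1 : δ * δ ^ 2 = 1) (h2 : δ ^ 2 * (δ ^ 2) ^ 2 = 1)
    (k : Fin (m + 1 + 3 + 1)) : dd5 m δ k * dd5 m δ k ^ 2 = 1 := by
  unfold dd5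
  exact norm_mul (norm_mul (norm_mul (norm_mul (norm_ite h1 _) (norm_ite h1 _)) (norm_ite h1 _))
    (norm_ite h1 _)) (norm_ite h2 _)

theorem dd5_ne {δ : F} (h1 : δ * δ ^ 2 = 1) (h2 : δ ^ 2 * (δ ^ 2) ^ 2 = 1)
    (k : Fin (m + 1 + 3 + 1)) : dd5 m δ k ≠ 0 := by
  intro h
  have := dd5_norm (m := m) h1 h2 k
  rw [h, zero_mul] at this
  exact zero_ne_one this

theorem dd5_prod {δ : F} (h : δ ^ 3 = 1) : ∏ k, dd5 m δ k = 1 := by
  unfold dd5
  rw [Finset.prod_mul_distrib, Finset.prod_mul_distrib, Finset.prod_mul_distrib,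
    Finset.prod_mul_distrib,
    Finset.prod_ite_eq' Finset.univ (0 : Fin (m + 1 + 3 + 1)),
    Finset.prod_ite_eq' Finset.univ (1 : Fin (m + 1 + 3 + 1)),
    Finset.prod_ite_eq' Finset.univ (2 : Fin (m + 1 + 3 + 1)),
    Finset.prod_ite_eq' Finset.univ (3 : Fin (m + 1 + 3 + 1)),
    Finset.prod_ite_eq' Finset.univ (4 : Fin (m + 1 + 3 + 1))]
  simp only [Finset.mem_univ, if_true]
  linear_combination (δ ^ 3 + 1) * h

theorem dd5_cube {δ : F} (h : δ ^ 3 = 1) (k : Fin (m + 1 + 3 + 1)) : dd5 m δ k ^ 3 = 1 := by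
  have h2 : (δ ^ 2) ^ 3 = 1 := by linear_combination (δ ^ 3 + 1) * h
  unfold dd5
  rw [mul_pow, mul_pow, mul_pow, mul_pow, cube_ite h, cube_ite h, cube_ite h, cube_ite h,
    cube_ite h2]
  ring

theorem dd5_inv (δ : F) (k : Fin (m + 1 + 3 + 1)) : dd5 m δ (sig3 (m + 1) k) = dd5 m δ k := by
  by_cases h0 : k = 0
  · rw [h0, sig3_0, dd5_0, dd5_1]
  · by_cases h1 : k = 1
    · rw [h1, sig3_1, dd5_1, dd5_2]
    · by_cases h2 : k = 2
      · rw [h2, sig3_2, dd5_2, dd5_0]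
      · rw [sig3_other h0 h1 h2]

theorem exists_gen_two_ge_five (hF : Fintype.card F = 2 ^ 2) (m : ℕ) :
    ∃ a b : ↥(Cfsg.SU (m + 1 + 3 + 1) F 2), Subgroup.closure {a, b} = ⊤ := by
  obtain ⟨δ, hδ0, hδ1, hδ⟩ := exists_omega hF
  have cδ := cube_one hF hδ0
  have h2 := two_eq_zero hF
  have hn1 : δ * δ ^ 2 = 1 := by rw [← pow_succ']; exact cδ
  have hn2 : δ ^ 2 * (δ ^ 2) ^ 2 = 1 := by linear_combination (δ ^ 3 + 1) * cδ
  obtain ⟨a, haD⟩ : ∃ a : ↥(Cfsg.SU (m + 1 + 3 + 1) F 2), a = cycSU hF (m + 1 + 3) := ⟨_, rfl⟩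
  have ha : ∀ (x : Fin (m + 1 + 3 + 1) → F) (k : Fin (m + 1 + 3 + 1)),
      act a x k = one5 F m k * x (k - 1) := by
    intro x k
    rw [haD, cycSU_act, sgn_two h2]
    rfl
  obtain ⟨d, hdD⟩ : ∃ d : ↥(Cfsg.SU (m + 1 + 3 + 1) F 2),
      d = monSU (sig3 (m + 1)) (dd5 m δ) (dd5_norm hn1 hn2) (sig3_det _ (dd5_prod cδ)) :=
    ⟨_, rfl⟩
  have hd3 : d ^ 3 = 1 := by
    rw [hdD]
    exact monSU_cube _ _ _ _ (dd5_inv δ) sig3_cube (dd5_cube cδ)
  have hdact : ∀ (i j : Fin (m + 1 + 3 + 1)) (α β : F),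
      act d (pv (sig3 (m + 1) i) (sig3 (m + 1) j) α β) =
        pv i j (dd5 m δ i * α) (dd5 m δ j * β) := by
    intro i j α β
    rw [hdD, monSU_act_pv]
  have hdx : ∀ (x : Fin (m + 1 + 3 + 1) → F) (k : Fin (m + 1 + 3 + 1)),
      act d x k = dd5 m δ k * x (sig3 (m + 1) k) := by
    intro x k
    rw [hdD, monSU_act]
  have hdz : act d (z4 F (m + 1)) = δ • z4 F (m + 1) := by
    have e : z4 F (m + 1) =
        pv (sig3 (m + 1) 0) (sig3 (m + 1) 1) 1 1 + pv (sig3 (m + 1) 2) (sig3 (m + 1) 3) 1 1 := by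
      rw [sig3_0, sig3_1, sig3_2, sig3_3]
      unfold z4 q4 pv
      module
    nth_rewrite 1 [e]
    rw [act_add, hdact, hdact, dd5_0, dd5_1, dd5_2, dd5_3]
    unfold z4 q4 pv
    module
  refine ⟨a, tv hF (z4 F (m + 1)) 1 * d, ?_⟩
  obtain ⟨H, hH⟩ : ∃ H : Subgroup ↥(Cfsg.SU (m + 1 + 3 + 1) F 2),
      H = Subgroup.closure {a, tv hF (z4 F (m + 1)) 1 * d} := ⟨_, rfl⟩
  rw [← hH]
  have haH : a ∈ H := by
    rw [hH]; exact Subgroup.subset_closure (Set.mem_insert _ _)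
  have hbH : tv hF (z4 F (m + 1)) 1 * d ∈ H := by
    rw [hH]; exact Subgroup.subset_closure (Set.mem_insert_of_mem _ rfl)
  obtain ⟨hzC, hdH⟩ := mem_of_prod hF (z4_iso hF) hδ0 hdz hd3 hbH
  -- the image of `z` under `a`
  have haz : act a (z4 F (m + 1)) = pv 1 2 1 1 + pv 3 4 1 1 := by
    unfold z4 q4
    rw [act_add, cyc_act_pv (one5 F m) ha, cyc_act_pv (one5 F m) ha, fs01, fs12, fs23, fs34]
    simp only [one5, one_mul]
  have hazC : pv (1 : Fin (m + 1 + 3 + 1)) 2 (1 : F) 1 + pv 3 4 1 1 ∈ Cen hF H := by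
    rw [← haz]; exact Cen_act hF haH hzC
  have hform : hf 2 (pv (1 : Fin (m + 1 + 3 + 1)) 2 (1 : F) 1 + pv 3 4 1 1) (z4 F (m + 1)) = 1 := by
    unfold z4 q4
    rw [hf_add_right hF, hf_pv_right hF, hf_pv_right hF]
    simp only [Pi.add_apply]
    rw [pv_other f01 f02, pv_other f03 f04, pv_left f12, pv_other f13 f14, pv_right f12,
      pv_other f23 f24, pv_other f13.symm f23.symm, pv_left f34]
    linear_combination h2
  have hx0 : pv (0 : Fin (m + 1 + 3 + 1)) 4 (1 : F) 1 ∈ Cen hF H := by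
    have h := Cen_line hF hzC hazC (tz_one hF)
    rw [hform, mul_one, one_smul] at h
    have e : pv (1 : Fin (m + 1 + 3 + 1)) 2 (1 : F) 1 + pv 3 4 1 1 + z4 F (m + 1) =
        pv 0 4 1 1 + (2 : F) • (Pi.single 1 1 + Pi.single 2 1 + Pi.single 3 1) := by
      unfold z4 q4 pv
      module
    rw [e, h2, zero_smul, add_zero] at h
    exact h
  have hxA : pv (2 : Fin (m + 1 + 3 + 1)) 4 1 δ ∈ Cen hF H := by
    have h := Cen_act hF hdH hx0
    have e := hdact 2 4 1 1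
    rw [sig3_2, sig3_4] at e
    rw [e, dd5_2, dd5_4] at h
    have e' : pv (2 : Fin (m + 1 + 3 + 1)) 4 (δ * 1) (δ ^ 2 * 1) = δ • pv 2 4 1 δ := by
      rw [pv_smul]
      congr 1
      ring
    rw [e'] at h
    exact Cen_of_smul hF hδ0 h
  have hp : pv (0 : Fin (m + 1 + 3 + 1)) 2 δ 1 ∈ Cen hF H := by
    have h := Cen_line hF hx0 hxA (tz_one hF)
    rw [hf_pv_right hF, pv_other f02 f04, pv_right f24] at h
    have e : pv (2 : Fin (m + 1 + 3 + 1)) 4 1 δ + (1 * (0 * 1 ^ 2 + δ * 1 ^ 2)) • pv 0 4 1 1 =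
        pv 0 2 δ 1 + ((2 : F) * δ) • Pi.single 4 1 := by
      unfold pv
      module
    rw [e, h2, zero_mul, zero_smul, add_zero] at h
    exact h
  have hp2 : pv (2 : Fin (m + 1 + 3 + 1)) 4 δ 1 ∈ Cen hF H := by
    have h := Cen_act hF haH (Cen_act hF haH hp)
    rw [cyc_act_pv (one5 F m) ha, cyc_act_pv (one5 F m) ha, fs01, fs12, fs23, fs34] at h
    simpa only [one5, one_mul] using h
  have hG24 : Good hF H {(2 : Fin (m + 1 + 3 + 1)), 4} := by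
    apply plane_of_two hF f24 hxA hp2
    rw [hf_pv_pv hF f24]
    intro h
    have : (1 : F) = 0 := by linear_combination hδ - h
    exact one_ne_zero this
  have hG14 : Good hF H {(1 : Fin (m + 1 + 3 + 1)), 4} := by
    apply good_mon hF hdH (sig3 (m + 1)) (dd5 m δ) (dd5_ne hn1 hn2) hdx
    rw [sig3_1, sig3_4]; exact hG24
  have hG04 : Good hF H {(0 : Fin (m + 1 + 3 + 1)), 4} := by
    apply good_mon hF hdH (sig3 (m + 1)) (dd5 m δ) (dd5_ne hn1 hn2) hdx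
    rw [sig3_0, sig3_4]; exact hG14
  have hG01 : Good hF H {(0 : Fin (m + 1 + 3 + 1)), 1} :=
    good_trans hF f04 f14.symm f01 hG04 (by rw [Finset.pair_comm]; exact hG14)
  have hPairs := pairs_of_shift hF haH (one5 F m) (fun _ => one_ne_zero) ha hG01
  exact eq_top_two hF (by omega) hPairs f01 f02 f03 f12 f13 f23 one_ne_zero one_ne_zero
    one_ne_zero one_ne_zero hzC

end Cfsg.Agent.Lib.H15.SUGen
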