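import Mathlib
import Cfsg.Prelude.Def_SubgroupEmbedding
import Cfsg.Prelude.Def_Local
import Cfsg.Agent.Lib.H15.JComp
import Cfsg.Agent.Lib.H14.Subnormal
import Cfsg.Agent.Lib.H27.Basic

/-!
Sidki pairs: basic lemmas for the minimal counterexample reduction (helper15).
-/

set_option autoImplicit false

namespace Cfsg.Agent.Lib.H15.Sidki

universe u

variable {G : Type u} [Group G]

/-- Elementwise form of "elementary abelian 2-subgroup". -/
structure EA (W : Subgroup G) : Prop where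
  comm : ∀ a ∈ W, ∀ b ∈ W, a * b = b * a
  sq : ∀ a ∈ W, a * a = 1

theorem EA.of_isElementaryAbelian {W : Subgroup G} (h : Cfsg.IsElementaryAbelian 2 W) : EA W := by
  refine ⟨?_, ?_⟩
  · intro a ha b hb
    have := h.1.is_comm.comm (⟨a, ha⟩ : W) ⟨b, hb⟩
    exact congrArg Subtype.val this
  · intro a ha
    have := h.2 a ha
    rwa [pow_two] at this

theorem EA.isElementaryAbelian {W : Subgroup G} (h : EA W) : Cfsg.IsElementaryAbelian 2 W := by
  refine ⟨⟨⟨fun a b => ?_⟩⟩, ?_⟩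
  · exact Subtype.ext (h.comm a a.2 b b.2)
  · intro a ha
    rw [pow_two]; exact h.sq a ha

theorem EA.mono {W W' : Subgroup G} (h : EA W) (hle : W' ≤ W) : EA W' :=
  ⟨fun a ha b hb => h.comm a (hle ha) b (hle hb), fun a ha => h.sq a (hle ha)⟩

theorem EA.inv_eq {W : Subgroup G} (h : EA W) {a : G} (ha : a ∈ W) : a⁻¹ = a :=
  inv_eq_of_mul_eq_one_right (h.sq a ha)

theorem EA.isPGroup {W : Subgroup G} (h : EA W) : IsPGroup 2 ↥W := by
  intro a
  refine ⟨1, ?_⟩
  apply Subtype.ext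
  have := h.sq a a.2
  simp [pow_two, this]

theorem EA.subgroupOf {W : Subgroup G} (h : EA W) (X : Subgroup G) : EA (W.subgroupOf X) := by
  refine ⟨?_, ?_⟩
  · intro a ha b hb
    exact Subtype.ext (h.comm a ha b hb)
  · intro a ha
    exact Subtype.ext (h.sq a ha)

theorem EA.map {W : Subgroup G} (h : EA W) {H : Type*} [Group H] (f : G →* H) : EA (W.map f) := by
  refine ⟨?_, ?_⟩
  · rintro _ ⟨a, ha, rfl⟩ _ ⟨b, hb, rfl⟩
    rw [← map_mul, ← map_mul, h.comm a ha b hb]
  · rintro _ ⟨a, ha, rfl⟩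
    rw [← map_mul, h.sq a ha, map_one]

/-- An element of a `2`-subgroup of exponent 2 of odd order is trivial. -/
theorem EA.eq_one_of_odd {W : Subgroup G} (h : EA W) {a : G} (ha : a ∈ W)
    (hodd : Odd (orderOf a)) : a = 1 := by
  have h1 : orderOf a ∣ 2 := orderOf_dvd_of_pow_eq_one (by rw [pow_two]; exact h.sq a ha)
  have h2 : orderOf a = 1 := by
    rcases (Nat.dvd_prime Nat.prime_two).1 h1 with h3 | h3
    · exact h3
    · rw [h3] at hodd; exact absurd hodd (by decide)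
  exact orderOf_eq_one_iff.1 h2

/-- The internal form of the Sidki pair condition, for elements `h` of a subgroup `X`. -/
def SidkiIn (X W : Subgroup G) : Prop :=
  ∀ h ∈ X, ∀ v ∈ W, Odd (orderOf h) → v * h * v⁻¹ = h⁻¹ → ∃ w ∈ W, w ≠ 1 ∧ w * h = h * w

theorem sidkiIn_top {V : Subgroup G} (h : Cfsg.IsSidkiPair V) : SidkiIn ⊤ V :=
  fun x _ v hv ho hi => h x v hv ho hi

theorem SidkiIn.mono {X X' W : Subgroup G} (h : SidkiIn X W) (hle : X' ≤ X) : SidkiIn X' W :=
  fun x hx v hv ho hi => h x (hle hx) v hv ho hi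

theorem sidkiIn_of_isSidkiPair {V : Subgroup G} (h : Cfsg.IsSidkiPair V) (X : Subgroup G) :
    SidkiIn X V :=
  (sidkiIn_top h).mono le_top

theorem isSidkiPair_subgroupOf {X W : Subgroup G} (hWX : W ≤ X) (h : SidkiIn X W) :
    Cfsg.IsSidkiPair (W.subgroupOf X) := by
  intro x v hv ho hi
  have hv' : (v : G) ∈ W := hv
  have ho' : Odd (orderOf (x : G)) := by rwa [Subgroup.orderOf_coe]
  have hi' : (v : G) * (x : G) * (v : G)⁻¹ = (x : G)⁻¹ := by
    have := congrArg Subtype.val hi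
    simpa using this
  obtain ⟨w, hw, hw1, hwc⟩ := h x x.2 v hv' ho' hi'
  refine ⟨⟨w, hWX hw⟩, hw, ?_, ?_⟩
  · intro h1
    apply hw1
    exact congrArg Subtype.val h1
  · exact Subtype.ext hwc

end Cfsg.Agent.Lib.H15.Sidki
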