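import Cfsg.Agent.Lib.H15.Sidki9
import Cfsg.Agent.Lib.H7.AltStd
import Cfsg.Agent.Lib.H7.FStar

/-!
Sidki pairs: the minimal counterexample reduction (helper15).
-/

set_option autoImplicit false

namespace Cfsg.Agent.Lib.H15.Sidki

universe u

open scoped commutatorElement

theorem le_normalizer_map_subtype' {G : Type u} [Group G] {M : Subgroup G} (K : Subgroup ↥M)
    [hn : K.Normal] : M ≤ Subgroup.normalizer ((K.map M.subtype : Subgroup G) : Set G) := by
  intro g hg
  rw [Subgroup.mem_normalizer_iff]
  intro x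
  constructor
  · rintro ⟨y, hy, rfl⟩
    exact ⟨⟨g, hg⟩ * y * ⟨g, hg⟩⁻¹, hn.conj_mem y hy _, rfl⟩
  · rintro ⟨y, hy, hyx⟩
    refine ⟨⟨g, hg⟩⁻¹ * y * ⟨g, hg⟩, ?_, ?_⟩
    · have := hn.conj_mem y hy ⟨g, hg⟩⁻¹
      simpa using this
    · simp only [Subgroup.coe_subtype, Subgroup.coe_mul, InvMemClass.coe_inv] at hyx ⊢
      rw [hyx]; group

variable {G : Type u} [Group G] [Finite G] {V : Subgroup G}

theorem exists_minNormal (hG : (⊤ : Subgroup G) ≠ ⊥) : ∃ N : Subgroup G, MinNormal N := by
  let S : Set (Subgroup G) := {N | N.Normal ∧ N ≠ ⊥}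
  have hSne : S.Nonempty := ⟨⊤, inferInstance, hG⟩
  obtain ⟨N, hNS, hNmin⟩ := WellFounded.has_min (wellFounded_lt (α := Subgroup G)) S hSne
  refine ⟨N, hNS.1, hNS.2, ?_⟩
  intro K hK hKN
  by_cases hK1 : K = ⊥
  · exact Or.inl hK1
  · right
    by_contra hne
    exact hNmin K ⟨hK, hK1⟩ (lt_of_le_of_ne hKN hne)

/-- `F*(G) = N` when `N` is a normal nonabelian simple subgroup with trivial centralizer. -/
theorem gfs_eq {N : Subgroup G} (hN : N.Normal) (hs : IsSimpleGroup ↥N)
    (hna : ¬ IsMulCommutative ↥N) (hC : Subgroup.centralizer (N : Set G) = ⊥) :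
    Cfsg.generalizedFittingSubgroup G = N := by
  have hcomp : Cfsg.IsComponent N :=
    ⟨hN.isSubnormal, Cfsg.Agent.Lib.H7.AltStd.quasisimple_of_simple hna⟩
  have hlayer : Cfsg.layer G = N := by
    apply le_antisymm
    · apply sSup_le
      intro K hK
      by_cases hKN : K = N
      · rw [hKN]
      · exfalso
        have h1 := Cfsg.Agent.Lib.H7.components_commute hK hcomp hKN
        have h2 : K ≤ Subgroup.centralizer (N : Set G) := by
          intro k hk
          rw [Subgroup.mem_centralizer_iff]
          intro n hn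
          have h3 : ⁅k, n⁆ ∈ ⁅K, N⁆ := Subgroup.commutator_mem_commutator hk hn
          rw [h1, Subgroup.mem_bot] at h3
          exact (commutatorElement_eq_one_iff_mul_comm.1 h3).symm
        rw [hC] at h2
        exact Cfsg.Agent.Lib.H7.component_ne_bot hK (le_bot_iff.1 h2)
    · exact Cfsg.Agent.Lib.H7.component_le_layer hcomp
  have hfit : Cfsg.fittingSubgroup G = ⊥ := by
    rw [eq_bot_iff]
    apply sSup_le
    rintro A ⟨hAn, hAnil⟩
    have hAN : A ⊓ N = ⊥ := by
      by_contra hne
      -- A ⊓ N is a nontrivial normal subgroup of N, so N ≤ A, and N is solvable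
      have hn' : ((A ⊓ N).subgroupOf N).Normal := by
        haveI : (A ⊓ N).Normal := inferInstance
        infer_instance
      rcases hn'.eq_bot_or_eq_top with h | h
      · apply hne
        rw [Subgroup.subgroupOf_eq_bot, disjoint_iff, inf_of_le_left inf_le_right] at h
        exact h
      · rw [Subgroup.subgroupOf_eq_top] at h
        have hNA : N ≤ A := h.trans inf_le_left
        haveI : Group.IsSolvable ↥A := inferInstance
        have hsol : Group.IsSolvable ↥N := by
          have := Group.isSolvable_of_isSolvable_injective (Subgroup.inclusion_injective hNA)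
          exact this
        apply hna
        have := (IsSimpleGroup.comm_iff_isSolvable (G := ↥N)).2 hsol
        exact ⟨⟨this⟩⟩
    intro a ha
    have : a ∈ Subgroup.centralizer (N : Set G) := by
      rw [Subgroup.mem_centralizer_iff]
      intro n hn
      have hAnorm : A ≤ Subgroup.normalizer (N : Set G) := by
        rw [Subgroup.normalizer_eq_top]; exact le_top
      have hNnorm : N ≤ Subgroup.normalizer (A : Set G) := by
        rw [Subgroup.normalizer_eq_top]; exact le_top
      exact (commute_of_normalize hAnorm hNnorm hAN ha hn).symm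
    rwa [hC] at this
  unfold Cfsg.generalizedFittingSubgroup
  rw [hlayer, hfit, sup_bot_eq]

/-- The minimal counterexample reduction for Sidki pairs. -/
theorem main (V : Subgroup G) (hV : Cfsg.IsElementaryAbelian 2 V) (hV1 : V ≠ ⊥)
    (hS : Cfsg.IsSidkiPair V) (hVO : V ⊓ Cfsg.pCore 2 G = ⊥)
    (hminG : ∀ (H : Type u) [Group H] [Finite H] (W : Subgroup H), Nat.card H < Nat.card G →
      Cfsg.IsElementaryAbelian 2 W → W ≠ ⊥ → Cfsg.IsSidkiPair W → W ⊓ Cfsg.pCore 2 H ≠ ⊥) :
    IsSimpleGroup ↥(Cfsg.generalizedFittingSubgroup G) ∧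
      ¬ IsMulCommutative ↥(Cfsg.generalizedFittingSubgroup G) ∧
      V ⊔ Cfsg.generalizedFittingSubgroup G = ⊤ := by
  have ea := EA.of_isElementaryAbelian hV
  have mc : MC V :=
    { ea := ea, ne := hV1, sid := hS, core := pCore_eq_bot ea hV1 hS hVO hminG, minG := hminG }
  have hG : (⊤ : Subgroup G) ≠ ⊥ := by
    intro h
    apply hV1
    rw [eq_bot_iff, ← h]
    exact le_top
  obtain ⟨N, hN⟩ := exists_minNormal hG
  by_cases hab : ∀ a ∈ N, ∀ b ∈ N, a * b = b * a
  · exact (AbCfg.false ⟨mc, hN, hab⟩).elim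
  · have hC := mc.caseB_cent hN hab
    have hsup := mc.caseB_sup hN hab
    have hsimp := mc.caseB_simple hN hab
    have hna : ¬ IsMulCommutative ↥N := by
      intro hc
      apply hab
      intro a ha b hb
      have := hc.is_comm.comm (⟨a, ha⟩ : ↥N) ⟨b, hb⟩
      exact congrArg Subtype.val this
    have hs : IsSimpleGroup ↥N := by
      haveI : Nontrivial ↥N := (Subgroup.nontrivial_iff_ne_bot N).2 hN.ne
      refine ⟨?_⟩
      intro K hK
      have h1 : K.map N.subtype ≤ N := Subgroup.map_subtype_le K
      have h2 : N ≤ Subgroup.normalizer ((K.map N.subtype : Subgroup G) : Set G) :=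
        le_normalizer_map_subtype' K
      rcases hsimp _ h1 h2 with h | h
      · left
        rwa [Subgroup.map_eq_bot_iff_of_injective _ N.subtype_injective] at h
      · right
        rw [eq_top_iff]
        intro x _
        have : (x : G) ∈ K.map N.subtype := by rw [h]; exact x.2
        obtain ⟨y, hy, hyx⟩ := this
        have : y = x := Subtype.ext hyx
        rwa [← this]
    have hF := gfs_eq hN.normal hs hna hC
    rw [hF]
    exact ⟨hs, hna, hsup⟩

end Cfsg.Agent.Lib.H15.Sidki
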