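import Cfsg.Agent.Lib.H15.Sidki1
import Cfsg.Agent.Lib.H7.Kazarin2

/-!
Sidki pairs: the minimal counterexample structure `MC`, faithful pairs, quotients (helper15).
-/

set_option autoImplicit false

namespace Cfsg.Agent.Lib.H15.Sidki

universe u

variable {G : Type u} [Group G]

/-- `M` has no nontrivial normal `2`-subgroup. -/
def NoN2 (M : Subgroup G) : Prop :=
  ∀ Q : Subgroup G, Q ≤ M → IsPGroup 2 ↥Q → M ≤ Subgroup.normalizer (Q : Set G) → Q = ⊥

/-- The minimal counterexample hypotheses (after `O₂(G) = 1` has been established). -/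
structure MC [Finite G] (V : Subgroup G) : Prop where
  ea : EA V
  ne : V ≠ ⊥
  sid : Cfsg.IsSidkiPair V
  core : Cfsg.pCore 2 G = ⊥
  minG : ∀ (H : Type u) [Group H] [Finite H] (W : Subgroup H), Nat.card H < Nat.card G →
    Cfsg.IsElementaryAbelian 2 W → W ≠ ⊥ → Cfsg.IsSidkiPair W → W ⊓ Cfsg.pCore 2 H ≠ ⊥

variable [Finite G] {V : Subgroup G}

theorem MC.eq_bot_of_subnormal (h : MC V) {Q : Subgroup G} (hQ : Q.IsSubnormal)
    (hQ2 : IsPGroup 2 ↥Q) : Q = ⊥ := by
  have := Cfsg.Agent.Lib.H14.le_pCore_of_isSubnormal_of_isPGroup 2 Q hQ hQ2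
  rw [h.core] at this
  exact le_bot_iff.1 this

theorem MC.eq_bot_of_normal (h : MC V) {Q : Subgroup G} (hQ : Q.Normal)
    (hQ2 : IsPGroup 2 ↥Q) : Q = ⊥ :=
  h.eq_bot_of_subnormal hQ.isSubnormal hQ2

theorem MC.noN2_of_subnormal (h : MC V) {M : Subgroup G} (hM : M.IsSubnormal) : NoN2 M := by
  intro Q hQM hQ2 hn
  apply h.eq_bot_of_subnormal _ hQ2
  exact Subgroup.IsSubnormal.step Q M hQM hM
    ((Subgroup.normal_subgroupOf_iff_le_normalizer hQM).2 hn)

theorem MC.noN2_of_normal (h : MC V) {M : Subgroup G} (hM : M.Normal) : NoN2 M :=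
  h.noN2_of_subnormal hM.isSubnormal

theorem MC.noN2_of_normal_normal (h : MC V) {N L : Subgroup G} (hN : N.Normal) (hLN : L ≤ N)
    (hn : N ≤ Subgroup.normalizer (L : Set G)) : NoN2 L :=
  h.noN2_of_subnormal (Subgroup.IsSubnormal.step L N hLN hN.isSubnormal
    ((Subgroup.normal_subgroupOf_iff_le_normalizer hLN).2 hn))

/-- Two subgroups normalizing each other with trivial intersection commute. -/
theorem commute_of_normalize {A B : Subgroup G} (hA : A ≤ Subgroup.normalizer (B : Set G))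
    (hB : B ≤ Subgroup.normalizer (A : Set G)) (hAB : A ⊓ B = ⊥) {a b : G} (ha : a ∈ A)
    (hb : b ∈ B) : a * b = b * a := by
  have h1 : a * b * a⁻¹ * b⁻¹ ∈ A := by
    have : b * a⁻¹ * b⁻¹ ∈ A := (Subgroup.mem_normalizer_iff.1 (hB hb) a⁻¹).1 (A.inv_mem ha)
    have h2 := A.mul_mem ha this
    simpa [mul_assoc] using h2
  have h2 : a * b * a⁻¹ * b⁻¹ ∈ B := by
    have : a * b * a⁻¹ ∈ B := (Subgroup.mem_normalizer_iff.1 (hA ha) b).1 hb
    exact B.mul_mem this (B.inv_mem hb)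
  have h3 : a * b * a⁻¹ * b⁻¹ ∈ A ⊓ B := ⟨h1, h2⟩
  rw [hAB, Subgroup.mem_bot] at h3
  calc a * b = a * b * a⁻¹ * b⁻¹ * (b * a) := by group
    _ = b * a := by rw [h3, one_mul]

/-- The faithful pair lemma: a nontrivial elementary abelian `2`-subgroup `W` of a proper
subgroup `X`, acting faithfully on a normal subgroup `M` of `X` with `O₂(M) = 1`, is not a Sidki
pair in `X`. -/
theorem MC.faithful (h : MC V) {X M W : Subgroup G} (hX : X ≠ ⊤) (hMX : M ≤ X)
    (hXM : X ≤ Subgroup.normalizer (M : Set G)) (hM : NoN2 M) (hWX : W ≤ X) (hW : EA W)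
    (hW1 : W ≠ ⊥) (hfaith : W ⊓ Subgroup.centralizer (M : Set G) = ⊥) : ¬ SidkiIn X W := by
  intro hS
  have hcard : Nat.card ↥X < Nat.card G :=
    lt_of_le_of_ne (Subgroup.card_le_card_group X) (fun hc => hX ((Subgroup.card_eq_iff_eq_top X).1 hc))
  have hne : W.subgroupOf X ≠ ⊥ := by
    intro hb
    rw [Subgroup.subgroupOf_eq_bot, disjoint_iff, inf_of_le_left hWX] at hb
    exact hW1 hb
  have h1 := h.minG ↥X (W.subgroupOf X) hcard (hW.subgroupOf X).isElementaryAbelian hne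
    (isSidkiPair_subgroupOf hWX hS)
  obtain ⟨⟨⟨w0, hw0X⟩, hw0⟩, hw1⟩ := (Subgroup.ne_bot_iff_exists_ne_one).1 h1
  have hwW : w0 ∈ W := hw0.1
  have hwQ : w0 ∈ Cfsg.pCoreOf 2 X := ⟨⟨w0, hw0X⟩, hw0.2, rfl⟩
  have hwne : w0 ≠ 1 := by
    intro h1
    apply hw1
    apply Subtype.ext
    apply Subtype.ext
    exact h1
  set Q := Cfsg.pCoreOf 2 X with hQ
  have hQX : Q ≤ X := Cfsg.Agent.Lib.H14.pCoreOf_le 2 X
  have hQ2 : IsPGroup 2 ↥Q := Cfsg.Agent.Lib.H14.pCoreOf_isPGroup 2 X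
  have hXQ : X ≤ Subgroup.normalizer (Q : Set G) := Cfsg.Agent.Lib.H14.pCoreOf_normalized 2 X
  have hQM : Q ⊓ M = ⊥ := by
    apply hM (Q ⊓ M) inf_le_right (hQ2.to_le inf_le_left)
    intro m hm
    have h2 : m ∈ Subgroup.normalizer (Q : Set G) := hXQ (hMX hm)
    have h3 : m ∈ Subgroup.normalizer (M : Set G) := Subgroup.le_normalizer hm
    rw [Subgroup.mem_normalizer_iff] at h2 h3 ⊢
    intro x
    rw [Subgroup.mem_inf, Subgroup.mem_inf, h2 x, h3 x]
  have hwc : w0 ∈ Subgroup.centralizer (M : Set G) := by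
    rw [Subgroup.mem_centralizer_iff]
    intro m hm
    exact (commute_of_normalize (hQX.trans hXM) (hMX.trans hXQ) hQM hwQ hm).symm
  have : w0 ∈ W ⊓ Subgroup.centralizer (M : Set G) := ⟨hwW, hwc⟩
  rw [hfaith, Subgroup.mem_bot] at this
  exact hwne this

/-- An abelian normal subgroup contains no nontrivial element of square one. -/
theorem MC.eq_one_of_abelian_normal (h : MC V) {A : Subgroup G} (hA : A.Normal)
    (hc : ∀ a ∈ A, ∀ b ∈ A, a * b = b * a) {b : G} (hb : b ∈ A) (hb2 : b * b = 1) : b = 1 := by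
  let Q : Subgroup G :=
    { carrier := {a | a ∈ A ∧ a * a = 1}
      mul_mem' := by
        rintro x y ⟨hx, hx2⟩ ⟨hy, hy2⟩
        refine ⟨A.mul_mem hx hy, ?_⟩
        calc x * y * (x * y) = x * (y * x) * y := by group
          _ = x * (x * y) * y := by rw [hc y hy x hx]
          _ = (x * x) * (y * y) := by group
          _ = 1 := by rw [hx2, hy2, one_mul]
      one_mem' := ⟨A.one_mem, by simp⟩
      inv_mem' := by
        rintro x ⟨hx, hx2⟩
        refine ⟨A.inv_mem hx, ?_⟩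
        have : x⁻¹ = x := inv_eq_of_mul_eq_one_right hx2
        rw [this, hx2] }
  have hQn : Q.Normal := by
    constructor
    rintro x ⟨hx, hx2⟩ g
    refine ⟨hA.conj_mem x hx g, ?_⟩
    calc g * x * g⁻¹ * (g * x * g⁻¹) = g * (x * x) * g⁻¹ := by group
      _ = 1 := by rw [hx2]; group
  have hQ2 : IsPGroup 2 ↥Q := by
    intro a
    refine ⟨1, ?_⟩
    apply Subtype.ext
    have := a.2.2
    simp [pow_two, this]
  have := h.eq_bot_of_normal hQn hQ2
  have hbQ : b ∈ Q := ⟨hb, hb2⟩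
  rw [this, Subgroup.mem_bot] at hbQ
  exact hbQ

end Cfsg.Agent.Lib.H15.Sidki
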