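import Cfsg.Agent.Lib.H15.Sidki2

/-!
Sidki pairs: quotients by normal subgroups meeting `V` trivially; `O₂(G) = 1` (helper15).
-/

set_option autoImplicit false

namespace Cfsg.Agent.Lib.H15.Sidki

universe u

variable {G : Type u} [Group G]

theorem odd_orderOf_pow_two_pow (k : G) (hk : 0 < orderOf k) :
    ∃ a : ℕ, Odd (orderOf (k ^ (2 ^ a))) := by
  obtain ⟨a, m, hm, hkm⟩ := Nat.exists_eq_two_pow_mul_odd (Nat.pos_iff_ne_zero.1 hk)
  refine ⟨a, ?_⟩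
  rw [orderOf_pow' k (by positivity), hkm]
  have : Nat.gcd (2 ^ a * m) (2 ^ a) = 2 ^ a := Nat.gcd_eq_right (Dvd.intro _ rfl)
  rw [this, Nat.mul_div_cancel_left m (by positivity)]
  exact hm

theorem quot_sidki [Finite G] {V : Subgroup G} (hV : EA V) (hS : Cfsg.IsSidkiPair V)
    (N : Subgroup G) [N.Normal] (hVN : V ⊓ N = ⊥) :
    Cfsg.IsSidkiPair (V.map (QuotientGroup.mk' N)) := by
  intro hbar vbar hv ho hi
  obtain ⟨v, hvV, rfl⟩ := hv
  obtain ⟨g, rfl⟩ := QuotientGroup.mk'_surjective N hbar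
  set π := QuotientGroup.mk' N with hπ
  have hvinv : v⁻¹ = v := hV.inv_eq hvV
  have hvv : v * v = 1 := hV.sq v hvV
  set k := v * g * v⁻¹ * g⁻¹ with hk
  have hkinv : v * k * v⁻¹ = k⁻¹ := by
    rw [hk, hvinv]
    calc v * (v * g * v * g⁻¹) * v = (v * v) * g * v * g⁻¹ * v := by group
      _ = g * v * g⁻¹ * v := by rw [hvv, one_mul]
      _ = (v * g * v * g⁻¹)⁻¹ := by
        rw [mul_inv_rev, mul_inv_rev, mul_inv_rev, inv_inv, hvinv]
        group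
  obtain ⟨a, ha⟩ := odd_orderOf_pow_two_pow k (orderOf_pos k)
  have hi' : v * k ^ (2 ^ a) * v⁻¹ = (k ^ (2 ^ a))⁻¹ := by
    rw [← inv_pow, ← hkinv, conj_pow]
  obtain ⟨w, hwV, hw1, hwc⟩ := hS (k ^ (2 ^ a)) v hvV ha hi'
  refine ⟨π w, ⟨w, hwV, rfl⟩, ?_, ?_⟩
  · intro h1
    rw [hπ, QuotientGroup.mk'_apply, QuotientGroup.eq_one_iff] at h1
    have : w ∈ V ⊓ N := ⟨hwV, h1⟩
    rw [hVN, Subgroup.mem_bot] at this
    exact hw1 this
  · have hπk : π k = (π g)⁻¹ * (π g)⁻¹ := by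
      rw [hk, map_mul, map_mul, map_mul, map_inv, map_inv, hi]
    have hπh : π (k ^ (2 ^ a)) = ((π g)⁻¹) ^ (2 ^ (a + 1)) := by
      rw [map_pow, hπk, ← pow_two, ← pow_mul, pow_succ, mul_comm]
    have hcop : Nat.Coprime (2 ^ (a + 1)) (orderOf (π g)⁻¹) := by
      rw [orderOf_inv]
      exact (Nat.coprime_two_left.2 ho).pow_left _
    obtain ⟨j, hj⟩ := exists_pow_eq_self_of_coprime hcop
    have hc1 : Commute (π w) (π (k ^ (2 ^ a))) := by
      show π w * π (k ^ (2 ^ a)) = π (k ^ (2 ^ a)) * π w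
      rw [← map_mul, ← map_mul, hwc]
    have hc2 : Commute (π w) ((π g)⁻¹) := by
      rw [← hj, ← hπh]
      exact hc1.pow_right j
    exact (Commute.inv_right_iff.1 hc2).eq

/-- Step 0: in a minimal counterexample, `O₂(G) = 1`. -/
theorem pCore_eq_bot [Finite G] {V : Subgroup G} (hV : EA V) (hV1 : V ≠ ⊥)
    (hS : Cfsg.IsSidkiPair V) (hVO : V ⊓ Cfsg.pCore 2 G = ⊥)
    (hminG : ∀ (H : Type u) [Group H] [Finite H] (W : Subgroup H), Nat.card H < Nat.card G →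
      Cfsg.IsElementaryAbelian 2 W → W ≠ ⊥ → Cfsg.IsSidkiPair W → W ⊓ Cfsg.pCore 2 H ≠ ⊥) :
    Cfsg.pCore 2 G = ⊥ := by
  by_contra hne
  haveI hn : (Cfsg.pCore 2 G).Normal := Cfsg.Agent.Lib.H27.pCore_normal'
  haveI : Fact (Nat.Prime 2) := ⟨Nat.prime_two⟩
  have hcard : Nat.card (G ⧸ Cfsg.pCore 2 G) < Nat.card G := by
    rw [← Subgroup.index_eq_card, ← Subgroup.index_mul_card (Cfsg.pCore 2 G)]
    have h1 : 1 < Nat.card ↥(Cfsg.pCore 2 G) := by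
      rw [Finite.one_lt_card_iff_nontrivial]
      exact (Subgroup.nontrivial_iff_ne_bot _).2 hne
    have h2 : 0 < (Cfsg.pCore 2 G).index := Nat.pos_of_ne_zero Subgroup.index_ne_zero_of_finite
    nlinarith
  have hne' : V.map (QuotientGroup.mk' (Cfsg.pCore 2 G)) ≠ ⊥ := by
    intro hb
    rw [Subgroup.map_eq_bot_iff, QuotientGroup.ker_mk'] at hb
    apply hV1
    rw [← inf_of_le_left hb, hVO]
  have := hminG (G ⧸ Cfsg.pCore 2 G) (V.map (QuotientGroup.mk' (Cfsg.pCore 2 G))) hcard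
    (hV.map _).isElementaryAbelian hne' (quot_sidki hV hS _ hVO)
  apply this
  rw [Cfsg.Agent.Lib.H7.Kaz.pCore_quotient_pCore_eq_bot 2, inf_bot_eq]

end Cfsg.Agent.Lib.H15.Sidki
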