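import Cfsg.Agent.Lib.H15.Sidki3

/-!
Sidki pairs: the "two commuting normal subgroups" lemma (helper15).
-/

set_option autoImplicit false

namespace Cfsg.Agent.Lib.H15.Sidki

universe u

variable {G : Type u} [Group G]

theorem mem_centralizer_singleton {x u : G} :
    u ∈ Subgroup.centralizer ({x} : Set G) ↔ u * x = x * u := by
  rw [Subgroup.mem_centralizer_iff]
  constructor
  · intro h; exact (h x rfl).symm
  · intro h y hy
    rw [Set.mem_singleton_iff] at hy
    rw [hy]; exact h.symm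

/-- If `W ⊔ N = ⊤` with `W` of exponent 2 and `N` normal, every subgroup meeting `N` trivially
has exponent 2. -/
theorem sq_eq_one_of_sup_eq_top {W N C : Subgroup G} (hW : EA W) (hN : N.Normal)
    (h : W ⊔ N = ⊤) (hCN : C ⊓ N = ⊥) {c : G} (hc : c ∈ C) : c * c = 1 := by
  have hc' : c ∈ W ⊔ N := by rw [h]; exact Subgroup.mem_top c
  have h1 : c ∈ ((W ⊔ N : Subgroup G) : Set G) := hc'
  rw [Subgroup.mul_normal W N] at h1
  obtain ⟨w, hw, n, hn, rfl⟩ := h1
  have h2 : w * n * (w * n) ∈ N := by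
    have h3 : w * n * w⁻¹ ∈ N := hN.conj_mem n hn w
    have h4 : w * n * (w * n) = (w * n * w⁻¹) * (w * w) * n := by group
    rw [h4, hW.sq w hw, mul_one]
    exact N.mul_mem h3 hn
  have h5 : w * n * (w * n) ∈ C ⊓ N := ⟨C.mul_mem hc hc, h2⟩
  rw [hCN, Subgroup.mem_bot] at h5
  exact h5

variable [Finite G] {V : Subgroup G}

/-- A normal subgroup all of whose elements square to one is trivial. -/
theorem MC.eq_bot_of_sq (h : MC V) {C : Subgroup G} (hC : C.Normal)
    (hsq : ∀ c ∈ C, c * c = 1) : C = ⊥ := by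
  apply h.eq_bot_of_normal hC
  intro a
  refine ⟨1, ?_⟩
  apply Subtype.ext
  have := hsq a a.2
  simp [pow_two, this]

theorem MC.sidkiIn (h : MC V) (X : Subgroup G) : SidkiIn X V :=
  sidkiIn_of_isSidkiPair h.sid X

/-- The key lemma: two normal subgroups `N₁`, `N₂` with trivial intersection cannot both be
acted on as described. -/
theorem MC.trick (h : MC V) {N₁ N₂ : Subgroup G} (hN₁ : N₁.Normal) (hN₂ : N₂.Normal)
    (hint : N₁ ⊓ N₂ = ⊥)
    (ha : (V ⊓ Subgroup.centralizer (N₂ : Set G)) ⊔ N₁ ≠ ⊤)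
    (hb : V ⊓ Subgroup.centralizer (N₂ : Set G) ≠ ⊥)
    (hc : (V ⊓ Subgroup.centralizer (N₂ : Set G)) ⊓ Subgroup.centralizer (N₁ : Set G) = ⊥)
    (hd : V ⊔ N₂ ≠ ⊤) : False := by
  set B₂ := V ⊓ Subgroup.centralizer (N₂ : Set G) with hB₂
  have hB₂V : B₂ ≤ V := inf_le_left
  have hcomm : ∀ a ∈ N₁, ∀ b ∈ N₂, a * b = b * a := fun a ha b hb =>
    commute_of_normalize (fun _ _ => by rw [Subgroup.normalizer_eq_top]; exact Subgroup.mem_top _)
      (fun _ _ => by rw [Subgroup.normalizer_eq_top]; exact Subgroup.mem_top _) hint ha hb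
  -- first faithful pair
  have h1 : ¬ SidkiIn (B₂ ⊔ N₁) B₂ := by
    apply h.faithful ha le_sup_right _ (h.noN2_of_normal hN₁) le_sup_left (h.ea.mono hB₂V) hb hc
    rw [Subgroup.normalizer_eq_top]; exact le_top
  unfold SidkiIn at h1
  push Not at h1
  obtain ⟨x, hx, b₂, hb₂, hxo, hxi, hxc⟩ := h1
  have hxN : x ∈ N₁ := by
    apply mem_of_odd_of_mem_sup (K := N₁) (J := B₂) (h.ea.mono hB₂V).isPGroup _ _ hxo
    · rw [Subgroup.normalizer_eq_top]; exact le_top
    · rwa [sup_comm]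
  -- the centralizer of x in V
  set C' := V ⊓ Subgroup.centralizer ({x} : Set G) with hC'
  have hC'V : C' ≤ V := inf_le_left
  have hC'1 : C' ≠ ⊥ := by
    obtain ⟨w, hw, hw1, hwc⟩ := h.sid x b₂ (hB₂V hb₂) hxo hxi
    intro hbot
    have : w ∈ C' := ⟨hw, mem_centralizer_singleton.2 hwc⟩
    rw [hbot, Subgroup.mem_bot] at this
    exact hw1 this
  have hS : SidkiIn (C' ⊔ N₂) C' := by
    intro y hy c hc hyo hyi
    have hyN : y ∈ N₂ := by
      apply mem_of_odd_of_mem_sup (K := N₂) (J := C') (h.ea.mono hC'V).isPGroup _ _ hyo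
      · rw [Subgroup.normalizer_eq_top]; exact le_top
      · rwa [sup_comm]
    have hcV : c ∈ V := hC'V hc
    have hcx : c * x = x * c := mem_centralizer_singleton.1 hc.2
    have hb₂V : b₂ ∈ V := hB₂V hb₂
    have hb₂y : b₂ * y = y * b₂ := by
      have := (Subgroup.mem_centralizer_iff.1 hb₂.2) y hyN
      exact this.symm
    have hxy : x * y = y * x := hcomm x hxN y hyN
    have hwV : c * b₂ ∈ V := V.mul_mem hcV hb₂V
    have hcinv : c⁻¹ = c := h.ea.inv_eq hcV
    have hbinv : b₂⁻¹ = b₂ := h.ea.inv_eq hb₂V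
    have hcb : c * b₂ = b₂ * c := h.ea.comm c hcV b₂ hb₂V
    have hi1 : c * b₂ * x * (c * b₂)⁻¹ = x⁻¹ := by
      rw [mul_inv_rev, hcinv, hbinv]
      calc c * b₂ * x * (b₂ * c) = c * (b₂ * x * b₂⁻¹) * c := by rw [hbinv]; group
        _ = c * x⁻¹ * c := by rw [hxi]
        _ = x⁻¹ * (c * c) := by
          have : c * x⁻¹ = x⁻¹ * c := (Commute.inv_right (show Commute c x from hcx)).eq
          rw [this]; group
        _ = x⁻¹ := by rw [h.ea.sq c hcV, mul_one]
    have hi2 : c * b₂ * y * (c * b₂)⁻¹ = y⁻¹ := by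
      rw [mul_inv_rev, hcinv, hbinv]
      calc c * b₂ * y * (b₂ * c) = c * (b₂ * y) * b₂ * c := by group
        _ = c * (y * b₂) * b₂ * c := by rw [hb₂y]
        _ = c * y * (b₂ * b₂) * c := by group
        _ = c * y * c⁻¹ := by rw [h.ea.sq b₂ hb₂V, mul_one, hcinv]
        _ = y⁻¹ := hyi
    have hi : c * b₂ * (x * y) * (c * b₂)⁻¹ = (x * y)⁻¹ := by
      calc c * b₂ * (x * y) * (c * b₂)⁻¹
          = (c * b₂ * x * (c * b₂)⁻¹) * (c * b₂ * y * (c * b₂)⁻¹) := by group
        _ = x⁻¹ * y⁻¹ := by rw [hi1, hi2]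
        _ = (y * x)⁻¹ := by rw [mul_inv_rev]
        _ = (x * y)⁻¹ := by rw [hxy]
    have hodd : Odd (orderOf (x * y)) := by
      have hd := (show Commute x y from hxy).orderOf_mul_dvd_lcm
      have h2 : ¬ 2 ∣ Nat.lcm (orderOf x) (orderOf y) := by
        intro h2
        have := (Nat.Prime.dvd_lcm Nat.prime_two).1 h2
        rcases this with h3 | h3
        · exact (Nat.not_even_iff_odd.2 hxo) (even_iff_two_dvd.2 h3)
        · exact (Nat.not_even_iff_odd.2 hyo) (even_iff_two_dvd.2 h3)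
      rw [← Nat.not_even_iff_odd, even_iff_two_dvd]
      intro h3
      exact h2 (h3.trans hd)
    obtain ⟨u, hu, hu1, huc⟩ := h.sid (x * y) (c * b₂) hwV hodd hi
    -- u commutes with x and y separately
    have hux : u * x * u⁻¹ ∈ N₁ := hN₁.conj_mem x hxN u
    have huy : u * y * u⁻¹ ∈ N₂ := hN₂.conj_mem y hyN u
    have hprod : (u * x * u⁻¹) * (u * y * u⁻¹) = x * y := by
      calc (u * x * u⁻¹) * (u * y * u⁻¹) = u * (x * y) * u⁻¹ := by group
        _ = x * y * u * u⁻¹ := by rw [huc]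
        _ = x * y := by group
    have hz : x⁻¹ * (u * x * u⁻¹) ∈ N₁ ⊓ N₂ := by
      refine ⟨N₁.mul_mem (N₁.inv_mem hxN) hux, ?_⟩
      have : x⁻¹ * (u * x * u⁻¹) = y * (u * y * u⁻¹)⁻¹ := by
        calc x⁻¹ * (u * x * u⁻¹)
            = x⁻¹ * ((u * x * u⁻¹) * (u * y * u⁻¹)) * (u * y * u⁻¹)⁻¹ := by group
          _ = x⁻¹ * (x * y) * (u * y * u⁻¹)⁻¹ := by rw [hprod]
          _ = y * (u * y * u⁻¹)⁻¹ := by group
      rw [this]
      exact N₂.mul_mem hyN (N₂.inv_mem huy)
    rw [hint, Subgroup.mem_bot] at hz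
    have hux' : u * x = x * u := by
      have : u * x * u⁻¹ = x := by
        calc u * x * u⁻¹ = x * (x⁻¹ * (u * x * u⁻¹)) := by group
          _ = x := by rw [hz, mul_one]
      calc u * x = u * x * u⁻¹ * u := by group
        _ = x * u := by rw [this]
    have huy' : u * y = y * u := by
      have h5 : u * (x * y) = x * (u * y) := by
        calc u * (x * y) = (u * x) * y := by group
          _ = x * u * y := by rw [hux']
          _ = x * (u * y) := by group
      have h6 : x * (u * y) = x * (y * u) := by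
        rw [← h5, huc]; group
      exact mul_left_cancel h6
    exact ⟨u, ⟨hu, mem_centralizer_singleton.2 hux'⟩, hu1, huy'⟩
  have hX2 : C' ⊔ N₂ ≠ ⊤ := by
    intro htop
    apply hd
    rw [eq_top_iff, ← htop]
    exact sup_le_sup_right hC'V N₂
  have hf : C' ⊓ Subgroup.centralizer (N₂ : Set G) = ⊥ := by
    rw [eq_bot_iff]
    intro u hu
    rw [Subgroup.mem_bot]
    by_contra hu1
    have huB : u ∈ B₂ := ⟨hu.1.1, hu.2⟩
    exact hxc u huB hu1 (mem_centralizer_singleton.1 hu.1.2)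
  have h2 : ¬ SidkiIn (C' ⊔ N₂) C' := by
    apply h.faithful hX2 le_sup_right _ (h.noN2_of_normal hN₂) le_sup_left (h.ea.mono hC'V) hC'1 hf
    rw [Subgroup.normalizer_eq_top]; exact le_top
  exact h2 hS

end Cfsg.Agent.Lib.H15.Sidki
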