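import Cfsg.Agent.Lib.H15.Sidki4

/-!
Sidki pairs: the case of a nonabelian minimal normal subgroup (helper15).
-/

set_option autoImplicit false

namespace Cfsg.Agent.Lib.H15.Sidki

universe u

variable {G : Type u} [Group G]

/-- A minimal normal subgroup. -/
structure MinNormal (N : Subgroup G) : Prop where
  normal : N.Normal
  ne : N ≠ ⊥
  min : ∀ K : Subgroup G, K.Normal → K ≤ N → K = ⊥ ∨ K = N

/-- A subgroup whose elements permute a family of subgroups normalizes its join. -/
theorem le_normalizer_sSup_of_cj_mem (X : Subgroup G) (S : Set (Subgroup G))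
    (h : ∀ x ∈ X, ∀ A ∈ S, cj x A ∈ S) :
    X ≤ Subgroup.normalizer ((sSup S : Subgroup G) : Set G) := by
  have key : ∀ x ∈ X, cj x (sSup S) ≤ sSup S := by
    intro x hx
    rw [cj_le_iff]
    apply sSup_le
    intro A hA
    rw [← cj_le_iff]
    exact le_sSup (h x hx A hA)
  intro x hx
  rw [mem_normalizer_iff_cj_eq]
  apply le_antisymm (key x hx)
  have := key x⁻¹ (X.inv_mem hx)
  rw [cj_le_iff, inv_inv] at this
  exact this

theorem normal_of_sup_le_normalizer {A B K : Subgroup G} (h : A ⊔ B = ⊤)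
    (hA : A ≤ Subgroup.normalizer (K : Set G)) (hB : B ≤ Subgroup.normalizer (K : Set G)) :
    K.Normal := by
  rw [← Subgroup.normalizer_eq_top_iff, eq_top_iff, ← h]
  exact sup_le hA hB

variable [Finite G] {V : Subgroup G}

theorem MinNormal.inf_centralizer {N : Subgroup G} (hN : MinNormal N)
    (hnab : ¬ ∀ a ∈ N, ∀ b ∈ N, a * b = b * a) :
    Subgroup.centralizer (N : Set G) ⊓ N = ⊥ := by
  haveI := hN.normal
  have hn : (Subgroup.centralizer (N : Set G) ⊓ N).Normal := inferInstance
  rcases hN.min _ hn inf_le_right with h | h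
  · exact h
  · exfalso
    apply hnab
    intro a ha b hb
    have h1 : a ∈ Subgroup.centralizer (N : Set G) ⊓ N := by rw [h]; exact ha
    exact ((Subgroup.mem_centralizer_iff.1 h1.1) b hb).symm

theorem MC.caseB_sup_ne_top (h : MC V) {N : Subgroup G} (hN : MinNormal N)
    (hnab : ¬ ∀ a ∈ N, ∀ b ∈ N, a * b = b * a)
    (hC : Subgroup.centralizer (N : Set G) ≠ ⊥) : V ⊔ N ≠ ⊤ := by
  haveI := hN.normal
  intro htop
  apply hC
  apply h.eq_bot_of_sq inferInstance
  intro c hc
  exact sq_eq_one_of_sup_eq_top h.ea hN.normal htop (hN.inf_centralizer hnab) hc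

theorem MC.caseB_cent (h : MC V) {N : Subgroup G} (hN : MinNormal N)
    (hnab : ¬ ∀ a ∈ N, ∀ b ∈ N, a * b = b * a) :
    Subgroup.centralizer (N : Set G) = ⊥ := by
  haveI := hN.normal
  by_contra hC
  set C := Subgroup.centralizer (N : Set G) with hCdef
  have hCn : C.Normal := inferInstance
  have hint : C ⊓ N = ⊥ := hN.inf_centralizer hnab
  have hd : V ⊔ N ≠ ⊤ := h.caseB_sup_ne_top hN hnab hC
  have hCtop : C ≠ ⊤ := by
    intro ht
    apply hN.ne
    rw [← hint, ht, top_inf_eq]
  apply h.trick hCn hN.normal hint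
  · rw [sup_of_le_right inf_le_right]
    exact hCtop
  · intro hb
    have h1 : ¬ SidkiIn (V ⊔ N) V := by
      apply h.faithful hd le_sup_right _ (h.noN2_of_normal hN.normal) le_sup_left h.ea h.ne hb
      rw [Subgroup.normalizer_eq_top]; exact le_top
    exact h1 (h.sidkiIn _)
  · rw [eq_bot_iff]
    intro u hu
    rw [Subgroup.mem_bot]
    have hA : (C ⊓ Subgroup.centralizer (C : Set G)).Normal := inferInstance
    apply h.eq_one_of_abelian_normal hA _ (show u ∈ C ⊓ Subgroup.centralizer (C : Set G) from ⟨hu.1.2, hu.2⟩)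
      (h.ea.sq u hu.1.1)
    intro a ha b hb
    exact ((Subgroup.mem_centralizer_iff.1 ha.2) b hb.1).symm
  · exact hd

theorem MC.caseB_sup (h : MC V) {N : Subgroup G} (hN : MinNormal N)
    (hnab : ¬ ∀ a ∈ N, ∀ b ∈ N, a * b = b * a) : V ⊔ N = ⊤ := by
  by_contra hd
  have hC := h.caseB_cent hN hnab
  have h1 : ¬ SidkiIn (V ⊔ N) V := by
    apply h.faithful hd le_sup_right _ (h.noN2_of_normal hN.normal) le_sup_left h.ea h.ne
    · rw [hC, inf_bot_eq]
    · haveI := hN.normal
      rw [Subgroup.normalizer_eq_top]; exact le_top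
  exact h1 (h.sidkiIn _)

end Cfsg.Agent.Lib.H15.Sidki
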