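import Cfsg.Agent.Lib.H15.Sidki5

/-!
Sidki pairs: a nonabelian minimal normal subgroup of a minimal counterexample is simple (helper15).
-/

set_option autoImplicit false

namespace Cfsg.Agent.Lib.H15.Sidki

universe u

variable {G : Type u} [Group G] [Finite G] {V : Subgroup G}

/-- The set-up for the simplicity argument: `L` is a minimal nontrivial normal subgroup of `N`. -/
structure SimpCfg (V N L : Subgroup G) : Prop where
  mc : MC V
  hN : MinNormal N
  cent : Subgroup.centralizer (N : Set G) = ⊥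
  sup : V ⊔ N = ⊤
  hLN : L ≤ N
  hNL : N ≤ Subgroup.normalizer (L : Set G)
  hL1 : L ≠ ⊥
  hmin : ∀ K : Subgroup G, K ≤ L → N ≤ Subgroup.normalizer (K : Set G) → K ≠ ⊥ → K = L

namespace SimpCfg

variable {N L : Subgroup G}

theorem cj_le (c : SimpCfg V N L) (t : G) : cj t L ≤ N := by
  haveI := c.hN.normal
  have h1 : cj t L ≤ cj t N := cj_mono t c.hLN
  have h2 : cj t N = N := mem_normalizer_iff_cj_eq.1 (by rw [Subgroup.normalizer_eq_top]; exact Subgroup.mem_top t)
  rwa [h2] at h1

theorem le_normalizer_cj (c : SimpCfg V N L) (t : G) :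
    N ≤ Subgroup.normalizer ((cj t L : Subgroup G) : Set G) := by
  haveI := c.hN.normal
  rw [normalizer_cj]
  have h2 : cj t N = N := mem_normalizer_iff_cj_eq.1 (by rw [Subgroup.normalizer_eq_top]; exact Subgroup.mem_top t)
  rw [← h2]
  exact cj_mono t c.hNL

/-- Dichotomy: a conjugate of `L` equals `L` or meets it trivially. -/
theorem dich (c : SimpCfg V N L) (t : G) : cj t L = L ∨ L ⊓ cj t L = ⊥ := by
  by_cases hK : L ⊓ cj t L = ⊥
  · exact Or.inr hK
  · left
    have h1 : L ⊓ cj t L = L := by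
      refine c.hmin (L ⊓ cj t L) inf_le_left ?_ hK
      intro n hn
      have h2 := c.hNL hn
      have h3 := c.le_normalizer_cj t hn
      rw [Subgroup.mem_normalizer_iff] at h2 h3 ⊢
      intro x
      rw [Subgroup.mem_inf, Subgroup.mem_inf, h2 x, h3 x]
    have h2 : L ≤ cj t L := by
      intro y hy
      have : y ∈ L ⊓ cj t L := by rw [h1]; exact hy
      exact this.2
    exact (eq_of_le_of_card_le' h2 (card_cj t L).le).symm

theorem commute_of_cj_ne (c : SimpCfg V N L) {t : G} (ht : cj t L ≠ L) {a b : G} (ha : a ∈ L)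
    (hb : b ∈ cj t L) : a * b = b * a := by
  have hd : L ⊓ cj t L = ⊥ := (c.dich t).resolve_left ht
  exact commute_of_normalize (c.hLN.trans (c.le_normalizer_cj t)) ((c.cj_le t).trans c.hNL) hd ha hb

/-- The join of the `V`-conjugates of `L`. -/
def orbSet (V L : Subgroup G) : Set (Subgroup G) := {A | ∃ t ∈ V, A = cj t L}

theorem sSup_orbSet (c : SimpCfg V N L) : sSup (orbSet V L) = N := by
  have hle : sSup (orbSet V L) ≤ N := by
    apply sSup_le
    rintro A ⟨t, _, rfl⟩
    exact c.cj_le t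
  have hn : (sSup (orbSet V L)).Normal := by
    apply normal_of_sup_le_normalizer c.sup
    · apply le_normalizer_sSup_of_cj_mem
      rintro x hx A ⟨t, ht, rfl⟩
      exact ⟨x * t, V.mul_mem hx ht, cj_cj L x t⟩
    · intro n hn
      rw [mem_normalizer_iff_cj_eq]
      -- n normalizes each member
      have key : ∀ m ∈ N, cj m (sSup (orbSet V L)) ≤ sSup (orbSet V L) := by
        intro m hm
        rw [cj_le_iff]
        apply sSup_le
        rintro A ⟨t, ht, rfl⟩
        rw [← cj_le_iff]
        have : cj m (cj t L) = cj t L := mem_normalizer_iff_cj_eq.1 (c.le_normalizer_cj t hm)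
        rw [this]
        exact le_sSup ⟨t, ht, rfl⟩
      apply le_antisymm (key n hn)
      have := key n⁻¹ (N.inv_mem hn)
      rw [cj_le_iff, inv_inv] at this
      exact this
  rcases c.hN.min _ hn hle with h | h
  · exfalso
    apply c.hL1
    rw [eq_bot_iff, ← h]
    exact le_sSup ⟨1, V.one_mem, (cj_one L).symm⟩
  · exact h

/-- An element centralizing all `V`-conjugates of `L` is trivial. -/
theorem eq_one_of_centralizes (c : SimpCfg V N L) {a : G}
    (ha : ∀ t ∈ V, ∀ y ∈ cj t L, a * y = y * a) : a = 1 := by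
  have h1 : N ≤ Subgroup.centralizer ({a} : Set G) := by
    rw [← c.sSup_orbSet]
    apply sSup_le
    rintro A ⟨t, ht, rfl⟩ y hy
    rw [mem_centralizer_singleton]
    exact (ha t ht y hy).symm
  have h2 : a ∈ Subgroup.centralizer (N : Set G) := by
    rw [Subgroup.mem_centralizer_iff]
    intro n hn
    have := mem_centralizer_singleton.1 (h1 hn)
    exact this
  rw [c.cent, Subgroup.mem_bot] at h2
  exact h2

theorem inf_centralizer_eq_bot (c : SimpCfg V N L) :
    V ⊓ Subgroup.centralizer (L : Set G) = ⊥ := by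
  rw [eq_bot_iff]
  intro a ha
  rw [Subgroup.mem_bot]
  apply c.eq_one_of_centralizes
  intro t ht y hy
  rw [mem_cj_iff] at hy
  have h1 := (Subgroup.mem_centralizer_iff.1 ha.2) _ hy
  -- a commutes with t
  have hat : a * t = t * a := c.mc.ea.comm a ha.1 t ht
  have hat' : a * t⁻¹ = t⁻¹ * a := (Commute.inv_right (show Commute a t from hat)).eq
  calc a * y = t * (t⁻¹ * a) * y * t * t⁻¹ := by group
    _ = t * (a * t⁻¹) * y * t * t⁻¹ := by rw [hat']
    _ = t * (a * (t⁻¹ * y * t)) * t⁻¹ := by group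
    _ = t * ((t⁻¹ * y * t) * a) * t⁻¹ := by rw [h1]
    _ = y * (t * a) * t⁻¹ := by group
    _ = y * (a * t) * t⁻¹ := by rw [hat]
    _ = y * a := by group

theorem noN2 (c : SimpCfg V N L) : NoN2 L :=
  c.mc.noN2_of_normal_normal c.hN.normal c.hLN c.hNL

/-- The case where some nontrivial element of `V` normalizes `L`. -/
theorem case1 (c : SimpCfg V N L) (hLne : L ≠ N)
    (hV₁ : V ⊓ Subgroup.normalizer (L : Set G) ≠ ⊥) : False := by
  set V₁ := V ⊓ Subgroup.normalizer (L : Set G) with hV₁def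
  have hV₁V : V₁ ≤ V := inf_le_left
  have hX : L ⊔ V₁ ≠ ⊤ := by
    intro ht
    have hn : L.Normal := by
      rw [← Subgroup.normalizer_eq_top_iff, eq_top_iff, ← ht]
      exact sup_le Subgroup.le_normalizer inf_le_right
    rcases c.hN.min L hn c.hLN with h | h
    · exact c.hL1 h
    · exact hLne h
  have h1 : ¬ SidkiIn (L ⊔ V₁) V₁ := by
    apply c.mc.faithful hX le_sup_left (sup_le Subgroup.le_normalizer inf_le_right) c.noN2
      le_sup_right (c.mc.ea.mono hV₁V) hV₁
    rw [eq_bot_iff, ← c.inf_centralizer_eq_bot]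
    exact inf_le_inf_right _ hV₁V
  unfold SidkiIn at h1
  push Not at h1
  obtain ⟨x, hx, v₁, hv₁, hxo, hxi, hxc⟩ := h1
  have hxL : x ∈ L :=
    mem_of_odd_of_mem_sup (K := L) (J := V₁) (c.mc.ea.mono hV₁V).isPGroup inf_le_right hx hxo
  have hx1 : x ≠ 1 := by
    intro hx1
    obtain ⟨⟨w, hw⟩, hw1⟩ := (Subgroup.ne_bot_iff_exists_ne_one).1 hV₁
    apply hxc w hw
    · intro h; apply hw1; exact Subtype.ext h
    · rw [hx1, mul_one, one_mul]
  obtain ⟨u, hu, hu1, huc⟩ := c.mc.sid x v₁ (hV₁V hv₁) hxo hxi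
  by_cases huN : cj u L = L
  · exact hxc u ⟨hu, mem_normalizer_iff_cj_eq.2 huN⟩ hu1 huc
  · have hd : L ⊓ cj u L = ⊥ := (c.dich u).resolve_left huN
    have hxu : x ∈ cj u L := by
      rw [mem_cj_iff]
      have : u⁻¹ * x * u = x := by
        calc u⁻¹ * x * u = u⁻¹ * (x * u) := by group
          _ = u⁻¹ * (u * x) := by rw [huc]
          _ = x := by group
      rw [this]; exact hxL
    have : x ∈ L ⊓ cj u L := ⟨hxL, hxu⟩
    rw [hd, Subgroup.mem_bot] at this
    exact hx1 this

end SimpCfg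

end Cfsg.Agent.Lib.H15.Sidki
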