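import Cfsg.Agent.Lib.H15.Sidki6

/-!
Sidki pairs: a nonabelian minimal normal subgroup of a minimal counterexample is simple, part 2
(helper15).
-/

set_option autoImplicit false

namespace Cfsg.Agent.Lib.H15.Sidki

universe u

variable {G : Type u} [Group G]

theorem odd_orderOf_mul {x y : G} (hc : x * y = y * x) (hx : Odd (orderOf x))
    (hy : Odd (orderOf y)) : Odd (orderOf (x * y)) := by
  have hd := (show Commute x y from hc).orderOf_mul_dvd_lcm
  have h2 : ¬ 2 ∣ Nat.lcm (orderOf x) (orderOf y) := by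
    intro h2
    rcases (Nat.Prime.dvd_lcm Nat.prime_two).1 h2 with h3 | h3
    · exact (Nat.not_even_iff_odd.2 hx) (even_iff_two_dvd.2 h3)
    · exact (Nat.not_even_iff_odd.2 hy) (even_iff_two_dvd.2 h3)
  rw [← Nat.not_even_iff_odd, even_iff_two_dvd]
  intro h3
  exact h2 (h3.trans hd)

theorem eq_one_of_sq_of_odd {h : G} (h2 : h * h = 1) (ho : Odd (orderOf h)) : h = 1 := by
  have h1 : orderOf h ∣ 2 := orderOf_dvd_of_pow_eq_one (by rw [pow_two]; exact h2)
  have h3 : orderOf h = 1 := by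
    rcases (Nat.dvd_prime Nat.prime_two).1 h1 with h3 | h3
    · exact h3
    · rw [h3] at ho; exact absurd ho (by decide)
  exact orderOf_eq_one_iff.1 h3

variable [Finite G] {V : Subgroup G}

/-- A subgroup which is not a `2`-group contains a nontrivial element of odd order. -/
theorem exists_odd_of_not_isPGroup {L : Subgroup G} (hL : ¬ IsPGroup 2 ↥L) :
    ∃ x ∈ L, x ≠ 1 ∧ Odd (orderOf x) := by
  unfold IsPGroup at hL
  push Not at hL
  obtain ⟨g, hg⟩ := hL
  obtain ⟨a, ha⟩ := odd_orderOf_pow_two_pow (g : G) (orderOf_pos _)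
  refine ⟨(g : G) ^ (2 ^ a), L.pow_mem g.2 _, ?_, ha⟩
  intro h1
  apply hg a
  apply Subtype.ext
  simpa using h1

namespace SimpCfg

variable {N L : Subgroup G}

/-- The conjugates of `L` by the nontrivial elements of `V`. -/
def orbSet' (V L : Subgroup G) : Set (Subgroup G) := {A | ∃ t ∈ V, t ≠ 1 ∧ A = cj t L}

theorem cj_ne_of_ne_one (c : SimpCfg V N L) (hV₁ : V ⊓ Subgroup.normalizer (L : Set G) = ⊥)
    {t : G} (ht : t ∈ V) (ht1 : t ≠ 1) : cj t L ≠ L := by
  intro h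
  have : t ∈ V ⊓ Subgroup.normalizer (L : Set G) := ⟨ht, mem_normalizer_iff_cj_eq.2 h⟩
  rw [hV₁, Subgroup.mem_bot] at this
  exact ht1 this

theorem inf_sSup_orbSet' (c : SimpCfg V N L) (hV₁ : V ⊓ Subgroup.normalizer (L : Set G) = ⊥) :
    L ⊓ sSup (orbSet' V L) = ⊥ := by
  by_contra hK
  have hJN : N ≤ Subgroup.normalizer ((sSup (orbSet' V L) : Subgroup G) : Set G) := by
    apply le_normalizer_sSup_of_cj_mem
    rintro n hn A ⟨t, ht, ht1, rfl⟩
    have : cj n (cj t L) = cj t L := mem_normalizer_iff_cj_eq.1 (c.le_normalizer_cj t hn)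
    rw [this]
    exact ⟨t, ht, ht1, rfl⟩
  have h1 : L ⊓ sSup (orbSet' V L) = L := by
    refine c.hmin (L ⊓ sSup (orbSet' V L)) inf_le_left ?_ hK
    intro n hn
    have h2 := c.hNL hn
    have h3 := hJN hn
    rw [Subgroup.mem_normalizer_iff] at h2 h3 ⊢
    intro x
    rw [Subgroup.mem_inf, Subgroup.mem_inf, h2 x, h3 x]
  have hLJ : L ≤ sSup (orbSet' V L) := by
    intro y hy
    have : y ∈ L ⊓ sSup (orbSet' V L) := by rw [h1]; exact hy
    exact this.2
  have hJC : sSup (orbSet' V L) ≤ Subgroup.centralizer (L : Set G) := by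
    apply sSup_le
    rintro A ⟨t, ht, ht1, rfl⟩ y hy
    rw [Subgroup.mem_centralizer_iff]
    intro a ha
    exact c.commute_of_cj_ne (c.cj_ne_of_ne_one hV₁ ht ht1) ha hy
  have hab : ∀ a ∈ L, ∀ b ∈ L, a * b = b * a := by
    intro a ha b hb
    exact (Subgroup.mem_centralizer_iff.1 (hJC (hLJ hb))) a ha
  apply c.hL1
  rw [eq_bot_iff]
  intro a ha
  rw [Subgroup.mem_bot]
  apply c.eq_one_of_centralizes
  intro t ht y hy
  by_cases ht1 : t = 1
  · rw [ht1, cj_one] at hy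
    exact hab a ha y hy
  · exact c.commute_of_cj_ne (c.cj_ne_of_ne_one hV₁ ht ht1) ha hy

/-- The case where no nontrivial element of `V` normalizes `L`. -/
theorem case2 (c : SimpCfg V N L) (hV₁ : V ⊓ Subgroup.normalizer (L : Set G) = ⊥) : False := by
  obtain ⟨⟨v, hv⟩, hv1'⟩ := (Subgroup.ne_bot_iff_exists_ne_one).1 c.mc.ne
  have hv1 : v ≠ 1 := fun h => hv1' (Subtype.ext h)
  have hL2 : ¬ IsPGroup 2 ↥L := fun h2 => c.hL1 (c.noN2 L le_rfl h2 Subgroup.le_normalizer)
  obtain ⟨x, hxL, hx1, hxo⟩ := exists_odd_of_not_isPGroup hL2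
  have hvinv : v⁻¹ = v := c.mc.ea.inv_eq hv
  have hvv : v * v = 1 := c.mc.ea.sq v hv
  set x' := v * x * v⁻¹ with hx'
  have hx'L : x' ∈ cj v L := conj_mem_cj hxL
  have hvL : cj v L ≠ L := c.cj_ne_of_ne_one hV₁ hv hv1
  have hd : L ⊓ cj v L = ⊥ := (c.dich v).resolve_left hvL
  have hcomm : x * x' = x' * x := c.commute_of_cj_ne hvL hxL hx'L
  have hcomm' : x * x'⁻¹ = x'⁻¹ * x := (Commute.inv_right (show Commute x x' from hcomm)).eq
  have hx'o : Odd (orderOf x'⁻¹) := by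
    rw [orderOf_inv, hx']
    have : orderOf (v * x * v⁻¹) = orderOf x := by
      have := orderOf_injective (MulAut.conj v).toMonoidHom (MulAut.conj v).injective x
      simpa [MulAut.conj_apply] using this
    rw [this]; exact hxo
  have hho : Odd (orderOf (x * x'⁻¹)) := odd_orderOf_mul hcomm' hxo hx'o
  have hvx' : v * x' * v⁻¹ = x := by
    rw [hx', hvinv]
    calc v * (v * x * v) * v = (v * v) * x * (v * v) := by group
      _ = x := by rw [hvv, one_mul, mul_one]
  have hhi : v * (x * x'⁻¹) * v⁻¹ = (x * x'⁻¹)⁻¹ := by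
    calc v * (x * x'⁻¹) * v⁻¹ = (v * x * v⁻¹) * (v * x' * v⁻¹)⁻¹ := by group
      _ = x' * x⁻¹ := by rw [hvx']
      _ = (x * x'⁻¹)⁻¹ := by rw [mul_inv_rev, inv_inv]
  obtain ⟨u, hu, hu1, huc⟩ := c.mc.sid (x * x'⁻¹) v hv hho hhi
  by_cases huv : u = v
  · rw [huv] at huc
    have h1 : v * (x * x'⁻¹) * v⁻¹ = x * x'⁻¹ := by rw [huc]; group
    rw [hhi] at h1
    have h2 : (x * x'⁻¹) * (x * x'⁻¹) = 1 := by
      nth_rewrite 1 [← h1]
      group
    have h3 := eq_one_of_sq_of_odd h2 hho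
    have h4 : x = x' := by
      have := mul_inv_eq_one.1 h3
      exact this
    have : x ∈ L ⊓ cj v L := ⟨hxL, by rw [h4]; exact hx'L⟩
    rw [hd, Subgroup.mem_bot] at this
    exact hx1 this
  · have huv1 : u * v ≠ 1 := by
      intro h
      apply huv
      have : u = v⁻¹ := eq_inv_of_mul_eq_one_left h
      rw [this, hvinv]
    have h1 : u * x * u⁻¹ ∈ sSup (orbSet' V L) :=
      (le_sSup (show cj u L ∈ orbSet' V L from ⟨u, hu, hu1, rfl⟩)) (conj_mem_cj hxL)
    have h2 : u * x' * u⁻¹ ∈ sSup (orbSet' V L) := by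
      have : u * x' * u⁻¹ = (u * v) * x * (u * v)⁻¹ := by rw [hx']; group
      rw [this]
      exact (le_sSup (show cj (u * v) L ∈ orbSet' V L from ⟨u * v, V.mul_mem hu hv, huv1, rfl⟩))
        (conj_mem_cj hxL)
    have h3 : x' ∈ sSup (orbSet' V L) :=
      (le_sSup (show cj v L ∈ orbSet' V L from ⟨v, hv, hv1, rfl⟩)) hx'L
    have h4 : x = (u * x * u⁻¹) * (u * x' * u⁻¹)⁻¹ * x' := by
      have h5 : u * (x * x'⁻¹) * u⁻¹ = x * x'⁻¹ := by rw [huc]; group
      calc x = (x * x'⁻¹) * x' := by group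
        _ = (u * (x * x'⁻¹) * u⁻¹) * x' := by rw [h5]
        _ = (u * x * u⁻¹) * (u * x' * u⁻¹)⁻¹ * x' := by group
    have h6 : x ∈ sSup (orbSet' V L) := by
      rw [h4]
      exact Subgroup.mul_mem _ (Subgroup.mul_mem _ h1 (Subgroup.inv_mem _ h2)) h3
    have : x ∈ L ⊓ sSup (orbSet' V L) := ⟨hxL, h6⟩
    rw [c.inf_sSup_orbSet' hV₁, Subgroup.mem_bot] at this
    exact hx1 this

end SimpCfg

/-- In a minimal counterexample a nonabelian minimal normal subgroup is simple. -/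
theorem MC.caseB_simple (h : MC V) {N : Subgroup G} (hN : MinNormal N)
    (hnab : ¬ ∀ a ∈ N, ∀ b ∈ N, a * b = b * a) :
    ∀ L : Subgroup G, L ≤ N → N ≤ Subgroup.normalizer (L : Set G) → L = ⊥ ∨ L = N := by
  have hC := h.caseB_cent hN hnab
  have hsup := h.caseB_sup hN hnab
  -- a minimal nontrivial normal subgroup of `N`
  let S : Set (Subgroup G) := {L | L ≤ N ∧ N ≤ Subgroup.normalizer (L : Set G) ∧ L ≠ ⊥}
  have hSne : S.Nonempty := ⟨N, le_rfl, Subgroup.le_normalizer, hN.ne⟩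
  obtain ⟨L, hLS, hLmin⟩ := WellFounded.has_min (wellFounded_lt (α := Subgroup G)) S hSne
  have c : SimpCfg V N L :=
    { mc := h, hN := hN, cent := hC, sup := hsup, hLN := hLS.1, hNL := hLS.2.1, hL1 := hLS.2.2
      hmin := by
        intro K hKL hNK hK1
        by_contra hne
        exact hLmin K ⟨hKL.trans hLS.1, hNK, hK1⟩ (lt_of_le_of_ne hKL hne) }
  have hLN : L = N := by
    by_contra hne
    by_cases hV₁ : V ⊓ Subgroup.normalizer (L : Set G) = ⊥
    · exact c.case2 hV₁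
    · exact c.case1 hne hV₁
  intro L' hL'N hNL'
  by_cases hL'1 : L' = ⊥
  · exact Or.inl hL'1
  · right
    have := c.hmin L' (by rw [hLN]; exact hL'N) hNL' hL'1
    rw [this, hLN]

end Cfsg.Agent.Lib.H15.Sidki
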