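import Cfsg.Agent.Lib.H15.Sidki7
import Cfsg.Agent.Lib.H15.SAG5
import Cfsg.Agent.Lib.H19.SylowAux

/-!
Sidki pairs: an abelian minimal normal subgroup is impossible in a minimal counterexample
(helper15).
-/

set_option autoImplicit false

namespace Cfsg.Agent.Lib.H15.Sidki

universe u

variable {G : Type u} [Group G] [Finite G] {V : Subgroup G}

/-- The set-up: an abelian minimal normal subgroup. -/
structure AbCfg (V N : Subgroup G) : Prop where
  mc : MC V
  hN : MinNormal N
  hab : ∀ a ∈ N, ∀ b ∈ N, a * b = b * a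

namespace AbCfg

variable {N : Subgroup G}

theorem eq_one_of_sq (c : AbCfg V N) {b : G} (hb : b ∈ N) (hb2 : b * b = 1) : b = 1 :=
  c.mc.eq_one_of_abelian_normal c.hN.normal c.hab hb hb2

theorem odd_card (c : AbCfg V N) : Odd (Nat.card ↥N) := by
  rw [← Nat.not_even_iff_odd, even_iff_two_dvd]
  intro h2
  haveI : Fact (Nat.Prime 2) := ⟨Nat.prime_two⟩
  obtain ⟨x, hx⟩ := exists_prime_orderOf_dvd_card' 2 h2
  have h1 : (x : G) * (x : G) = 1 := by
    have := pow_orderOf_eq_one x
    rw [hx, pow_two] at this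
    exact congrArg Subtype.val this
  have h3 := c.eq_one_of_sq x.2 h1
  have h4 : x = 1 := Subtype.ext h3
  rw [h4, orderOf_one] at hx
  exact absurd hx (by decide)

theorem inf_two_group (c : AbCfg V N) {Q : Subgroup G} (hQ : IsPGroup 2 ↥Q) : N ⊓ Q = ⊥ :=
  Cfsg.Agent.Lib.H27.odd_inf_two_group_eq_bot N Q c.odd_card hQ

theorem inf_V (c : AbCfg V N) : V ⊓ N = ⊥ := by
  rw [inf_comm]; exact c.inf_two_group c.mc.ea.isPGroup

theorem odd_orderOf (c : AbCfg V N) {n : G} (hn : n ∈ N) : Odd (orderOf n) := by
  have h1 : orderOf n ∣ Nat.card ↥N := by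
    have := orderOf_dvd_natCard (⟨n, hn⟩ : ↥N)
    rwa [Subgroup.orderOf_mk] at this
  exact Odd.of_dvd_nat c.odd_card h1

/-- The base case `G = V N`. -/
theorem base (c : AbCfg V N) (hsup : V ⊔ N = ⊤) : False := by
  haveI := c.hN.normal
  have hV := c.mc.ea
  -- C_V(N) is normal, hence trivial
  have hCV : V ⊓ Subgroup.centralizer (N : Set G) = ⊥ := by
    apply c.mc.eq_bot_of_sq
    · apply normal_of_sup_le_normalizer hsup
      · intro v hv
        rw [Subgroup.mem_normalizer_iff]
        intro a
        have key : ∀ a, a ∈ V ⊓ Subgroup.centralizer (N : Set G) → v * a * v⁻¹ = a := by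
          intro a ha
          rw [hV.comm v hv a ha.1]; group
        constructor
        · intro ha; rw [key a ha]; exact ha
        · intro ha
          have h1 : v⁻¹ * (v * a * v⁻¹) * v⁻¹⁻¹ = v * a * v⁻¹ := by
            have hvi : v⁻¹ ∈ V := V.inv_mem hv
            rw [hV.comm v⁻¹ hvi _ ha.1]; group
          have h2 : v⁻¹ * (v * a * v⁻¹) * v⁻¹⁻¹ = a := by group
          rw [← h2, h1]; exact ha
      · intro n hn
        rw [Subgroup.mem_normalizer_iff]
        intro a
        have key : ∀ m ∈ N, ∀ a, a ∈ V ⊓ Subgroup.centralizer (N : Set G) → m * a * m⁻¹ = a := by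
          intro m hm a ha
          have := (Subgroup.mem_centralizer_iff.1 ha.2) m hm
          rw [this]; group
        constructor
        · intro ha; rw [key n hn a ha]; exact ha
        · intro ha
          have h1 := key n⁻¹ (N.inv_mem hn) _ ha
          have h2 : n⁻¹ * (n * a * n⁻¹) * n⁻¹⁻¹ = a := by group
          rw [← h2, h1]; exact ha
    · intro a ha; exact hV.sq a ha.1
  -- every nontrivial element of V inverts N
  have hinv : ∀ v ∈ V, v ≠ 1 → ∀ n ∈ N, v * n * v⁻¹ = n⁻¹ := by
    intro v hv hv1 n hn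
    have hvinv : v⁻¹ = v := hV.inv_eq hv
    have hFn : (N ⊓ Subgroup.centralizer ({v} : Set G)).Normal := by
      apply normal_of_sup_le_normalizer hsup
      · intro t ht
        have key : ∀ s ∈ V, ∀ f, f ∈ N ⊓ Subgroup.centralizer ({v} : Set G) →
            s * f * s⁻¹ ∈ N ⊓ Subgroup.centralizer ({v} : Set G) := by
          intro s hs f hf
          refine Subgroup.mem_inf.2 ⟨c.hN.normal.conj_mem f hf.1 s, ?_⟩
          rw [mem_centralizer_singleton]
          have h1 : f * v = v * f := mem_centralizer_singleton.1 hf.2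
          have h2 : v * s = s * v := hV.comm v hv s hs
          have h3 : v * s⁻¹ = s⁻¹ * v := (Commute.inv_right (show Commute v s from h2)).eq
          calc s * f * s⁻¹ * v = s * f * (s⁻¹ * v) := by group
            _ = s * f * (v * s⁻¹) := by rw [h3]
            _ = s * (f * v) * s⁻¹ := by group
            _ = s * (v * f) * s⁻¹ := by rw [h1]
            _ = (s * v) * f * s⁻¹ := by group
            _ = (v * s) * f * s⁻¹ := by rw [h2]
            _ = v * (s * f * s⁻¹) := by group
        rw [Subgroup.mem_normalizer_iff]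
        intro a
        constructor
        · intro ha; exact key t ht a ha
        · intro ha
          have := key t⁻¹ (V.inv_mem ht) _ ha
          have h2 : t⁻¹ * (t * a * t⁻¹) * t⁻¹⁻¹ = a := by group
          rwa [h2] at this
      · intro m hm
        have key : ∀ m ∈ N, ∀ f, f ∈ N ⊓ Subgroup.centralizer ({v} : Set G) → m * f * m⁻¹ = f := by
          intro m hm f hf
          rw [c.hab m hm f hf.1]; group
        rw [Subgroup.mem_normalizer_iff]
        intro a
        constructor
        · intro ha; rw [key m hm a ha]; exact ha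
        · intro ha
          have h1 := key m⁻¹ (N.inv_mem hm) _ ha
          have h2 : m⁻¹ * (m * a * m⁻¹) * m⁻¹⁻¹ = a := by group
          rw [← h2, h1]; exact ha
    rcases c.hN.min _ hFn inf_le_left with hF | hF
    · have hmem : n * (v * n * v⁻¹) ∈ N ⊓ Subgroup.centralizer ({v} : Set G) := by
        have hvn : v * n * v⁻¹ ∈ N := c.hN.normal.conj_mem n hn v
        refine Subgroup.mem_inf.2 ⟨N.mul_mem hn hvn, ?_⟩
        rw [mem_centralizer_singleton, hvinv]
        calc n * (v * n * v) * v = n * (v * n) * (v * v) := by group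
          _ = n * (v * n) := by rw [hV.sq v hv, mul_one]
          _ = n * (v * n * v⁻¹) * v := by group
          _ = (v * n * v⁻¹) * n * v := by rw [c.hab n hn _ hvn]
          _ = v * (n * (v * n * v)) := by rw [hvinv]; group
      rw [hF, Subgroup.mem_bot] at hmem
      exact (eq_inv_of_mul_eq_one_right hmem)
    · exfalso
      apply hv1
      have : v ∈ V ⊓ Subgroup.centralizer (N : Set G) := by
        refine Subgroup.mem_inf.2 ⟨hv, ?_⟩
        rw [Subgroup.mem_centralizer_iff]
        intro m hm
        have : m ∈ N ⊓ Subgroup.centralizer ({v} : Set G) := by rw [hF]; exact hm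
        exact mem_centralizer_singleton.1 this.2
      rw [hCV, Subgroup.mem_bot] at this
      exact this
  obtain ⟨⟨v, hv⟩, hv1'⟩ := (Subgroup.ne_bot_iff_exists_ne_one).1 c.mc.ne
  have hv1 : v ≠ 1 := fun h => hv1' (Subtype.ext h)
  obtain ⟨⟨n, hn⟩, hn1'⟩ := (Subgroup.ne_bot_iff_exists_ne_one).1 c.hN.ne
  have hn1 : n ≠ 1 := fun h => hn1' (Subtype.ext h)
  obtain ⟨u, hu, hu1, huc⟩ := c.mc.sid n v hv (c.odd_orderOf hn) (hinv v hv hv1 n hn)
  have h1 : u * n * u⁻¹ = n⁻¹ := hinv u hu hu1 n hn
  have h2 : u * n * u⁻¹ = n := by rw [huc]; group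
  have h3 : n * n = 1 := by
    have : n = n⁻¹ := h2.symm.trans h1
    calc n * n = n * n⁻¹ := by rw [← this]
      _ = 1 := mul_inv_cancel n
  exact hn1 (c.eq_one_of_sq hn h3)

end AbCfg

end Cfsg.Agent.Lib.H15.Sidki
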