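import Cfsg.Agent.Lib.H15.Sidki8

/-!
Sidki pairs: an abelian minimal normal subgroup is impossible, main case (helper15).
-/

set_option autoImplicit false

namespace Cfsg.Agent.Lib.H15.Sidki

universe u

variable {G : Type u} [Group G] [Finite G] {V : Subgroup G}

theorem card_quotient_lt {N : Subgroup G} [N.Normal] (hN : N ≠ ⊥) :
    Nat.card (G ⧸ N) < Nat.card G := by
  rw [← Subgroup.index_eq_card, ← Subgroup.index_mul_card N]
  have h1 : 1 < Nat.card ↥N := by
    rw [Finite.one_lt_card_iff_nontrivial]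
    exact (Subgroup.nontrivial_iff_ne_bot _).2 hN
  have h2 : 0 < N.index := Nat.pos_of_ne_zero Subgroup.index_ne_zero_of_finite
  nlinarith

namespace AbCfg

variable {N : Subgroup G}

/-- Data extracted from the quotient `G / N`: the preimage `T` of `O₂(G/N)`. -/
theorem exists_T (c : AbCfg V N) :
    ∃ T : Subgroup G, T.Normal ∧ N ≤ T ∧ V ⊓ T ≠ ⊥ ∧ (∀ t ∈ T, ∃ k : ℕ, t ^ (2 ^ k) ∈ N) ∧
      ∃ k : ℕ, N.relIndex T = 2 ^ k := by
  haveI := c.hN.normal
  haveI : Fact (Nat.Prime 2) := ⟨Nat.prime_two⟩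
  set π := QuotientGroup.mk' N with hπ
  have hVbar1 : V.map π ≠ ⊥ := by
    intro hb
    rw [Subgroup.map_eq_bot_iff, QuotientGroup.ker_mk'] at hb
    apply c.mc.ne
    rw [← inf_of_le_left hb, c.inf_V]
  have h1 := c.mc.minG (G ⧸ N) (V.map π) (card_quotient_lt c.hN.ne)
    (c.mc.ea.map _).isElementaryAbelian hVbar1 (quot_sidki c.mc.ea c.mc.sid N c.inf_V)
  have hOn : (Cfsg.pCore 2 (G ⧸ N)).Normal := Cfsg.Agent.Lib.H27.pCore_normal'
  have hO2 : IsPGroup 2 ↥(Cfsg.pCore 2 (G ⧸ N)) := Cfsg.Agent.Lib.H27.pCore_isPGroup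
  refine ⟨(Cfsg.pCore 2 (G ⧸ N)).comap π, hOn.comap π, ?_, ?_, ?_, ?_⟩
  · intro n hn
    rw [Subgroup.mem_comap]
    have : π n = 1 := by rw [hπ, QuotientGroup.mk'_apply, QuotientGroup.eq_one_iff]; exact hn
    rw [this]; exact Subgroup.one_mem _
  · obtain ⟨⟨wbar, hw⟩, hw1⟩ := (Subgroup.ne_bot_iff_exists_ne_one).1 h1
    obtain ⟨w, hwV, rfl⟩ := hw.1
    intro hbot
    have hwT : w ∈ V ⊓ (Cfsg.pCore 2 (G ⧸ N)).comap π := ⟨hwV, hw.2⟩
    rw [hbot, Subgroup.mem_bot] at hwT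
    apply hw1
    apply Subtype.ext
    show π w = 1
    rw [hwT, map_one]
  · intro t ht
    obtain ⟨k, hk⟩ := hO2 ⟨π t, ht⟩
    refine ⟨k, ?_⟩
    have h2 : π (t ^ (2 ^ k)) = 1 := by
      rw [map_pow]
      exact congrArg Subtype.val hk
    rw [hπ, QuotientGroup.mk'_apply, QuotientGroup.eq_one_iff] at h2
    exact h2
  · obtain ⟨k, hk⟩ := hO2.exists_card_eq
    refine ⟨k, ?_⟩
    have h2 := Subgroup.relIndex_ker (K := (Cfsg.pCore 2 (G ⧸ N)).comap π) π
    rw [QuotientGroup.ker_mk', Subgroup.map_comap_eq_self_of_surjective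
      (QuotientGroup.mk'_surjective N)] at h2
    rw [h2, hk]

/-- The main case `V N < G`. -/
theorem main (c : AbCfg V N) (hsup : V ⊔ N ≠ ⊤) : False := by
  haveI := c.hN.normal
  haveI : Fact (Nat.Prime 2) := ⟨Nat.prime_two⟩
  have hV := c.mc.ea
  obtain ⟨T, hTn, hNT, hV₀, hT2, k, hk⟩ := c.exists_T
  haveI := hTn
  obtain ⟨P, hVP⟩ := hV.isPGroup.exists_le_sylow
  set S₀ := (P : Subgroup G) ⊓ T with hS₀
  have hS₀2 : IsPGroup 2 ↥S₀ := P.2.to_le inf_le_left
  have hUi := Cfsg.Agent.Lib.H19.not_dvd_relIndex_inf_normal P T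
  have hfr := Sylow.normalizer_sup_eq_top (Cfsg.Agent.Lib.H15.SAG.inSylow P T hUi)
  have hQmap : ((Cfsg.Agent.Lib.H15.SAG.inSylow P T hUi : Sylow 2 ↥T) : Subgroup ↥T).map T.subtype
      = S₀ := by
    rw [Cfsg.Agent.Lib.H15.SAG.coe_inSylow, Subgroup.subgroupOf_map_subtype, inf_assoc, inf_idem]
  rw [hQmap] at hfr
  set G₀ := Subgroup.normalizer (S₀ : Set G) with hG₀
  -- T = S₀ N
  have hTle : T ≤ S₀ ⊔ N := by
    rw [← Subgroup.relIndex_eq_one]
    have ha : (S₀ ⊔ N).relIndex T ∣ S₀.relIndex T := Subgroup.relIndex_dvd_of_le_left T le_sup_left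
    have hb : (S₀ ⊔ N).relIndex T ∣ 2 ^ k := by
      rw [← hk]; exact Subgroup.relIndex_dvd_of_le_left T le_sup_right
    have hc : Nat.Coprime ((S₀ ⊔ N).relIndex T) (2 ^ k) := by
      apply Nat.Coprime.pow_right
      rw [Nat.coprime_comm, Nat.Prime.coprime_iff_not_dvd Nat.prime_two]
      intro h2
      exact hUi (h2.trans ha)
    exact Nat.Coprime.eq_one_of_dvd hc hb
  have hS₀G₀ : S₀ ≤ G₀ := Subgroup.le_normalizer
  have hG₀N : G₀ ⊔ N = ⊤ := by
    rw [eq_top_iff, ← hfr]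
    apply sup_le le_sup_left
    exact hTle.trans (sup_le (hS₀G₀.trans le_sup_left) le_sup_right)
  -- V ≤ G₀
  have hPG₀ : (P : Subgroup G) ≤ G₀ := by
    intro g hg
    rw [hG₀, Subgroup.mem_normalizer_iff]
    intro x
    have h1 : x ∈ (P : Subgroup G) ↔ g * x * g⁻¹ ∈ (P : Subgroup G) := by
      constructor
      · intro hx; exact Subgroup.mul_mem _ (Subgroup.mul_mem _ hg hx) (Subgroup.inv_mem _ hg)
      · intro hx
        have := Subgroup.mul_mem _ (Subgroup.mul_mem _ (Subgroup.inv_mem _ hg) hx) hg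
        have h2 : g⁻¹ * (g * x * g⁻¹) * g = x := by group
        rwa [h2] at this
    have h2 : x ∈ T ↔ g * x * g⁻¹ ∈ T := by
      constructor
      · intro hx; exact hTn.conj_mem x hx g
      · intro hx
        have := hTn.conj_mem _ hx g⁻¹
        have h2 : g⁻¹ * (g * x * g⁻¹) * g⁻¹⁻¹ = x := by group
        rwa [h2] at this
    rw [hS₀, Subgroup.mem_inf, Subgroup.mem_inf, h1, h2]
  have hVG₀ : V ≤ G₀ := hVP.trans hPG₀
  -- N ∩ G₀ is normal in G
  have hK₀n : (N ⊓ G₀).Normal := by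
    apply normal_of_sup_le_normalizer hG₀N
    · intro g hg
      have key : ∀ g ∈ G₀, ∀ a, a ∈ N ⊓ G₀ → g * a * g⁻¹ ∈ N ⊓ G₀ := by
        intro g hg a ha
        exact Subgroup.mem_inf.2 ⟨c.hN.normal.conj_mem a ha.1 g,
          G₀.mul_mem (G₀.mul_mem hg ha.2) (G₀.inv_mem hg)⟩
      rw [Subgroup.mem_normalizer_iff]
      intro a
      constructor
      · intro ha; exact key g hg a ha
      · intro ha
        have := key g⁻¹ (G₀.inv_mem hg) _ ha
        have h2 : g⁻¹ * (g * a * g⁻¹) * g⁻¹⁻¹ = a := by group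
        rwa [h2] at this
    · intro m hm
      have key : ∀ m ∈ N, ∀ f, f ∈ N ⊓ G₀ → m * f * m⁻¹ = f := by
        intro m hm f hf
        rw [c.hab m hm f hf.1]; group
      rw [Subgroup.mem_normalizer_iff]
      intro a
      constructor
      · intro ha; rw [key m hm a ha]; exact ha
      · intro ha
        have h1 := key m⁻¹ (N.inv_mem hm) _ ha
        have h2 : m⁻¹ * (m * a * m⁻¹) * m⁻¹⁻¹ = a := by group
        rw [← h2, h1]; exact ha
  have hNG₀ : N ⊓ G₀ = ⊥ := by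
    rcases c.hN.min _ hK₀n inf_le_left with h | h
    · exact h
    · exfalso
      have hNle : N ≤ G₀ := by rw [← h]; exact inf_le_right
      have hG₀top : G₀ = ⊤ := by rw [← hG₀N]; exact (sup_of_le_left hNle).symm
      have hS₀n : S₀.Normal := by rw [← Subgroup.normalizer_eq_top_iff]; exact hG₀top
      have hS₀bot : S₀ = ⊥ := c.mc.eq_bot_of_normal hS₀n hS₀2
      apply hV₀
      rw [eq_bot_iff]
      have hTN : T ≤ N := by
        have := hTle
        rw [hS₀bot, bot_sup_eq] at this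
        exact this
      calc V ⊓ T ≤ V ⊓ N := inf_le_inf_left V hTN
        _ = ⊥ := c.inf_V
  have hG₀top : G₀ ≠ ⊤ := by
    intro ht
    apply c.hN.ne
    rw [← hNG₀, ht, inf_top_eq]
  -- C₀
  set C₀ := Subgroup.centralizer (N : Set G) ⊓ G₀ with hC₀
  have hC₀n : C₀.Normal := by
    apply normal_of_sup_le_normalizer hG₀N
    · intro g hg
      have hCn : (Subgroup.centralizer (N : Set G)).Normal := inferInstance
      have key : ∀ g ∈ G₀, ∀ a, a ∈ C₀ → g * a * g⁻¹ ∈ C₀ := by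
        intro g hg a ha
        exact Subgroup.mem_inf.2 ⟨hCn.conj_mem a ha.1 g,
          G₀.mul_mem (G₀.mul_mem hg ha.2) (G₀.inv_mem hg)⟩
      rw [Subgroup.mem_normalizer_iff]
      intro a
      constructor
      · intro ha; exact key g hg a ha
      · intro ha
        have := key g⁻¹ (G₀.inv_mem hg) _ ha
        have h2 : g⁻¹ * (g * a * g⁻¹) * g⁻¹⁻¹ = a := by group
        rwa [h2] at this
    · intro m hm
      have key : ∀ m ∈ N, ∀ f, f ∈ C₀ → m * f * m⁻¹ = f := by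
        intro m hm f hf
        have := (Subgroup.mem_centralizer_iff.1 hf.1) m hm
        rw [this]; group
      rw [Subgroup.mem_normalizer_iff]
      intro a
      constructor
      · intro ha; rw [key m hm a ha]; exact ha
      · intro ha
        have h1 := key m⁻¹ (N.inv_mem hm) _ ha
        have h2 : m⁻¹ * (m * a * m⁻¹) * m⁻¹⁻¹ = a := by group
        rw [← h2, h1]; exact ha
  have hNC₀ : N ⊓ C₀ = ⊥ := by
    rw [eq_bot_iff, ← hNG₀]
    exact inf_le_inf_left N inf_le_right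
  -- T ∩ C₀ = 1
  have hTC₀ : T ⊓ C₀ = ⊥ := by
    have hn : (T ⊓ C₀).Normal := inferInstance
    apply c.mc.eq_bot_of_normal hn
    intro a
    obtain ⟨j, hj⟩ := hT2 a.1 a.2.1
    refine ⟨j, ?_⟩
    apply Subtype.ext
    have h1 : (a : G) ^ (2 ^ j) ∈ N ⊓ C₀ := ⟨hj, C₀.pow_mem a.2.2 _⟩
    rw [hNC₀, Subgroup.mem_bot] at h1
    simpa using h1
  -- apply the trick
  apply c.mc.trick c.hN.normal hC₀n hNC₀
  · intro ht
    apply hsup
    rw [eq_top_iff, ← ht]
    exact sup_le_sup_right inf_le_left N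
  · intro hb
    apply hV₀
    rw [eq_bot_iff, ← hb]
    intro w hw
    refine Subgroup.mem_inf.2 ⟨hw.1, ?_⟩
    rw [Subgroup.mem_centralizer_iff]
    intro x hx
    have hTnorm : T ≤ Subgroup.normalizer (C₀ : Set G) := by
      rw [Subgroup.normalizer_eq_top]; exact le_top
    have hCnorm : C₀ ≤ Subgroup.normalizer (T : Set G) := by
      rw [Subgroup.normalizer_eq_top]; exact le_top
    exact (commute_of_normalize hTnorm hCnorm hTC₀ hw.2 hx).symm
  · rw [eq_bot_iff]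
    intro u hu
    rw [Subgroup.mem_bot]
    have huC₀ : u ∈ C₀ := Subgroup.mem_inf.2 ⟨hu.2, hVG₀ hu.1.1⟩
    have hA : (C₀ ⊓ Subgroup.centralizer (C₀ : Set G)).Normal := inferInstance
    apply c.mc.eq_one_of_abelian_normal hA _
      (show u ∈ C₀ ⊓ Subgroup.centralizer (C₀ : Set G) from ⟨huC₀, hu.1.2⟩) (hV.sq u hu.1.1)
    intro a ha b hb
    exact ((Subgroup.mem_centralizer_iff.1 ha.2) b hb.1).symm
  · intro ht
    apply hG₀top
    rw [eq_top_iff, ← ht]
    exact sup_le hVG₀ inf_le_right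

theorem false (c : AbCfg V N) : False := by
  by_cases hsup : V ⊔ N = ⊤
  · exact c.base hsup
  · exact c.main hsup

end AbCfg

end Cfsg.Agent.Lib.H15.Sidki
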