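import Mathlib
import Cfsg.Agent.Lib.H15.SpGenE

/-!
# `Sp_{2m}(F)` is generated by two elements when `|F| = 2` and `m ≥ 3`
-/

set_option autoImplicit false
set_option linter.unusedSectionVars false
set_option linter.unusedVariables false
set_option linter.unusedSimpArgs false

namespace Cfsg.Agent.Lib.H15.SpGen

open Matrix Cfsg.Agent.Lib.H4 Cfsg.Agent.Lib.H2.Sp

variable {F : Type*} [Field F] {n : ℕ}

local notation "VV" => (Fin (n + 1 + 1 + 1) ⊕ Fin (n + 1 + 1 + 1) → F)
local notation "GG" => Matrix.symplecticGroup (Fin (n + 1 + 1 + 1)) F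

/-- in characteristic two, the product of two transvections with `B v u = 1` has order three -/
theorem tv_mul_tv_pow_three (h2 : (2 : F) = 0) (u v : VV) (huv : B v u = 1) :
    (tv (n + 1 + 1 + 1) u 1 * tv (n + 1 + 1 + 1) v 1) ^ 3 = 1 := by
  have hneg : (-1 : F) = 1 := by
    have : (1 : F) + 1 = 0 := by rw [one_add_one_eq_two]; exact h2
    exact neg_eq_of_add_eq_zero_left this
  have hinv : ∀ x : VV, (tv (n + 1 + 1 + 1) x 1)⁻¹ = tv (n + 1 + 1 + 1) x 1 := by
    intro x
    rw [tv_inv, hneg]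
  have hvu : B u v = 1 := by rw [B_swap, huv, hneg]
  have h1 : tv (n + 1 + 1 + 1) u 1 * tv (n + 1 + 1 + 1) v 1 * tv (n + 1 + 1 + 1) u 1 =
      tv (n + 1 + 1 + 1) (u + v) 1 := by
    have := conj_tv' (tv (n + 1 + 1 + 1) u 1) v 1
    rw [hinv, act_tv, huv, mul_one, one_smul, add_comm v u] at this
    exact this
  have h3 : tv (n + 1 + 1 + 1) v 1 * tv (n + 1 + 1 + 1) u 1 * tv (n + 1 + 1 + 1) v 1 =
      tv (n + 1 + 1 + 1) (u + v) 1 := by
    have := conj_tv' (tv (n + 1 + 1 + 1) v 1) u 1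
    rw [hinv, act_tv, hvu, mul_one, one_smul] at this
    exact this
  have h4 : tv (n + 1 + 1 + 1) (u + v) 1 * tv (n + 1 + 1 + 1) (u + v) 1 = 1 := by
    rw [tv_mul, one_add_one_eq_two, h2, tv_zero_right]
  calc (tv (n + 1 + 1 + 1) u 1 * tv (n + 1 + 1 + 1) v 1) ^ 3
      = (tv (n + 1 + 1 + 1) u 1 * tv (n + 1 + 1 + 1) v 1 * tv (n + 1 + 1 + 1) u 1) *
          (tv (n + 1 + 1 + 1) v 1 * tv (n + 1 + 1 + 1) u 1 * tv (n + 1 + 1 + 1) v 1) := by
        rw [pow_succ, pow_succ, pow_one]; group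
    _ = 1 := by rw [h1, h3, h4]

theorem two_ne_zero' : (2 : Fin (n + 1 + 1 + 1)) ≠ 0 := by
  rw [← Fin.succ_one_eq_two]
  exact Fin.succ_ne_zero _

theorem two_ne_one' : (2 : Fin (n + 1 + 1 + 1)) ≠ 1 := by
  rw [← Fin.succ_one_eq_two, ← Fin.succ_zero_eq_one]
  intro h
  exact one_ne_zero' (Fin.succ_inj.1 h)

theorem act_cox_ee1 : act (coxG : GG) (ee 1 : VV) = ee 2 := by
  rw [act_cox]
  have := cox_ee_castSucc (F := F) (n := n + 1 + 1) (1 : Fin (n + 1 + 1))
  rwa [Fin.castSucc_one, Fin.succ_one_eq_two] at this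

theorem exists_gen_of_two [Fintype F] (hq : Fintype.card F = 2) :
    ∃ a b : GG, Subgroup.closure ({a, b} : Set GG) = ⊤ := by
  classical
  have h2 : (2 : F) = 0 := by
    have := FiniteField.cast_card_eq_zero F
    rw [hq] at this
    exact_mod_cast this
  have h3 : ((3 : ℕ) : F) = 1 := by
    push_cast
    have : (3 : F) = 2 + 1 := by norm_num
    rw [this, h2, zero_add]
  have h01 : ∀ c : F, c = 0 ∨ c = 1 := by
    intro c
    by_contra hcon
    push_neg at hcon
    have hcard : ({0, 1, c} : Finset F).card = 3 := by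
      rw [Finset.card_insert_of_notMem, Finset.card_insert_of_notMem, Finset.card_singleton]
      · simp only [Finset.mem_singleton]
        exact fun h => hcon.2 h.symm
      · simp only [Finset.mem_insert, Finset.mem_singleton, not_or]
        exact ⟨zero_ne_one, fun h => hcon.1 h.symm⟩
    have := Finset.card_le_univ ({0, 1, c} : Finset F)
    omega
  set t : GG := tv (n + 1 + 1 + 1) (ee 2 : VV) 1 with ht
  set y : GG := tv (n + 1 + 1 + 1) (e01 : VV) 1 * tv (n + 1 + 1 + 1) (ff 0 : VV) 1 with hy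
  set a : GG := coxG with ha
  set b : GG := t * y with hb
  refine ⟨a, b, ?_⟩
  set H : Subgroup GG := Subgroup.closure ({a, b} : Set GG) with hH
  have haH : a ∈ H := Subgroup.subset_closure (by simp)
  have hbH : b ∈ H := Subgroup.subset_closure (by simp)
  have hy3 : y ^ 3 = 1 := by
    apply tv_mul_tv_pow_three h2
    rw [B_swap, B_ff]
    unfold e01
    rw [Pi.add_apply, ee_inl, ee_inl, if_pos rfl, if_neg one_ne_zero'.symm]
    simp
  have hyact : act y (ee 2 : VV) = ee 2 := by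
    have i1 : act (tv (n + 1 + 1 + 1) (ff 0 : VV) 1) (ee 2 : VV) = ee 2 := by
      rw [act_tv, B_ff, ee_inl, if_neg two_ne_zero'.symm, neg_zero, mul_zero, zero_smul,
        add_zero]
    rw [hy, act_mul, i1, act_tv, B_e01, ee_inr, ee_inr, add_zero, mul_zero, zero_smul, add_zero]
  have hcomm : Commute t y := by
    have h := conj_tv' y (ee 2 : VV) 1
    rw [hyact] at h
    exact (mul_inv_eq_iff_eq_mul.1 h).symm
  have hpow : b ^ 3 = t := by
    rw [hb, hcomm.mul_pow, hy3, mul_one, ht, tv_pow, h3, one_mul]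
  have htH : t ∈ H := by rw [← hpow]; exact H.pow_mem hbH _
  have hyH : y ∈ H := by
    have : y = t⁻¹ * b := by rw [hb]; group
    rw [this]
    exact H.mul_mem (H.inv_mem htH) hbH
  have he2 : (ee 2 : VV) ∈ Cen H := by
    intro c
    rcases h01 c with rfl | rfl
    · rw [tv_zero_right]; exact H.one_mem
    · exact htH
  have he1 : (ee 1 : VV) ∈ Cen H := by
    have := Cen_act (H.inv_mem haH) he2
    rwa [ha, ← act_cox_ee1, act_inv_act] at this
  have he0 : (ee 0 : VV) ∈ Cen H := by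
    have := Cen_act (H.inv_mem haH) he1
    rwa [ha, ← act_cox_ee0, act_inv_act] at this
  have hmix : act y (ff 1 : VV) = ff 1 + e01 := by
    have i2 : act (tv (n + 1 + 1 + 1) (ff 0 : VV) 1) (ff 1 : VV) = ff 1 := by
      rw [act_tv, B_ff, ff_inl, neg_zero, mul_zero, zero_smul, add_zero]
    rw [hy, act_mul, i2, act_r_ff1, one_smul]
  have hu : act y (ff 1 : VV) ∈ Cen H := Cen_act hyH (ff_mem haH he0 1)
  refine eq_top_of_data haH he0 _ hu ?_
  intro i
  rw [hmix]
  unfold pl e01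
  simp only [Pi.add_apply, ee_inl, ee_inr, ff_inl, ff_inr, add_zero, zero_add]
  by_cases h0 : i = 0
  · subst h0
    simp
  · by_cases h1 : i = 1
    · subst h1
      simp
    · simp [h0, h1]

end Cfsg.Agent.Lib.H15.SpGen
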