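import Cfsg.Agent.Lib.H15.SpSubA
import Cfsg.Agent.Lib.H10.SfH
import Cfsg.Agent.Lib.H13.SympBasis

/-!
# Subfield subgroups of `Sp_{2m}(F)` (task V1): reduction to the standard rational structure
-/

set_option autoImplicit false
set_option linter.unusedSimpArgs false
set_option linter.unusedSectionVars false
set_option linter.unusedVariables false

namespace Cfsg.Agent.Lib.H15.SpSub

open Matrix
open Cfsg.Agent.Lib.H11.SubspMax
open Cfsg.Agent.Lib.H4 (sympForm_self sympForm_add_left sympForm_add_right sympForm_smul_left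
  sympForm_smul_right sympForm_swap)

variable {F : Type*} [Field F] {m : ℕ} {F₀ : Subfield F}

local notation "VV" => (Fin m ⊕ Fin m → F)
local notation "GG" => GL (Fin m ⊕ Fin m) F
local notation "MM" => Matrix (Fin m ⊕ Fin m) (Fin m ⊕ Fin m) F
local notation "BB" => Cfsg.sympForm m F

/-- coordinatewise coercion -/
def co (v : Fin m ⊕ Fin m → F₀) : VV := fun i => (v i : F)

theorem co_add (u v : Fin m ⊕ Fin m → F₀) : co (u + v) = co u + co v := by
  funext i; simp [co]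

theorem co_smul (c : F₀) (u : Fin m ⊕ Fin m → F₀) : co (c • u) = (c : F) • co u := by
  funext i; simp [co]

theorem co_rat (u : Fin m ⊕ Fin m → F₀) : ∀ i, co u i ∈ F₀ := fun i => (u i).2

theorem co_injective : Function.Injective (co : (Fin m ⊕ Fin m → F₀) → VV) := by
  intro u v h
  funext i
  exact Subtype.ext (congrFun h i)

theorem co_single (a : Fin m ⊕ Fin m) : co (Pi.single a (1 : F₀)) = (eb a : VV) := by
  funext i
  by_cases h : i = a
  · subst h; simp [co, eb]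
  · simp [co, eb, h]

theorem sympForm_co (x y : Fin m ⊕ Fin m → F₀) :
    BB (co x) (co y) = ((Cfsg.sympForm m F₀ x y : F₀) : F) := by
  rw [sympForm_eq_sum, sympForm_eq_sum]
  simp [co]

theorem map_mulVec_co (A : Matrix (Fin m ⊕ Fin m) (Fin m ⊕ Fin m) F₀) (x : Fin m ⊕ Fin m → F₀) :
    (A.map (F₀.subtype : F₀ →+* F)) *ᵥ co x = co (A *ᵥ x) := by
  funext i
  simp only [Matrix.mulVec, dotProduct, co, Matrix.map_apply]
  rw [AddSubmonoidClass.coe_finsetSum]
  simp

/-- the rational form -/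
noncomputable def ratForm (P : GG) (ζ : F)
    (hP : Cfsg.Geo.IsFormRationalStructure (Cfsg.sympForm m F) F₀ ζ P) :
    LinearMap.BilinForm F₀ (Fin m ⊕ Fin m → F₀) :=
  LinearMap.mk₂ F₀
    (fun u v => (⟨ζ * BB ((P : MM) *ᵥ co u) ((P : MM) *ᵥ co v), hP _ _ (co_rat u) (co_rat v)⟩ : F₀))
    (by
      intro u u' v
      apply Subtype.ext
      show ζ * BB ((P : MM) *ᵥ co (u + u')) _ = ζ * BB _ _ + ζ * BB _ _
      rw [co_add, Matrix.mulVec_add, sympForm_add_left]; ring)
    (by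
      intro c u v
      apply Subtype.ext
      show ζ * BB ((P : MM) *ᵥ co (c • u)) _ = (c : F) * (ζ * BB _ _)
      rw [co_smul, Matrix.mulVec_smul, sympForm_smul_left]; ring)
    (by
      intro u v v'
      apply Subtype.ext
      show ζ * BB _ ((P : MM) *ᵥ co (v + v')) = ζ * BB _ _ + ζ * BB _ _
      rw [co_add, Matrix.mulVec_add, sympForm_add_right]; ring)
    (by
      intro c u v
      apply Subtype.ext
      show ζ * BB _ ((P : MM) *ᵥ co (c • v)) = (c : F) * (ζ * BB _ _)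
      rw [co_smul, Matrix.mulVec_smul, sympForm_smul_right]; ring)

theorem ratForm_apply (P : GG) (ζ : F)
    (hP : Cfsg.Geo.IsFormRationalStructure (Cfsg.sympForm m F) F₀ ζ P)
    (u v : Fin m ⊕ Fin m → F₀) :
    ((ratForm P ζ hP u v : F₀) : F) = ζ * BB ((P : MM) *ᵥ co u) ((P : MM) *ᵥ co v) := rfl

/-- bilinear forms agreeing on the standard basis -/
theorem B_ext (A : MM) (ζ : F)
    (h : ∀ a c : Fin m ⊕ Fin m, ζ * BB (A *ᵥ eb a) (A *ᵥ eb c) = BB (eb a) (eb c : VV)) (x y : VV) :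
    ζ * BB (A *ᵥ x) (A *ᵥ y) = BB x y := by
  have key : ζ • (Cfsg.Agent.S0768.B₀ F m).compl₁₂ (Matrix.toLin' A) (Matrix.toLin' A) =
      Cfsg.Agent.S0768.B₀ F m := by
    apply LinearMap.ext_basis (Pi.basisFun F (Fin m ⊕ Fin m)) (Pi.basisFun F (Fin m ⊕ Fin m))
    intro a c
    simp only [Pi.basisFun_apply, LinearMap.smul_apply, LinearMap.compl₁₂_apply,
      Matrix.toLin'_apply, Cfsg.Agent.S0768.B₀_apply, smul_eq_mul]
    exact h a c
  have := congrArg (fun f => f x y) key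
  simpa only [LinearMap.smul_apply, LinearMap.compl₁₂_apply,
    Matrix.toLin'_apply, Cfsg.Agent.S0768.B₀_apply, smul_eq_mul] using this

/-- a similitude with a rational change of basis -/
theorem exists_similitude (P : GG) (ζ : F) (hζ : ζ ≠ 0)
    (hP : Cfsg.Geo.IsFormRationalStructure (Cfsg.sympForm m F) F₀ ζ P) :
    ∃ C₀ : GL (Fin m ⊕ Fin m) F₀, ∀ x y : VV,
      ζ * BB (((P * Matrix.GeneralLinearGroup.map (F₀.subtype : F₀ →+* F) C₀ : GG) : MM) *ᵥ x)
        (((P * Matrix.GeneralLinearGroup.map (F₀.subtype : F₀ →+* F) C₀ : GG) : MM) *ᵥ y) =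
      BB x y := by
  set β := ratForm P ζ hP with hβ
  have halt : ∀ v, β v v = 0 := by
    intro v
    apply Subtype.ext
    rw [ratForm_apply, sympForm_self, mul_zero]; rfl
  have hnd : ∀ v, (∀ w, β v w = 0) → v = 0 := by
    intro v hv
    apply co_injective
    have h1 : ∀ w : Fin m ⊕ Fin m → F₀, BB ((P : MM) *ᵥ co v) ((P : MM) *ᵥ co w) = 0 := by
      intro w
      have : ((β v w : F₀) : F) = 0 := by rw [hv w]; rfl
      rw [hβ, ratForm_apply] at this
      rcases mul_eq_zero.1 this with h | h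
      · exact absurd h hζ
      · exact h
    have h2 : ∀ z : VV, BB ((P : MM) *ᵥ co v) z = 0 := by
      intro z
      have e : z = (P : MM) *ᵥ ((P⁻¹ : GG) : MM) *ᵥ z := (gl_mulVec_inv P z).symm
      rw [e, vec_eq_sum (((P⁻¹ : GG) : MM) *ᵥ z), Matrix.mulVec_sum]
      have : ∀ (s : Finset (Fin m ⊕ Fin m)) (g : Fin m ⊕ Fin m → VV) (u : VV),
          BB u (∑ i ∈ s, g i) = ∑ i ∈ s, BB u (g i) := by
        intro s g u
        induction s using Finset.induction_on with
        | empty => simp [sympForm_zero_right]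
        | insert a s ha ih => rw [Finset.sum_insert ha, Finset.sum_insert ha, sympForm_add_right, ih]
      rw [this]
      apply Finset.sum_eq_zero
      intro a _
      rw [Matrix.mulVec_smul, sympForm_smul_right, ← co_single, h1, mul_zero]
    by_contra hne
    have hne' : (P : MM) *ᵥ co v ≠ 0 := by
      intro h0
      apply hne
      have : ((P⁻¹ : GG) : MM) *ᵥ ((P : MM) *ᵥ co v) = 0 := by rw [h0, Matrix.mulVec_zero]
      rw [gl_inv_mulVec] at this
      rw [this]; funext i; simp [co]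
    obtain ⟨z, hz⟩ := exists_sympForm_ne _ hne'
    exact hz (h2 z)
  have hfin : Module.finrank F₀ (Fin m ⊕ Fin m → F₀) = 2 * m := by
    rw [Module.finrank_fintype_fun_eq_card, Fintype.card_sum, Fintype.card_fin]; ring
  obtain ⟨b, hb⟩ := Cfsg.Agent.Lib.H13.exists_symp_basis β halt hnd hfin
  set φ := (b.reindex (Equiv.sumComm _ _)).equivFun with hφ
  have hform : ∀ v w, β v w = Cfsg.sympForm m F₀ (φ v) (φ w) :=
    Cfsg.Agent.Lib.H13.sympForm_of_isSymp β halt b hb
  refine ⟨Cfsg.Agent.Lib.H28.glOfEquiv φ.symm, ?_⟩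
  set C₀ := Cfsg.Agent.Lib.H28.glOfEquiv φ.symm with hC₀
  apply B_ext
  intro a c
  rw [← co_single, ← co_single, Units.val_mul, ← Matrix.mulVec_mulVec, ← Matrix.mulVec_mulVec]
  have hCval : ((Matrix.GeneralLinearGroup.map (F₀.subtype : F₀ →+* F) C₀ : GG) : MM) =
      (C₀ : Matrix _ _ F₀).map (F₀.subtype : F₀ →+* F) := rfl
  rw [hCval, map_mulVec_co, map_mulVec_co, ← ratForm_apply P ζ hP, ← hβ, hform,
    Cfsg.Agent.Lib.H28.glOfEquiv_mulVec, Cfsg.Agent.Lib.H28.glOfEquiv_mulVec,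
    LinearEquiv.apply_symm_apply, LinearEquiv.apply_symm_apply, sympForm_co]

/-- conjugation by a similitude preserves the symplectic group -/
theorem map_spGL_of_similitude (A : GG) (ζ : F) (hζ : ζ ≠ 0)
    (hA : ∀ x y : VV, ζ * BB ((A : MM) *ᵥ x) ((A : MM) *ᵥ y) = BB x y) :
    (Cfsg.spGL m F).map (MulAut.conj A).toMonoidHom = Cfsg.spGL m F := by
  have hA' : ∀ x y : VV, BB ((A : MM) *ᵥ x) ((A : MM) *ᵥ y) = ζ⁻¹ * BB x y := by
    intro x y
    rw [← hA x y, ← mul_assoc, inv_mul_cancel₀ hζ, one_mul]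
  apply le_antisymm
  · rintro _ ⟨g, hg, rfl⟩
    show A * g * A⁻¹ ∈ Cfsg.spGL m F
    rw [mem_spGL_iff]
    intro u v
    rw [gl_mul_mulVec, gl_mul_mulVec, gl_mul_mulVec, gl_mul_mulVec, hA',
      (mem_spGL_iff g).1 hg, ← hA', gl_mulVec_inv, gl_mulVec_inv]
  · intro g hg
    refine ⟨A⁻¹ * g * A, ?_, ?_⟩
    · show A⁻¹ * g * A ∈ Cfsg.spGL m F
      rw [mem_spGL_iff]
      intro u v
      rw [← hA, gl_mul_mulVec, gl_mul_mulVec, gl_mul_mulVec, gl_mul_mulVec, gl_mulVec_inv,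
        gl_mulVec_inv, (mem_spGL_iff g).1 hg, hA]
    · show A * (A⁻¹ * g * A) * A⁻¹ = g
      group

theorem map_conj_eq_self {G : Type*} [Group G] (K : Subgroup G) {c : G} (hc : c ∈ K) :
    K.map (MulAut.conj c).toMonoidHom = K := by
  apply le_antisymm
  · rintro _ ⟨y, hy, rfl⟩
    exact K.mul_mem (K.mul_mem hc hy) (K.inv_mem hc)
  · intro x hx
    refine ⟨c⁻¹ * x * c, K.mul_mem (K.mul_mem (K.inv_mem hc) hx) hc, ?_⟩
    show c * (c⁻¹ * x * c) * c⁻¹ = x
    group

theorem subfield_conj (P : GG) (C₀ : GL (Fin m ⊕ Fin m) F₀) :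
    Cfsg.Geo.subfieldSubgroup F₀ P =
      (Cfsg.Geo.subfieldSubgroup F₀ (1 : GG)).map
        (MulAut.conj (P * Matrix.GeneralLinearGroup.map (F₀.subtype : F₀ →+* F) C₀)).toMonoidHom := by
  unfold Cfsg.Geo.subfieldSubgroup
  rw [map_one]
  have h1 : ((MulAut.conj (1 : GG)).toMonoidHom) = MonoidHom.id _ := by
    ext x; simp
  have hid : ∀ K : Subgroup GG, K.map (1 : MulAut GG).toMonoidHom = K := by
    intro K
    ext x
    constructor
    · rintro ⟨y, hy, rfl⟩; exact hy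
    · intro hx; exact ⟨x, hx, rfl⟩
  rw [hid]
  set K := (Matrix.GeneralLinearGroup.map (F₀.subtype : F₀ →+* F)).range ⊔
    Cfsg.Geo.scalars (Fin m ⊕ Fin m) F with hK
  set C := Matrix.GeneralLinearGroup.map (F₀.subtype : F₀ →+* F) C₀ with hC
  have hCK : C ∈ K := Subgroup.mem_sup_left ⟨C₀, rfl⟩
  have e : (MulAut.conj (P * C)).toMonoidHom =
      (MulAut.conj P).toMonoidHom.comp (MulAut.conj C).toMonoidHom := by
    ext x
    simp [mul_assoc]
  rw [e, ← Subgroup.map_map, map_conj_eq_self K hCK]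

/-- **V1** reduction to the standard rational structure -/
theorem maximal_of_one (P : GL (Fin m ⊕ Fin m) F) (ζ : F) (hζ : ζ ≠ 0)
    (hP : Cfsg.Geo.IsFormRationalStructure (Cfsg.sympForm m F) F₀ ζ P)
    (h1 : Cfsg.Geo.IsMaximalIn (Cfsg.spGL m F) (M0 m F₀)) :
    Cfsg.Geo.IsMaximalIn (Cfsg.spGL m F)
      (Cfsg.Geo.subfieldSubgroup F₀ P ⊓ Cfsg.spGL m F) := by
  obtain ⟨C₀, hC₀⟩ := exists_similitude P ζ hζ hP
  set P' : GG := P * Matrix.GeneralLinearGroup.map (F₀.subtype : F₀ →+* F) C₀ with hP'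
  have h2 := Cfsg.Agent.Lib.H10.Sf.isMaximalIn_map (MulAut.conj P') h1
  unfold M0 at h2
  rw [Subgroup.map_inf _ _ _ (MulAut.conj P').injective, map_spGL_of_similitude P' ζ hζ hC₀,
    ← subfield_conj P C₀] at h2
  exact h2

end Cfsg.Agent.Lib.H15.SpSub
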