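import Cfsg.Agent.Lib.H15.SpSubMain
import Cfsg.Agent.Lib.H15.SpSubV1

/-!
# Subfield subgroups of `Sp_{2m}(F)`: maximality for an arbitrary rational structure
-/

set_option autoImplicit false
set_option linter.unusedSectionVars false
set_option linter.unusedVariables false

namespace Cfsg.Agent.Lib.H15.SpSub

open Matrix

variable {F : Type*} [Field F] {m : ℕ} {F₀ : Subfield F}

/-- **maximality of the subfield subgroups of the symplectic group** -/
theorem maximal_conj [Fintype F] (hm : 5 ≤ m) {r : ℕ} (hr : r.Prime)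
    (hcard : Fintype.card F = Nat.card F₀ ^ r) (P : GL (Fin m ⊕ Fin m) F) (ζ : F) (hζ : ζ ≠ 0)
    (hP : Cfsg.Geo.IsFormRationalStructure (Cfsg.sympForm m F) F₀ ζ P) :
    Cfsg.Geo.IsMaximalIn (Cfsg.spGL m F)
      (Cfsg.Geo.subfieldSubgroup F₀ P ⊓ Cfsg.spGL m F) :=
  maximal_of_one P ζ hζ hP (maximal_one hm hr hcard)

end Cfsg.Agent.Lib.H15.SpSub
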