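import Cfsg.Agent.Lib.H15.SpSubA

/-!
# Subfield subgroups of `Sp_{2m}(F)` (task V4b): splitting off a plane component
-/

set_option autoImplicit false
set_option linter.unusedSimpArgs false
set_option linter.unusedSectionVars false
set_option linter.unusedVariables false

namespace Cfsg.Agent.Lib.H15.SpSub

open Matrix
open Cfsg.Agent.Lib.H11.SubspMax
open Cfsg.Agent.Lib.H4 (sympForm_self sympForm_add_left sympForm_add_right sympForm_smul_left
  sympForm_smul_right sympForm_swap)

variable {F : Type*} [Field F] {m : ℕ} {F₀ : Subfield F}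
variable {H : Subgroup (GL (Fin m ⊕ Fin m) F)}

local notation "VV" => (Fin m ⊕ Fin m → F)
local notation "GG" => GL (Fin m ⊕ Fin m) F
local notation "MM" => Matrix (Fin m ⊕ Fin m) (Fin m ⊕ Fin m) F
local notation "BB" => Cfsg.sympForm m F

/-- the Weyl element of the plane `i` -/
noncomputable def wy (F : Type*) [Field F] {m : ℕ} (i : Fin m) : GL (Fin m ⊕ Fin m) F :=
  stv (eb (Sum.inl i)) 1 * stv (eb (Sum.inr i)) 1 * stv (eb (Sum.inl i)) 1

theorem wy_mem_M0 (i : Fin m) : wy F i ∈ M0 m F₀ :=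
  (M0 m F₀).mul_mem ((M0 m F₀).mul_mem (stv_mem_M0 (eb_rat _) F₀.one_mem)
    (stv_mem_M0 (eb_rat _) F₀.one_mem)) (stv_mem_M0 (eb_rat _) F₀.one_mem)

theorem B_ef (i : Fin m) : BB (eb (Sum.inl i)) (eb (Sum.inr i) : VV) = -1 := by
  have := B_eb_swap' (F := F) (Sum.inl i : Fin m ⊕ Fin m)
  rw [Sum.swap_inl] at this
  rw [this]; simp [sg]

theorem B_fe (i : Fin m) : BB (eb (Sum.inr i)) (eb (Sum.inl i) : VV) = 1 := by
  rw [sympForm_swap, B_ef]; ring

theorem wy_plane (i : Fin m) (α β : F) :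
    (wy F i : MM) *ᵥ (α • eb (Sum.inl i) + β • eb (Sum.inr i)) =
      β • eb (Sum.inl i) - α • eb (Sum.inr i) := by
  unfold wy
  rw [gl_mul_mulVec, gl_mul_mulVec, stv_mulVec, stv_mulVec, stv_mulVec]
  simp only [sympForm_add_left, sympForm_add_right, sympForm_smul_left, sympForm_self,
    B_ef, B_fe]
  module

theorem wy_fix (i : Fin m) {x : VV} (h1 : BB x (eb (Sum.inl i)) = 0)
    (h2 : BB x (eb (Sum.inr i)) = 0) : (wy F i : MM) *ᵥ x = x := by
  unfold wy
  rw [gl_mul_mulVec, gl_mul_mulVec, stv_fix h1, stv_fix h2, stv_fix h1]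

/-- the difference of two transvections with centres `n + n'` and `n' - n` -/
theorem stv_mul_stv_sub {n n' : VV} (h : BB n n' = 0) (b : F) :
    stv (n + n') b * stv (n' - n) (-b) = sr n n' (2 * b) := by
  have h' : BB n' n = 0 := sympForm_eq_swap h
  apply gl_ext
  intro x
  rw [gl_mul_mulVec, stv_mulVec, stv_mulVec, sr_mulVec h]
  simp only [sympForm_add_left, sympForm_add_right, sympForm_smul_left, sympForm_self,
    sympForm_sub_left, sympForm_sub_right, h, h']
  module

/-- **splitting off a plane component** -/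
theorem sigma_odd (hM : M0 m F₀ ≤ H) {y : Fin m ⊕ Fin m → F} {b : F} (hy : stv y b ∈ H)
    (i : Fin m) :
    sr (y (Sum.inl i) • eb (Sum.inl i) + y (Sum.inr i) • eb (Sum.inr i))
      (y - (y (Sum.inl i) • eb (Sum.inl i) + y (Sum.inr i) • eb (Sum.inr i))) (2 * b) ∈ H := by
  obtain ⟨n, hn⟩ : ∃ n : VV, n = y (Sum.inl i) • eb (Sum.inl i) + y (Sum.inr i) • eb (Sum.inr i) :=
    ⟨_, rfl⟩
  rw [← hn]
  -- the complement is orthogonal to the plane
  have hBe : BB (y - n) (eb (Sum.inl i)) = 0 := by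
    rw [sympForm_sub_left, hn, sympForm_add_left, sympForm_smul_left, sympForm_smul_left,
      sympForm_self, B_fe, B_eb]
    simp [sg]
  have hBf : BB (y - n) (eb (Sum.inr i)) = 0 := by
    rw [sympForm_sub_left, hn, sympForm_add_left, sympForm_smul_left, sympForm_smul_left,
      sympForm_self, B_ef, B_eb]
    simp [sg]
  have hnn' : BB n (y - n) = 0 := by
    have : BB (y - n) n = 0 := by
      rw [hn, sympForm_add_right, sympForm_smul_right, sympForm_smul_right, ← hn, hBe, hBf]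
      ring
    exact sympForm_eq_swap this
  -- the involution
  have ht : wy F i * wy F i ∈ H := H.mul_mem (hM (wy_mem_M0 i)) (hM (wy_mem_M0 i))
  have hts : wy F i * wy F i ∈ Cfsg.spGL m F :=
    (inf_le_right : M0 m F₀ ≤ Cfsg.spGL m F)
      ((M0 m F₀).mul_mem (wy_mem_M0 (F₀ := F₀) i) (wy_mem_M0 i))
  have hty : ((wy F i * wy F i : GG) : MM) *ᵥ y = (y - n) - n := by
    have e : y = n + (y - n) := by abel
    conv_lhs => rw [e]
    rw [Matrix.mulVec_add, gl_mul_mulVec, gl_mul_mulVec, wy_fix i hBe hBf, wy_fix i hBe hBf,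
      hn, wy_plane]
    have e2 : y (Sum.inr i) • eb (Sum.inl i) - y (Sum.inl i) • eb (Sum.inr i) =
        y (Sum.inr i) • eb (Sum.inl i) + (-y (Sum.inl i)) • (eb (Sum.inr i) : VV) := by module
    rw [e2, wy_plane]
    module
  have h1 : stv ((y - n) - n) b ∈ H := by
    rw [← hty, conj_stv _ hts]
    exact H.mul_mem (H.mul_mem ht hy) (H.inv_mem ht)
  have h2 : stv ((y - n) - n) (-b) ∈ H := by
    rw [stv_neg]; exact H.inv_mem h1
  rw [← stv_mul_stv_sub hnn']
  have e : n + (y - n) = y := by abel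
  rw [e]
  exact H.mul_mem hy h2

end Cfsg.Agent.Lib.H15.SpSub
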