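import Cfsg.Agent.Lib.H15.SpSubA

/-!
# Subfield subgroups of `Sp_{2m}(F)` (task V4c): the characteristic two substitute
-/

set_option autoImplicit false
set_option linter.unusedSimpArgs false
set_option linter.unusedSectionVars false
set_option linter.unusedVariables false

namespace Cfsg.Agent.Lib.H15.SpSub

open Matrix
open Cfsg.Agent.Lib.H11.SubspMax
open Cfsg.Agent.Lib.H4 (sympForm_self sympForm_add_left sympForm_add_right sympForm_smul_left
  sympForm_smul_right sympForm_swap)

variable {F : Type*} [Field F] {m : ℕ} {F₀ : Subfield F}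
variable {H : Subgroup (GL (Fin m ⊕ Fin m) F)}

local notation "VV" => (Fin m ⊕ Fin m → F)
local notation "MM" => Matrix (Fin m ⊕ Fin m) (Fin m ⊕ Fin m) F
local notation "BB" => Cfsg.sympForm m F

/-- the product of two transvections with orthogonal centres `y`, `y + d` in characteristic two -/
theorem stv_mul_stv_two (h2 : (2 : F) = 0) {y d : VV} (hdy : BB d y = 0) (b : F) :
    stv y b * stv (y + d) b = sr d y b * stv d b := by
  have hyd : BB y d = 0 := sympForm_eq_swap hdy
  apply gl_ext
  intro x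
  rw [gl_mul_mulVec, gl_mul_mulVec, stv_mulVec, stv_mulVec, sr_mulVec hdy, stv_mulVec]
  simp only [sympForm_add_left, sympForm_add_right, sympForm_smul_left, sympForm_self, hdy, hyd]
  rw [← sub_eq_zero]
  trans ((2 : F) * (b * BB x y)) • y
  · module
  · rw [h2, zero_mul, zero_smul]

/-- **the characteristic two substitute** -/
theorem sigma_two (h2 : (2 : F) = 0) (hM : M0 m F₀ ≤ H) {y : Fin m ⊕ Fin m → F} {b : F}
    (hy : stv y b ∈ H) {u v : Fin m ⊕ Fin m → F} (hu : IsRat F₀ u) (hv : IsRat F₀ v)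
    (huv : Cfsg.sympForm m F u v = 0) :
    sr (Cfsg.sympForm m F y u • v + Cfsg.sympForm m F y v • u) y b *
      stv (Cfsg.sympForm m F y u • v + Cfsg.sympForm m F y v • u) b ∈ H := by
  obtain ⟨d, hd⟩ : ∃ d : VV, d = BB y u • v + BB y v • u := ⟨_, rfl⟩
  rw [← hd]
  have hdy : BB d y = 0 := by
    rw [hd, sympForm_add_left, sympForm_smul_left, sympForm_smul_left, sympForm_swap m v y,
      sympForm_swap m u y]
    linear_combination (-(BB y u * BB y v)) * h2
  have hg : sr u v (1 : F) ∈ H := hM (sr_mem_M0 hu hv F₀.one_mem)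
  have hgy : (sr u v (1 : F) : MM) *ᵥ y = y + d := by
    rw [sr_mulVec huv, one_smul, hd]
  have h1 : stv (y + d) b ∈ H := by
    rw [← hgy, conj_stv _ (sr_mem_spGL u v 1)]
    exact H.mul_mem (H.mul_mem hg hy) (H.inv_mem hg)
  rw [← stv_mul_stv_two h2 hdy]
  exact H.mul_mem hy h1

end Cfsg.Agent.Lib.H15.SpSub
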