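import Cfsg.Agent.Lib.H15.SpSubV4a
import Cfsg.Agent.Lib.H15.SpSubV4b
import Cfsg.Agent.Lib.H15.SpSubV4c

/-!
# Subfield subgroups of `Sp_{2m}(F)` (part K): the key lemma
-/

set_option autoImplicit false
set_option linter.unusedSimpArgs false
set_option linter.unusedSectionVars false
set_option linter.unusedVariables false

namespace Cfsg.Agent.Lib.H15.SpSub

open Matrix
open Cfsg.Agent.Lib.H11.SubspMax
open Cfsg.Agent.Lib.H4 (sympForm_self sympForm_add_left sympForm_add_right sympForm_smul_left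
  sympForm_smul_right sympForm_swap)

variable {F : Type*} [Field F] {m : ℕ} {F₀ : Subfield F}
variable {H : Subgroup (GL (Fin m ⊕ Fin m) F)}

local notation "VV" => (Fin m ⊕ Fin m → F)
local notation "BB" => Cfsg.sympForm m F

/-- three further planes -/
theorem exists_three_planes (hm : 5 ≤ m) (i j : Fin m) :
    ∃ k l q : Fin m, k ≠ i ∧ k ≠ j ∧ l ≠ i ∧ l ≠ j ∧ q ≠ i ∧ q ≠ j ∧ k ≠ l ∧ k ≠ q ∧ l ≠ q := by
  have hc : 2 < (((Finset.univ : Finset (Fin m)).erase i).erase j).card := by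
    have h1 : ((Finset.univ : Finset (Fin m)).erase i).card = m - 1 := by
      rw [Finset.card_erase_of_mem (Finset.mem_univ i), Finset.card_univ, Fintype.card_fin]
    have h2 := Finset.pred_card_le_card_erase (s := (Finset.univ : Finset (Fin m)).erase i) (a := j)
    omega
  obtain ⟨k, l, q, hk, hl, hq, hkl, hkq, hlq⟩ := Finset.two_lt_card_iff.1 hc
  simp only [Finset.mem_erase, Finset.mem_univ, and_true] at hk hl hq
  exact ⟨k, l, q, hk.2, hk.1, hl.2, hl.1, hq.2, hq.1, hkl, hkq, hlq⟩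

/-- the plane component -/
def pc (y : VV) (i : Fin m) : VV := y (Sum.inl i) • eb (Sum.inl i) + y (Sum.inr i) • eb (Sum.inr i)

theorem B_pc_of_pl (y : VV) (i : Fin m) {a : Fin m ⊕ Fin m} (h : pl a ≠ i) :
    BB (pc y i) (eb a) = 0 := by
  unfold pc
  rw [sympForm_add_left, sympForm_smul_left, sympForm_smul_left, B_eb_eb_of_pl, B_eb_eb_of_pl]
  · ring
  · exact fun e => h e.symm
  · exact fun e => h e.symm

theorem B_pc_same (y : VV) {a : Fin m ⊕ Fin m} : BB (pc y (pl a)) (eb a) = BB y (eb a) := by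
  rw [B_eb, B_eb]
  congr 1
  unfold pc
  rcases a with a | a
  · simp [pl, eb, Pi.single_apply]
  · simp [pl, eb, Pi.single_apply]

theorem pc_B_of_pl (y : VV) (i : Fin m) {a : Fin m ⊕ Fin m} (h : pl a ≠ i) :
    BB (eb a) (pc y i) = 0 := sympForm_eq_swap (B_pc_of_pl y i h)

theorem B_pc_self_sub (y : VV) (i : Fin m) : BB (pc y i) (y - pc y i) = 0 := by
  rw [sympForm_sub_right, sympForm_self, sub_zero]
  unfold pc
  rw [sympForm_add_left, sympForm_smul_left, sympForm_smul_left, eb_B, eb_B]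
  simp [sg]
  ring

/-- **the key lemma** -/
theorem K0 (hM : M0 m F₀ ≤ H) (hm : 5 ≤ m) {y : Fin m ⊕ Fin m → F} {b : F} (hy : stv y b ∈ H)
    {a c : Fin m ⊕ Fin m} (hac : pl a ≠ pl c) :
    ∃ κ : F, κ ∈ F₀ ∧ κ ≠ 0 ∧ ∃ k l : Fin m, k ≠ l ∧
      sr (eb (Sum.inl k)) (eb (Sum.inl l))
        (κ * (b * Cfsg.sympForm m F y (eb a) * Cfsg.sympForm m F y (eb c))) ∈ H := by
  obtain ⟨k, l, q, hka, hkc, hla, hlc, hqa, hqc, hkl, hkq, hlq⟩ := exists_three_planes hm (pl a) (pl c)
  have plk : pl (Sum.inl k : Fin m ⊕ Fin m) = k := rfl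
  have pll : pl (Sum.inl l : Fin m ⊕ Fin m) = l := rfl
  have plq : pl (Sum.inl q : Fin m ⊕ Fin m) = q := rfl
  by_cases h2 : (2 : F) = 0
  · -- characteristic two
    set u : VV := eb a with hu
    set v : VV := eb (Sum.inl q) with hv
    have huv : BB u v = 0 := B_eb_eb_of_pl (by rw [plq]; exact Ne.symm hqa)
    have hE := sigma_two h2 hM hy (eb_rat a) (eb_rat (Sum.inl q)) huv
    set d : VV := BB y u • v + BB y v • u with hd
    have hdy : BB d y = 0 := by
      rw [hd, sympForm_add_left, sympForm_smul_left, sympForm_smul_left, sympForm_swap m v y,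
        sympForm_swap m u y]
      linear_combination (-(BB y u * BB y v)) * h2
    -- first extraction
    have hdx : ∀ x : Fin m ⊕ Fin m, pl x ≠ pl a → pl x ≠ q → BB d (eb x) = 0 := by
      intro x hxa hxq
      rw [hd, sympForm_add_left, sympForm_smul_left, sympForm_smul_left, hv, hu,
        B_eb_eb_of_pl (c := Sum.inl q) (a := x) (by rw [plq]; exact Ne.symm hxq),
        B_eb_eb_of_pl (c := a) (a := x) (Ne.symm hxa)]
      ring
    have h1 := extract hM (n := d) (n' := y) (w := eb c) (z := eb c.swap) (e := eb (Sum.inl k))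
      hdy hE (eb_rat _) (eb_rat _) (eb_rat _)
      (hdx c (Ne.symm hac) (Ne.symm hqc))
      (hdx c.swap (by rw [pl_swap]; exact Ne.symm hac) (by rw [pl_swap]; exact Ne.symm hqc))
      (hdx (Sum.inl k) (by rw [plk]; exact hka) (by rw [plk]; exact hkq))
      (B_eb_eb_of_pl (by rw [plk]; exact Ne.symm hkc))
      (B_eb_eb_of_pl (by rw [plk, pl_swap]; exact Ne.symm hkc))
    rw [B_eb_swap' c] at h1
    -- second extraction
    have hdk : BB d (eb (Sum.inl k)) = 0 := hdx (Sum.inl k) (by rw [plk]; exact hka) (by rw [plk]; exact hkq)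
    rw [sr_comm hdk] at h1
    have h1' : sr (eb (Sum.inl k)) d (b * BB y (eb c) * -sg c) * stv (eb (Sum.inl k)) 0 ∈ H := by
      rw [stv_zero, mul_one]; exact h1
    have h3 := extract hM (n := eb (Sum.inl k)) (n' := d) (w := eb (Sum.inr q)) (z := eb (Sum.inl q))
      (e := eb (Sum.inl l)) (sympForm_eq_swap hdk) h1' (eb_rat _) (eb_rat _) (eb_rat _)
      (B_eb_eb_of_pl (c := Sum.inl k) (a := Sum.inr q) hkq)
      (B_eb_eb_of_pl (c := Sum.inl k) (a := Sum.inl q) hkq)
      (B_eb_eb_of_ne (by simp))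
      (B_eb_eb_of_pl (c := Sum.inr q) (a := Sum.inl l) (Ne.symm hlq))
      (B_eb_eb_of_pl (c := Sum.inl q) (a := Sum.inl l) (Ne.symm hlq))
    have hdw : BB d (eb (Sum.inr q)) = - BB y (eb a) := by
      rw [hd, sympForm_add_left, sympForm_smul_left, sympForm_smul_left, hv, hu,
        B_eb_eb_of_pl (a := Sum.inr q) (c := a) (Ne.symm hqa)]
      have := B_eb_swap' (F := F) (Sum.inl q : Fin m ⊕ Fin m)
      rw [Sum.swap_inl] at this
      rw [this]
      simp [sg]
    have hwz : BB (eb (Sum.inr q)) (eb (Sum.inl q) : VV) = 1 := by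
      have := B_eb_swap (F := F) (Sum.inl q : Fin m ⊕ Fin m)
      rw [Sum.swap_inl] at this
      rw [this]; simp [sg]
    rw [hdw, hwz] at h3
    refine ⟨sg c, sg_mem c, sg_ne_zero c, k, l, hkl, ?_⟩
    have e : sg c * (b * BB y (eb a) * BB y (eb c)) = b * BB y (eb c) * -sg c * -BB y (eb a) * 1 := by
      ring
    rw [e]; exact h3
  · -- odd characteristic
    have hσ := sigma_odd hM hy (pl a)
    change sr (pc y (pl a)) (y - pc y (pl a)) (2 * b) ∈ H at hσ
    set n : VV := pc y (pl a) with hn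
    have hnn' : BB n (y - n) = 0 := B_pc_self_sub y (pl a)
    have hσ' : sr n (y - n) (2 * b) * stv n 0 ∈ H := by
      rw [stv_zero, mul_one]; exact hσ
    have h1 := extract hM (n := n) (n' := y - n) (w := eb c) (z := eb c.swap) (e := eb (Sum.inl k))
      hnn' hσ' (eb_rat _) (eb_rat _) (eb_rat _)
      (B_pc_of_pl y _ (Ne.symm hac))
      (B_pc_of_pl y _ (by rw [pl_swap]; exact Ne.symm hac))
      (B_pc_of_pl y _ (by rw [plk]; exact hka))
      (B_eb_eb_of_pl (by rw [plk]; exact Ne.symm hkc))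
      (B_eb_eb_of_pl (by rw [plk, pl_swap]; exact Ne.symm hkc))
    rw [B_eb_swap' c, sympForm_sub_left, B_pc_of_pl y _ (Ne.symm hac), sub_zero] at h1
    have hnk : BB n (eb (Sum.inl k)) = 0 := B_pc_of_pl y _ (by rw [plk]; exact hka)
    rw [sr_comm hnk] at h1
    have h1' : sr (eb (Sum.inl k)) n (2 * b * BB y (eb c) * -sg c) * stv (eb (Sum.inl k)) 0 ∈ H := by
      rw [stv_zero, mul_one]; exact h1
    have h3 := extract hM (n := eb (Sum.inl k)) (n' := n) (w := eb a) (z := eb a.swap)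
      (e := eb (Sum.inl l)) (sympForm_eq_swap hnk) h1' (eb_rat _) (eb_rat _) (eb_rat _)
      (B_eb_eb_of_pl (c := Sum.inl k) (a := a) hka)
      (B_eb_eb_of_pl (c := Sum.inl k) (a := a.swap) (by rw [pl_swap]; exact hka))
      (B_eb_eb_of_ne (by simp))
      (B_eb_eb_of_pl (c := a) (a := Sum.inl l) (Ne.symm hla))
      (B_eb_eb_of_pl (c := a.swap) (a := Sum.inl l) (by rw [pl_swap]; exact Ne.symm hla))
    rw [hn, B_pc_same, B_eb_swap' a] at h3
    refine ⟨2 * sg a * sg c, F₀.mul_mem (F₀.mul_mem ?_ (sg_mem a)) (sg_mem c),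
      mul_ne_zero (mul_ne_zero h2 (sg_ne_zero a)) (sg_ne_zero c), k, l, hkl, ?_⟩
    · have : (2 : F) = 1 + 1 := by norm_num
      rw [this]; exact F₀.add_mem F₀.one_mem F₀.one_mem
    · have e : 2 * sg a * sg c * (b * BB y (eb a) * BB y (eb c)) =
          2 * b * BB y (eb c) * -sg c * BB y (eb a) * -sg a := by ring
      rw [e]; exact h3

end Cfsg.Agent.Lib.H15.SpSub
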