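import Cfsg.Agent.Lib.H15.SpSubA

/-!
# Subfield subgroups of `Sp_{2m}(F)` (task V5): rational points from rational products
-/

set_option autoImplicit false
set_option linter.unusedSimpArgs false
set_option linter.unusedSectionVars false
set_option linter.unusedVariables false

namespace Cfsg.Agent.Lib.H15.SpSub

open Matrix
open Cfsg.Agent.Lib.H11.SubspMax
open Cfsg.Agent.Lib.H4 (sympForm_self sympForm_add_left sympForm_add_right sympForm_smul_left
  sympForm_smul_right sympForm_swap)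

variable {F : Type*} [Field F] {m : ℕ} {F₀ : Subfield F}
variable {H : Subgroup (GL (Fin m ⊕ Fin m) F)}

local notation "VV" => (Fin m ⊕ Fin m → F)
local notation "MM" => Matrix (Fin m ⊕ Fin m) (Fin m ⊕ Fin m) F
local notation "BB" => Cfsg.sympForm m F

theorem exists_pl_ne (hm : 2 ≤ m) (a : Fin m ⊕ Fin m) : ∃ c : Fin m ⊕ Fin m, pl c ≠ pl a := by
  by_cases h : pl a = ⟨0, by omega⟩
  · refine ⟨Sum.inl ⟨1, by omega⟩, ?_⟩
    rw [h]; show (⟨1, _⟩ : Fin m) ≠ ⟨0, _⟩
    simp [Fin.ext_iff]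
  · exact ⟨Sum.inl ⟨0, by omega⟩, fun e => h e.symm⟩

theorem pl_eq_cases {a c : Fin m ⊕ Fin m} (h : pl a = pl c) : c = a ∨ c = a.swap := by
  rcases a with a | a <;> rcases c with c | c <;> simp only [pl, Sum.elim_inl, Sum.elim_inr, id] at h <;>
    subst h <;> simp

/-- moving the centre by a rational Siegel element -/
theorem move (hM : M0 m F₀ ≤ H) {y : VV} {b : F} (hy : stv y b ∈ H) {u v : VV} (hu : IsRat F₀ u)
    (hv : IsRat F₀ v) (huv : BB u v = 0) : stv (y + (BB y u • v + BB y v • u)) b ∈ H := by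
  have hg : sr u v (1 : F) ∈ H := hM (sr_mem_M0 hu hv F₀.one_mem)
  have hgy : (sr u v (1 : F) : MM) *ᵥ y = y + (BB y u • v + BB y v • u) := by
    rw [sr_mulVec huv, one_smul]
  rw [← hgy, conj_stv _ (sr_mem_spGL u v 1)]
  exact H.mul_mem (H.mul_mem hg hy) (H.inv_mem hg)

section main

variable (hM : M0 m F₀ ≤ H) (hm : 3 ≤ m) {b : F} (hb : b ≠ 0)
  (hgood : ∀ y : Fin m ⊕ Fin m → F, stv y b ∈ H → ∀ a c : Fin m ⊕ Fin m, pl a ≠ pl c →
    b * Cfsg.sympForm m F y (eb a) * Cfsg.sympForm m F y (eb c) ∈ F₀)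
include hM hm hb hgood

theorem good_same {y : VV} (hy : stv y b ∈ H) (a : Fin m ⊕ Fin m) :
    b * BB y (eb a) * BB y (eb a) ∈ F₀ := by
  obtain ⟨c, hc⟩ := exists_pl_ne (by omega) a
  have huv : BB (eb a) (eb c.swap : VV) = 0 := B_eb_eb_of_pl (by rw [pl_swap]; exact Ne.symm hc)
  have hy' := move hM hy (eb_rat a) (eb_rat c.swap) huv
  have h1 := hgood _ hy' a c (Ne.symm hc)
  have h2 := hgood _ hy a c (Ne.symm hc)
  simp only [sympForm_add_left, sympForm_smul_left, sympForm_self, B_eb_swap,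
    B_eb_eb_of_pl (c := c.swap) (a := a) (by rw [pl_swap]; exact hc),
    B_eb_eb_of_pl (c := a) (a := c) (Ne.symm hc)] at h1
  have h3 := F₀.mul_mem (sg_mem (F₀ := F₀) c) (F₀.sub_mem h1 h2)
  have e : sg c * (b * (BB y (eb a) + (BB y (eb a) * 0 + BB y (eb c.swap) * 0)) *
      (BB y (eb c) + (BB y (eb a) * sg c + BB y (eb c.swap) * 0)) -
      b * BB y (eb a) * BB y (eb c)) = b * BB y (eb a) * BB y (eb a) := by
    have := sg_mul_self (F := F) c
    linear_combination (b * BB y (eb a) * BB y (eb a)) * this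
  rwa [e] at h3

theorem good_swap_of {y : VV} (hy : stv y b ∈ H) (a d : Fin m ⊕ Fin m) (hd : pl d ≠ pl a)
    (hyd : BB y (eb d) ≠ 0) : b * BB y (eb a) * BB y (eb a.swap) ∈ F₀ := by
  have h1 := hgood _ hy a d (Ne.symm hd)
  have h2 := hgood _ hy a.swap d (by rw [pl_swap]; exact Ne.symm hd)
  have h3 := good_same hM hm hb hgood hy d
  have h4 := F₀.div_mem (F₀.mul_mem h1 h2) h3
  have e : b * BB y (eb a) * BB y (eb d) * (b * BB y (eb a.swap) * BB y (eb d)) /
      (b * BB y (eb d) * BB y (eb d)) = b * BB y (eb a) * BB y (eb a.swap) := by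
    field_simp
  rwa [e] at h4

theorem good_swap {y : VV} (hy : stv y b ∈ H) (a : Fin m ⊕ Fin m) :
    b * BB y (eb a) * BB y (eb a.swap) ∈ F₀ := by
  by_cases hex : ∃ d : Fin m ⊕ Fin m, pl d ≠ pl a ∧ BB y (eb d) ≠ 0
  · obtain ⟨d, hd, hyd⟩ := hex
    exact good_swap_of hM hm hb hgood hy a d hd hyd
  · push Not at hex
    by_cases hA : BB y (eb a) = 0
    · rw [hA, mul_zero, zero_mul]; exact F₀.zero_mem
    · obtain ⟨d, hd⟩ := exists_pl_ne (by omega) a
      have huv : BB (eb a) (eb d.swap : VV) = 0 :=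
        B_eb_eb_of_pl (by rw [pl_swap]; exact Ne.symm hd)
      have hy' := move hM hy (eb_rat a) (eb_rat d.swap) huv
      have h0 : BB y (eb d.swap) = 0 := hex d.swap (by rw [pl_swap]; exact hd)
      have h1 := good_swap_of hM hm hb hgood hy' a d hd (by
        simp only [sympForm_add_left, sympForm_smul_left, B_eb_swap, h0, hex d hd]
        simpa using mul_ne_zero hA (sg_ne_zero d))
      simp only [sympForm_add_left, sympForm_smul_left, sympForm_self, h0,
        B_eb_eb_of_pl (c := d.swap) (a := a) (by rw [pl_swap]; exact hd),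
        B_eb_eb_of_pl (c := d.swap) (a := a.swap) (by rw [pl_swap, pl_swap]; exact hd)] at h1
      simpa using h1

theorem good_all {y : VV} (hy : stv y b ∈ H) (a c : Fin m ⊕ Fin m) :
    b * BB y (eb a) * BB y (eb c) ∈ F₀ := by
  by_cases h : pl a = pl c
  · rcases pl_eq_cases h with h1 | h1
    · rw [h1]; exact good_same hM hm hb hgood hy a
    · rw [h1]; exact good_swap hM hm hb hgood hy a
  · exact hgood _ hy a c h

/-- **rational points from rational products** -/
theorem ratPt_of_good' {y : VV} (hy : stv y b ∈ H) : RatPt F₀ y := by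
  by_cases hy0 : y = 0
  · exact ⟨0, 0, IsRat.zero, by rw [hy0, smul_zero]⟩
  · obtain ⟨d₀, hd₀⟩ : ∃ d₀, y d₀ ≠ 0 := by
      by_contra h0
      push Not at h0
      exact hy0 (funext h0)
    obtain ⟨l, hl⟩ : ∃ l, l = BB y (eb d₀.swap) := ⟨_, rfl⟩
    have hl0 : l ≠ 0 := by
      rw [hl, B_eb, Sum.swap_swap]
      exact mul_ne_zero (sg_ne_zero _) hd₀
    refine ⟨l, fun d => y d / l, fun d => ?_, ?_⟩
    · have h1 := good_all hM hm hb hgood hy d.swap d₀.swap
      have h2 := good_same hM hm hb hgood hy d₀.swap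
      rw [← hl] at h1 h2
      have h3 := F₀.mul_mem (F₀.neg_mem (sg_mem (F₀ := F₀) d)) (F₀.div_mem h1 h2)
      have e : -sg d * (b * BB y (eb d.swap) * l / (b * l * l)) = y d / l := by
        rw [coord_eq y d]
        field_simp
      rwa [e] at h3
    · funext d
      simp only [Pi.smul_apply, smul_eq_mul]
      field_simp

end main

/-- **V5** -/
theorem ratPt_of_good (hM : M0 m F₀ ≤ H) (hH : H ≤ Cfsg.spGL m F) (hm : 3 ≤ m) {b : F}
    (hb : b ≠ 0)
    (hgood : ∀ y : Fin m ⊕ Fin m → F, stv y b ∈ H → ∀ a c : Fin m ⊕ Fin m, pl a ≠ pl c →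
      b * Cfsg.sympForm m F y (eb a) * Cfsg.sympForm m F y (eb c) ∈ F₀)
    {y : Fin m ⊕ Fin m → F} (hy : stv y b ∈ H) : RatPt F₀ y :=
  ratPt_of_good' hM hm hb hgood hy

end Cfsg.Agent.Lib.H15.SpSub
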