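import Cfsg.Agent.Lib.H15.SpSubA

/-!
# Subfield subgroups of `Sp_{2m}(F)` (task V7): the subfield subgroup is proper
-/

set_option autoImplicit false
set_option linter.unusedSimpArgs false
set_option linter.unusedSectionVars false
set_option linter.unusedVariables false

namespace Cfsg.Agent.Lib.H15.SpSub

open Matrix
open Cfsg.Agent.Lib.H11.SubspMax

variable {F : Type*} [Field F] {m : ℕ} {F₀ : Subfield F}

local notation "VV" => (Fin m ⊕ Fin m → F)
local notation "MM" => Matrix (Fin m ⊕ Fin m) (Fin m ⊕ Fin m) F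
local notation "BB" => Cfsg.sympForm m F

theorem exists_notMem_subfield [Fintype F] {r : ℕ} (hr : r.Prime)
    (hcard : Fintype.card F = Nat.card F₀ ^ r) : ∃ ρ : F, ρ ∉ F₀ := by
  by_contra h0
  push Not at h0
  have htop : F₀ = ⊤ := by
    rw [eq_top_iff]; intro x _; exact h0 x
  have h1 : Nat.card F₀ = Fintype.card F := by
    rw [htop, ← Nat.card_eq_fintype_card]
    exact Nat.card_congr Subfield.topEquiv.toEquiv
  rw [← h1] at hcard
  have h2 : 2 ≤ Nat.card F₀ := by
    have : 1 < Nat.card F₀ := Finite.one_lt_card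
    omega
  have h3 : Nat.card F₀ ^ 1 = Nat.card F₀ ^ r := by rw [pow_one]; exact hcard
  have := Nat.pow_right_injective h2 h3
  exact hr.one_lt.ne this

theorem stv_eb_notMem (a : Fin m ⊕ Fin m) {ρ : F} (hρ : ρ ∉ F₀) :
    stv (eb a) ρ ∉ Cfsg.Geo.subfieldSubgroup F₀ (1 : GL (Fin m ⊕ Fin m) F) := by
  intro hmem
  rw [Cfsg.Agent.Lib.H11.Subf.mem_subfield_one_iff] at hmem
  obtain ⟨c, hc0, hc⟩ := hmem
  have hne : a ≠ a.swap := by rcases a with a | a <;> simp
  have h1 := hc a.swap a.swap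
  have h2 := hc a a.swap
  rw [entry_eq, stv_mulVec, B_eb_swap] at h1 h2
  simp only [Pi.add_apply, Pi.smul_apply, smul_eq_mul] at h1 h2
  rw [eb_apply_self, eb_apply_ne (Ne.symm hne), mul_zero, add_zero, mul_one] at h1
  rw [eb_apply_self, eb_apply_ne hne, zero_add, mul_one] at h2
  apply hρ
  have h3 := F₀.mul_mem (F₀.div_mem h2 h1) (sg_mem (F₀ := F₀) a)
  have e : c * (ρ * sg a) / c * sg a = ρ := by
    have := sg_mul_self (F := F) a
    field_simp
    linear_combination ρ * this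
  rwa [e] at h3

/-- **the subfield subgroup is proper** -/
theorem M0_lt [Fintype F] (hm : 1 ≤ m) {r : ℕ} (hr : r.Prime)
    (hcard : Fintype.card F = Nat.card F₀ ^ r) : M0 m F₀ < Cfsg.spGL m F := by
  obtain ⟨ρ, hρ⟩ := exists_notMem_subfield hr hcard
  refine lt_of_le_of_ne inf_le_right ?_
  intro heq
  have h1 : stv (eb (Sum.inl ⟨0, by omega⟩ : Fin m ⊕ Fin m)) ρ ∈ M0 m F₀ := by
    rw [heq]; exact stv_mem_spGL _ _
  exact stv_eb_notMem _ hρ h1.1

end Cfsg.Agent.Lib.H15.SpSub
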