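import Cfsg.Agent.Lib.H15.SpSubK
import Cfsg.Agent.Lib.H15.SpSubV5
import Cfsg.Agent.Lib.H15.SpSubV7
import Cfsg.Agent.Lib.H11.SpSubV2
import Cfsg.Agent.Lib.H11.SpSubV6
import Cfsg.Agent.Lib.H14.SpSubV3a
import Cfsg.Agent.Lib.H14.SpSubV3b

/-!
# Subfield subgroups of `Sp_{2m}(F)`: maximality (assembly)
-/

set_option autoImplicit false
set_option linter.unusedSectionVars false
set_option linter.unusedVariables false

namespace Cfsg.Agent.Lib.H15.SpSub

open Matrix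
open Cfsg.Agent.Lib.H11.SubspMax

variable {F : Type*} [Field F] {m : ℕ} {F₀ : Subfield F}

/-- the standard subfield subgroup is maximal in the symplectic group -/
theorem maximal_one [Fintype F] (hm : 5 ≤ m) {r : ℕ} (hr : r.Prime)
    (hcard : Fintype.card F = Nat.card F₀ ^ r) :
    Cfsg.Geo.IsMaximalIn (Cfsg.spGL m F) (M0 m F₀) := by
  refine ⟨M0_lt (by omega) hr hcard, fun H hM hH => ?_⟩
  rcases Cfsg.Agent.Lib.H14.SpSub.Lam_dichotomy (H := H) hM (by omega) hr hcard with hL | hL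
  · left
    refine le_antisymm ?_ hM
    have hgood : ∀ y : Fin m ⊕ Fin m → F, stv y (1 : F) ∈ H → ∀ a c : Fin m ⊕ Fin m,
        pl a ≠ pl c → 1 * Cfsg.sympForm m F y (eb a) * Cfsg.sympForm m F y (eb c) ∈ F₀ := by
      intro y hy a c hac
      obtain ⟨κ, hκ, hκ0, k, l, hkl, hmem⟩ := K0 hM hm hy hac
      have h1 := Cfsg.Agent.Lib.H14.SpSub.mem_Lam_of hM (by omega) (a := Sum.inl k)
        (c := Sum.inl l) hkl hmem
      have h2 := Cfsg.Agent.Lib.H14.SpSub.Lam_smul_mem hM (by omega) (F₀.inv_mem hκ) h1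
      rw [← mul_assoc, inv_mul_cancel₀ hκ0, one_mul] at h2
      exact hL _ h2
    intro h hh
    refine ⟨Cfsg.Agent.Lib.H11.SpSub.mem_subfield_of_ratPt h fun x hx => ?_, hH hh⟩
    have hx' : IsRat F₀ x := hx
    have h1 : stv ((h : Matrix _ _ F) *ᵥ x) (1 : F) ∈ H := by
      rw [conj_stv h (hH hh)]
      exact H.mul_mem (H.mul_mem hh (hM (stv_mem_M0 hx' F₀.one_mem))) (H.inv_mem hh)
    obtain ⟨l, r, hr, hlr⟩ := ratPt_of_good hM hH (by omega) one_ne_zero hgood h1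
    exact ⟨l, r, hr, hlr⟩
  · right
    exact Cfsg.Agent.Lib.H11.SpSub.eq_spGL_of_Lam_top hM hH (by omega) hL

end Cfsg.Agent.Lib.H15.SpSub
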