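import Cfsg.Agent.Lib.H15.SpSubA

/-!
# Subfield subgroups of `Sp_{2m}(F)` (task V4a): the extraction lemma
-/

set_option autoImplicit false
set_option linter.unusedSimpArgs false
set_option linter.unusedSectionVars false
set_option linter.unusedVariables false

namespace Cfsg.Agent.Lib.H15.SpSub

open Matrix
open Cfsg.Agent.Lib.H11.SubspMax
open Cfsg.Agent.Lib.H4 (sympForm_self sympForm_add_left sympForm_add_right sympForm_smul_left
  sympForm_smul_right sympForm_swap)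

variable {F : Type*} [Field F] {m : ℕ} {F₀ : Subfield F}
variable {H : Subgroup (GL (Fin m ⊕ Fin m) F)}

local notation "VV" => (Fin m ⊕ Fin m → F)
local notation "MM" => Matrix (Fin m ⊕ Fin m) (Fin m ⊕ Fin m) F
local notation "BB" => Cfsg.sympForm m F

/-- **the extraction lemma** -/
theorem extract (hM : M0 m F₀ ≤ H) {n n' w z e : Fin m ⊕ Fin m → F} {β κ : F}
    (hnn' : Cfsg.sympForm m F n n' = 0) (hX : sr n n' β * stv n κ ∈ H)
    (hw : IsRat F₀ w) (hz : IsRat F₀ z) (he : IsRat F₀ e)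
    (hnw : Cfsg.sympForm m F n w = 0) (hnz : Cfsg.sympForm m F n z = 0)
    (hne : Cfsg.sympForm m F n e = 0) (hwe : Cfsg.sympForm m F w e = 0)
    (hze : Cfsg.sympForm m F z e = 0) :
    sr n e (β * Cfsg.sympForm m F n' w * Cfsg.sympForm m F w z) ∈ H := by
  obtain ⟨lam, hlam⟩ : ∃ lam, lam = BB n' w := ⟨_, rfl⟩
  obtain ⟨ε, hε⟩ : ∃ ε, ε = BB w z := ⟨_, rfl⟩
  rw [← hlam, ← hε]
  have hez : BB e z = 0 := sympForm_eq_swap hze
  -- step 1
  have hg1 : stv w (1 : F) ∈ H := hM (stv_mem_M0 hw F₀.one_mem)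
  have hg1n : (stv w (1 : F) : MM) *ᵥ n = n := stv_fix hnw 1
  have hg1n' : (stv w (1 : F) : MM) *ᵥ n' = n' + lam • w := by rw [stv_mulVec, one_mul, hlam]
  have hc1 : stv w 1 * (sr n n' β * stv n κ) * (stv w 1)⁻¹ =
      sr n (n' + lam • w) β * stv n κ := by
    have h1 := sr_conj (stv w (1 : F)) (stv_mem_spGL w 1) n n' β
    have h2 := conj_stv (stv w (1 : F)) (stv_mem_spGL w 1) n κ
    rw [hg1n, hg1n'] at h1
    rw [hg1n] at h2
    conv_rhs => rw [h1, h2]
    group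
  have hnlw : BB n (lam • w) = 0 := by rw [sympForm_smul_right, hnw, mul_zero]
  obtain ⟨κ₁, hκ₁⟩ : ∃ κ₁, κ₁ = -(β * β * BB n' (lam • w)) := ⟨_, rfl⟩
  have hY : sr n (lam • w) β * stv n κ₁ ∈ H := by
    have h3 : sr n (n' + lam • w) β * stv n κ * (sr n n' β * stv n κ)⁻¹ ∈ H := by
      rw [← hc1]
      exact H.mul_mem (H.mul_mem (H.mul_mem hg1 hX) (H.inv_mem hg1)) (H.inv_mem hX)
    rw [sr_add_right hnn' hnlw, ← hκ₁] at h3
    have e1 : sr n (lam • w) β * stv n κ₁ * sr n n' β * stv n κ * (sr n n' β * stv n κ)⁻¹ =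
        sr n (lam • w) β * stv n κ₁ := by group
    rw [e1] at h3; exact h3
  -- step 2
  have hg2 : sr e z (1 : F) ∈ H := hM (sr_mem_M0 he hz F₀.one_mem)
  have hg2n : (sr e z (1 : F) : MM) *ᵥ n = n := by
    rw [sr_mulVec hez, hne, hnz]; module
  have hg2w : (sr e z (1 : F) : MM) *ᵥ (lam • w) = lam • w + (lam * ε) • e := by
    rw [sr_mulVec hez, sympForm_smul_left, sympForm_smul_left, hwe, ← hε]; module
  have hc2 : sr e z 1 * (sr n (lam • w) β * stv n κ₁) * (sr e z 1)⁻¹ =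
      sr n (lam • w + (lam * ε) • e) β * stv n κ₁ := by
    have h1 := sr_conj (sr e z (1 : F)) (sr_mem_spGL e z 1) n (lam • w) β
    have h2 := conj_stv (sr e z (1 : F)) (sr_mem_spGL e z 1) n κ₁
    rw [hg2n, hg2w] at h1
    rw [hg2n] at h2
    conv_rhs => rw [h1, h2]
    group
  have hnle : BB n ((lam * ε) • e) = 0 := by rw [sympForm_smul_right, hne, mul_zero]
  have h4 : sr n (lam • w + (lam * ε) • e) β * stv n κ₁ * (sr n (lam • w) β * stv n κ₁)⁻¹ ∈ H := by
    rw [← hc2]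
    exact H.mul_mem (H.mul_mem (H.mul_mem hg2 hY) (H.inv_mem hg2)) (H.inv_mem hY)
  have h0 : -(β * β * BB (lam • w) ((lam * ε) • e)) = 0 := by
    rw [sympForm_smul_left, sympForm_smul_right, hwe]; ring
  rw [sr_add_right hnlw hnle, h0, stv_zero, mul_one] at h4
  have e2 : sr n ((lam * ε) • e) β * sr n (lam • w) β * stv n κ₁ *
      (sr n (lam • w) β * stv n κ₁)⁻¹ = sr n ((lam * ε) • e) β := by group
  rw [e2, sr_smul_right hne] at h4
  have e3 : β * lam * ε = lam * ε * β := by ring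
  rw [e3]; exact h4

end Cfsg.Agent.Lib.H15.SpSub
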