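import Mathlib

/-!
# Perfect subgroups of small symmetric groups are trivial (helper15)
-/

set_option autoImplicit false

namespace Cfsg.Agent.Lib.H15.SymF

open Equiv Equiv.Perm
open scoped commutatorElement

/-- The Klein four-group inside `Perm (Fin 4)`. -/
def kleinV : Subgroup (Perm (Fin 4)) where
  carrier := {g | Perm.sign g = 1 ∧ g * g = 1}
  mul_mem' := by
    intro a b ha hb
    revert ha hb
    revert a b
    decide +kernel
  one_mem' := by decide +kernel
  inv_mem' := by
    intro a ha
    revert ha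
    revert a
    decide +kernel

theorem mem_kleinV_iff (g : Perm (Fin 4)) : g ∈ kleinV ↔ Perm.sign g = 1 ∧ g * g = 1 := Iff.rfl

theorem commutator_mem_kleinV : ∀ x y : Perm (Fin 4), Perm.sign x = 1 → Perm.sign y = 1 →
    x * y * x⁻¹ * y⁻¹ ∈ kleinV := by
  simp only [mem_kleinV_iff]
  decide +kernel

theorem kleinV_comm : ∀ g h : Perm (Fin 4), g ∈ kleinV → h ∈ kleinV → g * h = h * g := by
  simp only [mem_kleinV_iff]
  decide +kernel

theorem perfect_le_alternating {β : Type*} [Fintype β] [DecidableEq β] (L : Subgroup (Perm β))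
    (h : ⁅L, L⁆ = L) : L ≤ alternatingGroup β := by
  rw [← h, Subgroup.commutator_le]
  intro x _ y _
  rw [Perm.mem_alternatingGroup, commutatorElement_def]
  simp only [map_mul, map_inv]
  rw [mul_right_comm (Perm.sign x) (Perm.sign y) (Perm.sign x)⁻¹, mul_inv_cancel, one_mul,
    mul_inv_cancel]

theorem perfect_fin_four (L : Subgroup (Perm (Fin 4))) (h : ⁅L, L⁆ = L) : L = ⊥ := by
  have hA := perfect_le_alternating L h
  have hV : L ≤ kleinV := by
    rw [← h, Subgroup.commutator_le]
    intro x hx y hy
    rw [commutatorElement_def]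
    exact commutator_mem_kleinV x y (Perm.mem_alternatingGroup.1 (hA hx))
      (Perm.mem_alternatingGroup.1 (hA hy))
  have : ⁅L, L⁆ = ⊥ := by
    rw [Subgroup.commutator_eq_bot_iff_le_centralizer]
    intro x hx
    rw [Subgroup.mem_centralizer_iff]
    intro y hy
    exact kleinV_comm y x (hV hy) (hV hx)
  rw [← h, this]

/-- A perfect subgroup of `Perm β` with `β` of size at most 4 is trivial. -/
theorem perfect_eq_bot_of_card_le_four {β : Type*} [Fintype β] [DecidableEq β]
    (hβ : Fintype.card β ≤ 4) (L : Subgroup (Perm β)) (h : ⁅L, L⁆ = L) : L = ⊥ := by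
  obtain ⟨f⟩ : Nonempty (β ↪ Fin 4) :=
    Function.Embedding.nonempty_of_card_le (by simpa using hβ)
  have hinj := Perm.viaEmbeddingHom_injective f
  have h1 : ⁅L.map (Perm.viaEmbeddingHom f), L.map (Perm.viaEmbeddingHom f)⁆ =
      L.map (Perm.viaEmbeddingHom f) := by
    rw [← Subgroup.map_commutator, h]
  have h2 := perfect_fin_four _ h1
  exact (Subgroup.map_eq_bot_iff_of_injective L hinj).1 h2

end Cfsg.Agent.Lib.H15.SymF
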