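import Mathlib
import Cfsg.Agent.Lib.H15.SymF3
import Cfsg.Agent.Lib.H15.SymF4

/-!
# Subgroups of symmetric groups containing 3-cycles (helper15), part 5

A quasisimple subgroup `L` of `Perm α` normalized but not centralized by a 3-cycle is the
alternating group on its set of moved points.
-/

set_option autoImplicit false

namespace Cfsg.Agent.Lib.H15.SymF

open Cfsg Equiv Equiv.Perm MulAction
open scoped commutatorElement

variable {α : Type*} [Fintype α] [DecidableEq α]

open Classical in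
/-- The set of points moved by a subgroup of `Perm α`. -/
noncomputable def mvd (D : Subgroup (Perm α)) : Finset α :=
  Finset.univ.filter (fun a => ∃ d ∈ D, d a ≠ a)

theorem mem_mvd {D : Subgroup (Perm α)} {a : α} : a ∈ mvd D ↔ ∃ d ∈ D, d a ≠ a := by
  classical
  simp [mvd]

theorem support_subset_mvd {D : Subgroup (Perm α)} {d : Perm α} (hd : d ∈ D) :
    d.support ⊆ mvd D := by
  intro a ha
  exact mem_mvd.2 ⟨d, hd, Perm.mem_support.1 ha⟩

theorem le_range_ofSubtype (D : Subgroup (Perm α)) :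
    D ≤ (Perm.ofSubtype : Perm {x // x ∈ mvd D} →* Perm α).range := by
  intro d hd
  rw [Perm.mem_range_ofSubtype_iff]
  intro a ha
  exact support_subset_mvd hd ha

/-- If some element of `conjCl L c` moves `a`, some conjugate `x c x⁻¹` does. -/
theorem exists_conj_apply_ne (L : Subgroup (Perm α)) (c : Perm α) {a : α}
    (ha : ∃ d ∈ conjCl L c, d a ≠ a) : ∃ x ∈ L, (x * c * x⁻¹) a ≠ a := by
  by_contra hcon
  have hall : ∀ x ∈ L, (x * c * x⁻¹) a = a := by
    intro x hx
    by_contra h
    exact hcon ⟨x, hx, h⟩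
  have hle : conjCl L c ≤ MulAction.stabilizer (Perm α) a := by
    unfold conjCl
    rw [Subgroup.closure_le]
    rintro _ ⟨x, hx, rfl⟩
    exact MulAction.mem_stabilizer_iff.2 (hall x hx)
  obtain ⟨d, hd, hda⟩ := ha
  exact hda (MulAction.mem_stabilizer_iff.1 (hle hd))

/-- `conjCl L c` is transitive on its moved points when it contains `L` and `c` is a cycle. -/
theorem exists_mem_conjCl_apply_eq (L : Subgroup (Perm α)) (c : Perm α) (hLD : L ≤ conjCl L c)
    (hc : c.IsCycle) {a b : α} (ha : a ∈ mvd (conjCl L c)) (hb : b ∈ mvd (conjCl L c)) :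
    ∃ d ∈ conjCl L c, d a = b := by
  obtain ⟨x, hx, hxa⟩ := exists_conj_apply_ne L c (mem_mvd.1 ha)
  obtain ⟨y, hy, hyb⟩ := exists_conj_apply_ne L c (mem_mvd.1 hb)
  have h1 : c (x⁻¹ a) ≠ x⁻¹ a := by
    intro h
    apply hxa
    simp only [Perm.mul_apply, h]
    simp
  have h2 : c (y⁻¹ b) ≠ y⁻¹ b := by
    intro h
    apply hyb
    simp only [Perm.mul_apply, h]
    simp
  obtain ⟨i, hi⟩ := hc.exists_pow_eq h1 h2
  refine ⟨y * c ^ i * x⁻¹, ?_, ?_⟩
  · exact Subgroup.mul_mem _ (Subgroup.mul_mem _ (hLD hy)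
      (Subgroup.pow_mem _ (self_mem_conjCl L c) i)) (Subgroup.inv_mem _ (hLD hx))
  · simp only [Perm.mul_apply, hi]
    simp

theorem conjCl_le_normalizer (L : Subgroup (Perm α)) (c : Perm α)
    (hcN : c ∈ Subgroup.normalizer (L : Set (Perm α))) :
    conjCl L c ≤ Subgroup.normalizer (L : Set (Perm α)) := by
  unfold conjCl
  rw [Subgroup.closure_le]
  rintro _ ⟨x, hx, rfl⟩
  have hxN : x ∈ Subgroup.normalizer (L : Set (Perm α)) := Subgroup.le_normalizer hx
  exact Subgroup.mul_mem _ (Subgroup.mul_mem _ hxN hcN) (Subgroup.inv_mem _ hxN)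

/-- Main structure theorem, auxiliary form. -/
theorem eq_map_alternatingGroup_aux (L : Subgroup (Perm α)) (hL : IsQuasisimple ↥L) (c : Perm α)
    (hc : c.IsThreeCycle) (hcN : c ∈ Subgroup.normalizer (L : Set (Perm α)))
    (hnc : ∃ x ∈ L, x * c ≠ c * x) (D : Subgroup (Perm α)) (hD : D = conjCl L c) :
    L = D ∧ L = (alternatingGroup {x // x ∈ mvd D}).map Perm.ofSubtype ∧ 5 ≤ (mvd D).card ∧
      c.support ⊆ mvd D := by
  have hperf := commutator_self_of_quasisimple L hL
  have hLD : L ≤ D := by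
    rw [hD]
    exact le_conjCl L hperf (eq_or_central_of_quasisimple L hL) c hcN hnc
  set φ : Perm {x // x ∈ mvd D} →* Perm α := Perm.ofSubtype with hφ
  have hφinj : Function.Injective φ := Perm.ofSubtype_injective
  have hDr : D ≤ φ.range := le_range_ofSubtype D
  set S : Set (Perm α) := {g | ∃ x ∈ L, g = x * c * x⁻¹} with hS
  have hSD : S ⊆ D := fun g hg => by rw [hD]; exact Subgroup.subset_closure hg
  set S' : Set (Perm {x // x ∈ mvd D}) := φ ⁻¹' S with hS'
  have himg : φ '' S' = S := by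
    rw [hS', Set.image_preimage_eq_of_subset]
    intro g hg
    exact hDr (hSD hg)
  set D' : Subgroup (Perm {x // x ∈ mvd D}) := Subgroup.closure S' with hD'
  have hD'map : D'.map φ = D := by
    rw [hD', MonoidHom.map_closure, himg, hD]
    rfl
  have hS'3 : ∀ g ∈ S', g.IsThreeCycle := by
    intro g hg
    obtain ⟨x, hx, hgx⟩ := hg
    have h1 : (φ g).IsThreeCycle := by
      rw [hgx]
      unfold Perm.IsThreeCycle
      rw [Perm.cycleType_conj]
      exact hc
    unfold Perm.IsThreeCycle at h1 ⊢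
    rw [← h1, hφ, Perm.cycleType_ofSubtype]
  have hcD : c ∈ D := by rw [hD]; exact self_mem_conjCl L c
  have hne : S'.Nonempty := by
    obtain ⟨c', hc'⟩ := hDr hcD
    refine ⟨c', ?_⟩
    show φ c' ∈ S
    rw [hc']
    exact ⟨1, L.one_mem, by simp⟩
  have htr : ∀ a b : {x // x ∈ mvd D}, ∃ g ∈ D', g a = b := by
    intro a b
    have ha := a.2
    have hb := b.2
    obtain ⟨d, hd, hdab⟩ : ∃ d ∈ D, d a.1 = b.1 := by
      subst hD
      exact exists_mem_conjCl_apply_eq L c hLD hc.isCycle ha hb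
    have : d ∈ D'.map φ := hD'map.ge hd
    obtain ⟨g, hg, rfl⟩ := this
    refine ⟨g, hg, ?_⟩
    apply Subtype.ext
    rw [← hdab, hφ, Perm.ofSubtype_apply_coe]
  have hD'alt : D' = alternatingGroup {x // x ∈ mvd D} :=
    eq_alternatingGroup_of_closure_threeCycles S' hS'3 hne D' rfl htr
  -- the preimage of `L`
  set L' : Subgroup (Perm {x // x ∈ mvd D}) := L.comap φ with hL'
  have hL'map : L'.map φ = L := by
    rw [hL', Subgroup.map_comap_eq_self (hLD.trans hDr)]
  have hL'perf : ⁅L', L'⁆ = L' := by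
    apply Subgroup.map_injective hφinj
    rw [Subgroup.map_commutator, hL'map, hperf]
  have hLne : L ≠ ⊥ := by
    rintro h
    obtain ⟨x, hx, hxc⟩ := hnc
    rw [h, Subgroup.mem_bot] at hx
    subst hx
    simp at hxc
  have hL'ne : L' ≠ ⊥ := by
    intro h
    apply hLne
    rw [← hL'map, h, Subgroup.map_bot]
  have hcard : 5 ≤ (mvd D).card := by
    by_contra hlt
    push Not at hlt
    apply hL'ne
    apply perfect_eq_bot_of_card_le_four _ L' hL'perf
    rw [Fintype.card_coe]
    omega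
  have hL'D' : L' ≤ D' := by
    intro g hg
    have : φ g ∈ D'.map φ := hD'map.ge (hLD hg)
    obtain ⟨g', hg', h⟩ := this
    rwa [← hφinj h]
  have hDN : D ≤ Subgroup.normalizer (L : Set (Perm α)) := by
    rw [hD]; exact conjCl_le_normalizer L c hcN
  have hL'le : L' ≤ alternatingGroup {x // x ∈ mvd D} := hD'alt ▸ hL'D'
  haveI hnorm : (L'.subgroupOf (alternatingGroup {x // x ∈ mvd D})).Normal := by
    constructor
    intro l hl d
    rw [Subgroup.mem_subgroupOf] at hl ⊢
    simp only [Subgroup.coe_mul, Subgroup.coe_inv]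
    have hdD : φ (d : Perm {x // x ∈ mvd D}) ∈ D :=
      hD'map.le (Subgroup.mem_map_of_mem _ (by rw [hD'alt]; exact d.2))
    have := (Subgroup.mem_normalizer_iff.1 (hDN hdD) (φ l)).1 hl
    show φ _ ∈ L
    simpa using this
  haveI : IsSimpleGroup (alternatingGroup {x // x ∈ mvd D}) := by
    apply alternatingGroup.isSimpleGroup
    rw [Nat.card_eq_fintype_card, Fintype.card_coe]
    exact hcard
  have hL'alt : L' = alternatingGroup {x // x ∈ mvd D} := by
    rcases hnorm.eq_bot_or_eq_top with h | h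
    · exfalso
      apply hL'ne
      rw [Subgroup.subgroupOf_eq_bot] at h
      rw [disjoint_iff, inf_eq_left.2 hL'le] at h
      exact h
    · rw [Subgroup.subgroupOf_eq_top] at h
      exact le_antisymm hL'le h
  have hLD' : L = D :=
    calc L = L'.map φ := hL'map.symm
      _ = D'.map φ := by rw [hL'alt, hD'alt]
      _ = D := hD'map
  refine ⟨hLD', ?_, hcard, support_subset_mvd hcD⟩
  rw [← hL'alt, hL'map]

/-- Main structure theorem. -/
theorem eq_map_alternatingGroup (L : Subgroup (Perm α)) (hL : IsQuasisimple ↥L) (c : Perm α)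
    (hc : c.IsThreeCycle) (hcN : c ∈ Subgroup.normalizer (L : Set (Perm α)))
    (hnc : ∃ x ∈ L, x * c ≠ c * x) :
    L = (alternatingGroup {x // x ∈ mvd L}).map Perm.ofSubtype ∧ 5 ≤ (mvd L).card ∧
      c.support ⊆ mvd L := by
  obtain ⟨h1, h2, h3, h4⟩ := eq_map_alternatingGroup_aux L hL c hc hcN hnc (conjCl L c) rfl
  rw [← h1] at h2 h3 h4
  exact ⟨h2, h3, h4⟩

end Cfsg.Agent.Lib.H15.SymF
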