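import Mathlib
import Cfsg.Prelude.Def_Local
import Cfsg.Agent.Lib.H7.FStar
import Cfsg.Agent.Lib.H15.SymF5

/-!
# Subgroups of symmetric groups containing a Sylow 3-subgroup (helper15), part 6
-/

set_option autoImplicit false

namespace Cfsg.Agent.Lib.H15.SymF

open Cfsg Equiv Equiv.Perm MulAction
open scoped commutatorElement Pointwise

/-- Sylow conjugation inside an intermediate subgroup. -/
theorem exists_conj_mem_sylow {G : Type*} [Group G] [Finite G] {p : ℕ} [Fact p.Prime]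
    (P : Sylow p G) (K : Subgroup G) (hPK : (P : Subgroup G) ≤ K) (g : G) (hgK : g ∈ K)
    (hg : ∃ k : ℕ, orderOf g = p ^ k) : ∃ k ∈ K, k * g * k⁻¹ ∈ (P : Subgroup G) := by
  set PK : Sylow p K := P.subtype hPK with hPKdef
  set g' : K := ⟨g, hgK⟩ with hg'
  have hpg : IsPGroup p (Subgroup.zpowers g') := by
    obtain ⟨k, hk⟩ := hg
    apply IsPGroup.of_card (n := k)
    rw [Nat.card_zpowers, ← hk, hg', Subgroup.orderOf_mk]
  obtain ⟨S, hS⟩ := hpg.exists_le_sylow
  obtain ⟨k, hk⟩ := MulAction.exists_smul_eq K S PK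
  refine ⟨k, k.2, ?_⟩
  have h1 : g' ∈ (S : Subgroup K) := hS (Subgroup.mem_zpowers g')
  have h2 : MulAut.conj k • g' ∈ MulAut.conj k • (S : Subgroup K) :=
    Subgroup.smul_mem_pointwise_smul _ _ _ h1
  rw [← Sylow.coe_subgroup_smul, hk, hPKdef, Sylow.coe_subtype, Subgroup.mem_subgroupOf] at h2
  simpa [MulAut.smul_def, MulAut.conj_apply] using h2

variable {α : Type*} [Fintype α] [DecidableEq α]

/-- A 3-cycle supported off the moved points of `L` centralizes `L`. -/
theorem commute_of_not_mem_mvd (L : Subgroup (Perm α)) {a b d : α} (ha : a ∉ mvd L)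
    (hb : b ∉ mvd L) (hd : d ∉ mvd L) {x : Perm α} (hx : x ∈ L) :
    x * (swap a b * swap a d) = (swap a b * swap a d) * x := by
  have hfix : ∀ y, y ∉ mvd L → x y = y := by
    intro y hy
    by_contra h
    exact hy (mem_mvd.2 ⟨x, hx, h⟩)
  have hdis : Perm.Disjoint x (swap a b * swap a d) := by
    intro y
    by_cases h1 : y = a
    · left; rw [h1]; exact hfix a ha
    by_cases h2 : y = b
    · left; rw [h2]; exact hfix b hb
    by_cases h3 : y = d
    · left; rw [h3]; exact hfix d hd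
    · right
      rw [Perm.mul_apply, swap_apply_of_ne_of_ne h1 h3, swap_apply_of_ne_of_ne h1 h2]
  exact hdis.commute.eq

/-- Final assembly: a subgroup `H` of `Perm α` containing a Sylow 3-subgroup of `Perm α`, with a
quasisimple subgroup `L ⊴ H` satisfying `C_H(L) ≤ L`: then `L` is alternating on its moved points,
and at most 2 points are not moved. -/
theorem sylow_three_structure (hα : 3 ≤ Fintype.card α) (H L : Subgroup (Perm α)) (hLH : L ≤ H)
    (hHN : H ≤ Subgroup.normalizer (L : Set (Perm α))) (hL : IsQuasisimple ↥L)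
    (hbender : ∀ h ∈ H, (∀ x ∈ L, x * h = h * x) → h ∈ L)
    (P : Sylow 3 (Perm α)) (hPH : (P : Subgroup (Perm α)) ≤ H) :
    L = (alternatingGroup {x // x ∈ mvd L}).map Perm.ofSubtype ∧ 5 ≤ (mvd L).card ∧
      Fintype.card α ≤ (mvd L).card + 2 := by
  haveI : Fact (Nat.Prime 3) := ⟨Nat.prime_three⟩
  have hperf := commutator_self_of_quasisimple L hL
  -- no 3-cycle of `H` centralizes `L`
  have hno : ∀ c ∈ H, c.IsThreeCycle → ∃ x ∈ L, x * c ≠ c * x := by
    intro c hcH hc
    by_contra hcon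
    have hall : ∀ x ∈ L, x * c = c * x := by
      intro x hx
      by_contra h
      exact hcon ⟨x, hx, h⟩
    exact not_mem_of_perfect_of_commute L hperf hc hall (hbender c hcH hall)
  -- a 3-cycle in `P`
  obtain ⟨a0, b0, d0, -, -, -, hab0, had0, hbd0⟩ :
      ∃ a b c : α, a ∈ (Finset.univ : Finset α) ∧ b ∈ (Finset.univ : Finset α) ∧
        c ∈ (Finset.univ : Finset α) ∧ a ≠ b ∧ a ≠ c ∧ b ≠ c := by
    apply Finset.two_lt_card_iff.1
    rw [Finset.card_univ]; omega
  have hc0 : (swap a0 b0 * swap a0 d0).IsThreeCycle :=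
    Perm.isThreeCycle_swap_mul_swap_same hab0 had0 hbd0
  obtain ⟨k, -, hk⟩ := exists_conj_mem_sylow P ⊤ le_top (swap a0 b0 * swap a0 d0)
    (Subgroup.mem_top _) ⟨1, by rw [hc0.orderOf, pow_one]⟩
  set c := k * (swap a0 b0 * swap a0 d0) * k⁻¹ with hcdef
  have hc : c.IsThreeCycle := by
    unfold Perm.IsThreeCycle
    rw [hcdef, Perm.cycleType_conj]
    exact hc0
  have hcH : c ∈ H := hPH hk
  obtain ⟨h1, h2, h3⟩ := eq_map_alternatingGroup L hL c hc (hHN hcH) (hno c hcH hc)
  refine ⟨h1, h2, ?_⟩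
  by_contra hlt
  push Not at hlt
  have hcompl : 2 < ((mvd L)ᶜ).card := by
    rw [Finset.card_compl]; omega
  obtain ⟨a, b, d, ha, hb, hd, hab, had, hbd⟩ := Finset.two_lt_card_iff.1 hcompl
  rw [Finset.mem_compl] at ha hb hd
  set c2 := swap a b * swap a d with hc2def
  have hc2 : c2.IsThreeCycle := Perm.isThreeCycle_swap_mul_swap_same hab had hbd
  have hc2cent : ∀ x ∈ L, x * c2 = c2 * x := fun x hx => commute_of_not_mem_mvd L ha hb hd hx
  have hc2N : c2 ∈ Subgroup.normalizer (L : Set (Perm α)) := by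
    rw [Subgroup.mem_normalizer_iff]
    intro x
    have e : ∀ y ∈ L, c2 * y * c2⁻¹ = y := by
      intro y hy
      rw [← hc2cent y hy, mul_inv_cancel_right]
    constructor
    · intro hx
      rw [e x hx]; exact hx
    · intro hx
      have := e _ hx
      have e2 : x = c2⁻¹ * (c2 * x * c2⁻¹) * c2 := by group
      rw [e2]
      have h4 : c2⁻¹ * (c2 * x * c2⁻¹) * c2 = c2 * x * c2⁻¹ := by
        have := hc2cent _ hx
        calc c2⁻¹ * (c2 * x * c2⁻¹) * c2 = c2⁻¹ * ((c2 * x * c2⁻¹) * c2) := by group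
          _ = c2⁻¹ * (c2 * (c2 * x * c2⁻¹)) := by rw [this]
          _ = c2 * x * c2⁻¹ := by group
      rw [h4]; exact hx
  obtain ⟨k2, hk2N, hk2⟩ := exists_conj_mem_sylow P (Subgroup.normalizer (L : Set (Perm α)))
    (hPH.trans hHN) c2 hc2N ⟨1, by rw [hc2.orderOf, pow_one]⟩
  set c3 := k2 * c2 * k2⁻¹ with hc3def
  have hc3 : c3.IsThreeCycle := by
    unfold Perm.IsThreeCycle
    rw [hc3def, Perm.cycleType_conj]
    exact hc2
  have hc3H : c3 ∈ H := hPH hk2
  obtain ⟨x, hx, hxc⟩ := hno c3 hc3H hc3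
  apply hxc
  -- `x` commutes with `c3`
  have hx' : k2⁻¹ * x * k2 ∈ L := by
    have := (Subgroup.mem_normalizer_iff.1 (Subgroup.inv_mem _ hk2N) x).1 hx
    simpa using this
  have := hc2cent _ hx'
  rw [hc3def]
  calc x * (k2 * c2 * k2⁻¹) = k2 * ((k2⁻¹ * x * k2) * c2) * k2⁻¹ := by group
    _ = k2 * (c2 * (k2⁻¹ * x * k2)) * k2⁻¹ := by rw [this]
    _ = k2 * c2 * k2⁻¹ * x := by group

end Cfsg.Agent.Lib.H15.SymF
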