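import Mathlib
import Cfsg.Prelude.Def_SporadicB
import Cfsg.Agent.Lib.H26.ThreeTrans

set_option autoImplicit false

/-!
helper15: 3-transposition sets in which every commuting set generates `S_3` (S5365), part 1:
conjugation calculus, neighbourhoods, the local structure (Step 0).
-/

namespace Cfsg.Agent.Lib.H15.TT

open Cfsg Cfsg.Agent.Lib.H26.ThreeTrans

variable {G : Type*} [Group G] {D : Set G}

/-- conjugation -/
def cj (g x : G) : G := g * x * g⁻¹

theorem cj_mul (g h x : G) : cj (g * h) x = cj g (cj h x) := by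
  unfold cj; group

theorem cj_one (x : G) : cj 1 x = x := by unfold cj; group

theorem cj_inv_cj (g x : G) : cj g⁻¹ (cj g x) = x := by unfold cj; group

theorem cj_cj_inv (g x : G) : cj g (cj g⁻¹ x) = x := by unfold cj; group

theorem cj_injective (g : G) : Function.Injective (cj g) := by
  intro x y h
  have := congrArg (cj g⁻¹) h
  rwa [cj_inv_cj, cj_inv_cj] at this

theorem cj_mul_right (g x y : G) : cj g (x * y) = cj g x * cj g y := by unfold cj; group

theorem cj_inv_right (g x : G) : cj g x⁻¹ = (cj g x)⁻¹ := by unfold cj; group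

theorem cj_one_right (g : G) : cj g 1 = 1 := by unfold cj; group

theorem cj_self (g : G) : cj g g = g := by unfold cj; group

theorem cj_pow (g x : G) (n : ℕ) : cj g (x ^ n) = (cj g x) ^ n := by
  induction n with
  | zero => simp [cj_one_right]
  | succ n ih => rw [pow_succ, pow_succ, cj_mul_right, ih]

theorem commute_cj_cj {g x y : G} : Commute (cj g x) (cj g y) ↔ Commute x y := by
  constructor
  · intro h
    have h1 : cj g x * cj g y = cj g y * cj g x := h
    rw [← cj_mul_right, ← cj_mul_right] at h1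
    exact cj_injective g h1
  · intro h
    show cj g x * cj g y = cj g y * cj g x
    rw [← cj_mul_right, ← cj_mul_right, h.eq]

theorem cj_eq_self_iff {g x : G} : cj g x = x ↔ Commute g x := by
  unfold cj
  constructor
  · intro h
    show g * x = x * g
    calc g * x = (g * x * g⁻¹) * g := by group
      _ = x * g := by rw [h]
  · intro h
    calc g * x * g⁻¹ = (x * g) * g⁻¹ := by rw [h.eq]
      _ = x := by group

theorem cj_eq_of_commute {g x : G} (h : Commute g x) : cj g x = x := cj_eq_self_iff.2 h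

/-- `cj g x = y ↔ x = cj g⁻¹ y` -/
theorem cj_eq_iff {g x y : G} : cj g x = y ↔ x = cj g⁻¹ y := by
  constructor
  · rintro rfl; rw [cj_inv_cj]
  · rintro rfl; rw [cj_cj_inv]

/-- The standing hypotheses. -/
structure Ctx (D : Set G) : Prop where
  hS : IsThreeTranspositionSet D
  hconj : ∀ g : G, ∀ d ∈ D, g * d * g⁻¹ ∈ D

namespace Ctx

variable (h : Ctx D)
include h

theorem sq {d : G} (hd : d ∈ D) : d * d = 1 := sq_eq_one h.hS hd

theorem inv {d : G} (hd : d ∈ D) : d⁻¹ = d := inv_eq h.hS hd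

theorem ne_one {d : G} (hd : d ∈ D) : d ≠ 1 := Cfsg.Agent.Lib.H26.ThreeTrans.ne_one h.hS hd

theorem cj_mem (g : G) {d : G} (hd : d ∈ D) : cj g d ∈ D := h.hconj g d hd

theorem cj_eq {d : G} (hd : d ∈ D) (x : G) : cj d x = d * x * d := by
  unfold cj; rw [h.inv hd]

theorem cj_cj {d : G} (hd : d ∈ D) (x : G) : cj d (cj d x) = x := by
  have := cj_inv_cj d x
  rwa [h.inv hd] at this

theorem braid {u v : G} (hu : u ∈ D) (hv : v ∈ D) (hne : ¬ Commute u v) : cj u v = cj v u := by
  rw [h.cj_eq hu, h.cj_eq hv]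
  exact Cfsg.Agent.Lib.H26.ThreeTrans.braid h.hS hu hv hne

theorem cube {u v : G} (hu : u ∈ D) (hv : v ∈ D) (hne : ¬ Commute u v) : (u * v) ^ 3 = 1 :=
  (commute_or_cube h.hS hu hv).resolve_left hne

/-- `cj (u v) u = v` for non-commuting `u, v`. -/
theorem cj_mul_self {u v : G} (hu : u ∈ D) (hv : v ∈ D) (hne : ¬ Commute u v) :
    cj (u * v) u = v := by
  rw [cj_mul, ← h.braid hu hv hne, h.cj_cj hu]

theorem cj_braid {u v : G} (hu : u ∈ D) (hv : v ∈ D) (hne : ¬ Commute u v) :
    cj u (cj v u) = v := by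
  rw [← h.braid hu hv hne, h.cj_cj hu]

theorem not_commute_cj {u v : G} (hne : ¬ Commute u v) : ¬ Commute u (cj u v) := by
  intro hc
  apply hne
  have : Commute (cj u u) (cj u v) := by rwa [cj_self]
  exact commute_cj_cj.1 this

theorem cj_ne_self {u v : G} (hne : ¬ Commute u v) : cj u v ≠ v := fun e =>
  hne (cj_eq_self_iff.1 e)

theorem cj_ne_left {u v : G} (hne : ¬ Commute u v) : cj u v ≠ u := by
  intro e
  have : cj u v = cj u u := by rw [cj_self]; exact e
  have := cj_injective u this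
  exact hne (this ▸ Commute.refl u)

end Ctx

/-- The neighbourhood of `d`: the other members of `D` commuting with `d`. -/
def Nb (D : Set G) (d : G) : Set G := {y | y ∈ D ∧ y ≠ d ∧ Commute d y}

theorem mem_Nb {d y : G} : y ∈ Nb D d ↔ y ∈ D ∧ y ≠ d ∧ Commute d y := Iff.rfl

theorem Nb_symm {d y : G} (hd : d ∈ D) (hy : y ∈ Nb D d) : d ∈ Nb D y :=
  ⟨hd, fun e => hy.2.1 e.symm, hy.2.2.symm⟩

namespace Ctx

variable (h : Ctx D)
include h

theorem cj_mem_Nb (g : G) {d y : G} (hy : y ∈ Nb D d) : cj g y ∈ Nb D (cj g d) :=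
  ⟨h.cj_mem g hy.1, fun e => hy.2.1 (cj_injective g e), commute_cj_cj.2 hy.2.2⟩

theorem mem_Nb_cj_iff (g : G) {d y : G} : y ∈ Nb D (cj g d) ↔ cj g⁻¹ y ∈ Nb D d := by
  constructor
  · intro hy
    have := h.cj_mem_Nb g⁻¹ hy
    rwa [cj_inv_cj] at this
  · intro hy
    have := h.cj_mem_Nb g hy
    rwa [cj_cj_inv] at this

theorem Nb_cj_eq (g : G) {d d' : G} (e : Nb D d = Nb D d') : Nb D (cj g d) = Nb D (cj g d') := by
  ext y
  rw [h.mem_Nb_cj_iff, h.mem_Nb_cj_iff, e]

end Ctx

end Cfsg.Agent.Lib.H15.TT
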