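import Cfsg.Agent.Lib.H15.TT4

set_option autoImplicit false

/-!
helper15: S5365, part 5: Case B gives `S_5`.
-/

namespace Cfsg.Agent.Lib.H15.TT

open Cfsg Cfsg.Agent.Lib.H26.ThreeTrans Equiv

variable {G : Type*} [Group G] {D : Set G}

theorem sq_of_commute {x y : G} (hx : x * x = 1) (hy : y * y = 1) (hc : Commute x y) :
    (x * y) ^ 2 = 1 := by
  rw [pow_two]
  calc x * y * (x * y) = x * (y * x) * y := by group
    _ = x * (x * y) * y := by rw [hc.eq]
    _ = (x * x) * (y * y) := by group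
    _ = 1 := by rw [hx, hy, one_mul]

theorem liftable4 (d s a c : G) (h11 : d * d = 1) (h22 : s * s = 1) (h33 : a * a = 1)
    (h44 : c * c = 1)
    (h12 : (d * s)^3 = 1) (h21 : (s * d)^3 = 1) (h23 : (s * a)^3 = 1) (h32 : (a * s)^3 = 1)
    (h34 : (a * c)^3 = 1) (h43 : (c * a)^3 = 1)
    (h13 : (d * a)^2 = 1) (h31 : (a * d)^2 = 1) (h14 : (d * c)^2 = 1) (h41 : (c * d)^2 = 1)
    (h24 : (s * c)^2 = 1) (h42 : (c * s)^2 = 1) :
    (CoxeterMatrix.A 4).IsLiftable ![d, s, a, c] := by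
  intro i i'
  rw [Cfsg.Agent.S2530.A_apply]
  fin_cases i <;> fin_cases i' <;> simp <;> assumption

theorem Ctx.caseB [Finite G] (h : Ctx D) (hloc : ∀ d ∈ D, Loc D d) (hne : D.Nonempty)
    (hB : HB D) : Nonempty (↥(Subgroup.closure D) ≃* Equiv.Perm (Fin 5)) := by
  obtain ⟨d, hd⟩ := hne
  have L := hloc d hd
  obtain ⟨a, ha, c, hc, hac⟩ := L.two
  have hnac := L.nc a ha c hc hac
  have Lc := hloc c hc.1
  have hdc : d ∈ Nb D c := Nb_symm hd hc
  obtain ⟨s, hs, hsd⟩ : ∃ s ∈ Nb D c, s ≠ d := by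
    obtain ⟨y0, hy0, y1, hy1, hne01⟩ := Lc.two
    by_cases e : y0 = d
    · exact ⟨y1, hy1, fun e' => hne01 (e.trans e'.symm)⟩
    · exact ⟨y0, hy0, e⟩
  have hnds : ¬ Commute d s := Lc.nc d hdc s hs (Ne.symm hsd)
  have hnsa : ¬ Commute s a := by
    intro hcomm
    have hsa : s ≠ a := by
      rintro rfl
      exact hnac hs.2.2.symm
    have h1 : s ∈ Nb D a := ⟨hs.1, hsa, hcomm.symm⟩
    have h2 : d ∈ Nb D a := Nb_symm hd ha
    exact hsd (hB a ha.1 c hc.1 hnac s d h1 hs h2 hdc)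
  -- the Coxeter relations
  have hlift : (CoxeterMatrix.A 4).IsLiftable ![d, s, a, c] := by
    apply liftable4
    · exact h.sq hd
    · exact h.sq hs.1
    · exact h.sq ha.1
    · exact h.sq hc.1
    · exact h.cube hd hs.1 hnds
    · exact h.cube hs.1 hd (fun hc' => hnds hc'.symm)
    · exact h.cube hs.1 ha.1 hnsa
    · exact h.cube ha.1 hs.1 (fun hc' => hnsa hc'.symm)
    · exact h.cube ha.1 hc.1 hnac
    · exact h.cube hc.1 ha.1 (fun hc' => hnac hc'.symm)
    · exact sq_of_commute (h.sq hd) (h.sq ha.1) ha.2.2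
    · exact sq_of_commute (h.sq ha.1) (h.sq hd) ha.2.2.symm
    · exact sq_of_commute (h.sq hd) (h.sq hc.1) hc.2.2
    · exact sq_of_commute (h.sq hc.1) (h.sq hd) hc.2.2.symm
    · exact sq_of_commute (h.sq hs.1) (h.sq hc.1) hs.2.2.symm
    · exact sq_of_commute (h.sq hc.1) (h.sq hs.1) hs.2.2
  obtain ⟨cs, hcs⟩ := Cfsg.Agent.S2530.result 4
  set φ : Perm (Fin 5) →* G := cs.lift ⟨![d, s, a, c], hlift⟩ with hφ
  have hφs : ∀ i : Fin 4, φ (swap i.castSucc i.succ) = ![d, s, a, c] i := by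
    intro i
    rw [← hcs i]
    exact cs.lift_apply_simple hlift i
  have hφ0 : φ (swap 0 1) = d := hφs 0
  have hφ1 : φ (swap 1 2) = s := hφs 1
  have hφ2 : φ (swap 2 3) = a := hφs 2
  -- injectivity
  have hinj : Function.Injective φ := by
    rw [← MonoidHom.ker_eq_bot_iff]
    rcases Subgroup.bot_or_nontrivial φ.ker with hk | hk
    · exact hk
    · exfalso
      have hA := Equiv.Perm.alternatingGroup_le_of_normal (α := Fin 5) (by simp) hk
      have hmem : swap (0 : Fin 5) 1 * swap 1 2 ∈ alternatingGroup (Fin 5) := by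
        rw [Equiv.Perm.mem_alternatingGroup]; decide
      have := hA hmem
      rw [MonoidHom.mem_ker, map_mul, hφ0, hφ1] at this
      apply hsd
      have h1 : s = d⁻¹ := eq_inv_of_mul_eq_one_right this
      rw [h1, h.inv hd]
  -- the set of images of swaps
  have hT_D : ∀ σ : Perm (Fin 5), σ.IsSwap → φ σ ∈ D := by
    intro σ hσ
    obtain ⟨i, j, hij, rfl⟩ := hσ
    have hconj : IsConj (swap (0 : Fin 5) 1) (swap i j) :=
      Equiv.Perm.isConj_swap (by decide) hij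
    obtain ⟨g, hg⟩ := isConj_iff.1 hconj
    rw [← hg, map_mul, map_mul, map_inv, hφ0]
    exact h.hconj _ d hd
  have hT_Nb : ∀ σ : Perm (Fin 5), σ.IsSwap → ∀ z ∈ Nb D (φ σ), ∃ ρ : Perm (Fin 5),
      ρ.IsSwap ∧ z = φ ρ := by
    intro σ hσ z hz
    obtain ⟨σ1, σ2, σ3, h1, h2, h3, h12, h13, h23, h1σ, h2σ, h3σ, hc1, hc2, hc3⟩ :=
      exists_three_swaps hσ
    have hN : ∀ ρ : Perm (Fin 5), ρ.IsSwap → ρ ≠ σ → Commute σ ρ → φ ρ ∈ Nb D (φ σ) := by
      intro ρ hρ hρσ hcρ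
      exact ⟨hT_D ρ hρ, fun e => hρσ (hinj e), hcρ.map φ⟩
    have Lσ := hloc (φ σ) (hT_D σ hσ)
    have hne12 : φ σ1 ≠ φ σ2 := fun e => h12 (hinj e)
    rcases Lσ.all _ (hN σ1 h1 h1σ hc1) _ (hN σ2 h2 h2σ hc2) hne12 z hz with e | e | e
    · exact ⟨σ1, h1, e⟩
    · exact ⟨σ2, h2, e⟩
    · rcases Lσ.all _ (hN σ1 h1 h1σ hc1) _ (hN σ2 h2 h2σ hc2) hne12 _ (hN σ3 h3 h3σ hc3)
        with e' | e' | e'
      · exact absurd (hinj e').symm h13
      · exact absurd (hinj e').symm h23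
      · exact ⟨σ3, h3, by rw [e, e']⟩
  -- every member of `D` is the image of a swap
  have hD_T : ∀ y ∈ D, ∃ ρ : Perm (Fin 5), ρ.IsSwap ∧ y = φ ρ := by
    intro y hy
    by_contra hcon
    push Not at hcon
    -- y commutes with no image of a swap
    have hnc : ∀ y' ∈ D, (∀ ρ : Perm (Fin 5), ρ.IsSwap → y' ≠ φ ρ) →
        ∀ σ : Perm (Fin 5), σ.IsSwap → ¬ Commute (φ σ) y' := by
      intro y' hy' hy'T σ hσ hcomm
      have : y' ∈ Nb D (φ σ) := ⟨hy', hy'T σ hσ, hcomm⟩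
      obtain ⟨ρ, hρ, e⟩ := hT_Nb σ hσ y' this
      exact hy'T ρ hρ e
    have hs01 : (swap (0 : Fin 5) 1).IsSwap := ⟨0, 1, by decide, rfl⟩
    have hs23 : (swap (2 : Fin 5) 3).IsSwap := ⟨2, 3, by decide, rfl⟩
    have hda : Commute d a := ha.2.2
    have hdane : d ≠ a := fun e => ha.2.1 e.symm
    have hdy : ¬ Commute d y := by have := hnc y hy hcon _ hs01; rwa [hφ0] at this
    have hay : ¬ Commute a y := by have := hnc y hy hcon _ hs23; rwa [hφ2] at this
    have hw := h.s4 hd ha.1 hy hda hdane hdy hay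
    set g := d * a with hg
    have hginv : g⁻¹ = g := by
      rw [hg, mul_inv_rev, h.inv hd, h.inv ha.1, hda.eq]
    have Ly := hloc y hy
    obtain ⟨y', hy', hy'w⟩ : ∃ y' ∈ Nb D y, y' ≠ cj g y := by
      obtain ⟨y0, hy0, y1, hy1, hne01⟩ := Ly.two
      by_cases e : y0 = cj g y
      · exact ⟨y1, hy1, fun e' => hne01 (e.trans e'.symm)⟩
      · exact ⟨y0, hy0, e⟩
    have hy'T : ∀ ρ : Perm (Fin 5), ρ.IsSwap → y' ≠ φ ρ := by
      intro ρ hρ e
      have : y ∈ Nb D (φ ρ) := by rw [← e]; exact Nb_symm hy hy'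
      obtain ⟨ρ', hρ', e'⟩ := hT_Nb ρ hρ y this
      exact hcon ρ' hρ' e'
    have hdy' : ¬ Commute d y' := by have := hnc y' hy'.1 hy'T _ hs01; rwa [hφ0] at this
    have hay' : ¬ Commute a y' := by have := hnc y' hy'.1 hy'T _ hs23; rwa [hφ2] at this
    have hw' := h.s4 hd ha.1 hy'.1 hda hdane hdy' hay'
    -- w' is a neighbour of w
    have hw'w : cj g y' ∈ Nb D (cj g y) := h.cj_mem_Nb g hy'
    have hnc' : ¬ Commute y' (cj g y) := Ly.nc y' hy' _ hw hy'w
    have e := hB y' hy'.1 (cj g y) hw.1 hnc' y (cj g y') (Nb_symm hy hy') (Nb_symm hy hw)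
      hw' hw'w
    -- y = cj g y' → cj g y = y'
    apply hy'w
    have h2 : cj g (cj g y') = y' := by
      have := cj_inv_cj g y'
      rwa [hginv] at this
    rw [e, h2]
  -- closure D = range φ
  have hrange : Subgroup.closure D = φ.range := by
    apply le_antisymm
    · rw [Subgroup.closure_le]
      intro y hy
      obtain ⟨ρ, -, e⟩ := hD_T y hy
      exact ⟨ρ, e.symm⟩
    · rw [MonoidHom.range_eq_map, ← cs.subgroup_closure_range_simple, MonoidHom.map_closure,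
        Subgroup.closure_le]
      rintro _ ⟨_, ⟨i, rfl⟩, rfl⟩
      apply Subgroup.subset_closure
      rw [hcs i]
      exact hT_D _ ⟨_, _, by
        intro e
        have := congrArg Fin.val e
        simp at this, rfl⟩
  exact ⟨(MulEquiv.subgroupCongr hrange).trans (MonoidHom.ofInjective hinj).symm⟩

end Cfsg.Agent.Lib.H15.TT
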