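import Cfsg.Agent.Lib.H15.TT9
import Cfsg.Agent.Lib.H15.TT5

set_option autoImplicit false

/-!
helper15: S5365, part 10: Case A, there is only one block, and the conclusion.
-/

namespace Cfsg.Agent.Lib.H15.TT

open Cfsg Cfsg.Agent.Lib.H26.ThreeTrans

variable {G : Type*} [Group G] {D : Set G}

/-- the union of all the `T_B` -/
def TS (D : Set G) : Set G := {s | ∃ u ∈ D, s ∈ TB D u}

namespace CtxA

variable (A : CtxA D)
include A

theorem TS_commute {s s' : G} (hs : s ∈ TS D) (hs' : s' ∈ TS D) : Commute s s' := by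
  obtain ⟨u, hu, hs⟩ := hs
  obtain ⟨u', hu', hs'⟩ := hs'
  by_cases hbu : Blk D u u'
  · rw [A.TB_blk hu hbu] at hs'
    exact A.TB_commute hu hs hs'
  · exact A.comm_TB hu hu' hbu hs hs'

theorem TS_pow3 {s : G} (hs : s ∈ TS D) : s ^ 3 = 1 := by
  obtain ⟨u, hu, hs⟩ := hs
  exact A.TB_pow3 hu hs

theorem WW_commute_TS {x s : G} (hx : x ∈ Subgroup.closure (TS D)) (hs : s ∈ TS D) :
    Commute x s := by
  induction hx using Subgroup.closure_induction with
  | mem x hx => exact A.TS_commute hx hs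
  | one => exact Commute.one_left s
  | mul x y _ _ ihx ihy => exact ihx.mul_left ihy
  | inv x _ ihx => exact ihx.inv_left

theorem WW_commute {x y : G} (hx : x ∈ Subgroup.closure (TS D))
    (hy : y ∈ Subgroup.closure (TS D)) : Commute x y := by
  induction hy using Subgroup.closure_induction with
  | mem y hy => exact A.WW_commute_TS hx hy
  | one => exact Commute.one_right x
  | mul y y' _ _ ihy ihy' => exact ihy.mul_right ihy'
  | inv y _ ihy => exact ihy.inv_right

theorem WW_pow3 {x : G} (hx : x ∈ Subgroup.closure (TS D)) : x ^ 3 = 1 := by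
  induction hx using Subgroup.closure_induction with
  | mem x hx => exact A.TS_pow3 hx
  | one => exact one_pow 3
  | mul x y hx hy ihx ihy => rw [(A.WW_commute hx hy).mul_pow, ihx, ihy, one_mul]
  | inv x _ ihx => rw [inv_pow, ihx, inv_one]

theorem WW_isPGroup : IsPGroup 3 (Subgroup.closure (TS D)) := by
  intro ⟨x, hx⟩
  refine ⟨1, ?_⟩
  apply Subtype.ext
  simp only [pow_one, Subgroup.coe_pow, Subgroup.coe_one]
  exact A.WW_pow3 hx

theorem WW_cj (g : G) {x : G} (hx : x ∈ Subgroup.closure (TS D)) :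
    cj g x ∈ Subgroup.closure (TS D) := by
  induction hx using Subgroup.closure_induction with
  | mem x hx =>
    obtain ⟨u, hu, hs⟩ := hx
    exact Subgroup.subset_closure ⟨cj g u, A.toCtx.cj_mem g hu, A.TB_cj g hs⟩
  | one => rw [cj_one_right]; exact one_mem _
  | mul x y _ _ ihx ihy => rw [cj_mul_right]; exact mul_mem ihx ihy
  | inv x _ ihx => rw [cj_inv_right]; exact inv_mem ihx

/-- **(A2)** under hypothesis (ii) there is only one block. -/
theorem one_block [Finite G]
    (hcard : ∀ d ∈ D, Nat.card (Cfsg.pCore 3 ↥(Subgroup.centralizer ({d} : Set G))) = 3)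
    {d z : G} (hd : d ∈ D) (hz : z ∈ D) : Blk D d z := by
  by_contra hb
  have hb' : ¬ Blk D z d := fun h => hb (A.blk_symm hz h)
  obtain ⟨t, ht, ht1, hc⟩ := A.b5 hz hd hb'
  have hRle : Subgroup.closure (TS D) ⊓ Subgroup.centralizer ({d} : Set G) ≤ Rot D d := by
    apply (A.loc d hd).le_Rot A.toCtx (hcard d hd) _ (A.WW_isPGroup.to_le inf_le_left)
      inf_le_right
    intro g hg r hr
    rw [Subgroup.mem_inf] at hr ⊢
    exact ⟨A.WW_cj g hr.1, mul_mem (mul_mem hg hr.2) (inv_mem hg)⟩
  have htR : t ∈ Subgroup.closure (TS D) ⊓ Subgroup.centralizer ({d} : Set G) := by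
    rw [Subgroup.mem_inf]
    refine ⟨Subgroup.subset_closure ⟨z, hz, ht⟩, ?_⟩
    rw [Subgroup.mem_centralizer_iff]
    intro x hx
    rw [Set.mem_singleton_iff] at hx
    subst hx
    exact (hc x (A.blk_refl hd)).eq.symm
  obtain ⟨y, hy⟩ := A.exists_nb hd
  exact (A.loc d hd).not_commute_of_mem_Rot A.toCtx (hRle htR) ht1 hy (hc y (Or.inr hy))

end CtxA

theorem perm3_center : ∀ σ : Equiv.Perm (Fin 3),
    (∀ τ : Equiv.Perm (Fin 3), σ * τ = τ * σ) → σ = 1 := by decide

/-- **(A1)** a single block generates `S_3 × S_3`. -/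
theorem CtxA.caseA1 (A : CtxA D) (hne : D.Nonempty)
    (hloc : ∀ d ∈ D, Nonempty (↥(Subgroup.closure (Nb D d)) ≃* Equiv.Perm (Fin 3)))
    (hall : ∀ d ∈ D, ∀ z ∈ D, Blk D d z) :
    Nonempty (↥(Subgroup.closure D) ≃* Equiv.Perm (Fin 3) × Equiv.Perm (Fin 3)) := by
  obtain ⟨d, hd⟩ := hne
  obtain ⟨a, ha⟩ := A.exists_nb hd
  obtain ⟨e1⟩ := hloc a ha.1
  obtain ⟨e2⟩ := hloc d hd
  have hgen : ∀ y ∈ Nb D a, ∀ y' ∈ Nb D d, Commute y y' :=
    fun y hy y' hy' => A.commute_nb_nb hd ha hy hy'
  have hHK1 : ∀ x ∈ Subgroup.closure (Nb D a), ∀ y' ∈ Nb D d, Commute x y' := by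
    intro x hx y' hy'
    induction hx using Subgroup.closure_induction with
    | mem x hx => exact hgen x hx y' hy'
    | one => exact Commute.one_left y'
    | mul x y _ _ ihx ihy => exact ihx.mul_left ihy
    | inv x _ ihx => exact ihx.inv_left
  have hHK : ∀ x ∈ Subgroup.closure (Nb D a), ∀ y ∈ Subgroup.closure (Nb D d), Commute x y := by
    intro x hx y hy
    induction hy using Subgroup.closure_induction with
    | mem y hy => exact hHK1 x hx y hy
    | one => exact Commute.one_right x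
    | mul y y' _ _ ihy ihy' => exact ihy.mul_right ihy'
    | inv y _ ihy => exact ihy.inv_right
  have hD : Nb D a ∪ Nb D d = D := by
    ext z
    constructor
    · rintro (hz | hz)
      · exact hz.1
      · exact hz.1
    · intro hz
      rcases hall d hd z hz with hz' | hz'
      · left; exact (A.par_iff hd ha).1 hz'
      · right; exact hz'
  have hdisj : Disjoint (Subgroup.closure (Nb D a)) (Subgroup.closure (Nb D d)) := by
    rw [Subgroup.disjoint_def]
    intro x hxH hxK
    have hcen : ∀ τ : Equiv.Perm (Fin 3), e1 ⟨x, hxH⟩ * τ = τ * e1 ⟨x, hxH⟩ := by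
      intro τ
      obtain ⟨y, rfl⟩ := e1.surjective τ
      rw [← map_mul, ← map_mul]
      congr 1
      apply Subtype.ext
      exact ((hHK y.1 y.2 x hxK).eq).symm
    have h1 : e1 ⟨x, hxH⟩ = 1 := perm3_center _ hcen
    have h2 : (⟨x, hxH⟩ : Subgroup.closure (Nb D a)) = 1 := by
      apply e1.injective; rw [h1, map_one]
    exact congrArg Subtype.val h2
  have hcomm : ∀ (x : ↥(Subgroup.closure (Nb D a))) (y : ↥(Subgroup.closure (Nb D d))),
      Commute ((Subgroup.closure (Nb D a)).subtype x) ((Subgroup.closure (Nb D d)).subtype y) :=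
    fun x y => hHK x.1 x.2 y.1 y.2
  obtain ⟨f, hf⟩ : ∃ f : ↥(Subgroup.closure (Nb D a)) × ↥(Subgroup.closure (Nb D d)) →* G,
      f = MonoidHom.noncommCoprod (Subgroup.subtype _) (Subgroup.subtype _) hcomm := ⟨_, rfl⟩
  have hinj : Function.Injective f := by
    rw [hf, MonoidHom.noncommCoprod_injective]
    refine ⟨Subgroup.subtype_injective _, Subgroup.subtype_injective _, ?_⟩
    rw [Subgroup.range_subtype, Subgroup.range_subtype]
    exact hdisj
  have hrange : f.range = Subgroup.closure D := by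
    rw [hf, MonoidHom.noncommCoprod_range, Subgroup.range_subtype, Subgroup.range_subtype,
      ← Subgroup.closure_union, hD]
  exact ⟨((MonoidHom.ofInjective hinj).trans (MulEquiv.subgroupCongr hrange)).symm.trans
    (MulEquiv.prodCongr e1 e2)⟩

/-- The whole theorem, in terms of `Nb`. -/
theorem main_thm [Finite G] (h : Ctx D) (hne : D.Nonempty)
    (hloc : ∀ d ∈ D, Nonempty (↥(Subgroup.closure (Nb D d)) ≃* Equiv.Perm (Fin 3)) ∧
      Nat.card (Cfsg.pCore 3 ↥(Subgroup.centralizer ({d} : Set G))) = 3) :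
    Nonempty (↥(Subgroup.closure D) ≃* Equiv.Perm (Fin 5)) ∨
      Nonempty (↥(Subgroup.closure D) ≃* Equiv.Perm (Fin 3) × Equiv.Perm (Fin 3)) := by
  have hL : ∀ d ∈ D, Loc D d := fun d hd => h.exists_loc hd (hloc d hd).1
  by_cases hB : HB D
  · left
    exact h.caseB hL hne hB
  · right
    have A : CtxA D := { toCtx := h, loc := hL, bp := h.allBP hL hB }
    exact A.caseA1 hne (fun d hd => (hloc d hd).1)
      (fun d hd z hz => A.one_block (fun d hd => (hloc d hd).2) hd hz)

end Cfsg.Agent.Lib.H15.TT
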