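import Cfsg.Agent.Lib.H15.TT1
import Cfsg.Agent.Lib.H25.Basic

set_option autoImplicit false

/-!
helper15: S5365, part 2: local structure of neighbourhoods (Step 0).
-/

namespace Cfsg.Agent.Lib.H15.TT

open Cfsg Cfsg.Agent.Lib.H26.ThreeTrans

variable {G : Type*} [Group G] {D : Set G}

/-- The neighbourhood of `d` consists of exactly three pairwise non-commuting elements,
closed under mutual conjugation. -/
structure Loc (D : Set G) (d : G) : Prop where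
  nc : ∀ y ∈ Nb D d, ∀ y' ∈ Nb D d, y ≠ y' → ¬ Commute y y'
  cl : ∀ y ∈ Nb D d, ∀ y' ∈ Nb D d, y ≠ y' → cj y y' ∈ Nb D d
  all : ∀ y ∈ Nb D d, ∀ y' ∈ Nb D d, y ≠ y' → ∀ z ∈ Nb D d, z = y ∨ z = y' ∨ z = cj y y'
  two : ∃ y ∈ Nb D d, ∃ y' ∈ Nb D d, y ≠ y'

theorem perm3_F1 : ∀ σ τ : Equiv.Perm (Fin 3), σ * σ = 1 → τ * τ = 1 → σ ≠ 1 → τ ≠ 1 → σ ≠ τ →
    σ * τ ≠ τ * σ := by decide

theorem perm3_F2' : ∀ σ τ ρ : Equiv.Perm (Fin 3), (σ * σ = 1 ∧ τ * τ = 1 ∧ ρ * ρ = 1 ∧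
    σ ≠ 1 ∧ τ ≠ 1 ∧ ρ ≠ 1 ∧ σ ≠ τ) → (ρ = σ ∨ ρ = τ ∨ ρ = σ * τ * σ) := by decide

theorem perm3_F2 (σ τ ρ : Equiv.Perm (Fin 3)) (h1 : σ * σ = 1) (h2 : τ * τ = 1) (h3 : ρ * ρ = 1)
    (h4 : σ ≠ 1) (h5 : τ ≠ 1) (h6 : ρ ≠ 1) (h7 : σ ≠ τ) : ρ = σ ∨ ρ = τ ∨ ρ = σ * τ * σ :=
  perm3_F2' σ τ ρ ⟨h1, h2, h3, h4, h5, h6, h7⟩

theorem perm3_nc : ∃ σ τ : Equiv.Perm (Fin 3), σ * τ ≠ τ * σ := by decide

theorem Ctx.exists_loc (h : Ctx D) {d : G} (hd : d ∈ D)
    (e : Nonempty (↥(Subgroup.closure (Nb D d)) ≃* Equiv.Perm (Fin 3))) : Loc D d := by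
  obtain ⟨e⟩ := e
  set K := Subgroup.closure (Nb D d) with hK
  -- embedding of neighbours
  have hmemK : ∀ y ∈ Nb D d, y ∈ K := fun y hy => Subgroup.subset_closure hy
  let ι : ∀ y, y ∈ Nb D d → Equiv.Perm (Fin 3) := fun y hy => e ⟨y, hmemK y hy⟩
  have hι_sq : ∀ y (hy : y ∈ Nb D d), ι y hy * ι y hy = 1 := by
    intro y hy
    show e _ * e _ = 1
    rw [← map_mul]
    have : (⟨y, hmemK y hy⟩ : K) * ⟨y, hmemK y hy⟩ = 1 := by
      apply Subtype.ext; exact h.sq hy.1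
    rw [this, map_one]
  have hι_ne : ∀ y (hy : y ∈ Nb D d), ι y hy ≠ 1 := by
    intro y hy he
    have : (⟨y, hmemK y hy⟩ : K) = 1 := by
      apply e.injective; rw [map_one]; exact he
    exact h.ne_one hy.1 (congrArg Subtype.val this)
  have hι_inj : ∀ y (hy : y ∈ Nb D d) y' (hy' : y' ∈ Nb D d), ι y hy = ι y' hy' → y = y' := by
    intro y hy y' hy' he
    have := e.injective he
    exact congrArg Subtype.val this
  have hι_mul : ∀ y (hy : y ∈ Nb D d) y' (hy' : y' ∈ Nb D d), Commute y y' →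
      ι y hy * ι y' hy' = ι y' hy' * ι y hy := by
    intro y hy y' hy' hc
    show e _ * e _ = e _ * e _
    rw [← map_mul, ← map_mul]
    congr 1
    apply Subtype.ext
    exact hc.eq
  have hnc : ∀ y ∈ Nb D d, ∀ y' ∈ Nb D d, y ≠ y' → ¬ Commute y y' := by
    intro y hy y' hy' hne hc
    exact perm3_F1 _ _ (hι_sq y hy) (hι_sq y' hy') (hι_ne y hy) (hι_ne y' hy')
      (fun he => hne (hι_inj y hy y' hy' he)) (hι_mul y hy y' hy' hc)
  have hcl : ∀ y ∈ Nb D d, ∀ y' ∈ Nb D d, y ≠ y' → cj y y' ∈ Nb D d := by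
    intro y hy y' hy' hne
    refine ⟨h.cj_mem y hy'.1, ?_, ?_⟩
    · intro he
      -- cj y y' = d → y' = cj y d = d
      have h1 : y' = cj y d := by
        have := congrArg (cj y) he
        rwa [h.cj_cj hy.1] at this
      rw [cj_eq_of_commute hy.2.2.symm] at h1
      exact hy'.2.1 h1
    · have : Commute (cj y d) (cj y y') := commute_cj_cj.2 hy'.2.2
      rwa [cj_eq_of_commute hy.2.2.symm] at this
  have hall : ∀ y ∈ Nb D d, ∀ y' ∈ Nb D d, y ≠ y' → ∀ z ∈ Nb D d,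
      z = y ∨ z = y' ∨ z = cj y y' := by
    intro y hy y' hy' hne z hz
    have hc := hcl y hy y' hy' hne
    rcases perm3_F2 (ι y hy) (ι y' hy') (ι z hz) (hι_sq y hy) (hι_sq y' hy') (hι_sq z hz)
      (hι_ne y hy) (hι_ne y' hy') (hι_ne z hz) (fun he => hne (hι_inj y hy y' hy' he))
      with h1 | h1 | h1
    · exact Or.inl (hι_inj z hz y hy h1)
    · exact Or.inr (Or.inl (hι_inj z hz y' hy' h1))
    · refine Or.inr (Or.inr (hι_inj z hz _ hc ?_))
      rw [h1]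
      show e _ * e _ * e _ = e _
      rw [← map_mul, ← map_mul]
      congr 1
      apply Subtype.ext
      show y * y' * y = cj y y'
      rw [h.cj_eq hy.1]
  refine ⟨hnc, hcl, hall, ?_⟩
  by_contra hcon
  push Not at hcon
  -- K is commutative
  have hKc : ∀ x ∈ K, ∀ y ∈ K, x * y = y * x := by
    have h1 : K ≤ Subgroup.centralizer (Nb D d) := by
      rw [hK, Subgroup.closure_le]
      intro s hs
      rw [SetLike.mem_coe, Subgroup.mem_centralizer_iff]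
      intro y hy
      rw [hcon s hs y hy]
    have h2 : Subgroup.centralizer (Nb D d) = Subgroup.centralizer (K : Set G) := by
      rw [hK, Subgroup.centralizer_closure]
    intro x hx y hy
    have := h1 hx
    rw [h2, Subgroup.mem_centralizer_iff] at this
    exact (this y hy).symm
  obtain ⟨σ, τ, hστ⟩ := perm3_nc
  apply hστ
  have h3 : e.symm σ * e.symm τ = e.symm τ * e.symm σ := by
    apply Subtype.ext
    exact hKc _ (e.symm σ).2 _ (e.symm τ).2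
  have := congrArg e h3
  simpa using this

namespace Loc

variable {d : G} (L : Loc D d) (h : Ctx D)
include L h

/-- The third element is different from the first two. -/
theorem cj_ne {y y' : G} (hy : y ∈ Nb D d) (hy' : y' ∈ Nb D d) (hne : y ≠ y') :
    cj y y' ≠ y ∧ cj y y' ≠ y' :=
  ⟨h.cj_ne_left (L.nc y hy y' hy' hne), h.cj_ne_self (L.nc y hy y' hy' hne)⟩

end Loc

end Cfsg.Agent.Lib.H15.TT
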