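import Cfsg.Agent.Lib.H15.TT2

set_option autoImplicit false

/-!
helper15: S5365, part 3: the rotation subgroup `A_d` of a neighbourhood and hypothesis (ii).
-/

namespace Cfsg.Agent.Lib.H15.TT

open Cfsg Cfsg.Agent.Lib.H26.ThreeTrans

variable {G : Type*} [Group G] {D : Set G}

/-- The rotation subgroup `A_d`, generated by the products of two neighbours of `d`. -/
def Rot (D : Set G) (d : G) : Subgroup G :=
  Subgroup.closure {t | ∃ y ∈ Nb D d, ∃ y' ∈ Nb D d, t = y * y'}

theorem mul_mem_Rot {d y y' : G} (hy : y ∈ Nb D d) (hy' : y' ∈ Nb D d) : y * y' ∈ Rot D d :=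
  Subgroup.subset_closure ⟨y, hy, y', hy', rfl⟩

theorem Rot_congr {d d' : G} (e : Nb D d = Nb D d') : Rot D d = Rot D d' := by
  unfold Rot; rw [e]

theorem Ctx.cj_mem_Rot (h : Ctx D) (g : G) {d t : G} (ht : t ∈ Rot D d) :
    cj g t ∈ Rot D (cj g d) := by
  unfold Rot at ht ⊢
  induction ht using Subgroup.closure_induction with
  | mem x hx =>
    obtain ⟨y, hy, y', hy', rfl⟩ := hx
    rw [cj_mul_right]
    exact Subgroup.subset_closure ⟨_, h.cj_mem_Nb g hy, _, h.cj_mem_Nb g hy', rfl⟩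
  | one => rw [cj_one_right]; exact Subgroup.one_mem _
  | mul x y _ _ hx hy => rw [cj_mul_right]; exact Subgroup.mul_mem _ hx hy
  | inv x _ hx => rw [cj_inv_right]; exact Subgroup.inv_mem _ hx

theorem Rot_le_centralizer (d : G) : Rot D d ≤ Subgroup.centralizer {d} := by
  unfold Rot
  rw [Subgroup.closure_le]
  rintro _ ⟨y, hy, y', hy', rfl⟩
  rw [SetLike.mem_coe, Subgroup.mem_centralizer_iff]
  intro x hx
  rw [Set.mem_singleton_iff] at hx
  subst hx
  exact ((hy.2.2.mul_right hy'.2.2)).eq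

theorem commute_of_mem_Rot {d t : G} (ht : t ∈ Rot D d) : Commute d t := by
  have := Rot_le_centralizer (D := D) d ht
  rw [Subgroup.mem_centralizer_iff] at this
  exact this d rfl

namespace Loc

variable {d : G} (L : Loc D d) (h : Ctx D)
include L h

/-- the product of two distinct neighbours -/
theorem r_facts {y y' : G} (hy : y ∈ Nb D d) (hy' : y' ∈ Nb D d) (hne : y ≠ y') :
    (y * y') ^ 3 = 1 ∧ y * y' ≠ 1 ∧ y' * y = (y * y')⁻¹ ∧ (y * y') * (y * y') = (y * y')⁻¹ := by
  have h3 := h.cube hy.1 hy'.1 (L.nc y hy y' hy' hne)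
  refine ⟨h3, ?_, ?_, ?_⟩
  · intro e
    apply hne
    have : y' = y⁻¹ := (eq_inv_of_mul_eq_one_right e)
    rw [this, h.inv hy.1]
  · rw [mul_inv_rev, h.inv hy.1, h.inv hy'.1]
  · have : (y * y') * (y * y') * (y * y') = 1 := by
      rw [pow_succ, pow_two] at h3; exact h3
    exact eq_inv_of_mul_eq_one_left this

theorem gen_cases {y y' : G} (hy : y ∈ Nb D d) (hy' : y' ∈ Nb D d) (hne : y ≠ y')
    {z z' : G} (hz : z ∈ Nb D d) (hz' : z' ∈ Nb D d) :
    z * z' = 1 ∨ z * z' = y * y' ∨ z * z' = (y * y')⁻¹ := by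
  obtain ⟨h3, hr1, hinv, hrr⟩ := L.r_facts h hy hy' hne
  set r := y * y' with hr
  have hy2 := h.sq hy.1
  have hy'2 := h.sq hy'.1
  have hc : cj y y' = r * y := by rw [h.cj_eq hy.1]
  have hc' : cj y y' = y * r⁻¹ := by rw [h.cj_eq hy.1, ← hinv]; group
  have hy'r : y' = y * r := by rw [hr, ← mul_assoc, hy2, one_mul]
  have hyry : y * r * y = r⁻¹ := by
    rw [← hinv, hr]
    calc y * (y * y') * y = (y * y) * y' * y := by group
      _ = y' * y := by rw [hy2, one_mul]
  have hrinv2 : r⁻¹ * r⁻¹ = r := by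
    have : (r * r)⁻¹ = r⁻¹⁻¹ := by rw [hrr]
    rw [mul_inv_rev, inv_inv] at this
    exact this
  rcases L.all y hy y' hy' hne z hz with e1 | e1 | e1 <;>
  rcases L.all y hy y' hy' hne z' hz' with e2 | e2 | e2 <;> rw [e1, e2]
  · left; exact hy2
  · right; left; rfl
  · right; right
    rw [hc', ← mul_assoc, hy2, one_mul]
  · right; right; exact hinv
  · left; exact hy'2
  · right; left
    -- y' * c = y r y r⁻¹ = r⁻¹ r⁻¹ = r
    rw [hc']
    calc y' * (y * r⁻¹) = (y * r) * (y * r⁻¹) := by rw [← hy'r]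
      _ = (y * r * y) * r⁻¹ := by group
      _ = r := by rw [hyry, hrinv2]
  · right; left
    rw [hc, mul_assoc, hy2, mul_one]
  · right; right
    rw [hc]
    calc r * y * y' = r * (y * y') := by group
      _ = r⁻¹ := hrr
  · left
    calc cj y y' * cj y y' = (r * y) * (y * r⁻¹) := by rw [← hc, ← hc']
      _ = r * (y * y) * r⁻¹ := by group
      _ = 1 := by rw [hy2]; group

/-- Elements of the rotation subgroup. -/
theorem mem_Rot {y y' : G} (hy : y ∈ Nb D d) (hy' : y' ∈ Nb D d) (hne : y ≠ y') {t : G}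
    (ht : t ∈ Rot D d) : t = 1 ∨ t = y * y' ∨ t = (y * y')⁻¹ := by
  obtain ⟨h3, hr1, hinv, hrr⟩ := L.r_facts h hy hy' hne
  unfold Rot at ht
  induction ht using Subgroup.closure_induction with
  | mem x hx =>
    obtain ⟨z, hz, z', hz', rfl⟩ := hx
    exact L.gen_cases h hy hy' hne hz hz'
  | one => left; rfl
  | mul a b _ _ ha hb =>
    have hrinv2 : (y * y')⁻¹ * (y * y')⁻¹ = y * y' := by
      have : ((y * y') * (y * y'))⁻¹ = (y * y')⁻¹⁻¹ := by rw [hrr]
      rw [mul_inv_rev, inv_inv] at this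
      exact this
    rcases ha with rfl | rfl | rfl <;> rcases hb with rfl | rfl | rfl
    · left; simp
    · right; left; simp
    · right; right; simp
    · right; left; simp
    · right; right; exact hrr
    · left; simp
    · right; right; simp
    · left; simp
    · right; left; exact hrinv2
  | inv a _ ha =>
    rcases ha with rfl | rfl | rfl
    · left; simp
    · right; right; rfl
    · right; left; simp

theorem pow_three_of_mem_Rot {t : G} (ht : t ∈ Rot D d) : t ^ 3 = 1 := by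
  obtain ⟨y, hy, y', hy', hne⟩ := L.two
  obtain ⟨h3, hr1, hinv, hrr⟩ := L.r_facts h hy hy' hne
  rcases L.mem_Rot h hy hy' hne ht with rfl | rfl | rfl
  · simp
  · exact h3
  · rw [inv_pow, h3, inv_one]

/-- A non-identity rotation commutes with no neighbour. -/
theorem not_commute_of_mem_Rot {t : G} (ht : t ∈ Rot D d) (ht1 : t ≠ 1) {z : G}
    (hz : z ∈ Nb D d) : ¬ Commute t z := by
  -- choose `y = z`, `y'` another neighbour
  obtain ⟨y₀, hy₀, y₁, hy₁, hne₀⟩ := L.two
  obtain ⟨y', hy', hne⟩ : ∃ y' ∈ Nb D d, z ≠ y' := by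
    by_cases e : z = y₀
    · exact ⟨y₁, hy₁, by rw [e]; exact hne₀⟩
    · exact ⟨y₀, hy₀, e⟩
  have hnc := L.nc z hz y' hy' hne
  intro hc
  apply hnc
  have key : Commute (z * y') z → Commute z y' := by
    intro hc'
    have h1 : z * y' * z = z * (z * y') := hc'.eq
    have h2 : y' * z = z * y' := by
      have := congrArg (fun w => z⁻¹ * w) h1
      simp only [mul_assoc, inv_mul_cancel_left] at this
      exact this
    exact h2.symm
  rcases L.mem_Rot h hz hy' hne ht with rfl | rfl | rfl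
  · exact absurd rfl ht1
  · exact key hc
  · exact key (by have := hc.inv_left; rwa [inv_inv] at this)

theorem isPGroup_Rot : IsPGroup 3 (Rot D d) := by
  intro ⟨t, ht⟩
  refine ⟨1, ?_⟩
  apply Subtype.ext
  simp only [pow_one, Subgroup.coe_pow, Subgroup.coe_one]
  exact L.pow_three_of_mem_Rot h ht

theorem card_Rot [Finite G] : Nat.card (Rot D d) = 3 := by
  obtain ⟨y, hy, y', hy', hne⟩ := L.two
  obtain ⟨h3, hr1, hinv, hrr⟩ := L.r_facts h hy hy' hne
  have hr : y * y' ∈ Rot D d := mul_mem_Rot hy hy'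
  have hz : Rot D d = Subgroup.zpowers (y * y') := by
    apply le_antisymm
    · intro t ht
      rcases L.mem_Rot h hy hy' hne ht with rfl | rfl | rfl
      · exact Subgroup.one_mem _
      · exact Subgroup.mem_zpowers _
      · exact Subgroup.inv_mem _ (Subgroup.mem_zpowers _)
    · rw [Subgroup.zpowers_le]; exact hr
  rw [hz, Nat.card_zpowers]
  exact orderOf_eq_prime h3 hr1

end Loc

/-- The centralizer of `d` normalizes the rotation subgroup. -/
theorem Ctx.Rot_normalized (h : Ctx D) {d g t : G} (hg : g ∈ Subgroup.centralizer {d})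
    (ht : t ∈ Rot D d) : g * t * g⁻¹ ∈ Rot D d := by
  have h1 := h.cj_mem_Rot g ht
  have h2 : cj g d = d := by
    rw [Subgroup.mem_centralizer_iff] at hg
    exact cj_eq_of_commute (hg d rfl).symm
  rw [h2] at h1
  exact h1

/-- Hypothesis (ii), in the form used: every `3`-subgroup of `C(d)` normalized by `C(d)` lies in
the rotation subgroup. -/
theorem Loc.le_Rot [Finite G] {d : G} (L : Loc D d) (h : Ctx D)
    (hcard : Nat.card (Cfsg.pCore 3 ↥(Subgroup.centralizer ({d} : Set G))) = 3)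
    (R : Subgroup G) (hR3 : IsPGroup 3 R) (hRC : R ≤ Subgroup.centralizer {d})
    (hRn : ∀ g ∈ Subgroup.centralizer ({d} : Set G), ∀ r ∈ R, g * r * g⁻¹ ∈ R) :
    R ≤ Rot D d := by
  set Cd := Subgroup.centralizer ({d} : Set G) with hCd
  have hA : ((Rot D d).subgroupOf Cd).Normal := by
    constructor
    intro n hn g
    rw [Subgroup.mem_subgroupOf] at hn ⊢
    exact h.Rot_normalized g.2 hn
  have hA3 : IsPGroup 3 ((Rot D d).subgroupOf Cd) :=
    (L.isPGroup_Rot h).comap_subtype
  have hAle : (Rot D d).subgroupOf Cd ≤ Cfsg.pCore 3 ↥Cd := Cfsg.Agent.Lib.H25.le_pCore hA hA3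
  have hAcard : Nat.card ((Rot D d).subgroupOf Cd) = 3 := by
    rw [Nat.card_congr (Subgroup.subgroupOfEquivOfLe (Rot_le_centralizer d)).toEquiv]
    exact L.card_Rot h
  have hAeq : (Rot D d).subgroupOf Cd = Cfsg.pCore 3 ↥Cd := by
    apply Subgroup.eq_of_le_of_card_ge hAle
    rw [hAcard, hcard]
  have hRn' : (R.subgroupOf Cd).Normal := by
    constructor
    intro n hn g
    rw [Subgroup.mem_subgroupOf] at hn ⊢
    exact hRn g g.2 n hn
  have hR3' : IsPGroup 3 (R.subgroupOf Cd) := hR3.comap_subtype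
  have hRle : R.subgroupOf Cd ≤ Cfsg.pCore 3 ↥Cd := Cfsg.Agent.Lib.H25.le_pCore hRn' hR3'
  intro r hr
  have : (⟨r, hRC hr⟩ : Cd) ∈ R.subgroupOf Cd := by
    rw [Subgroup.mem_subgroupOf]; exact hr
  have := hRle this
  rw [← hAeq, Subgroup.mem_subgroupOf] at this
  exact this

end Cfsg.Agent.Lib.H15.TT
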