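import Cfsg.Agent.Lib.H15.TT3
import Cfsg.Agent.S2530

set_option autoImplicit false

/-!
helper15: S5365, part 4: the `S_4`-lemma (Step 1) and Case B (`S_5`).
-/

namespace Cfsg.Agent.Lib.H15.TT

open Cfsg Cfsg.Agent.Lib.H26.ThreeTrans Equiv

variable {G : Type*} [Group G] {D : Set G}

/-- **Step 1.** If `d, a` commute, `d ≠ a`, and `y` commutes with neither, then `(da) y (da)⁻¹` is a
neighbour of `y`. -/
theorem Ctx.s4 (h : Ctx D) {d a y : G} (hd : d ∈ D) (ha : a ∈ D) (hy : y ∈ D)
    (hda : Commute d a) (hne : d ≠ a) (hdy : ¬ Commute d y) (hay : ¬ Commute a y) :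
    cj (d * a) y ∈ Nb D y := by
  have hyd : ¬ Commute y d := fun hc => hdy hc.symm
  have hya : ¬ Commute y a := fun hc => hay hc.symm
  have hd2 := h.sq hd
  have ha2 := h.sq ha
  have hy2 := h.sq hy
  have e1 : y * d * y = d * y * d := by
    have := h.braid hy hd hyd
    rwa [h.cj_eq hy, h.cj_eq hd] at this
  have e2 : y * a * y = a * y * a := by
    have := h.braid hy ha hya
    rwa [h.cj_eq hy, h.cj_eq ha] at this
  have hw : cj (d * a) y = cj d (cj y a) := by
    rw [cj_mul, h.braid ha hy hay]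
  refine ⟨h.cj_mem _ hy, ?_, ?_⟩
  · -- w ≠ y
    intro he
    apply hne
    have hc : Commute (d * a) y := cj_eq_self_iff.1 he
    have h1 : y * (d * a) * y = d * a := by
      calc y * (d * a) * y = ((d * a) * y) * y := by rw [hc.eq]
        _ = (d * a) * (y * y) := by group
        _ = d * a := by rw [hy2, mul_one]
    have h2 : y * (d * a) * y = (y * d * y) * (y * a * y) := by
      calc y * (d * a) * y = y * d * 1 * a * y := by group
        _ = y * d * (y * y) * a * y := by rw [hy2]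
        _ = (y * d * y) * (y * a * y) := by group
    rw [e1, e2] at h2
    -- d a = (d y d)(a y a)
    have h3 : d * a = (d * y * d) * (a * y * a) := by rw [← h1, h2]
    have h4 : y * (d * a) * y = 1 := by
      calc y * (d * a) * y = (d * d) * y * d * a * y * (a * a) := by rw [hd2, ha2]; group
        _ = d * ((d * y * d) * (a * y * a)) * a := by group
        _ = d * (d * a) * a := by rw [← h3]
        _ = (d * d) * (a * a) := by group
        _ = 1 := by rw [hd2, ha2, one_mul]
    rw [h1] at h4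
    calc d = d * (a * a) := by rw [ha2, mul_one]
      _ = (d * a) * a := by group
      _ = a := by rw [h4, one_mul]
  · -- Commute y w
    rw [hw]
    apply cj_eq_self_iff.1
    calc cj y (cj d (cj y a)) = cj (y * d * y) a := by rw [cj_mul, cj_mul]
      _ = cj (d * y * d) a := by rw [e1]
      _ = cj d (cj y (cj d a)) := by rw [cj_mul, cj_mul]
      _ = cj d (cj y a) := by rw [cj_eq_of_commute hda]

/-- Hypothesis of Case B: non-commuting members have at most one common neighbour. -/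
def HB (D : Set G) : Prop :=
  ∀ u ∈ D, ∀ v ∈ D, ¬ Commute u v → ∀ p q : G, p ∈ Nb D u → p ∈ Nb D v → q ∈ Nb D u →
    q ∈ Nb D v → p = q

theorem fin5_three : ∀ i j : Fin 5, i ≠ j → ∃ k l m : Fin 5, k ≠ l ∧ k ≠ m ∧ l ≠ m ∧ k ≠ i ∧
    k ≠ j ∧ l ≠ i ∧ l ≠ j ∧ m ≠ i ∧ m ≠ j := by decide

/-- Three swaps disjoint from a given one. -/
theorem exists_three_swaps {σ : Perm (Fin 5)} (hσ : σ.IsSwap) :
    ∃ σ1 σ2 σ3 : Perm (Fin 5), σ1.IsSwap ∧ σ2.IsSwap ∧ σ3.IsSwap ∧ σ1 ≠ σ2 ∧ σ1 ≠ σ3 ∧ σ2 ≠ σ3 ∧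
      σ1 ≠ σ ∧ σ2 ≠ σ ∧ σ3 ≠ σ ∧ Commute σ σ1 ∧ Commute σ σ2 ∧ Commute σ σ3 := by
  obtain ⟨i, j, hij, rfl⟩ := hσ
  obtain ⟨k, l, m, hkl, hkm, hlm, hki, hkj, hli, hlj, hmi, hmj⟩ := fin5_three i j hij
  have hne : ∀ a b c d : Fin 5, a ≠ b → a ≠ c → a ≠ d → swap a b ≠ swap c d := by
    intro a b c d hab hac had he
    have := congrArg (fun f => f a) he
    simp only [swap_apply_left] at this
    rw [swap_apply_of_ne_of_ne hac had] at this
    exact hab this.symm
  have hcomm : ∀ a b : Fin 5, a ≠ b → a ≠ i → a ≠ j → b ≠ i → b ≠ j →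
      Commute (swap i j) (swap a b) := by
    intro a b hab hai haj hbi hbj
    apply Perm.Disjoint.commute
    apply Perm.disjoint_swap_swap
    simp only [List.nodup_cons, List.mem_cons, List.not_mem_nil, or_false, not_or, not_false_eq_true,
      List.nodup_nil, and_true]
    exact ⟨⟨hij, hai.symm, hbi.symm⟩, ⟨haj.symm, hbj.symm⟩, hab⟩
  refine ⟨swap k l, swap k m, swap l m, ⟨k, l, hkl, rfl⟩, ⟨k, m, hkm, rfl⟩, ⟨l, m, hlm, rfl⟩,
    ?_, ?_, ?_, ?_, ?_, ?_, hcomm k l hkl hki hkj hli hlj, hcomm k m hkm hki hkj hmi hmj,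
    hcomm l m hlm hli hlj hmi hmj⟩
  · intro he
    have := congrArg (fun f => f k) he
    simp only [swap_apply_left] at this
    exact hlm this
  · intro he
    have := congrArg (fun f => f k) he
    simp only [swap_apply_left] at this
    rw [swap_apply_of_ne_of_ne hkl hkm] at this
    exact hkl this.symm
  · intro he
    have := congrArg (fun f => f m) he
    simp only [swap_apply_right] at this
    exact hkl this
  · exact hne k l i j hkl hki hkj
  · exact hne k m i j hkm hki hkj
  · exact hne l m i j hlm hli hlj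

end Cfsg.Agent.Lib.H15.TT
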