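import Cfsg.Agent.Lib.H15.TT4

set_option autoImplicit false

/-!
helper15: S5365, part 6: Case A, the block structure.
-/

namespace Cfsg.Agent.Lib.H15.TT

open Cfsg Cfsg.Agent.Lib.H26.ThreeTrans

variable {G : Type*} [Group G] {D : Set G}

/-- The block property at `u`: all neighbours of `u` have the same neighbourhood. -/
def BP (D : Set G) (u : G) : Prop := ∀ v ∈ Nb D u, ∀ v' ∈ Nb D u, Nb D v = Nb D v'

theorem Ctx.BP_cj (h : Ctx D) (g : G) {u : G} (hu : BP D u) : BP D (cj g u) := by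
  intro v hv v' hv'
  rw [h.mem_Nb_cj_iff] at hv hv'
  have := h.Nb_cj_eq g (hu _ hv _ hv')
  rwa [cj_cj_inv, cj_cj_inv] at this

/-- Two neighbourhoods with two common points coincide. -/
theorem Nb_eq_of_two {u v p q : G} (Lu : Loc D u) (Lv : Loc D v) (hpu : p ∈ Nb D u)
    (hpv : p ∈ Nb D v) (hqu : q ∈ Nb D u) (hqv : q ∈ Nb D v) (hpq : p ≠ q) :
    Nb D u = Nb D v := by
  ext z
  constructor
  · intro hz
    rcases Lu.all p hpu q hqu hpq z hz with rfl | rfl | rfl
    · exact hpv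
    · exact hqv
    · exact Lv.cl p hpv q hqv hpq
  · intro hz
    rcases Lv.all p hpv q hqv hpq z hz with rfl | rfl | rfl
    · exact hpu
    · exact hqu
    · exact Lu.cl p hpu q hqu hpq

/-- In Case A every member of `D` has the block property. -/
theorem Ctx.allBP (h : Ctx D) (hloc : ∀ d ∈ D, Loc D d) (hA : ¬ HB D) : ∀ u ∈ D, BP D u := by
  unfold HB at hA
  push Not at hA
  obtain ⟨d, hd, x, hx, hdx, p, q, hpd, hpx, hqd, hqx, hpq⟩ := hA
  have hNdx : Nb D d = Nb D x := Nb_eq_of_two (hloc d hd) (hloc x hx) hpd hpx hqd hqx hpq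
  -- BP d
  have hBPd : BP D d := by
    intro v hv v' hv'
    have hvx : v ∈ Nb D x := hNdx ▸ hv
    have hv'x : v' ∈ Nb D x := hNdx ▸ hv'
    exact Nb_eq_of_two (hloc v hv.1) (hloc v' hv'.1) (Nb_symm hd hv) (Nb_symm hd hv')
      (Nb_symm hx hvx) (Nb_symm hx hv'x) (fun e => hdx (e ▸ Commute.refl d))
  -- BP a for a neighbour a of d
  have hBPa : ∀ a ∈ Nb D d, BP D a := by
    intro a ha
    have hax : a ∈ Nb D x := hNdx ▸ ha
    have hda : d ∈ Nb D a := Nb_symm hd ha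
    have hxa : x ∈ Nb D a := Nb_symm hx hax
    have hdxne : d ≠ x := fun e => hdx (e ▸ Commute.refl d)
    have hNe : Nb D (cj d x) = Nb D d := by
      have := h.Nb_cj_eq d hNdx.symm
      rwa [cj_self] at this
    have key : ∀ v ∈ Nb D a, Nb D v = Nb D d := by
      intro v hv
      rcases (hloc a ha.1).all d hda x hxa hdxne v hv with rfl | rfl | rfl
      · rfl
      · exact hNdx.symm
      · exact hNe
    intro v hv v' hv'
    rw [key v hv, key v' hv']
  intro u hu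
  by_cases hc : Commute d u
  · by_cases e : u = d
    · rw [e]; exact hBPd
    · have hud : u ∈ Nb D d := ⟨hu, e, hc⟩
      exact hBPa u hud
  · have := h.BP_cj (d * u) hBPd
    rwa [h.cj_mul_self hd hu hc] at this

/-- Standing hypotheses of Case A. -/
structure CtxA (D : Set G) : Prop extends Ctx D where
  loc : ∀ d ∈ D, Loc D d
  bp : ∀ u ∈ D, BP D u

/-- same part -/
def Par (D : Set G) (u w : G) : Prop := w ∈ D ∧ Nb D w = Nb D u

/-- same block -/
def Blk (D : Set G) (u w : G) : Prop := Par D u w ∨ w ∈ Nb D u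

namespace CtxA

variable (A : CtxA D)
include A

theorem par_iff {u v w : G} (hu : u ∈ D) (hv : v ∈ Nb D u) : Par D u w ↔ w ∈ Nb D v := by
  constructor
  · rintro ⟨hw, e⟩
    exact Nb_symm hw (e ▸ hv)
  · intro hw
    exact ⟨hw.1, A.bp v hv.1 w hw u (Nb_symm hu hv)⟩

theorem exists_nb {u : G} (hu : u ∈ D) : ∃ v, v ∈ Nb D u := by
  obtain ⟨y, hy, -⟩ := (A.loc u hu).two
  exact ⟨y, hy⟩

theorem par_refl {u : G} (hu : u ∈ D) : Par D u u := ⟨hu, rfl⟩

theorem par_symm {u w : G} (hu : u ∈ D) (hp : Par D u w) : Par D w u := ⟨hu, hp.2.symm⟩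

theorem par_trans {u w z : G} (h1 : Par D u w) (h2 : Par D w z) : Par D u z :=
  ⟨h2.1, h2.2.trans h1.2⟩

theorem not_commute_of_par {u w : G} (hu : u ∈ D) (hp : Par D u w) (hne : w ≠ u) :
    ¬ Commute u w := by
  obtain ⟨v, hv⟩ := A.exists_nb hu
  have hw : w ∈ Nb D v := (A.par_iff hu hv).1 hp
  exact (A.loc v hv.1).nc u (Nb_symm hu hv) w hw (Ne.symm hne)

theorem blk_refl {u : G} (hu : u ∈ D) : Blk D u u := Or.inl (A.par_refl hu)

theorem blk_mem {u w : G} (hb : Blk D u w) : w ∈ D := by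
  rcases hb with hb | hb
  · exact hb.1
  · exact hb.1

theorem blk_symm {u w : G} (hu : u ∈ D) (hb : Blk D u w) : Blk D w u := by
  rcases hb with hb | hb
  · exact Or.inl (A.par_symm hu hb)
  · exact Or.inr (Nb_symm hu hb)

theorem blk_trans {u w z : G} (hu : u ∈ D) (h1 : Blk D u w) (h2 : Blk D w z) : Blk D u z := by
  rcases h1 with h1 | h1 <;> rcases h2 with h2 | h2
  · exact Or.inl (A.par_trans h1 h2)
  · exact Or.inr (h1.2 ▸ h2)
  · -- w ∈ Nb u, Nb z = Nb w : u ∈ Nb w = Nb z, so z ∈ Nb u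
    right
    have : u ∈ Nb D z := h2.2 ▸ Nb_symm hu h1
    exact Nb_symm h2.1 this
  · left
    exact (A.par_iff hu h1).2 h2

theorem blk_of_commute {z t : G} (hz : z ∈ D) (ht : t ∈ D) (hc : Commute z t) : Blk D z t := by
  by_cases e : t = z
  · rw [e]; exact A.blk_refl hz
  · exact Or.inr ⟨ht, e, hc⟩

theorem par_cj (g : G) {u w : G} (hp : Par D u w) : Par D (cj g u) (cj g w) :=
  ⟨A.toCtx.cj_mem g hp.1, A.toCtx.Nb_cj_eq g hp.2⟩

theorem blk_cj (g : G) {u w : G} (hb : Blk D u w) : Blk D (cj g u) (cj g w) := by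
  rcases hb with hb | hb
  · exact Or.inl (A.par_cj g hb)
  · exact Or.inr (A.toCtx.cj_mem_Nb g hb)

/-- Conjugation by a member of a block preserves the block. -/
theorem blk_cj_self {p w : G} (hp : p ∈ D) (hb : Blk D p w) : Blk D p (cj p w) := by
  rcases hb with hb | hb
  · left
    have := A.par_cj p hb
    rwa [cj_self] at this
  · right
    rwa [cj_eq_of_commute hb.2.2]

theorem blk_cj_mem {p p1 w : G} (hp : p ∈ D) (h1 : Blk D p p1) (hb : Blk D p w) :
    Blk D p (cj p1 w) := by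
  have hp1 : p1 ∈ D := A.blk_mem h1
  have h2 : Blk D p1 w := A.blk_trans hp1 (A.blk_symm hp h1) hb
  exact A.blk_trans hp h1 (A.blk_cj_self hp1 h2)

theorem not_blk_cj {p p1 z : G} (hp : p ∈ D) (h1 : Blk D p p1) (hz : ¬ Blk D p z) :
    ¬ Blk D p (cj p1 z) := by
  intro hb
  apply hz
  have := A.blk_cj_mem hp h1 hb
  rwa [A.toCtx.cj_cj (A.blk_mem h1)] at this

/-- A part has exactly three elements. -/
theorem par_cases {z z' w : G} (hz : z ∈ D) (hz' : Par D z z') (hne : z' ≠ z) (hw : Par D z w) :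
    w = z ∨ w = z' ∨ w = cj z z' := by
  obtain ⟨v, hv⟩ := A.exists_nb hz
  exact (A.loc v hv.1).all z (Nb_symm hz hv) z' ((A.par_iff hz hv).1 hz') (Ne.symm hne) w
    ((A.par_iff hz hv).1 hw)

theorem par_third {z z' : G} (hz : z ∈ D) (hz' : Par D z z') (hne : z' ≠ z) :
    Par D z (cj z z') := by
  obtain ⟨v, hv⟩ := A.exists_nb hz
  exact (A.par_iff hz hv).2 ((A.loc v hv.1).cl z (Nb_symm hz hv) z' ((A.par_iff hz hv).1 hz')
    (Ne.symm hne))

theorem exists_par_ne {z : G} (hz : z ∈ D) : ∃ z', Par D z z' ∧ z' ≠ z := by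
  obtain ⟨v, hv⟩ := A.exists_nb hz
  obtain ⟨y0, hy0, y1, hy1, hne⟩ := (A.loc v hv.1).two
  by_cases e : y0 = z
  · exact ⟨y1, (A.par_iff hz hv).2 hy1, fun e' => hne (e.trans e'.symm)⟩
  · exact ⟨y0, (A.par_iff hz hv).2 hy0, e⟩

end CtxA

end Cfsg.Agent.Lib.H15.TT
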