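import Cfsg.Agent.Lib.H15.TT6

set_option autoImplicit false

/-!
helper15: S5365, part 7: Case A, the `3`-subgroups `T_B` of the blocks.
-/

namespace Cfsg.Agent.Lib.H15.TT

open Cfsg Cfsg.Agent.Lib.H26.ThreeTrans

variable {G : Type*} [Group G] {D : Set G}

theorem commute_Rot_of_commute_Nb {d g : G} (hg : ∀ y ∈ Nb D d, Commute g y) {t : G}
    (ht : t ∈ Rot D d) : Commute g t := by
  unfold Rot at ht
  induction ht using Subgroup.closure_induction with
  | mem x hx =>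
    obtain ⟨y, hy, y', hy', rfl⟩ := hx
    exact (hg y hy).mul_right (hg y' hy')
  | one => exact Commute.one_right g
  | mul x y _ _ hx hy => exact hx.mul_right hy
  | inv x _ hx => exact hx.inv_right

namespace Loc

variable {d : G} (L : Loc D d) (h : Ctx D)
include L h

theorem exists_other {y : G} (hy : y ∈ Nb D d) : ∃ y' ∈ Nb D d, y ≠ y' := by
  obtain ⟨y₀, hy₀, y₁, hy₁, hne₀⟩ := L.two
  by_cases e : y = y₀
  · exact ⟨y₁, hy₁, by rw [e]; exact hne₀⟩
  · exact ⟨y₀, hy₀, e⟩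

/-- A neighbour inverts every rotation. -/
theorem cj_nb_rot {y t : G} (hy : y ∈ Nb D d) (ht : t ∈ Rot D d) : cj y t = t⁻¹ := by
  obtain ⟨y', hy', hne⟩ := L.exists_other h hy
  obtain ⟨h3, hr1, hinv, hrr⟩ := L.r_facts h hy hy' hne
  have key : cj y (y * y') = (y * y')⁻¹ := by
    rw [← hinv, h.cj_eq hy.1]
    calc y * (y * y') * y = (y * y) * y' * y := by group
      _ = y' * y := by rw [h.sq hy.1, one_mul]
  rcases L.mem_Rot h hy hy' hne ht with rfl | rfl | rfl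
  · rw [cj_one_right, inv_one]
  · exact key
  · rw [cj_inv_right, key]

theorem commute_Rot {t t' : G} (ht : t ∈ Rot D d) (ht' : t' ∈ Rot D d) : Commute t t' := by
  obtain ⟨y, hy, y', hy', hne⟩ := L.two
  rcases L.mem_Rot h hy hy' hne ht with rfl | rfl | rfl <;>
  rcases L.mem_Rot h hy hy' hne ht' with rfl | rfl | rfl
  · exact Commute.one_left _
  · exact Commute.one_left _
  · exact Commute.one_left _
  · exact Commute.one_right _
  · exact Commute.refl _
  · exact (Commute.refl _).inv_right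
  · exact Commute.one_right _
  · exact (Commute.refl _).inv_left
  · exact Commute.refl _

theorem rot_cases {a a1 : G} (ha : a ∈ Rot D d) (hne1 : a ≠ 1) (h1 : a1 ∈ Rot D d) :
    a1 = 1 ∨ a1 = a ∨ a1 = a⁻¹ := by
  obtain ⟨y, hy, y', hy', hne⟩ := L.two
  rcases L.mem_Rot h hy hy' hne ha with rfl | rfl | rfl
  · exact absurd rfl hne1
  · exact L.mem_Rot h hy hy' hne h1
  · rcases L.mem_Rot h hy hy' hne h1 with e | e | e
    · left; exact e
    · right; right; rw [e, inv_inv]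
    · right; left; exact e

theorem exists_gen : ∃ r ∈ Rot D d, r ≠ 1 ∧ r ^ 3 = 1 := by
  obtain ⟨y, hy, y', hy', hne⟩ := L.two
  obtain ⟨h3, hr1, -, -⟩ := L.r_facts h hy hy' hne
  exact ⟨y * y', mul_mem_Rot hy hy', hr1, h3⟩

/-- every rotation is `1` or a product of two neighbours -/
theorem rot_prod {t : G} (ht : t ∈ Rot D d) : t = 1 ∨ ∃ y ∈ Nb D d, ∃ y' ∈ Nb D d, t = y * y' := by
  obtain ⟨y, hy, y', hy', hne⟩ := L.two
  obtain ⟨h3, hr1, hinv, hrr⟩ := L.r_facts h hy hy' hne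
  rcases L.mem_Rot h hy hy' hne ht with rfl | rfl | rfl
  · left; rfl
  · right; exact ⟨y, hy, y', hy', rfl⟩
  · right; exact ⟨y', hy', y, hy, hinv.symm⟩

end Loc

namespace CtxA

variable (A : CtxA D)
include A

theorem commute_nb_nb {p q y q' : G} (hp : p ∈ D) (hq : q ∈ Nb D p) (hy : y ∈ Nb D q)
    (hq' : q' ∈ Nb D p) : Commute y q' := by
  have hpar : Par D p y := (A.par_iff hp hq).2 hy
  have : q' ∈ Nb D y := by rw [hpar.2]; exact hq'
  exact this.2.2

theorem commute_rot_rot {p q a b : G} (hp : p ∈ D) (hq : q ∈ Nb D p) (ha : a ∈ Rot D p)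
    (hb : b ∈ Rot D q) : Commute a b :=
  commute_Rot_of_commute_Nb (d := q) (g := a) (fun y hy =>
    (commute_Rot_of_commute_Nb (d := p) (g := y)
      (fun q' hq' => A.commute_nb_nb hp hq hy hq') ha).symm) hb

theorem rot_inter {p q x : G} (hp : p ∈ D) (hq : q ∈ Nb D p) (hx : x ∈ Rot D p)
    (hx' : x ∈ Rot D q) : x = 1 := by
  by_contra hne
  exact (A.loc p hp).not_commute_of_mem_Rot A.toCtx hx hne hq (commute_of_mem_Rot hx').symm

theorem Rot_eq_of_nb {p q q' : G} (hp : p ∈ D) (hq : q ∈ Nb D p) (hq' : q' ∈ Nb D p) :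
    Rot D q = Rot D q' := Rot_congr (A.bp p hp q hq q' hq')

/-! ### Step (a) -/

theorem not_commute_of_not_blk {p z : G} (hp : p ∈ D) (hz : z ∈ D) (hb : ¬ Blk D p z) :
    ¬ Commute p z := fun hc => hb (A.blk_of_commute hp hz hc)

theorem not_blk_of_blk {p b z : G} (hp : p ∈ D) (h1 : Blk D p b) (hb : ¬ Blk D p z) :
    ¬ Blk D b z := fun h2 => hb (A.blk_trans hp h1 h2)

theorem step_a {p q z : G} (hp : p ∈ D) (hq : q ∈ Nb D p) (hz : z ∈ D) (hb : ¬ Blk D p z) :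
    Blk D (cj p z) (cj q z) := by
  have h1 : ¬ Commute p z := A.not_commute_of_not_blk hp hz hb
  have h2 : ¬ Commute q z :=
    A.not_commute_of_not_blk hq.1 hz (A.not_blk_of_blk hp (Or.inr hq) hb)
  have h3 := A.toCtx.s4 hp hq.1 hz hq.2.2 (Ne.symm hq.2.1) h1 h2
  rw [cj_mul] at h3
  have h4 := A.toCtx.cj_mem_Nb p h3
  rw [A.toCtx.cj_cj hp] at h4
  exact Or.inr h4

theorem step_a' {p b z : G} (hp : p ∈ D) (h1 : Blk D p b) (hz : z ∈ D) (hb : ¬ Blk D p z) :
    Blk D (cj p z) (cj b z) := by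
  rcases h1 with h1 | h1
  · obtain ⟨q, hq⟩ := A.exists_nb hp
    have hq' : q ∈ Nb D b := by rw [h1.2]; exact hq
    have h2 := A.step_a hp hq hz hb
    have h3 := A.step_a h1.1 hq' hz (A.not_blk_of_blk hp (Or.inl h1) hb)
    exact A.blk_trans (A.toCtx.cj_mem p hz) h2 (A.blk_symm (A.toCtx.cj_mem b hz) h3)
  · exact A.step_a hp h1 hz hb

theorem step_a'' {p b1 b2 z : G} (hp : p ∈ D) (h1 : Blk D p b1) (h2 : Blk D p b2) (hz : z ∈ D)
    (hb : ¬ Blk D p z) : Blk D (cj b1 z) (cj b2 z) :=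
  A.blk_trans (A.toCtx.cj_mem b1 hz)
    (A.blk_symm (A.toCtx.cj_mem p hz) (A.step_a' hp h1 hz hb)) (A.step_a' hp h2 hz hb)

theorem step_a1 {p b1 b2 z : G} (hp : p ∈ D) (h1 : Blk D p b1) (h2 : Blk D p b2) (hz : z ∈ D)
    (hb : ¬ Blk D p z) : Blk D z (cj (b1 * b2) z) := by
  have hb' : ¬ Blk D p (cj b2 z) := A.not_blk_cj hp h2 hb
  have := A.step_a'' hp h2 h1 (A.toCtx.cj_mem b2 hz) hb'
  rwa [A.toCtx.cj_cj (A.blk_mem h2), ← cj_mul] at this

/-- a rotation attached to a member of the block keeps `z` in its block -/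
theorem blk_cj_rot {p d r z : G} (hp : p ∈ D) (hd : Blk D p d) (hr : r ∈ Rot D d) (hz : z ∈ D)
    (hb : ¬ Blk D p z) : Blk D z (cj r z) ∧ ¬ Blk D p (cj r z) := by
  have hdD : d ∈ D := A.blk_mem hd
  rcases (A.loc d hdD).rot_prod A.toCtx hr with rfl | ⟨y, hy, y', hy', rfl⟩
  · rw [cj_one]; exact ⟨A.blk_refl hz, hb⟩
  · have hy1 : Blk D p y := A.blk_trans hp hd (Or.inr hy)
    have hy2 : Blk D p y' := A.blk_trans hp hd (Or.inr hy')
    refine ⟨A.step_a1 hp hy1 hy2 hz hb, ?_⟩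
    rw [cj_mul]
    exact A.not_blk_cj hp hy1 (A.not_blk_cj hp hy2 hb)

end CtxA

end Cfsg.Agent.Lib.H15.TT
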