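import Cfsg.Agent.Lib.H15.TT7

set_option autoImplicit false

/-!
helper15: S5365, part 8: Case A, the set `T_B` attached to a block and its action on the
other blocks (Step (b)).
-/

namespace Cfsg.Agent.Lib.H15.TT

open Cfsg Cfsg.Agent.Lib.H26.ThreeTrans

variable {G : Type*} [Group G] {D : Set G}

/-- The `3`-subgroup (as a set) attached to the block of `p`: products of a rotation of the
neighbourhood of `p` and a rotation of the part of `p`. -/
def TB (D : Set G) (p : G) : Set G :=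
  {t | ∃ q ∈ Nb D p, ∃ a ∈ Rot D p, ∃ b ∈ Rot D q, t = a * b}

namespace CtxA

variable (A : CtxA D)
include A

theorem mem_TB_iff {p q t : G} (hp : p ∈ D) (hq : q ∈ Nb D p) :
    t ∈ TB D p ↔ ∃ a ∈ Rot D p, ∃ b ∈ Rot D q, t = a * b := by
  constructor
  · rintro ⟨q', hq', a, ha, b, hb, rfl⟩
    refine ⟨a, ha, b, ?_, rfl⟩
    rw [A.Rot_eq_of_nb hp hq hq']; exact hb
  · rintro ⟨a, ha, b, hb, rfl⟩
    exact ⟨q, hq, a, ha, b, hb, rfl⟩

theorem TB_nb {p q : G} (hp : p ∈ D) (hq : q ∈ Nb D p) : TB D q = TB D p := by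
  ext t
  rw [A.mem_TB_iff hq.1 (Nb_symm hp hq), A.mem_TB_iff hp hq]
  constructor
  · rintro ⟨a, ha, b, hb, rfl⟩
    exact ⟨b, hb, a, ha, (A.commute_rot_rot hp hq hb ha).eq.symm⟩
  · rintro ⟨a, ha, b, hb, rfl⟩
    exact ⟨b, hb, a, ha, (A.commute_rot_rot hp hq ha hb).eq⟩

theorem TB_par {p p' : G} (hp : Par D p p') : TB D p' = TB D p := by
  simp only [TB, Rot, hp.2]

theorem TB_blk {p p' : G} (hp : p ∈ D) (hb : Blk D p p') : TB D p' = TB D p := by
  rcases hb with hb | hb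
  · exact A.TB_par hb
  · exact A.TB_nb hp hb

theorem TB_cj (g : G) {p t : G} (ht : t ∈ TB D p) : cj g t ∈ TB D (cj g p) := by
  obtain ⟨q, hq, a, ha, b, hb, rfl⟩ := ht
  exact ⟨cj g q, A.toCtx.cj_mem_Nb g hq, cj g a, A.toCtx.cj_mem_Rot g ha, cj g b,
    A.toCtx.cj_mem_Rot g hb, cj_mul_right g a b⟩

theorem TB_pow3 {p t : G} (hp : p ∈ D) (ht : t ∈ TB D p) : t ^ 3 = 1 := by
  obtain ⟨q, hq, a, ha, b, hb, rfl⟩ := ht
  rw [(A.commute_rot_rot hp hq ha hb).mul_pow,
    (A.loc p hp).pow_three_of_mem_Rot A.toCtx ha,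
    (A.loc q hq.1).pow_three_of_mem_Rot A.toCtx hb, one_mul]

theorem TB_commute {p t t' : G} (hp : p ∈ D) (ht : t ∈ TB D p) (ht' : t' ∈ TB D p) :
    Commute t t' := by
  obtain ⟨q, hq⟩ := A.exists_nb hp
  obtain ⟨a, ha, b, hb, rfl⟩ := (A.mem_TB_iff hp hq).1 ht
  obtain ⟨a', ha', b', hb', rfl⟩ := (A.mem_TB_iff hp hq).1 ht'
  have h1 : Commute a a' := (A.loc p hp).commute_Rot A.toCtx ha ha'
  have h2 : Commute b b' := (A.loc q hq.1).commute_Rot A.toCtx hb hb'
  have h3 : Commute a b' := A.commute_rot_rot hp hq ha hb'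
  have h4 : Commute b a' := (A.commute_rot_rot hp hq ha' hb).symm
  exact (h1.mul_right h3).mul_left (h4.mul_right h2)

theorem TB_sq_mem {p t : G} (hp : p ∈ D) (ht : t ∈ TB D p) : t * t ∈ TB D p := by
  obtain ⟨q, hq, a, ha, b, hb, rfl⟩ := ht
  refine ⟨q, hq, a * a, Subgroup.mul_mem _ ha ha, b * b, Subgroup.mul_mem _ hb hb, ?_⟩
  have hc : Commute a b := A.commute_rot_rot hp hq ha hb
  calc a * b * (a * b) = a * (b * a) * b := by group
    _ = a * (a * b) * b := by rw [hc.eq]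
    _ = a * a * (b * b) := by group

theorem TB_sq_sq {p t : G} (hp : p ∈ D) (ht : t ∈ TB D p) : (t * t) * (t * t) = t := by
  have h3 := A.TB_pow3 hp ht
  rw [pow_succ, pow_two] at h3
  calc (t * t) * (t * t) = (t * t * t) * t := by simp only [mul_assoc]
    _ = t := by rw [h3, one_mul]

/-- An edge involution inverts `T_B`. -/
theorem cj_edge {p q t : G} (hp : p ∈ D) (hq : q ∈ Nb D p) (ht : t ∈ TB D p) :
    cj (p * q) t = t⁻¹ := by
  obtain ⟨a, ha, b, hb, rfl⟩ := (A.mem_TB_iff hp hq).1 ht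
  have hqp : p ∈ Nb D q := Nb_symm hp hq
  have hc : Commute a b := A.commute_rot_rot hp hq ha hb
  have e1 : cj (p * q) a = a⁻¹ := by
    rw [cj_mul, (A.loc p hp).cj_nb_rot A.toCtx hq ha, cj_inv_right,
      cj_eq_of_commute (commute_of_mem_Rot ha)]
  have e2 : cj (p * q) b = b⁻¹ := by
    rw [hq.2.2.eq, cj_mul, (A.loc q hq.1).cj_nb_rot A.toCtx hqp hb, cj_inv_right,
      cj_eq_of_commute (commute_of_mem_Rot hb)]
  rw [cj_mul_right, e1, e2, hc.eq, mul_inv_rev]

/-- **T1.** `T_B` maps each member outside the block into its own block. -/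
theorem T1 {p t z : G} (hp : p ∈ D) (ht : t ∈ TB D p) (hz : z ∈ D) (hb : ¬ Blk D p z) :
    Blk D z (cj t z) ∧ ¬ Blk D p (cj t z) := by
  obtain ⟨q, hq, a, ha, b, hb', rfl⟩ := ht
  have h1 := A.blk_cj_rot hp (Or.inr hq) hb' hz hb
  have h2 := A.blk_cj_rot hp (A.blk_refl hp) ha (A.toCtx.cj_mem b hz) h1.2
  rw [cj_mul]
  exact ⟨A.blk_trans hz h1.1 h2.1, h2.2⟩

/-- **(b1)** `T_B` preserves the part of `z`. -/
theorem b1 {p t z : G} (hp : p ∈ D) (ht : t ∈ TB D p) (hz : z ∈ D) (hb : ¬ Blk D p z) :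
    Par D z (cj t z) := by
  set s := t * t with hs
  have hsT : s ∈ TB D p := A.TB_sq_mem hp ht
  have hss : s * s = t := A.TB_sq_sq hp ht
  have h1 := (A.T1 hp hsT hz hb).1
  rw [← hss, cj_mul]
  rcases h1 with h1 | h1
  · exact A.par_trans h1 (A.par_cj s h1)
  · have h2 : cj s (cj s z) ∈ Nb D (cj s z) := A.toCtx.cj_mem_Nb s h1
    exact (A.par_iff hz h1).2 h2

/-- **(b2)** an element of `T_B` commuting with `z` commutes with the whole part of `z`. -/
theorem b2 {p t z w : G} (hp : p ∈ D) (ht : t ∈ TB D p) (hz : z ∈ D) (hb : ¬ Blk D p z)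
    (hc : Commute t z) (hw : Par D z w) : Commute t w := by
  by_cases e : w = z
  · rw [e]; exact hc
  have hbw : ¬ Blk D p w := fun h1 =>
    hb (A.blk_trans hp h1 (A.blk_symm hz (Or.inl hw)))
  have h1 : Par D z (cj t w) := A.par_trans hw (A.b1 hp ht hw.1 hbw)
  rcases A.par_cases hz hw e h1 with e1 | e1 | e1
  · exfalso
    apply e
    apply cj_injective t
    rw [e1, cj_eq_of_commute hc]
  · exact cj_eq_self_iff.1 e1
  · exfalso
    have h2 : cj (z * t) w = w := by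
      rw [cj_mul, e1, A.toCtx.cj_cj hz]
    have h3 : Commute (z * t) w := cj_eq_self_iff.1 h2
    have h4 : (z * t) ^ 3 = z := by
      rw [hc.symm.mul_pow, A.TB_pow3 hp ht, mul_one, pow_succ, pow_two, A.toCtx.sq hz, one_mul]
    have h5 : Commute z w := by
      have := h3.pow_left 3
      rwa [h4] at this
    exact A.not_commute_of_par hz hw e h5

end CtxA

end Cfsg.Agent.Lib.H15.TT
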