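import Cfsg.Agent.Lib.H15.TT8

set_option autoImplicit false

/-!
helper15: S5365, part 9: Case A, the subgroups `T_B` of different blocks commute.
-/

namespace Cfsg.Agent.Lib.H15.TT

open Cfsg Cfsg.Agent.Lib.H26.ThreeTrans

variable {G : Type*} [Group G] {D : Set G}

theorem sq_sq_of_pow3 {x : G} (hx : x ^ 3 = 1) : (x * x) * (x * x) = x := by
  rw [pow_succ, pow_two] at hx
  calc (x * x) * (x * x) = (x * x * x) * x := by simp only [mul_assoc]
    _ = x := by rw [hx, one_mul]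

namespace CtxA

variable (A : CtxA D)
include A

/-- **(b4)** some non-identity element of `T_B` commutes with `z`. -/
theorem b4 {p z : G} (hp : p ∈ D) (hz : z ∈ D) (hb : ¬ Blk D p z) :
    ∃ t ∈ TB D p, t ≠ 1 ∧ Commute t z := by
  obtain ⟨q, hq⟩ := A.exists_nb hp
  obtain ⟨u, hu, hu1, hu3⟩ := (A.loc q hq.1).exists_gen A.toCtx
  obtain ⟨v, hv, hv1, hv3⟩ := (A.loc p hp).exists_gen A.toCtx
  have hcuv : Commute v u := A.commute_rot_rot hp hq hv hu
  have mem : ∀ a ∈ Rot D p, ∀ b ∈ Rot D q, a * b ∈ TB D p :=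
    fun a ha b hb => ⟨q, hq, a, ha, b, hb, rfl⟩
  have huT : u ∈ TB D p := by
    have := mem 1 (one_mem _) u hu; rwa [one_mul] at this
  have huuT : u * u ∈ TB D p := by
    have := mem 1 (one_mem _) (u * u) (mul_mem hu hu); rwa [one_mul] at this
  have hvT : v ∈ TB D p := by
    have := mem v hv 1 (one_mem _); rwa [mul_one] at this
  by_cases hcu : Commute u z
  · exact ⟨u, huT, hu1, hcu⟩
  have hz1 : Par D z (cj u z) := A.b1 hp huT hz hb
  have hz1ne : cj u z ≠ z := fun e => hcu (cj_eq_self_iff.1 e)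
  have hz2 : Par D z (cj (u * u) z) := A.b1 hp huuT hz hb
  have hz3 : Par D z (cj v z) := A.b1 hp hvT hz hb
  rcases A.par_cases hz hz1 hz1ne hz3 with e | e | e
  · exact ⟨v, hvT, hv1, cj_eq_self_iff.1 e⟩
  · refine ⟨v * u⁻¹, mem v hv u⁻¹ (inv_mem hu), ?_, ?_⟩
    · intro e1
      have hvu : v = u := by rwa [mul_inv_eq_one] at e1
      exact hv1 (A.rot_inter hp hq hv (by rw [hvu]; exact hu))
    · apply cj_eq_self_iff.1
      rw [hcuv.inv_right.eq, cj_mul, e, cj_inv_cj]
  · rcases A.par_cases hz hz1 hz1ne hz2 with e2 | e2 | e2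
    · exfalso; apply hcu
      have h1 : Commute (u * u) z := cj_eq_self_iff.1 e2
      have := h1.mul_left h1
      rwa [sq_sq_of_pow3 hu3] at this
    · exfalso; apply hz1ne
      rw [cj_mul] at e2
      exact cj_injective u e2
    · refine ⟨v * (u * u)⁻¹, mem v hv _ (inv_mem (mul_mem hu hu)), ?_, ?_⟩
      · intro e1
        have hvu : v = u * u := by rwa [mul_inv_eq_one] at e1
        exact hv1 (A.rot_inter hp hq hv (by rw [hvu]; exact mul_mem hu hu))
      · apply cj_eq_self_iff.1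
        have hc2 : Commute v (u * u) := hcuv.mul_right hcuv
        rw [hc2.inv_right.eq, cj_mul, e, ← e2, cj_inv_cj]

/-- **(b5)** some non-identity element of `T_B` centralizes the whole block of `z`. -/
theorem b5 {p z : G} (hp : p ∈ D) (hz : z ∈ D) (hb : ¬ Blk D p z) :
    ∃ t ∈ TB D p, t ≠ 1 ∧ ∀ w, Blk D z w → Commute t w := by
  obtain ⟨t, ht, ht1, hc⟩ := A.b4 hp hz hb
  refine ⟨t, ht, ht1, ?_⟩
  obtain ⟨q, hq⟩ := A.exists_nb hp
  have h1 : ¬ Commute p z := A.not_commute_of_not_blk hp hz hb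
  have h2 : ¬ Commute q z :=
    A.not_commute_of_not_blk hq.1 hz (A.not_blk_of_blk hp (Or.inr hq) hb)
  have hw0 : cj (p * q) z ∈ Nb D z := A.toCtx.s4 hp hq.1 hz hq.2.2 (Ne.symm hq.2.1) h1 h2
  have hcw0 : Commute t (cj (p * q) z) := by
    have h3 : Commute (cj (p * q) t) (cj (p * q) z) := commute_cj_cj.2 hc
    rw [A.cj_edge hp hq ht] at h3
    have := h3.inv_left
    rwa [inv_inv] at this
  have hbw0 : ¬ Blk D p (cj (p * q) z) := fun h4 =>
    hb (A.blk_trans hp h4 (A.blk_symm hz (Or.inr hw0)))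
  intro w hw
  rcases hw with hw | hw
  · exact A.b2 hp ht hz hb hc hw
  · have hpar : Par D (cj (p * q) z) w := (A.par_iff hw0.1 (Nb_symm hz hw0)).2 hw
    exact A.b2 hp ht hw0.1 hbw0 hcw0 hpar

/-- A non-identity rotation at `d` cannot centralize the block of a `z` not commuting with `d`. -/
theorem rot_not_centralize {d z r : G} (hd : d ∈ D) (hz : z ∈ D) (hdz : ¬ Commute d z)
    (hr : r ∈ Rot D d) (hr1 : r ≠ 1) (hc : ∀ w, Blk D z w → Commute r w) : False := by
  have hg : cj (d * z) d = z := A.toCtx.cj_mul_self hd hz hdz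
  have hcd : Commute d r := commute_of_mem_Rot hr
  have hcz : Commute z r := (hc z (A.blk_refl hz)).symm
  have h1 : cj (d * z) r = r := cj_eq_of_commute (hcd.mul_left hcz)
  have h2 : r ∈ Rot D z := by
    have := A.toCtx.cj_mem_Rot (d * z) hr
    rwa [hg, h1] at this
  obtain ⟨y, hy⟩ := A.exists_nb hz
  exact (A.loc z hz).not_commute_of_mem_Rot A.toCtx h2 hr1 hy (hc y (Or.inr hy))

theorem commute_rot_of_gen {d a s : G} (hd : d ∈ D) (ha : a ∈ Rot D d) (ha1 : a ≠ 1)
    (hc : Commute a s) {a1 : G} (h1 : a1 ∈ Rot D d) : Commute a1 s := by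
  rcases (A.loc d hd).rot_cases A.toCtx ha ha1 h1 with rfl | rfl | rfl
  · exact Commute.one_left s
  · exact hc
  · exact hc.inv_left

/-- The sets `T_B` of two different blocks commute elementwise. -/
theorem comm_TB {p z s1 s2 : G} (hp : p ∈ D) (hz : z ∈ D) (hb : ¬ Blk D p z)
    (h1 : s1 ∈ TB D p) (h2 : s2 ∈ TB D z) : Commute s1 s2 := by
  obtain ⟨t, ht, ht1, hc⟩ := A.b5 hp hz hb
  obtain ⟨q, hq⟩ := A.exists_nb hp
  obtain ⟨a, ha, b, hb', rfl⟩ := (A.mem_TB_iff hp hq).1 ht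
  have hpz : ¬ Commute p z := A.not_commute_of_not_blk hp hz hb
  have hqz : ¬ Commute q z :=
    A.not_commute_of_not_blk hq.1 hz (A.not_blk_of_blk hp (Or.inr hq) hb)
  have hcT : ∀ s ∈ TB D z, Commute (a * b) s := by
    rintro s ⟨y, hy, a2, ha2, b2, hb2, rfl⟩
    have e1 : Commute (a * b) a2 :=
      commute_Rot_of_commute_Nb (fun w hw => hc w (Or.inr hw)) ha2
    have e2 : Commute (a * b) b2 :=
      commute_Rot_of_commute_Nb (fun w hw => hc w (Or.inl ((A.par_iff hz hy).2 hw))) hb2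
    exact e1.mul_right e2
  have hab : Commute a b := A.commute_rot_rot hp hq ha hb'
  by_cases hb1 : b = 1
  · exfalso
    subst hb1
    rw [mul_one] at ht1 hc
    exact A.rot_not_centralize hp hz hpz ha ht1 hc
  by_cases ha1 : a = 1
  · exfalso
    subst ha1
    rw [one_mul] at ht1 hc
    exact A.rot_not_centralize hq.1 hz hqz hb' ht1 hc
  have ht' : a * b⁻¹ ∈ TB D p := ⟨q, hq, a, ha, b⁻¹, inv_mem hb', rfl⟩
  have hcj : cj p (a * b) = a * b⁻¹ := by
    rw [cj_mul_right, cj_eq_of_commute (commute_of_mem_Rot ha),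
      (A.loc q hq.1).cj_nb_rot A.toCtx (Nb_symm hp hq) hb']
  have hcw3 : Commute (a * b⁻¹) (cj p z) := by
    rw [← hcj]; exact commute_cj_cj.2 (hc z (A.blk_refl hz))
  have hw3 : cj (cj p z) p = z := by
    have : cj (cj p z) p = cj p (cj z p) := by unfold cj; group
    rw [this, A.toCtx.cj_braid hp hz hpz]
  have ht'z : a * b⁻¹ ∈ TB D z := by
    have := A.TB_cj (cj p z) ht'
    rwa [hw3, cj_eq_of_commute hcw3.symm] at this
  have c1 : Commute (a * b) s2 := hcT s2 h2
  have c2 : Commute (a * b⁻¹) s2 := A.TB_commute hz ht'z h2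
  have haa : Commute (a * a) s2 := by
    have h3 : (a * b) * (a * b⁻¹) = a * a := by
      calc (a * b) * (a * b⁻¹) = a * (b * a) * b⁻¹ := by group
        _ = a * (a * b) * b⁻¹ := by rw [hab.eq]
        _ = a * a := by group
    have := c1.mul_left c2
    rwa [h3] at this
  have hbb : Commute (b * b) s2 := by
    have h3 : (a * b) * (a * b⁻¹)⁻¹ = b * b := by
      calc (a * b) * (a * b⁻¹)⁻¹ = (a * b) * b * a⁻¹ := by group
        _ = (b * a) * b * a⁻¹ := by rw [hab.eq]
        _ = b * (a * b) * a⁻¹ := by group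
        _ = b * (b * a) * a⁻¹ := by rw [hab.eq]
        _ = b * b := by group
    have := c1.mul_left c2.inv_left
    rwa [h3] at this
  have hca : Commute a s2 := by
    have := haa.mul_left haa
    rwa [sq_sq_of_pow3 ((A.loc p hp).pow_three_of_mem_Rot A.toCtx ha)] at this
  have hcb : Commute b s2 := by
    have := hbb.mul_left hbb
    rwa [sq_sq_of_pow3 ((A.loc q hq.1).pow_three_of_mem_Rot A.toCtx hb')] at this
  obtain ⟨a1, ha1', b1, hb1', rfl⟩ := (A.mem_TB_iff hp hq).1 h1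
  exact (A.commute_rot_of_gen hp ha ha1 hca ha1').mul_left
    (A.commute_rot_of_gen hq.1 hb' hb1 hcb hb1')

end CtxA

end Cfsg.Agent.Lib.H15.TT
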