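import Mathlib

/-!
helper15 library: the twisted group algebra of an elementary abelian 2-group `U` with a bilinear
cocycle `β`, realised by explicit matrices `Lm β u` over `ZMod 3`
(`Lm u * Lm v = (-1)^{β(u,v)} Lm (u+v)`).
-/

set_option autoImplicit false

namespace Cfsg.Agent.Lib.H15.Tw

/-- the sign `(-1)^a` in `ZMod 3`. -/
def sg (a : ZMod 2) : ZMod 3 := if a = 0 then 1 else -1

lemma sg_zero : sg 0 = 1 := by decide
lemma sg_one : sg 1 = -1 := by decide
lemma sg_add (a b : ZMod 2) : sg (a + b) = sg a * sg b := by decide +revert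
lemma sg_mul_self (a : ZMod 2) : sg a * sg a = 1 := by decide +revert
lemma sg_ne_zero (a : ZMod 2) : sg a ≠ 0 := by decide +revert
lemma sg_eq_one_iff (a : ZMod 2) : sg a = 1 ↔ a = 0 := by decide +revert
lemma sg_inj {a b : ZMod 2} (h : sg a = sg b) : a = b := by decide +revert
lemma sq_of_ne_zero (c : ZMod 3) (h : c ≠ 0) : c * c = 1 := by decide +revert
lemma eq_sg_of_ne_zero (c : ZMod 3) (h : c ≠ 0) : ∃ a : ZMod 2, c = sg a := by decide +revert
lemma zmod2_ne_zero {a : ZMod 2} (h : a ≠ 0) : a = 1 := by decide +revert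

section
variable {U : Type*} [AddCommGroup U] [Module (ZMod 2) U] [Fintype U] [DecidableEq U]
variable (β : LinearMap.BilinForm (ZMod 2) U)

/-- left multiplication by the basis element `e_u` of the twisted group algebra. -/
def Lm (u : U) : Matrix U U (ZMod 3) := fun w v => if w = u + v then sg (β u v) else 0

lemma Lm_apply (u w v : U) : Lm β u w v = if w = u + v then sg (β u v) else 0 := rfl

lemma Lm_zero : Lm β 0 = 1 := by
  ext w v
  simp [Lm_apply, Matrix.one_apply, sg_zero]

lemma Lm_mul (u v : U) : Lm β u * Lm β v = sg (β u v) • Lm β (u + v) := by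
  ext w t
  rw [Matrix.mul_apply, Finset.sum_eq_single (v + t)]
  · simp only [Lm_apply, Matrix.smul_apply, smul_eq_mul, if_true, add_assoc]
    split_ifs with h
    · rw [map_add, map_add, LinearMap.add_apply, sg_add, sg_add]; ring
    · ring
  · intro x _ hx
    simp [Lm_apply, hx]
  · intro h; exact absurd (Finset.mem_univ _) h

lemma Lm_apply_zero (u w : U) : Lm β u w 0 = if w = u then 1 else 0 := by
  simp [Lm_apply, sg_zero]

/-- the inverse of `Lm u`. -/
def Li (u : U) : Matrix U U (ZMod 3) := sg (β u u) • Lm β u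

lemma Lm_mul_Li (u : U) : Lm β u * Li β u = 1 := by
  rw [Li, Matrix.mul_smul, Lm_mul, smul_smul, sg_mul_self, one_smul, ZModModule.add_self, Lm_zero]

lemma Li_mul_Lm (u : U) : Li β u * Lm β u = 1 := by
  rw [Li, Matrix.smul_mul, Lm_mul, smul_smul, sg_mul_self, one_smul, ZModModule.add_self, Lm_zero]

/-- the polar form. -/
def Bp (u v : U) : ZMod 2 := β u v + β v u

lemma Bp_comm (u v : U) : Bp β u v = Bp β v u := by unfold Bp; ring
lemma Bp_add_right (u v w : U) : Bp β u (v + w) = Bp β u v + Bp β u w := by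
  unfold Bp; simp only [map_add, LinearMap.add_apply]; ring
lemma Bp_add_left (u v w : U) : Bp β (u + v) w = Bp β u w + Bp β v w := by
  unfold Bp; simp only [map_add, LinearMap.add_apply]; ring
lemma Bp_zero_left (w : U) : Bp β 0 w = 0 := by unfold Bp; simp
lemma Bp_zero_right (w : U) : Bp β w 0 = 0 := by unfold Bp; simp

lemma Lm_comm (u v : U) : Lm β u * Lm β v = sg (Bp β u v) • (Lm β v * Lm β u) := by
  rw [Lm_mul, Lm_mul, smul_smul, add_comm v u]
  congr 1
  unfold Bp
  generalize β u v = a; generalize β v u = b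
  decide +revert

lemma Lm_conj (w u : U) : Lm β w * Lm β u * Li β w = sg (Bp β u w) • Lm β u := by
  rw [Lm_comm, Matrix.smul_mul, Matrix.mul_assoc, Lm_mul_Li, Matrix.mul_one, Bp_comm]

end

end Cfsg.Agent.Lib.H15.Tw
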