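import Mathlib
import Cfsg.Agent.Lib.H15.Tw1

/-!
helper15 library: the span `Alg β` of the matrices `Lm β u`; expansion in the basis `Lm β u`,
character sums and the averaging identity.
-/

set_option autoImplicit false

namespace Cfsg.Agent.Lib.H15.Tw

section
variable {U : Type*} [AddCommGroup U] [Module (ZMod 2) U] [Fintype U] [DecidableEq U]
variable (β : LinearMap.BilinForm (ZMod 2) U)

/-- the twisted group algebra, as a submodule of the matrix algebra. -/
def Alg : Submodule (ZMod 3) (Matrix U U (ZMod 3)) := Submodule.span (ZMod 3) (Set.range (Lm β))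

lemma Lm_mem (u : U) : Lm β u ∈ Alg β := Submodule.subset_span ⟨u, rfl⟩

lemma Li_mem (u : U) : Li β u ∈ Alg β := (Alg β).smul_mem _ (Lm_mem β u)

lemma one_mem : (1 : Matrix U U (ZMod 3)) ∈ Alg β := by
  rw [← Lm_zero β]; exact Lm_mem β 0

lemma mul_mem {a b : Matrix U U (ZMod 3)} (ha : a ∈ Alg β) (hb : b ∈ Alg β) :
    a * b ∈ Alg β := by
  have h : Alg β * Alg β ≤ Alg β := by
    rw [Alg, Submodule.span_mul_span]
    apply Submodule.span_le.mpr
    rintro _ ⟨_, ⟨u, rfl⟩, _, ⟨v, rfl⟩, rfl⟩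
    change Lm β u * Lm β v ∈ _
    rw [Lm_mul]
    exact Submodule.smul_mem _ _ (Submodule.subset_span ⟨u + v, rfl⟩)
  exact h (Submodule.mul_mem_mul ha hb)

lemma sum_mem {ι : Type*} (s : Finset ι) (f : ι → Matrix U U (ZMod 3))
    (h : ∀ i ∈ s, f i ∈ Alg β) : ∑ i ∈ s, f i ∈ Alg β := Submodule.sum_mem _ h

/-- expansion in the basis. -/
lemma expand {a : Matrix U U (ZMod 3)} (ha : a ∈ Alg β) :
    a = ∑ u, a u 0 • Lm β u := by
  induction ha using Submodule.span_induction with
  | mem x hx =>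
    obtain ⟨v, rfl⟩ := hx
    rw [Finset.sum_eq_single v]
    · simp [Lm_apply_zero]
    · intro u _ hu; simp [Lm_apply_zero, hu]
    · intro h; exact absurd (Finset.mem_univ _) h
  | zero => simp
  | add x y _ _ hx hy =>
    conv_lhs => rw [hx, hy]
    rw [← Finset.sum_add_distrib]
    refine Finset.sum_congr rfl fun u _ => ?_
    rw [Matrix.add_apply, add_smul]
  | smul c x _ hx =>
    conv_lhs => rw [hx]
    rw [Finset.smul_sum]
    refine Finset.sum_congr rfl fun u _ => ?_
    rw [Matrix.smul_apply, smul_smul, smul_eq_mul]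

/-- coefficient extraction. -/
lemma sum_apply_zero (c : U → ZMod 3) (w : U) : (∑ u, c u • Lm β u) w 0 = c w := by
  rw [Matrix.sum_apply, Finset.sum_eq_single w]
  · simp [Lm_apply_zero]
  · intro u _ hu; simp [Lm_apply_zero, Ne.symm hu]
  · intro h; exact absurd (Finset.mem_univ _) h

/-- character sum. -/
lemma sum_sg_Bp (hnd : ∀ u : U, u ≠ 0 → ∃ w, Bp β u w ≠ 0) (u : U) :
    ∑ w, sg (Bp β u w) = if u = 0 then (Fintype.card U : ZMod 3) else 0 := by
  split_ifs with h
  · subst h; simp [Bp_zero_left, sg_zero]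
  · obtain ⟨w0, hw0⟩ := hnd u h
    have h1 : ∑ w, sg (Bp β u w) = ∑ w, sg (Bp β u (w + w0)) :=
      (Equiv.sum_comp (Equiv.addRight w0) fun w => sg (Bp β u w)).symm
    have h2 : ∑ w, sg (Bp β u (w + w0)) = - ∑ w, sg (Bp β u w) := by
      rw [← Finset.sum_neg_distrib]
      refine Finset.sum_congr rfl fun w _ => ?_
      rw [Bp_add_right, sg_add, zmod2_ne_zero hw0, sg_one]; ring
    have h3 : ∀ x : ZMod 3, x = -x → x = 0 := by decide
    exact h3 _ (h1.trans h2)

/-- the averaging identity. -/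
lemma average (hnd : ∀ u : U, u ≠ 0 → ∃ w, Bp β u w ≠ 0) {a : Matrix U U (ZMod 3)}
    (ha : a ∈ Alg β) :
    ∑ w, Lm β w * a * Li β w = ((Fintype.card U : ZMod 3) * a 0 0) • 1 := by
  induction ha using Submodule.span_induction with
  | mem x hx =>
    obtain ⟨u, rfl⟩ := hx
    simp_rw [Lm_conj]
    rw [← Finset.sum_smul, sum_sg_Bp β hnd]
    split_ifs with h
    · subst h; simp [Lm_zero]
    · simp [Lm_apply_zero, Ne.symm h]
  | zero => simp
  | add x y _ _ hx hy =>
    simp_rw [Matrix.mul_add, Matrix.add_mul]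
    rw [Finset.sum_add_distrib, hx, hy, ← add_smul, Matrix.add_apply]; ring_nf
  | smul c x _ hx =>
    simp_rw [Matrix.mul_smul, Matrix.smul_mul]
    rw [← Finset.smul_sum, hx, smul_smul, Matrix.smul_apply, smul_eq_mul]; ring_nf

end

end Cfsg.Agent.Lib.H15.Tw
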