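import Mathlib
import Cfsg.Agent.Lib.H15.Tw2

/-!
helper15 library: the explicit intertwiner `∑ ε(u) L_{τu} L_u⁻¹` realising a cocycle-preserving
automorphism `τ` of `U` inside the twisted group algebra.
-/

set_option autoImplicit false

namespace Cfsg.Agent.Lib.H15.Tw

section
variable {U : Type*} [AddCommGroup U] [Module (ZMod 2) U] [Fintype U] [DecidableEq U]
variable (β : LinearMap.BilinForm (ZMod 2) U)

lemma Lm_add' (x y : U) : Lm β (x + y) = sg (β y x) • (Lm β y * Lm β x) := by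
  rw [Lm_mul, smul_smul, sg_mul_self, one_smul, add_comm]

lemma Li_add_mul (u v : U) : Li β (u + v) * Lm β v = sg (β v u) • Li β u := by
  have h1 : Li β (u + v) * Lm β v * Lm β u = sg (β v u) • 1 := by
    rw [Matrix.mul_assoc, Lm_mul, Matrix.mul_smul, add_comm v u, Li_mul_Lm]
  calc Li β (u + v) * Lm β v = Li β (u + v) * Lm β v * (Lm β u * Li β u) := by
        rw [Lm_mul_Li, Matrix.mul_one]
    _ = (Li β (u + v) * Lm β v * Lm β u) * Li β u := by rw [Matrix.mul_assoc, Matrix.mul_assoc,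
        Matrix.mul_assoc]
    _ = sg (β v u) • Li β u := by rw [h1, Matrix.smul_mul, Matrix.one_mul]

/-- the intertwiner. -/
def twist (τ : U → U) (f : U → ZMod 2) : Matrix U U (ZMod 3) :=
  ∑ u, sg (f u) • (Lm β (τ u) * Li β u)

/-- the candidate inverse (up to scalar). -/
def twistInv (τ : U → U) (f : U → ZMod 2) : Matrix U U (ZMod 3) :=
  ∑ u, sg (f u) • (Lm β u * Li β (τ u))

lemma twist_mem (τ : U → U) (f : U → ZMod 2) : twist β τ f ∈ Alg β :=
  sum_mem β _ _ fun u _ => (Alg β).smul_mem _ (mul_mem β (Lm_mem β _) (Li_mem β _))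

lemma twistInv_mem (τ : U → U) (f : U → ZMod 2) : twistInv β τ f ∈ Alg β :=
  sum_mem β _ _ fun u _ => (Alg β).smul_mem _ (mul_mem β (Lm_mem β _) (Li_mem β _))

lemma twist_mul_Lm (τ : U → U) (hτ : ∀ u v, τ (u + v) = τ u + τ v) (f : U → ZMod 2)
    (hf : ∀ u v, f (u + v) = f u + f v + β (τ u) (τ v) + β u v) (v : U) :
    twist β τ f * Lm β v = sg (f v) • (Lm β (τ v) * twist β τ f) := by
  unfold twist
  rw [Finset.sum_mul, Finset.mul_sum, Finset.smul_sum,
    ← Equiv.sum_comp (Equiv.addRight v) fun u => sg (f u) • (Lm β (τ u) * Li β u) * Lm β v]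
  refine Finset.sum_congr rfl fun u _ => ?_
  simp only [Equiv.coe_addRight]
  rw [Matrix.smul_mul, Matrix.mul_assoc, Li_add_mul, hτ, Lm_add' β (τ u) (τ v), Matrix.mul_smul,
    Matrix.smul_mul, smul_smul, smul_smul, Matrix.mul_smul, smul_smul, Matrix.mul_assoc]
  congr 1
  rw [add_comm u v, hf v u]
  generalize f v = a; generalize f u = b; generalize β (τ v) (τ u) = c; generalize β v u = d
  decide +revert

lemma twist_mul_Li (τ : U → U) (hτ : ∀ u v, τ (u + v) = τ u + τ v) (f : U → ZMod 2)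
    (hf : ∀ u v, f (u + v) = f u + f v + β (τ u) (τ v) + β u v) (v : U) :
    twist β τ f * Li β v = sg (f v) • (Li β (τ v) * twist β τ f) := by
  have h := twist_mul_Lm β τ hτ f hf v
  have h2 : Li β (τ v) * (twist β τ f * Lm β v) * Li β v =
      Li β (τ v) * (sg (f v) • (Lm β (τ v) * twist β τ f)) * Li β v := by rw [h]
  rw [Matrix.mul_assoc, Matrix.mul_assoc, Lm_mul_Li, Matrix.mul_one, Matrix.mul_smul,
    ← Matrix.mul_assoc, Li_mul_Lm, Matrix.one_mul, Matrix.smul_mul] at h2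
  rw [h2, smul_smul, sg_mul_self, one_smul]

lemma twistInv_mul (hnd : ∀ u : U, u ≠ 0 → ∃ w, Bp β u w ≠ 0)
    (τ : U → U) (hτ : ∀ u v, τ (u + v) = τ u + τ v) (f : U → ZMod 2)
    (hf : ∀ u v, f (u + v) = f u + f v + β (τ u) (τ v) + β u v) :
    twistInv β τ f * twist β τ f =
      ((Fintype.card U : ZMod 3) * twist β τ f 0 0) • 1 := by
  rw [← average β hnd (twist_mem β τ f)]
  unfold twistInv
  rw [Finset.sum_mul]
  refine Finset.sum_congr rfl fun w _ => ?_
  rw [Matrix.mul_assoc (Lm β w), twist_mul_Li β τ hτ f hf, Matrix.mul_smul, Matrix.smul_mul,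
    Matrix.mul_assoc]

lemma twist_apply_zero (τ : U → U) (f : U → ZMod 2)
    (hfix : ∀ u, τ u = u → f u = 0) :
    twist β τ f 0 0 = ((Finset.univ.filter fun u => τ u = u).card : ZMod 3) := by
  unfold twist
  rw [Matrix.sum_apply, Finset.card_eq_sum_ones, Nat.cast_sum, Finset.sum_filter]
  refine Finset.sum_congr rfl fun u _ => ?_
  rw [Matrix.smul_apply, Li, Matrix.mul_smul, Lm_mul, Matrix.smul_apply, Matrix.smul_apply,
    Lm_apply_zero]
  have h0 : (0 = τ u + u) ↔ τ u = u := by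
    constructor
    · intro h
      have : τ u = -u := eq_neg_of_add_eq_zero_left h.symm
      rw [this, ZModModule.neg_eq_self]
    · intro h; rw [h, ZModModule.add_self]
  by_cases h : τ u = u
  · rw [if_pos (h0.mpr h), if_pos h, hfix u h, h, sg_zero]
    simp [sg_mul_self]
  · rw [if_neg (fun h' => h (h0.mp h')), if_neg h]
    simp

end

end Cfsg.Agent.Lib.H15.Tw

namespace Cfsg.Agent.Lib.H15.Tw

section
variable {U : Type*} [AddCommGroup U] [Module (ZMod 2) U] [Fintype U] [DecidableEq U]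
variable (β : LinearMap.BilinForm (ZMod 2) U)

lemma two_pow_ne_zero (j : ℕ) : ((2 ^ j : ℕ) : ZMod 3) ≠ 0 := by
  rw [Nat.cast_pow]
  exact pow_ne_zero _ (by decide)

lemma card_fix_ne_zero (m : ℕ) (hcard : Fintype.card U = 2 ^ m) (τ : U →+ U) :
    ((Finset.univ.filter fun u => τ u = u).card : ZMod 3) ≠ 0 := by
  have h1 : (Finset.univ.filter fun u => τ u = u).card =
      Nat.card (AddMonoidHom.eqLocus τ (AddMonoidHom.id U)) := by
    classical
    rw [← Fintype.card_subtype, ← Nat.card_eq_fintype_card]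
    rfl
  have h2 := AddSubgroup.card_addSubgroup_dvd_card (AddMonoidHom.eqLocus τ (AddMonoidHom.id U))
  rw [Nat.card_eq_fintype_card (α := U), hcard] at h2
  obtain ⟨j, -, hj⟩ := (Nat.dvd_prime_pow Nat.prime_two).1 h2
  rw [h1, hj]
  exact two_pow_ne_zero j

theorem exists_intertwiner (hnd : ∀ u : U, u ≠ 0 → ∃ w, Bp β u w ≠ 0) (m : ℕ)
    (hcard : Fintype.card U = 2 ^ m) (τ : U →+ U) (f : U → ZMod 2)
    (hf : ∀ u v, f (u + v) = f u + f v + β (τ u) (τ v) + β u v)
    (hfix : ∀ u, τ u = u → f u = 0) :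
    ∃ a ∈ Alg β, ∃ a' ∈ Alg β, a' * a = 1 ∧
      ∀ u, a * Lm β u = sg (f u) • (Lm β (τ u) * a) := by
  have hd : (Fintype.card U : ZMod 3) * twist β τ f 0 0 ≠ 0 := by
    apply mul_ne_zero
    · rw [hcard]; exact two_pow_ne_zero m
    · rw [twist_apply_zero β τ f hfix]; exact card_fix_ne_zero m hcard τ
  refine ⟨twist β τ f, twist_mem β τ f,
    ((Fintype.card U : ZMod 3) * twist β τ f 0 0)⁻¹ • twistInv β τ f,
    (Alg β).smul_mem _ (twistInv_mem β τ f), ?_, twist_mul_Lm β τ (map_add τ) f hf⟩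
  rw [Matrix.smul_mul, twistInv_mul β hnd τ (map_add τ) f hf, smul_smul, inv_mul_cancel₀ hd,
    one_smul]

end

end Cfsg.Agent.Lib.H15.Tw
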