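import Mathlib

/-!
helper15 library: over `ZMod 2`, an alternating bilinear form is the polar form of a quadratic
function; a quadratic function trivialising `β^τ - β`, vanishing on the fixed points of `τ`.
-/

set_option autoImplicit false

namespace Cfsg.Agent.Lib.H15.Tw

section
variable {U : Type*} [AddCommGroup U] [Module (ZMod 2) U] [Module.Finite (ZMod 2) U]

/-- an alternating bilinear form over `ZMod 2` is `g + gᵀ`. -/
theorem exists_half (γ : LinearMap.BilinForm (ZMod 2) U) (halt : ∀ u, γ u u = 0) :
    ∃ g : LinearMap.BilinForm (ZMod 2) U, ∀ u v, g u v + g v u = γ u v := by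
  classical
  have hsymm : ∀ u v, γ u v = γ v u := by
    intro u v
    have h := halt (u + v)
    simp only [map_add, LinearMap.add_apply, halt, zero_add, add_zero] at h
    have h2 : ∀ a b : ZMod 2, a + b = 0 → b = a := by decide
    exact h2 _ _ h
  let b := Module.finBasis (ZMod 2) U
  let N : Matrix (Fin (Module.finrank (ZMod 2) U)) (Fin (Module.finrank (ZMod 2) U)) (ZMod 2) :=
    fun i j => if i < j then γ (b i) (b j) else 0
  let g : LinearMap.BilinForm (ZMod 2) U := Matrix.toBilin b N
  have hg : ∀ i j, g (b i) (b j) = N i j := by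
    intro i j
    rw [← LinearMap.BilinForm.toMatrix_apply b g i j, LinearMap.BilinForm.toMatrix_toBilin]
  have key : g + g.flip = γ := by
    apply LinearMap.ext_basis b b
    intro i j
    rw [LinearMap.add_apply, LinearMap.add_apply]
    change g (b i) (b j) + g (b j) (b i) = _
    rw [hg, hg]
    simp only [N]
    rcases lt_trichotomy i j with h | h | h
    · rw [if_pos h, if_neg (not_lt.mpr h.le), add_zero]
    · subst h; simp [halt]
    · rw [if_neg (not_lt.mpr h.le), if_pos h, zero_add, hsymm]
  refine ⟨g, fun u v => ?_⟩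
  rw [← key]
  rfl

/-- a quadratic function trivialising `β^τ + β`, vanishing on the fixed points of `τ`. -/
theorem exists_quad (β : LinearMap.BilinForm (ZMod 2) U) (τ : U →ₗ[ZMod 2] U)
    (hq : ∀ u, β (τ u) (τ u) = β u u) :
    ∃ f : U → ZMod 2, (∀ u v, f (u + v) = f u + f v + β (τ u) (τ v) + β u v) ∧
      ∀ u, τ u = u → f u = 0 := by
  classical
  obtain ⟨g, hg⟩ := exists_half (β.compl₁₂ τ τ + β) (by
    intro u
    rw [LinearMap.add_apply, LinearMap.add_apply, LinearMap.compl₁₂_apply, hq]
    exact CharTwo.add_self_eq_zero _)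
  have hg' : ∀ u v, g u v + g v u = β (τ u) (τ v) + β u v := by
    intro u v
    rw [hg, LinearMap.add_apply, LinearMap.add_apply, LinearMap.compl₁₂_apply]
  -- first candidate
  have hf0 : ∀ u v, g (u + v) (u + v) = g u u + g v v + β (τ u) (τ v) + β u v := by
    intro u v
    rw [add_assoc, ← hg' u v]
    simp only [map_add, LinearMap.add_apply]
    ring
  -- the restriction of `u ↦ g u u` to the fixed space is linear
  let F : Submodule (ZMod 2) U := LinearMap.eqLocus τ LinearMap.id
  have hF : ∀ u, u ∈ F ↔ τ u = u := fun u => Iff.rfl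
  let ℓ0 : F →+ ZMod 2 :=
    { toFun := fun u => g u u
      map_zero' := by simp
      map_add' := by
        intro u v
        have hu := (hF u).1 u.2
        have hv := (hF v).1 v.2
        change g ((u : U) + v) ((u : U) + v) = g u u + g v v
        rw [hf0, hu, hv, add_assoc, CharTwo.add_self_eq_zero, add_zero] }
  obtain ⟨ℓ, hℓ⟩ := LinearMap.exists_extend (AddMonoidHom.toZModLinearMap 2 ℓ0)
  have hℓ' : ∀ u : F, ℓ u = g u u := by
    intro u
    have := LinearMap.congr_fun hℓ u
    exact this
  refine ⟨fun u => g u u + ℓ u, ?_, ?_⟩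
  · intro u v
    change g (u + v) (u + v) + ℓ (u + v) = _
    rw [hf0, map_add]; ring
  · intro u hu
    change g u u + ℓ u = 0
    rw [hℓ' ⟨u, (hF u).2 hu⟩]
    exact CharTwo.add_self_eq_zero _

end

end Cfsg.Agent.Lib.H15.Tw
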