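import Mathlib
import Cfsg.Agent.Lib.H15.Tw2

/-!
helper15 library: the relation "`a` normalises `{± L_u}` and induces `τ` on `U`".
-/

set_option autoImplicit false

namespace Cfsg.Agent.Lib.H15.Tw

section
variable {U : Type*} [AddCommGroup U] [Module (ZMod 2) U] [Fintype U] [DecidableEq U]
variable (β : LinearMap.BilinForm (ZMod 2) U)

/-- `a L_u = ± L_{τ u} a` for all `u`. -/
def Rel (a : Matrix U U (ZMod 3)) (τ : U → U) : Prop :=
  ∀ u, ∃ c : ZMod 3, c ≠ 0 ∧ a * Lm β u = c • (Lm β (τ u) * a)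

lemma rel_one : Rel β 1 id := fun u => ⟨1, one_ne_zero, by simp⟩

lemma rel_mul {a b : Matrix U U (ZMod 3)} {τ σ : U → U} (ha : Rel β a τ) (hb : Rel β b σ) :
    Rel β (a * b) (fun u => τ (σ u)) := by
  intro u
  obtain ⟨c, hc, h1⟩ := hb u
  obtain ⟨d, hd, h2⟩ := ha (σ u)
  refine ⟨c * d, mul_ne_zero hc hd, ?_⟩
  rw [Matrix.mul_assoc, h1, Matrix.mul_smul, ← Matrix.mul_assoc, h2, Matrix.smul_mul, smul_smul,
    Matrix.mul_assoc]

lemma rel_inv {a a' : Matrix U U (ZMod 3)} {τ σ : U → U} (h1 : a' * a = 1) (h2 : a * a' = 1)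
    (ha : Rel β a τ) (hσ : ∀ u, τ (σ u) = u) : Rel β a' σ := by
  intro u
  obtain ⟨c, hc, h⟩ := ha (σ u)
  rw [hσ] at h
  refine ⟨c, hc, ?_⟩
  -- a L_{σu} = c L_u a
  have h3 : a' * (a * Lm β (σ u)) * a' = a' * (c • (Lm β u * a)) * a' := by rw [h]
  rw [← Matrix.mul_assoc, h1, Matrix.one_mul, Matrix.mul_smul, Matrix.smul_mul,
    Matrix.mul_assoc, Matrix.mul_assoc, h2, Matrix.mul_one] at h3
  rw [h3, smul_smul, sq_of_ne_zero c hc, one_smul]

lemma rel_smul {a : Matrix U U (ZMod 3)} {τ : U → U} (c : ZMod 3) (ha : Rel β a τ) :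
    Rel β (c • a) τ := by
  intro u
  obtain ⟨d, hd, h⟩ := ha u
  refine ⟨d, hd, ?_⟩
  rw [Matrix.smul_mul, h, Matrix.mul_smul, smul_comm]

lemma rel_Lm (v : U) : Rel β (Lm β v) id := by
  intro u
  exact ⟨sg (Bp β v u), sg_ne_zero _, Lm_comm β v u⟩

lemma smul_Lm_inj {c c' : ZMod 3} {y y' : U} (hc : c ≠ 0) (h : c • Lm β y = c' • Lm β y') :
    c = c' ∧ y = y' := by
  have h1 := congrFun (congrFun h y) 0
  simp only [Matrix.smul_apply, Lm_apply_zero, if_true, smul_eq_mul, mul_one] at h1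
  by_cases hy : y = y'
  · subst hy
    simp only [if_true, mul_one] at h1
    exact ⟨h1, rfl⟩
  · rw [if_neg hy, mul_zero] at h1
    exact absurd h1 hc

lemma rel_unique {a a' : Matrix U U (ZMod 3)} {τ σ : U → U} (h2 : a * a' = 1)
    (h : Rel β a τ) (h' : Rel β a σ) (u : U) : τ u = σ u := by
  obtain ⟨c, hc, e1⟩ := h u
  obtain ⟨d, hd, e2⟩ := h' u
  have e3 : c • (Lm β (τ u) * a) * a' = d • (Lm β (σ u) * a) * a' := by rw [← e1, ← e2]
  rw [Matrix.smul_mul, Matrix.smul_mul, Matrix.mul_assoc, Matrix.mul_assoc, h2, Matrix.mul_one,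
    Matrix.mul_one] at e3
  exact (smul_Lm_inj β hc e3).2

/-- the kernel: elements of the algebra commuting with all `L_u` up to sign are `± L_y`. -/
lemma rel_id (hnd : ∀ u : U, u ≠ 0 → ∃ w, Bp β u w ≠ 0) {a : Matrix U U (ZMod 3)}
    (ha : a ∈ Alg β) (ha0 : a ≠ 0) (h : Rel β a id) :
    ∃ c : ZMod 3, c ≠ 0 ∧ ∃ y, a = c • Lm β y := by
  -- some coefficient is nonzero
  have hex : ∃ y, a y 0 ≠ 0 := by
    by_contra hcon
    push Not at hcon
    apply ha0
    rw [expand β ha]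
    simp [hcon]
  obtain ⟨y0, hy0⟩ := hex
  -- coefficients: a_y sg(B(y,u)) = c_u a_y
  have hcoef : ∀ u, ∃ c : ZMod 3, c ≠ 0 ∧ ∀ y, a y 0 * sg (Bp β y u) = c * a y 0 := by
    intro u
    obtain ⟨c, hc, e⟩ := h u
    refine ⟨c, hc, fun y => ?_⟩
    simp only [id] at e
    -- L_u a L_u⁻¹ = c a
    have e1 : Lm β u * a * Li β u = c • a := by
      have : Lm β u * a = c • (a * Lm β u) := by
        rw [e, smul_smul, sq_of_ne_zero c hc, one_smul]
      rw [this, Matrix.smul_mul, Matrix.mul_assoc, Lm_mul_Li, Matrix.mul_one]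
    have e2 : Lm β u * a * Li β u = ∑ y, (a y 0 * sg (Bp β y u)) • Lm β y := by
      conv_lhs => rw [expand β ha]
      rw [Finset.mul_sum, Finset.sum_mul]
      refine Finset.sum_congr rfl fun y _ => ?_
      rw [Matrix.mul_smul, Matrix.smul_mul, Lm_conj, smul_smul]
    have e3 := congrFun (congrFun (e2.symm.trans e1) y) 0
    rw [sum_apply_zero] at e3
    rw [e3, Matrix.smul_apply, smul_eq_mul]
  -- any y with a_y ≠ 0 equals y0
  have huniq : ∀ y, a y 0 ≠ 0 → y = y0 := by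
    intro y hy
    by_contra hne
    have hne' : y + y0 ≠ 0 := by
      intro h0
      apply hne
      have : y = -y0 := eq_neg_of_add_eq_zero_left h0
      rw [this, ZModModule.neg_eq_self]
    obtain ⟨w, hw⟩ := hnd _ hne'
    obtain ⟨c, hc, hcy⟩ := hcoef w
    have h1 := hcy y
    have h2 := hcy y0
    have h3 : sg (Bp β y w) = c := by
      have := mul_left_cancel₀ hy (by rw [h1, mul_comm] : a y 0 * sg (Bp β y w) = a y 0 * c)
      exact this
    have h4 : sg (Bp β y0 w) = c := by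
      have := mul_left_cancel₀ hy0 (by rw [h2, mul_comm] : a y0 0 * sg (Bp β y0 w) = a y0 0 * c)
      exact this
    have h5 : Bp β y w = Bp β y0 w := sg_inj (h3.trans h4.symm)
    apply hw
    rw [Bp_add_left, h5]
    exact CharTwo.add_self_eq_zero _
  refine ⟨a y0 0, hy0, y0, ?_⟩
  conv_lhs => rw [expand β ha]
  rw [Finset.sum_eq_single y0]
  · intro y _ hy
    have : a y 0 = 0 := by
      by_contra h0
      exact hy (huniq y h0)
    rw [this, zero_smul]
  · intro h; exact absurd (Finset.mem_univ _) h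

end

end Cfsg.Agent.Lib.H15.Tw
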