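import Mathlib
import Cfsg.Prelude.Def_Transfer
import Cfsg.Agent.Lib.H27.Extraspecial
import Cfsg.Agent.Lib.H15.Tw3
import Cfsg.Agent.Lib.H15.Tw4
import Cfsg.Agent.Lib.H15.Tw5

/-!
helper15 library: the group `Rs β ρ` of units of the twisted group algebra normalising
`{± L_u}` and inducing elements of `ρ(K)`; the projection onto `K`.
-/

set_option autoImplicit false

namespace Cfsg.Agent.Lib.H15.Tw

open Cfsg
open scoped commutatorElement

/-- abstract recognition of an extraspecial 2-group from a homomorphism onto an elementary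
abelian group with kernel the centre. -/
theorem extraspecial_of_hom {Q : Type*} [Group Q] [Finite Q] {U : Type*} [AddCommGroup U]
    (hU : ∀ u : U, u + u = 0) (χ : Q →* Multiplicative U) (hsurj : Function.Surjective χ)
    (hker : χ.ker = Subgroup.center Q) (m : ℕ) (hcardU : Nat.card U = 2 ^ m)
    (hcardQ : Nat.card Q = 2 ^ (m + 1)) (hna : ∃ x y : Q, x * y ≠ y * x) :
    IsExtraspecial 2 Q := by
  haveI : Fact (Nat.Prime 2) := ⟨Nat.prime_two⟩
  have hcen : Nat.card (Subgroup.center Q) = 2 := by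
    have h1 := Subgroup.card_eq_card_quotient_mul_card_subgroup χ.ker
    rw [Nat.card_congr (QuotientGroup.quotientKerEquivOfSurjective χ hsurj).toEquiv, hcardQ,
      Nat.card_congr (Multiplicative.toAdd (α := U)), hcardU, hker, pow_succ] at h1
    exact (Nat.eq_of_mul_eq_mul_left (by positivity) h1).symm
  apply Cfsg.Agent.Lib.H27.isExtraspecial_of_center 2 (IsPGroup.of_card hcardQ) hcen
  · have hle : commutator Q ≤ Subgroup.center Q := by
      rw [← hker]; exact Abelianization.commutator_subset_ker χ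
    have hdvd := Subgroup.card_dvd_of_le hle
    rw [hcen] at hdvd
    rcases (Nat.dvd_prime Nat.prime_two).1 hdvd with h1 | h2
    · exfalso
      obtain ⟨x, y, hxy⟩ := hna
      have hbot : commutator Q = ⊥ := Subgroup.card_eq_one.mp h1
      have hmem : ⁅x, y⁆ ∈ commutator Q := by
        rw [commutator_def]
        exact Subgroup.commutator_mem_commutator (Subgroup.mem_top x) (Subgroup.mem_top y)
      rw [hbot, Subgroup.mem_bot, commutatorElement_eq_one_iff_mul_comm] at hmem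
      exact hxy hmem
    · exact Subgroup.eq_of_le_of_card_ge hle (by rw [hcen, h2])
  · intro x
    rw [← hker, MonoidHom.mem_ker, map_pow]
    apply Multiplicative.toAdd.injective
    rw [toAdd_pow, toAdd_one, two_nsmul]
    exact hU _

section
variable {K : Type*} [Group K]
variable {U : Type*} [AddCommGroup U] [Module (ZMod 2) U] [Fintype U] [DecidableEq U]
variable (β : LinearMap.BilinForm (ZMod 2) U) (ρ : Representation (ZMod 2) K U)

lemma coe_rho_one : (⇑(ρ 1) : U → U) = id := by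
  ext u; simp

lemma coe_rho_mul (k k' : K) : (⇑(ρ (k * k')) : U → U) = fun u => ρ k (ρ k' u) := by
  ext u; simp

lemma rho_inv_cancel (k : K) (u : U) : ρ k (ρ k⁻¹ u) = u := by
  rw [← Module.End.mul_apply, ← map_mul, mul_inv_cancel, map_one]; rfl

/-- the group `R`. -/
def Rs : Subgroup (Matrix U U (ZMod 3))ˣ where
  carrier := {a | (a : Matrix U U (ZMod 3)) ∈ Alg β ∧
    ((a⁻¹ : (Matrix U U (ZMod 3))ˣ) : Matrix U U (ZMod 3)) ∈ Alg β ∧
    ∃ k : K, Rel β (a : Matrix U U (ZMod 3)) (ρ k)}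
  mul_mem' := by
    rintro a b ⟨ha1, ha2, k, hk⟩ ⟨hb1, hb2, k', hk'⟩
    refine ⟨?_, ?_, k * k', ?_⟩
    · rw [Units.val_mul]; exact mul_mem β ha1 hb1
    · rw [mul_inv_rev, Units.val_mul]; exact mul_mem β hb2 ha2
    · rw [Units.val_mul, coe_rho_mul]; exact rel_mul β hk hk'
  one_mem' := by
    refine ⟨?_, ?_, 1, ?_⟩
    · rw [Units.val_one]; exact one_mem β
    · rw [inv_one, Units.val_one]; exact one_mem β
    · rw [Units.val_one, coe_rho_one]; exact rel_one β
  inv_mem' := by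
    rintro a ⟨ha1, ha2, k, hk⟩
    refine ⟨ha2, ?_, k⁻¹, ?_⟩
    · rw [inv_inv]; exact ha1
    · exact rel_inv β (Units.inv_mul a) (Units.mul_inv a) hk (rho_inv_cancel ρ k)

/-- underlying matrix. -/
def mat (a : Rs β ρ) : Matrix U U (ZMod 3) := ((a : (Matrix U U (ZMod 3))ˣ) : Matrix U U (ZMod 3))

lemma mat_mul (a b : Rs β ρ) : mat β ρ (a * b) = mat β ρ a * mat β ρ b := rfl
lemma mat_one : mat β ρ 1 = 1 := rfl
lemma mat_inj {a b : Rs β ρ} (h : mat β ρ a = mat β ρ b) : a = b :=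
  Subtype.ext (Units.ext h)
lemma mat_mul_inv (a : Rs β ρ) : mat β ρ a * mat β ρ a⁻¹ = 1 := by
  rw [← mat_mul, mul_inv_cancel, mat_one]
lemma mat_inv_mul (a : Rs β ρ) : mat β ρ a⁻¹ * mat β ρ a = 1 := by
  rw [← mat_mul, inv_mul_cancel, mat_one]
lemma mat_mem (a : Rs β ρ) : mat β ρ a ∈ Alg β := a.2.1
lemma mat_ne_zero (a : Rs β ρ) : mat β ρ a ≠ 0 := by
  intro h
  have := mat_mul_inv β ρ a
  rw [h, Matrix.zero_mul] at this
  have h2 := congrFun (congrFun this 0) 0
  simp at h2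

/-- the projection to `K`, as a function. -/
noncomputable def piFun (a : Rs β ρ) : K := Classical.choose a.2.2.2

lemma piFun_spec (a : Rs β ρ) : Rel β (mat β ρ a) (ρ (piFun β ρ a)) :=
  Classical.choose_spec a.2.2.2

lemma piFun_unique (hρ : Function.Injective ρ) (a : Rs β ρ) (k : K)
    (h : Rel β (mat β ρ a) (ρ k)) : piFun β ρ a = k := by
  apply hρ
  apply LinearMap.ext
  intro u
  exact rel_unique β (mat_mul_inv β ρ a) (piFun_spec β ρ a) h u

/-- the projection to `K`. -/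
noncomputable def pi (hρ : Function.Injective ρ) : Rs β ρ →* K :=
  MonoidHom.mk' (piFun β ρ) (by
    intro a b
    apply piFun_unique β ρ hρ
    rw [mat_mul, coe_rho_mul]
    exact rel_mul β (piFun_spec β ρ a) (piFun_spec β ρ b))

lemma pi_apply (hρ : Function.Injective ρ) (a : Rs β ρ) : pi β ρ hρ a = piFun β ρ a := rfl

lemma exists_elt (c : ZMod 3) (hc : c ≠ 0) (y : U) (hρ : Function.Injective ρ) :
    ∃ a : Rs β ρ, mat β ρ a = c • Lm β y ∧ pi β ρ hρ a = 1 := by
  have h1 : (c • Lm β y) * (c • Li β y) = 1 := by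
    rw [Matrix.smul_mul, Matrix.mul_smul, smul_smul, sq_of_ne_zero c hc, one_smul, Lm_mul_Li]
  have h2 : (c • Li β y) * (c • Lm β y) = 1 := by
    rw [Matrix.smul_mul, Matrix.mul_smul, smul_smul, sq_of_ne_zero c hc, one_smul, Li_mul_Lm]
  have hrel : Rel β (c • Lm β y) (ρ 1) := by
    rw [coe_rho_one]; exact rel_smul β c (rel_Lm β y)
  let a : Rs β ρ := ⟨⟨c • Lm β y, c • Li β y, h1, h2⟩,
    (Alg β).smul_mem _ (Lm_mem β y), (Alg β).smul_mem _ (Li_mem β y), 1, hrel⟩
  exact ⟨a, rfl, piFun_unique β ρ hρ a 1 hrel⟩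

lemma pi_surjective (hnd : ∀ u : U, u ≠ 0 → ∃ w, Bp β u w ≠ 0) (m : ℕ)
    (hcard : Fintype.card U = 2 ^ m) (hρ : Function.Injective ρ)
    (hq : ∀ k u, β (ρ k u) (ρ k u) = β u u) : Function.Surjective (pi β ρ hρ) := by
  intro k
  haveI : Module.Finite (ZMod 2) U := Module.Finite.of_finite
  obtain ⟨f, hf, hfix⟩ := exists_quad β (ρ k) (hq k)
  obtain ⟨a, ha, a', ha', h1, hrel⟩ :=
    exists_intertwiner β hnd m hcard (ρ k : U →ₗ[ZMod 2] U).toAddMonoidHom f hf hfix
  have h2 : a * a' = 1 := mul_eq_one_comm.mp h1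
  have hrel' : Rel β a (ρ k) := by
    intro u
    exact ⟨sg (f u), sg_ne_zero _, hrel u⟩
  let r : Rs β ρ := ⟨⟨a, a', h2, h1⟩, ha, ha', k, hrel'⟩
  exact ⟨r, piFun_unique β ρ hρ r k hrel'⟩

lemma mem_ker_iff (hnd : ∀ u : U, u ≠ 0 → ∃ w, Bp β u w ≠ 0) (hρ : Function.Injective ρ)
    (a : Rs β ρ) :
    a ∈ (pi β ρ hρ).ker ↔ ∃ c : ZMod 3, c ≠ 0 ∧ ∃ y, mat β ρ a = c • Lm β y := by
  constructor
  · intro h
    rw [MonoidHom.mem_ker, pi_apply] at h
    have h1 := piFun_spec β ρ a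
    rw [h, coe_rho_one] at h1
    exact rel_id β hnd (mat_mem β ρ a) (mat_ne_zero β ρ a) h1
  · rintro ⟨c, hc, y, h⟩
    rw [MonoidHom.mem_ker, pi_apply]
    apply piFun_unique β ρ hρ
    rw [h, coe_rho_one]
    exact rel_smul β c (rel_Lm β y)

end

end Cfsg.Agent.Lib.H15.Tw
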