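import Mathlib
import Cfsg.Prelude.Def_Transfer
import Cfsg.Agent.Lib.H15.Tw6

/-!
helper15 library: the normal extraspecial subgroup `Qs = {± L_u}` of `Rs β ρ`, the map
`χ : Qs → U` and the main construction theorem.
-/

set_option autoImplicit false

namespace Cfsg.Agent.Lib.H15.Tw

open Cfsg

section
variable {K : Type*} [Group K]
variable {U : Type*} [AddCommGroup U] [Module (ZMod 2) U] [Fintype U] [DecidableEq U]
variable (β : LinearMap.BilinForm (ZMod 2) U) (ρ : Representation (ZMod 2) K U)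
variable (hnd : ∀ u : U, u ≠ 0 → ∃ w, Bp β u w ≠ 0) (hρ : Function.Injective ρ)

/-- the subgroup `Q`. -/
noncomputable def Qs : Subgroup (Rs β ρ) := (pi β ρ hρ).ker

/-- nonzero scalars of `ZMod 3`. -/
abbrev Sc : Type := {c : ZMod 3 // c ≠ 0}

include hnd in
lemma Qs_spec (a : Qs β ρ hρ) :
    ∃ p : Sc × U, mat β ρ (a : Rs β ρ) = (p.1 : ZMod 3) • Lm β p.2 := by
  obtain ⟨c, hc, y, h⟩ := (mem_ker_iff β ρ hnd hρ _).1 a.2
  exact ⟨(⟨c, hc⟩, y), h⟩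

/-- coordinates of an element of `Q`. -/
noncomputable def pOf (a : Qs β ρ hρ) : Sc × U := Classical.choose (Qs_spec β ρ hnd hρ a)

lemma pOf_spec (a : Qs β ρ hρ) :
    mat β ρ (a : Rs β ρ) = ((pOf β ρ hnd hρ a).1 : ZMod 3) • Lm β (pOf β ρ hnd hρ a).2 :=
  Classical.choose_spec (Qs_spec β ρ hnd hρ a)

lemma pOf_eq (a : Qs β ρ hρ) (c : ZMod 3) (hc : c ≠ 0) (y : U)
    (h : mat β ρ (a : Rs β ρ) = c • Lm β y) : pOf β ρ hnd hρ a = (⟨c, hc⟩, y) := by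
  have h1 := pOf_spec β ρ hnd hρ a
  rw [h] at h1
  obtain ⟨e1, e2⟩ := smul_Lm_inj β hc h1
  ext
  · exact e1.symm
  · exact e2.symm

lemma pOf_bijective : Function.Bijective (pOf β ρ hnd hρ) := by
  constructor
  · intro a b h
    apply Subtype.ext
    apply mat_inj β ρ
    rw [pOf_spec β ρ hnd hρ a, pOf_spec β ρ hnd hρ b, h]
  · rintro ⟨⟨c, hc⟩, y⟩
    obtain ⟨a, ha, hpi⟩ := exists_elt β ρ c hc y hρ
    exact ⟨⟨a, hpi⟩, pOf_eq β ρ hnd hρ _ c hc y ha⟩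

include hnd in
lemma card_Qs : Nat.card (Qs β ρ hρ) = 2 * Fintype.card U := by
  rw [Nat.card_congr (Equiv.ofBijective _ (pOf_bijective β ρ hnd hρ)), Nat.card_prod,
    Nat.card_eq_fintype_card, Nat.card_eq_fintype_card]
  rfl

/-- the `U`-coordinate. -/
noncomputable def yOf (a : Qs β ρ hρ) : U := (pOf β ρ hnd hρ a).2

lemma yOf_spec (a : Qs β ρ hρ) :
    ∃ c : ZMod 3, c ≠ 0 ∧ mat β ρ (a : Rs β ρ) = c • Lm β (yOf β ρ hnd hρ a) :=
  ⟨(pOf β ρ hnd hρ a).1, (pOf β ρ hnd hρ a).1.2, pOf_spec β ρ hnd hρ a⟩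

lemma yOf_eq (a : Qs β ρ hρ) (c : ZMod 3) (hc : c ≠ 0) (y : U)
    (h : mat β ρ (a : Rs β ρ) = c • Lm β y) : yOf β ρ hnd hρ a = y := by
  unfold yOf
  rw [pOf_eq β ρ hnd hρ a c hc y h]

lemma yOf_mul (a b : Qs β ρ hρ) :
    yOf β ρ hnd hρ (a * b) = yOf β ρ hnd hρ a + yOf β ρ hnd hρ b := by
  obtain ⟨c, hc, ha⟩ := yOf_spec β ρ hnd hρ a
  obtain ⟨d, hd, hb⟩ := yOf_spec β ρ hnd hρ b
  apply yOf_eq β ρ hnd hρ (a * b) (c * d * sg (β (yOf β ρ hnd hρ a) (yOf β ρ hnd hρ b)))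
    (mul_ne_zero (mul_ne_zero hc hd) (sg_ne_zero _))
  rw [Subgroup.coe_mul, mat_mul, ha, hb, Matrix.smul_mul, Matrix.mul_smul, Lm_mul, smul_smul,
    smul_smul]

/-- the homomorphism `χ`. -/
noncomputable def chi : Qs β ρ hρ →* Multiplicative U :=
  MonoidHom.mk' (fun a => Multiplicative.ofAdd (yOf β ρ hnd hρ a)) (by
    intro a b
    rw [yOf_mul, ofAdd_add])

lemma chi_apply (a : Qs β ρ hρ) :
    Multiplicative.toAdd (chi β ρ hnd hρ a) = yOf β ρ hnd hρ a := rfl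

lemma chi_surjective : Function.Surjective (chi β ρ hnd hρ) := by
  intro y
  obtain ⟨a, ha, hpi⟩ := exists_elt β ρ 1 one_ne_zero (Multiplicative.toAdd y) hρ
  refine ⟨⟨a, hpi⟩, ?_⟩
  apply Multiplicative.toAdd.injective
  rw [chi_apply]
  exact yOf_eq β ρ hnd hρ _ 1 one_ne_zero _ ha

lemma comm_iff (a b : Qs β ρ hρ) :
    a * b = b * a ↔ Bp β (yOf β ρ hnd hρ a) (yOf β ρ hnd hρ b) = 0 := by
  obtain ⟨c, hc, ha⟩ := yOf_spec β ρ hnd hρ a
  obtain ⟨d, hd, hb⟩ := yOf_spec β ρ hnd hρ b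
  have e1 : mat β ρ ((a * b : Qs β ρ hρ) : Rs β ρ) =
      (c * d * sg (β (yOf β ρ hnd hρ a) (yOf β ρ hnd hρ b))) •
        Lm β (yOf β ρ hnd hρ a + yOf β ρ hnd hρ b) := by
    rw [Subgroup.coe_mul, mat_mul, ha, hb, Matrix.smul_mul, Matrix.mul_smul, Lm_mul, smul_smul,
      smul_smul]
  have e2 : mat β ρ ((b * a : Qs β ρ hρ) : Rs β ρ) =
      (c * d * sg (β (yOf β ρ hnd hρ b) (yOf β ρ hnd hρ a))) •
        Lm β (yOf β ρ hnd hρ a + yOf β ρ hnd hρ b) := by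
    rw [Subgroup.coe_mul, mat_mul, ha, hb, Matrix.smul_mul, Matrix.mul_smul, Lm_mul, smul_smul,
      smul_smul, add_comm]
    congr 1; ring
  have hcd : c * d ≠ 0 := mul_ne_zero hc hd
  constructor
  · intro h
    have h1 : mat β ρ ((a * b : Qs β ρ hρ) : Rs β ρ) = mat β ρ ((b * a : Qs β ρ hρ) : Rs β ρ) := by
      rw [h]
    rw [e1, e2] at h1
    have h2 := (smul_Lm_inj β (mul_ne_zero hcd (sg_ne_zero _)) h1).1
    have h3 := sg_inj (mul_left_cancel₀ hcd h2)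
    unfold Bp
    rw [h3]; exact CharTwo.add_self_eq_zero _
  · intro h
    apply Subtype.ext
    apply mat_inj β ρ
    rw [e1, e2]
    have : β (yOf β ρ hnd hρ a) (yOf β ρ hnd hρ b) = β (yOf β ρ hnd hρ b) (yOf β ρ hnd hρ a) := by
      unfold Bp at h
      have h2 : ∀ x y : ZMod 2, x + y = 0 → x = y := by decide
      exact h2 _ _ h
    rw [this]

include hnd in
lemma chi_ker : (chi β ρ hnd hρ).ker = Subgroup.center (Qs β ρ hρ) := by
  ext a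
  rw [MonoidHom.mem_ker, Subgroup.mem_center_iff]
  constructor
  · intro h b
    have h0 : yOf β ρ hnd hρ a = 0 := by
      rw [← chi_apply, h]; rfl
    rw [comm_iff β ρ hnd hρ, h0, Bp_zero_right]
  · intro h
    apply Multiplicative.toAdd.injective
    rw [chi_apply, toAdd_one]
    by_contra hne
    obtain ⟨w, hw⟩ := hnd _ hne
    obtain ⟨b, hb⟩ := chi_surjective β ρ hnd hρ (Multiplicative.ofAdd w)
    have hb' : yOf β ρ hnd hρ b = w := by rw [← chi_apply, hb]; rfl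
    have := (comm_iff β ρ hnd hρ b a).1 (h b)
    rw [hb', Bp_comm] at this
    exact hw this

lemma sq_iff (a : Qs β ρ hρ) :
    a * a = 1 ↔ β (yOf β ρ hnd hρ a) (yOf β ρ hnd hρ a) = 0 := by
  obtain ⟨c, hc, ha⟩ := yOf_spec β ρ hnd hρ a
  have e1 : mat β ρ ((a * a : Qs β ρ hρ) : Rs β ρ) =
      sg (β (yOf β ρ hnd hρ a) (yOf β ρ hnd hρ a)) • 1 := by
    rw [Subgroup.coe_mul, mat_mul, ha, Matrix.smul_mul, Matrix.mul_smul, Lm_mul, smul_smul,
      smul_smul, ZModModule.add_self, Lm_zero, sq_of_ne_zero c hc, one_mul]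
  constructor
  · intro h
    rw [h] at e1
    have h2 := congrFun (congrFun e1 0) 0
    simp only [Subgroup.coe_one, mat_one, Matrix.one_apply_eq, Matrix.smul_apply, smul_eq_mul,
      mul_one] at h2
    exact (sg_eq_one_iff _).1 h2.symm
  · intro h
    apply Subtype.ext
    apply mat_inj β ρ
    rw [e1, h, sg_zero, one_smul]
    rfl

lemma chi_conj (r : Rs β ρ) (a : Qs β ρ hρ) (h : r * (a : Rs β ρ) * r⁻¹ ∈ Qs β ρ hρ) :
    yOf β ρ hnd hρ ⟨r * (a : Rs β ρ) * r⁻¹, h⟩ = ρ (pi β ρ hρ r) (yOf β ρ hnd hρ a) := by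
  obtain ⟨c, hc, ha⟩ := yOf_spec β ρ hnd hρ a
  obtain ⟨d, hd, hr⟩ := piFun_spec β ρ r (yOf β ρ hnd hρ a)
  apply yOf_eq β ρ hnd hρ _ (c * d) (mul_ne_zero hc hd)
  change mat β ρ (r * (a : Rs β ρ) * r⁻¹) = _
  rw [mat_mul, mat_mul, ha, Matrix.mul_smul, hr, Matrix.smul_mul, Matrix.smul_mul,
    Matrix.mul_assoc, mat_mul_inv, Matrix.mul_one, smul_smul, pi_apply]

end

end Cfsg.Agent.Lib.H15.Tw
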