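import Mathlib
import Cfsg.Prelude.Def_Transfer
import Cfsg.Agent.Lib.H15.Tw7

/-!
helper15 library: the main construction theorem: `2^{1+2n}.K` realising an orthogonal module.
-/

set_option autoImplicit false

universe u

namespace Cfsg.Agent.Lib.H15.Tw

open Cfsg

theorem construct {K : Type*} [Group K] {U : Type u} [AddCommGroup U] [Module (ZMod 2) U]
    [Fintype U] [DecidableEq U]
    (β : LinearMap.BilinForm (ZMod 2) U) (ρ : Representation (ZMod 2) K U)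
    (hnd : ∀ u : U, u ≠ 0 → ∃ w, Bp β u w ≠ 0) (hρ : Function.Injective ρ)
    (hq : ∀ k u, β (ρ k u) (ρ k u) = β u u) (m : ℕ) (hm : 1 ≤ m)
    (hcard : Fintype.card U = 2 ^ m) :
    ∃ (R : Type u) (_ : Group R) (_ : Finite R) (Q : Subgroup R) (hN : Q.Normal)
      (e : R ⧸ Q ≃* K) (χ : ↥Q →* Multiplicative U),
      IsExtraspecial 2 ↥Q ∧ Nat.card ↥Q = 2 ^ (m + 1) ∧
      Function.Surjective χ ∧ χ.ker = Subgroup.center ↥Q ∧
      (∀ (r : R) (a : ↥Q), χ ⟨r * a * r⁻¹, hN.conj_mem (a : R) a.2 r⟩ =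
        Multiplicative.ofAdd (ρ (e (r : R ⧸ Q)) (Multiplicative.toAdd (χ a)))) ∧
      ∀ a : ↥Q, a * a = 1 ↔
        β (Multiplicative.toAdd (χ a)) (Multiplicative.toAdd (χ a)) = 0 := by
  have hsurj := pi_surjective β ρ hnd m hcard hρ hq
  have hcardQ : Nat.card (Qs β ρ hρ) = 2 ^ (m + 1) := by
    rw [card_Qs β ρ hnd hρ, hcard, pow_succ, mul_comm]
  haveI hnorm : (Qs β ρ hρ).Normal := MonoidHom.normal_ker (pi β ρ hρ)
  refine ⟨Rs β ρ, inferInstance, inferInstance, Qs β ρ hρ, hnorm,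
    (QuotientGroup.quotientKerEquivOfSurjective (pi β ρ hρ) hsurj : Rs β ρ ⧸ Qs β ρ hρ ≃* K),
    chi β ρ hnd hρ, ?_, hcardQ, chi_surjective β ρ hnd hρ, chi_ker β ρ hnd hρ, ?_, ?_⟩
  · apply extraspecial_of_hom (fun u : U => ZModModule.add_self u) (chi β ρ hnd hρ)
      (chi_surjective β ρ hnd hρ) (chi_ker β ρ hnd hρ) m
      (by rw [Nat.card_eq_fintype_card, hcard]) hcardQ
    have h1 : 1 < Fintype.card U := by
      rw [hcard]
      exact Nat.one_lt_two_pow (by omega)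
    obtain ⟨y, hy⟩ := Fintype.exists_ne_of_one_lt_card h1 (0 : U)
    obtain ⟨w, hw⟩ := hnd y hy
    obtain ⟨a, ha⟩ := chi_surjective β ρ hnd hρ (Multiplicative.ofAdd y)
    obtain ⟨b, hb⟩ := chi_surjective β ρ hnd hρ (Multiplicative.ofAdd w)
    have ha' : yOf β ρ hnd hρ a = y := by rw [← chi_apply, ha]; rfl
    have hb' : yOf β ρ hnd hρ b = w := by rw [← chi_apply, hb]; rfl
    refine ⟨a, b, fun h => hw ?_⟩
    have := (comm_iff β ρ hnd hρ a b).1 h
    rwa [ha', hb'] at this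
  · intro r a
    apply Multiplicative.toAdd.injective
    rw [chi_apply, toAdd_ofAdd, chi_apply]
    exact chi_conj β ρ hnd hρ r a _
  · intro a
    rw [chi_apply]
    exact sq_iff β ρ hnd hρ a

end Cfsg.Agent.Lib.H15.Tw
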