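import Mathlib
import Cfsg.Prelude.Def_Transfer
import Cfsg.Agent.Lib.H15.Tw8

/-!
helper15 library: transfer of the construction theorem to an arbitrary `ZMod 2`-space with a
quadratic form (via coordinates `Fin (2n) → ZMod 2`, so that the group lives in `Type`).
-/

set_option autoImplicit false

namespace Cfsg.Agent.Lib.H15.Tw

open Cfsg

section
variable {K : Type*} [Group K] {U : Type*} [AddCommGroup U] [Module (ZMod 2) U]
variable {U₀ : Type*} [AddCommGroup U₀] [Module (ZMod 2) U₀]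

/-- conjugate a representation by a linear equivalence. -/
def conjRep (φ : U ≃ₗ[ZMod 2] U₀) (ρ : Representation (ZMod 2) K U) :
    Representation (ZMod 2) K U₀ where
  toFun k := φ.toLinearMap ∘ₗ ρ k ∘ₗ φ.symm.toLinearMap
  map_one' := by
    ext x; simp
  map_mul' := by
    intro k k'
    ext x; simp

lemma conjRep_apply (φ : U ≃ₗ[ZMod 2] U₀) (ρ : Representation (ZMod 2) K U) (k : K) (x : U₀) :
    conjRep φ ρ k x = φ (ρ k (φ.symm x)) := rfl

lemma conjRep_injective (φ : U ≃ₗ[ZMod 2] U₀) (ρ : Representation (ZMod 2) K U)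
    (hρ : Function.Injective ρ) : Function.Injective (conjRep φ ρ) := by
  intro k k' h
  apply hρ
  apply LinearMap.ext
  intro u
  have := LinearMap.congr_fun h (φ u)
  rw [conjRep_apply, conjRep_apply, φ.symm_apply_apply] at this
  exact φ.injective this

end

theorem main {K : Type*} [Group K] {U : Type*} [AddCommGroup U] [Module (ZMod 2) U]
    [Module.Finite (ZMod 2) U] (n : ℕ) (hn1 : 1 ≤ n) (hn : Module.finrank (ZMod 2) U = 2 * n)
    (ρ : Representation (ZMod 2) K U) (hρ : Function.Injective ρ)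
    (q : QuadraticForm (ZMod 2) U) (hq : ∀ (k : K) (u : U), q (ρ k u) = q u)
    (hnd : (QuadraticMap.polarBilin q).Nondegenerate) :
    ∃ (R : Type) (_ : Group R) (_ : Finite R) (Q : Subgroup R) (hN : Q.Normal)
      (e : R ⧸ Q ≃* K) (χ : ↥Q →* Multiplicative U),
      Cfsg.IsExtraspecial 2 ↥Q ∧ Nat.card ↥Q = 2 ^ (2 * n + 1) ∧ Function.Surjective χ ∧
      χ.ker = Subgroup.center ↥Q ∧
      (∀ (r : R) (a : ↥Q), χ ⟨r * a * r⁻¹, hN.conj_mem (a : R) a.2 r⟩ =
        Multiplicative.ofAdd (ρ (e (r : R ⧸ Q)) (Multiplicative.toAdd (χ a)))) ∧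
      ∀ a : ↥Q, a * a = 1 ↔ q (Multiplicative.toAdd (χ a)) = 0 := by
  classical
  -- coordinates
  have hfr : Module.finrank (ZMod 2) U = Module.finrank (ZMod 2) (Fin (2 * n) → ZMod 2) := by
    rw [hn, Module.finrank_fin_fun]
  let φ : U ≃ₗ[ZMod 2] (Fin (2 * n) → ZMod 2) := LinearEquiv.ofFinrankEq _ _ hfr
  -- the bilinear cocycle
  let β : LinearMap.BilinForm (ZMod 2) U := q.toBilin (Module.finBasis (ZMod 2) U)
  have hβq : ∀ u, β u u = q u := by
    intro u
    have h := QuadraticMap.toQuadraticMap_toBilin q (Module.finBasis (ZMod 2) U)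
    have h2 := congrArg (fun Q : QuadraticMap (ZMod 2) U (ZMod 2) => Q u) h
    simpa [LinearMap.BilinMap.toQuadraticMap_apply] using h2
  have hpolar : ∀ u v, β u v + β v u = QuadraticMap.polar q u v := by
    intro u v
    unfold QuadraticMap.polar
    rw [← hβq, ← hβq, ← hβq]
    simp only [map_add, LinearMap.add_apply]
    ring
  let β₀ : LinearMap.BilinForm (ZMod 2) (Fin (2 * n) → ZMod 2) :=
    β.compl₁₂ φ.symm.toLinearMap φ.symm.toLinearMap
  have hβ₀ : ∀ x y, β₀ x y = β (φ.symm x) (φ.symm y) := fun x y => rfl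
  have hnd₀ : ∀ x : Fin (2 * n) → ZMod 2, x ≠ 0 → ∃ w, Bp β₀ x w ≠ 0 := by
    intro x hx
    have hx' : φ.symm x ≠ 0 := by
      intro h; apply hx
      have := congrArg φ h
      simpa using this
    by_contra hcon
    push Not at hcon
    apply hx'
    apply hnd.1
    intro v
    have := hcon (φ v)
    unfold Bp at this
    rw [hβ₀, hβ₀, φ.symm_apply_apply, hpolar] at this
    exact this
  have hq₀ : ∀ k x, β₀ (conjRep φ ρ k x) (conjRep φ ρ k x) = β₀ x x := by
    intro k x
    rw [hβ₀, hβ₀, conjRep_apply, φ.symm_apply_apply, hβq, hβq, hq]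
  have hcard : Fintype.card (Fin (2 * n) → ZMod 2) = 2 ^ (2 * n) := by
    simp
  obtain ⟨R, iG, iF, Q, hN, e, χ₀, hex, hcardQ, hsurj, hker, hconj, hsq⟩ :=
    construct β₀ (conjRep φ ρ) hnd₀ (conjRep_injective φ ρ hρ) hq₀ (2 * n) (by omega) hcard
  let ψ : Multiplicative (Fin (2 * n) → ZMod 2) →* Multiplicative U :=
    AddMonoidHom.toMultiplicative φ.symm.toLinearMap.toAddMonoidHom
  have hψ : ∀ x, Multiplicative.toAdd (ψ x) = φ.symm (Multiplicative.toAdd x) := fun x => rfl
  refine ⟨R, iG, iF, Q, hN, e, ψ.comp χ₀, hex, hcardQ, ?_, ?_, ?_, ?_⟩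
  · intro y
    obtain ⟨a, ha⟩ := hsurj (Multiplicative.ofAdd (φ (Multiplicative.toAdd y)))
    refine ⟨a, ?_⟩
    apply Multiplicative.toAdd.injective
    rw [MonoidHom.comp_apply, hψ, ha, toAdd_ofAdd, φ.symm_apply_apply]
  · rw [← hker]
    ext a
    rw [MonoidHom.mem_ker, MonoidHom.mem_ker, MonoidHom.comp_apply]
    constructor
    · intro h
      apply Multiplicative.toAdd.injective
      have h2 := congrArg Multiplicative.toAdd h
      rw [hψ, toAdd_one] at h2
      rw [toAdd_one]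
      have := congrArg φ h2
      simpa using this
    · intro h
      rw [h, map_one]
  · intro r a
    apply Multiplicative.toAdd.injective
    rw [MonoidHom.comp_apply, hψ, hconj r a, toAdd_ofAdd, conjRep_apply, φ.symm_apply_apply,
      toAdd_ofAdd, MonoidHom.comp_apply, hψ]
  · intro a
    rw [hsq a, hβ₀, hβq, MonoidHom.comp_apply, hψ]

end Cfsg.Agent.Lib.H15.Tw
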