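import Cfsg.Agent.Lib.H15.X3I
import Cfsg.Agent.Lib.H11.HermNorm4
import Cfsg.Agent.Lib.H12.UCommE

/-!
# Unitary version: `R0 u ≤ GU_3`, unitary standard form, determinant-fixing centraliser elements
-/

set_option autoImplicit false

namespace Cfsg.Agent.Lib.H15.U3

open Matrix Cfsg.Agent.Lib.H13.AutPSU Cfsg.Agent.Lib.H15.X3

variable {F : Type*} [Field F] {q : ℕ} (D : UF F q)

lemma ct_diagonal (d : Fin 3 → F) : ct D (diagonal d) = diagonal (fun i => D.τ (d i)) := by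
  ext i j
  rw [ct_apply, Matrix.diagonal_apply, Matrix.diagonal_apply]
  by_cases h : i = j
  · subst h; simp
  · rw [if_neg h, if_neg (Ne.symm h), map_zero]

lemma tau_mul_self_of_pow (a : F) (ha : a ^ (q + 1) = 1) : D.τ a * a = 1 := by
  rw [D.hτ, ← pow_succ, ha]

include D in
lemma dgH_mem_GU (d : Fin 3 → Fˣ) (hd : ∀ i, (d i : F) ^ (q + 1) = 1) :
    (dgH d : GL (Fin 3) F) ∈ Cfsg.GU 3 F q := by
  rw [mem_GU_iff_ct (D := D), dgH_val, ct_diagonal, Matrix.diagonal_mul_diagonal]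
  rw [← Matrix.diagonal_one]
  congr 1
  funext i
  exact tau_mul_self_of_pow D _ (hd i)

include D in
lemma BgU_mem_GU : (BgU : GL (Fin 3) F) ∈ Cfsg.GU 3 F q := by
  rw [mem_GU_iff_ct (D := D), BgU_val]
  have : ct D (Bg : Matrix (Fin 3) (Fin 3) F) = Bi := by
    ext i j
    rw [ct_apply]
    fin_cases i <;> fin_cases j <;> simp [Bg, Bi]
  rw [this, Bi_mul_Bg]

include D in
lemma TgU_mem_GU : (TgU : GL (Fin 3) F) ∈ Cfsg.GU 3 F q := by
  rw [mem_GU_iff_ct (D := D), TgU_val]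
  have : ct D (X3.Tg : Matrix (Fin 3) (Fin 3) F) = X3.Tg := by
    ext i j
    rw [ct_apply]
    fin_cases i <;> fin_cases j <;> simp [X3.Tg]
  rw [this, Tg_mul_Tg]

lemma pow_succ_eq_one_of_cube (a : Fˣ) (ha : a ^ 3 = 1) (h3 : 3 ∣ q + 1) : a ^ (q + 1) = 1 := by
  obtain ⟨m, hm⟩ := h3
  rw [hm, pow_mul, ha, one_pow]

include D in
lemma AgU_mem_GU (u : Fˣ) (hu : u ^ 3 = 1) (h3 : 3 ∣ q + 1) :
    (AgU u : GL (Fin 3) F) ∈ Cfsg.GU 3 F q := by
  unfold AgU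
  apply dgH_mem_GU D
  have hu' := pow_succ_eq_one_of_cube u hu h3
  intro i
  rw [← Units.val_pow_eq_pow_val]
  fin_cases i
  · simp
  · simp only [Fin.mk_one, Matrix.cons_val_one, Matrix.cons_val_zero]
    rw [hu', Units.val_one]
  · simp only [Fin.reduceFinMk, Matrix.cons_val_two, Matrix.tail_cons, Matrix.head_cons]
    rw [← pow_mul, mul_comm, pow_mul, hu', one_pow, Units.val_one]

include D in
lemma R0_le_GU (u : Fˣ) (hu : u ^ 3 = 1) (h3 : 3 ∣ q + 1) : R0 u ≤ Cfsg.GU 3 F q := by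
  unfold R0
  rw [Subgroup.closure_le]
  intro s hs
  rcases hs with rfl | hs
  · exact AgU_mem_GU D u hu h3
  · rw [Set.mem_singleton_iff] at hs
    rw [hs]; exact BgU_mem_GU D

include D in
lemma scalar_mem_GU (v : Fˣ) (hv : (v : F) ^ (q + 1) = 1) :
    (dgH (fun _ => v) : GL (Fin 3) F) ∈ Cfsg.GU 3 F q :=
  dgH_mem_GU D _ (fun _ => hv)

lemma det_ct (M : Matrix (Fin 3) (Fin 3) F) : (ct D M).det = D.τ M.det := by
  unfold ct
  rw [Matrix.det_transpose]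
  exact (RingHom.map_det (D.τ : F →+* F) M).symm

include D in
lemma det_pow_of_mem_GU (g : GL (Fin 3) F) (hg : g ∈ Cfsg.GU 3 F q) :
    (Matrix.GeneralLinearGroup.det g) ^ (q + 1) = 1 := by
  rw [mem_GU_iff_ct (D := D)] at hg
  have := congrArg Matrix.det hg
  rw [Matrix.det_mul, det_ct, Matrix.det_one, D.hτ, ← pow_succ] at this
  apply Units.ext
  rw [Units.val_pow_eq_pow_val, Matrix.GeneralLinearGroup.val_det_apply, Units.val_one]
  exact this

/-! ### the determinant-fixing element commuting with `X3.Tg` -/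

def cdM (δ : F) : Matrix (Fin 3) (Fin 3) F :=
  !![1,0,0; 0,(1+δ)/2,(1-δ)/2; 0,(1-δ)/2,(1+δ)/2]

lemma cdM_mul (h2 : (2 : F) ≠ 0) (δ ε : F) : cdM δ * cdM ε = cdM (δ * ε) := by
  ext i j
  fin_cases i <;> fin_cases j <;>
    simp [Matrix.mul_apply, Fin.sum_univ_three, cdM] <;> field_simp <;> ring

lemma cdM_one (h2 : (2 : F) ≠ 0) : cdM (1 : F) = 1 := by
  ext i j
  fin_cases i <;> fin_cases j <;> simp [cdM] <;> rw [one_add_one_eq_two, div_self h2]

def cdU (h2 : (2 : F) ≠ 0) (δ : Fˣ) : GL (Fin 3) F :=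
  ⟨cdM (δ : F), cdM ((δ⁻¹ : Fˣ) : F),
    by rw [cdM_mul h2, ← Units.val_mul, mul_inv_cancel, Units.val_one, cdM_one h2],
    by rw [cdM_mul h2, ← Units.val_mul, inv_mul_cancel, Units.val_one, cdM_one h2]⟩

lemma cdU_val (h2 : (2 : F) ≠ 0) (δ : Fˣ) :
    ((cdU h2 δ : GL (Fin 3) F) : Matrix (Fin 3) (Fin 3) F) = cdM (δ : F) := rfl

include D in
lemma cdU_mem_GU (h2 : (2 : F) ≠ 0) (δ : Fˣ) (hδ : (δ : F) ^ (q + 1) = 1) :
    cdU h2 δ ∈ Cfsg.GU 3 F q := by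
  rw [mem_GU_iff_ct (D := D), cdU_val]
  have : ct D (cdM (δ : F)) = cdM (D.τ (δ : F)) := by
    ext i j
    rw [ct_apply]
    have h2' : D.τ (2 : F) = 2 := map_ofNat D.τ 2
    fin_cases i <;> fin_cases j <;> simp [cdM, map_div₀, map_add, map_sub, h2']
  rw [this, cdM_mul h2, tau_mul_self_of_pow D _ hδ, cdM_one h2]

lemma cdU_comm (h2 : (2 : F) ≠ 0) (δ : Fˣ) : cdU h2 δ * TgU = TgU * cdU h2 δ := by
  apply Units.ext
  rw [Units.val_mul, Units.val_mul, cdU_val, TgU_val]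
  ext i j
  fin_cases i <;> fin_cases j <;>
    simp [Matrix.mul_apply, Fin.sum_univ_three, cdM, X3.Tg]

lemma det_cdU (h2 : (2 : F) ≠ 0) (δ : Fˣ) : Matrix.GeneralLinearGroup.det (cdU h2 δ) = δ := by
  apply Units.ext
  rw [Matrix.GeneralLinearGroup.val_det_apply, cdU_val, Matrix.det_fin_three]
  simp [cdM]
  field_simp
  ring

end Cfsg.Agent.Lib.H15.U3
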