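import Cfsg.Agent.Lib.H15.U3A

/-!
# Unitary standard form, order of `GU_3 ⊓ SL_3`, cube roots of norm one
-/

set_option autoImplicit false

namespace Cfsg.Agent.Lib.H15.U3

open Matrix Cfsg.Agent.Lib.H13.AutPSU Cfsg.Agent.Lib.H15.X3

variable {F : Type*} [Field F] {q : ℕ} (D : UF F q)

include D in
theorem unitary_std_form (u : Fˣ) (hu : u ^ 3 = 1) (hu1 : u ≠ 1) (h3 : 3 ∣ q + 1)
    (R : Subgroup (GL (Fin 3) F)) (hRU : R ≤ Cfsg.GU 3 F q) (P : GL (Fin 3) F)
    (hRP : R = (R0 u).map (MulAut.conj P).toMonoidHom) :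
    ∃ Q ∈ Cfsg.GU 3 F q, R = (R0 u).map (MulAut.conj Q).toMonoidHom := by
  set Pm := (P : Matrix (Fin 3) (Fin 3) F) with hPm
  set Pi := ((P⁻¹ : GL (Fin 3) F) : Matrix (Fin 3) (Fin 3) F) with hPi
  have hPPi : Pm * Pi = 1 := by rw [hPm, hPi, ← Units.val_mul, mul_inv_cancel, Units.val_one]
  have hPiP : Pi * Pm = 1 := by rw [hPm, hPi, ← Units.val_mul, inv_mul_cancel, Units.val_one]
  have hct1 : ct D Pm * ct D Pi = 1 := by rw [← ct_mul, hPiP, ct_one]
  have hct2 : ct D Pi * ct D Pm = 1 := by rw [← ct_mul, hPPi, ct_one]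
  set G := ct D Pm * Pm with hG
  set Gi := Pi * ct D Pi with hGi
  have hGGi : G * Gi = 1 := by
    rw [hG, hGi, Matrix.mul_assoc, ← Matrix.mul_assoc Pm, hPPi, Matrix.one_mul, hct1]
  have hGiG : Gi * G = 1 := by
    rw [hG, hGi, Matrix.mul_assoc, ← Matrix.mul_assoc (ct D Pi), hct2, Matrix.one_mul, hPiP]
  let Gu : GL (Fin 3) F := ⟨G, Gi, hGGi, hGiG⟩
  have key : ∀ a : GL (Fin 3) F, a ∈ Cfsg.GU 3 F q → P * a * P⁻¹ ∈ Cfsg.GU 3 F q →
      Gu * a = a * Gu := by
    intro a ha hPa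
    rw [mem_GU_iff_ct (D := D)] at ha hPa
    set A := (a : Matrix (Fin 3) (Fin 3) F) with hA
    have hA2 : A * ct D A = 1 := mul_eq_one_comm.mp ha
    rw [Units.val_mul, Units.val_mul, ct_mul, ct_mul] at hPa
    change ct D Pi * (ct D A * ct D Pm) * (Pm * A * Pi) = 1 at hPa
    have h1 : ct D A * G * A = G := by
      have h2 : ct D Pm * (ct D Pi * (ct D A * ct D Pm) * (Pm * A * Pi)) * Pm = ct D Pm * Pm := by
        rw [hPa, Matrix.mul_one]
      have h3 : ct D Pm * (ct D Pi * (ct D A * ct D Pm) * (Pm * A * Pi)) * Pm =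
          (ct D Pm * ct D Pi) * (ct D A * (ct D Pm * Pm) * A) * (Pi * Pm) := by
        simp only [Matrix.mul_assoc]
      rw [h3, hct1, hPiP, Matrix.one_mul, Matrix.mul_one] at h2
      exact h2
    apply Units.ext
    rw [Units.val_mul, Units.val_mul]
    change G * A = A * G
    calc G * A = (A * ct D A) * G * A := by rw [hA2, Matrix.one_mul]
      _ = A * (ct D A * G * A) := by simp only [Matrix.mul_assoc]
      _ = A * G := by rw [h1]
  have hmemR : ∀ a ∈ R0 u, P * a * P⁻¹ ∈ Cfsg.GU 3 F q := by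
    intro a ha
    apply hRU
    rw [hRP]
    exact ⟨a, ha, rfl⟩
  have hcA := key (AgU u) (AgU_mem_GU D u hu h3) (hmemR _ (AgU_mem u))
  have hcB := key BgU (BgU_mem_GU D) (hmemR _ (BgU_mem u))
  obtain ⟨c, hc⟩ := scalar_of_commute u hu hu1 Gu hcA hcB
  change G = c • (1 : Matrix (Fin 3) (Fin 3) F) at hc
  have hc0 : c ≠ 0 := by
    rintro rfl
    rw [hc, zero_smul, Matrix.zero_mul] at hGGi
    have := congrFun (congrFun hGGi 0) 0
    simp at this
  have hτc : D.τ c = c := by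
    have h1 : ct D G = G := by rw [hG, ct_mul, ct_ct]
    rw [hc, ct_smul, ct_one] at h1
    have := congrFun (congrFun h1 0) 0
    simpa using this
  obtain ⟨t, ht⟩ := D.nm_surj c hτc hc0
  have ht0 : t ≠ 0 := by
    rintro rfl
    rw [zero_mul] at ht
    exact hc0 ht.symm
  let tU : Fˣ := Units.mk0 t ht0
  have htUinv : ((tU⁻¹ : Fˣ) : F) = t⁻¹ := by rw [Units.val_inv_eq_inv_val]; rfl
  refine ⟨dgH (fun _ => tU⁻¹) * P, ?_, ?_⟩
  · rw [mem_GU_iff_ct (D := D), Units.val_mul, dgH_const_val, htUinv, Matrix.smul_mul,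
      Matrix.one_mul, ct_smul, Matrix.smul_mul, Matrix.mul_smul, smul_smul]
    change (D.τ t⁻¹ * t⁻¹) • G = 1
    rw [hc, smul_smul, map_inv₀, ← mul_inv, mul_comm (D.τ t), ht, inv_mul_cancel₀ hc0, one_smul]
  · have hconj : MulAut.conj (dgH (fun _ => tU⁻¹) * P) = MulAut.conj P := by
      rw [map_mul]
      have : MulAut.conj (dgH (fun _ => tU⁻¹) : GL (Fin 3) F) = 1 := by
        ext1 x
        rw [MulAut.conj_apply, MulAut.one_apply, ← scalar_eq_dgH,
          Matrix.GeneralLinearGroup.scalar_commute, mul_inv_cancel_right]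
      rw [this, one_mul]
    rw [hconj]
    exact hRP

theorem card_SUG :
    Nat.card ↥(Cfsg.GU 3 F q ⊓ (Matrix.GeneralLinearGroup.det : GL (Fin 3) F →* Fˣ).ker) =
      Nat.card ↥(Cfsg.SU 3 F q) := by
  apply Nat.card_congr
  symm
  refine Equiv.ofBijective
    (fun s => ⟨Matrix.SpecialLinearGroup.toGL s.1, ⟨?_, ?_⟩⟩) ⟨?_, ?_⟩
  · intro a b
    exact s.2 a b
  · show Matrix.SpecialLinearGroup.toGL s.1 ∈
      (Matrix.GeneralLinearGroup.det : GL (Fin 3) F →* Fˣ).ker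
    rw [MonoidHom.mem_ker]
    apply Units.ext
    rw [Matrix.GeneralLinearGroup.val_det_apply]
    simp
  · intro s t hst
    have h1 : Matrix.SpecialLinearGroup.toGL s.1 = Matrix.SpecialLinearGroup.toGL t.1 :=
      congrArg Subtype.val hst
    exact Subtype.ext (Matrix.SpecialLinearGroup.toGL_injective h1)
  · rintro ⟨g, hgU, hgk⟩
    have hdet : (g : Matrix (Fin 3) (Fin 3) F).det = 1 := by
      have := congrArg Units.val (MonoidHom.mem_ker.1 hgk)
      rwa [Matrix.GeneralLinearGroup.val_det_apply, Units.val_one] at this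
    refine ⟨⟨⟨(g : Matrix (Fin 3) (Fin 3) F), hdet⟩, fun a b => hgU a b⟩, ?_⟩
    apply Subtype.ext
    apply Units.ext
    rfl

lemma exists_cube_root_norm [Fintype F] (n m : ℕ) (hF : Fintype.card F = (n + 1) ^ 2)
    (hm : n + 2 = 9 * m) (z : F) (hz : z ^ 3 = 1) :
    ∃ ν : F, ν ^ 3 = z ∧ ν ^ (n + 2) = 1 := by
  have hz0 : z ≠ 0 := by
    intro h
    rw [h] at hz
    simp at hz
  let zU : Fˣ := Units.mk0 z hz0
  have hzU : zU ^ 3 = 1 := Units.ext (by rw [Units.val_pow_eq_pow_val, Units.val_one]; exact hz)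
  obtain ⟨g, hg⟩ := IsCyclic.exists_generator (α := Fˣ)
  have hord : orderOf g = n * (9 * m) := by
    rw [orderOf_eq_card_of_forall_mem_zpowers hg, Nat.card_units, Nat.card_eq_fintype_card, hF,
      ← hm]
    have : (n + 1) ^ 2 = n * (n + 2) + 1 := by ring
    rw [this, Nat.add_sub_cancel]
  have hmem : zU ∈ Submonoid.powers g := mem_powers_iff_mem_zpowers.2 (hg zU)
  obtain ⟨k, hk⟩ := (Submonoid.mem_powers_iff _ _).1 hmem
  have h1 : g ^ (k * 3) = 1 := by rw [pow_mul, hk, hzU]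
  have h2 : n * (9 * m) ∣ k * 3 := hord ▸ orderOf_dvd_of_pow_eq_one h1
  obtain ⟨c, hc⟩ := h2
  have hk' : k = 3 * (n * m * c) := by
    have : k * 3 = 9 * (n * m * c) := by rw [hc]; ring
    omega
  refine ⟨((g ^ (n * m * c) : Fˣ) : F), ?_, ?_⟩
  · rw [← Units.val_pow_eq_pow_val, ← pow_mul, mul_comm, ← hk', hk]
    rfl
  · rw [← Units.val_pow_eq_pow_val, ← pow_mul, hm]
    have : n * m * c * (9 * m) = n * (9 * m) * (m * c) := by ring
    rw [this, pow_mul, ← hord, pow_orderOf_eq_one, one_pow, Units.val_one]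

end Cfsg.Agent.Lib.H15.U3
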