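import Cfsg.Agent.Lib.H15.U3B

/-!
# Unitary version: positive cases `r = 2`, `r = 3`
-/

set_option autoImplicit false

namespace Cfsg.Agent.Lib.H15.U3

open Matrix Cfsg.Agent.Lib.H13.AutPSU Cfsg.Agent.Lib.H15.X3 Cfsg.Agent.Lib.H11.HermNorm

variable {F : Type*} [Field F] {q : ℕ} (D : UF F q)

/-- `SU_3` as a subgroup of `GL_3` -/
abbrev SUk (F : Type*) [Field F] (q : ℕ) : Subgroup (GL (Fin 3) F) :=
  Cfsg.GU 3 F q ⊓ SLk F

/-- the fixed-point property relative to a subgroup `S` -/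
def HypG (S R : Subgroup (GL (Fin 3) F)) (r : ℕ) : Prop :=
  ∀ x ∈ S,
    (∃ z : F, ((x ^ r : GL (Fin 3) F) : Matrix (Fin 3) (Fin 3) F) =
      z • (1 : Matrix (Fin 3) (Fin 3) F)) →
    (∀ z : F, (x : Matrix (Fin 3) (Fin 3) F) ≠ z • (1 : Matrix (Fin 3) (Fin 3) F)) →
    ∃ g ∈ S, g⁻¹ * x * g ∈ Subgroup.normalizer (R : Set (GL (Fin 3) F))

include D in
lemma finishU [Fintype F] (hF : Fintype.card F = q ^ 2) (u : Fˣ) (x : GL (Fin 3) F)
    (hxU : x ∈ Cfsg.GU 3 F q) (ν : Fˣ) (hν : ν ^ (q + 1) = 1)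
    (T P K : GL (Fin 3) F) (d : Fin 3 → F)
    (hT : T ∈ Subgroup.normalizer (R0 u : Set (GL (Fin 3) F))) (hTU : T ∈ Cfsg.GU 3 F q)
    (hy : ((ν⁻¹ : Fˣ) : F) • (x : Matrix (Fin 3) (Fin 3) F) * (P : Matrix (Fin 3) (Fin 3) F) =
      (P : Matrix (Fin 3) (Fin 3) F) * diagonal d)
    (hTK : (T : Matrix (Fin 3) (Fin 3) F) * (K : Matrix (Fin 3) (Fin 3) F) =
      (K : Matrix (Fin 3) (Fin 3) F) * diagonal d)
    (hc : ∀ δ : Fˣ, δ ^ (q + 1) = 1 → ∃ c ∈ Cfsg.GU 3 F q, c * T = T * c ∧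
      Matrix.GeneralLinearGroup.det c = δ) :
    ∃ g ∈ SUk F q, g⁻¹ * x * g ∈ Subgroup.normalizer (R0 u : Set (GL (Fin 3) F)) := by
  let y : GL (Fin 3) F := dgH (fun _ => ν⁻¹) * x
  have hνi : ((ν⁻¹ : Fˣ) : F) ^ (q + 1) = 1 := by
    rw [← Units.val_pow_eq_pow_val, inv_pow, hν, inv_one, Units.val_one]
  have hyU : y ∈ Cfsg.GU 3 F q := Subgroup.mul_mem _ (scalar_mem_GU D ν⁻¹ hνi) hxU
  have hyv : (y : Matrix (Fin 3) (Fin 3) F) = ((ν⁻¹ : Fˣ) : F) • (x : Matrix (Fin 3) (Fin 3) F) := by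
    rw [Units.val_mul, dgH_const_val, Matrix.smul_mul, Matrix.one_mul]
  obtain ⟨g0, -, hg0y⟩ := conj_SL y T P K d (by rw [hyv]; exact hy) hTK
  have hconj : IsConj y T := isConj_iff.2 ⟨g0⁻¹, by rw [inv_inv]; exact hg0y⟩
  have hconjU := isConj_GU_of_isConj_GL hF ⟨y, hyU⟩ ⟨T, hTU⟩ hconj
  obtain ⟨c1, hc1⟩ := isConj_iff.1 hconjU
  have hc1' : (c1 : GL (Fin 3) F) * y * (c1 : GL (Fin 3) F)⁻¹ = T := congrArg Subtype.val hc1
  set g1 : GL (Fin 3) F := (c1 : GL (Fin 3) F)⁻¹ with hg1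
  have hg1U : g1 ∈ Cfsg.GU 3 F q := Subgroup.inv_mem _ c1.2
  have hg1y : g1⁻¹ * y * g1 = T := by rw [hg1, inv_inv]; exact hc1'
  obtain ⟨c, hcU, hcT, hcdet⟩ := hc (Matrix.GeneralLinearGroup.det g1)⁻¹
    (by rw [inv_pow, det_pow_of_mem_GU D g1 hg1U, inv_one])
  refine ⟨g1 * c, ⟨Subgroup.mul_mem _ hg1U hcU, ?_⟩, ?_⟩
  · show g1 * c ∈ (Matrix.GeneralLinearGroup.det : GL (Fin 3) F →* Fˣ).ker
    rw [MonoidHom.mem_ker, map_mul, hcdet, mul_inv_cancel]
  · have hx : x = dgH (fun _ => ν) * y := by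
      show x = dgH (fun _ => ν) * (dgH (fun _ => ν⁻¹) * x)
      rw [← mul_assoc, ← map_mul]
      have : ((fun _ => ν) * (fun _ => ν⁻¹) : Fin 3 → Fˣ) = 1 := by
        funext i; simp
      rw [this, map_one, one_mul]
    have h1 : (g1 * c)⁻¹ * y * (g1 * c) = T := by
      have : (g1 * c)⁻¹ * y * (g1 * c) = c⁻¹ * (g1⁻¹ * y * g1) * c := by group
      rw [this, hg1y, mul_assoc, ← hcT, inv_mul_cancel_left]
    have h2 : (g1 * c)⁻¹ * x * (g1 * c) = dgH (fun _ => ν) * T := by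
      rw [hx, ← h1, ← scalar_eq_dgH]
      rw [← mul_assoc (g1 * c)⁻¹, ← Matrix.GeneralLinearGroup.scalar_commute]
      group
    rw [h2]
    exact scalar_mul_mem_normalizer _ ν T hT

include D in
theorem three_caseU [Fintype F] (hF : Fintype.card F = q ^ 2) (h3 : 3 ∣ q + 1)
    (u : Fˣ) (hu : u ^ 3 = 1) (hu1 : u ≠ 1) (x : GL (Fin 3) F) (hxU : x ∈ Cfsg.GU 3 F q) (z : F)
    (hz : ((x ^ 3 : GL (Fin 3) F) : Matrix (Fin 3) (Fin 3) F) =
      z • (1 : Matrix (Fin 3) (Fin 3) F))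
    (ν : F) (hν0 : ν ≠ 0) (hν : ν ^ 3 = z) (hνn : ν ^ (q + 1) = 1) :
    ∃ g ∈ SUk F q, g⁻¹ * x * g ∈ Subgroup.normalizer (R0 u : Set (GL (Fin 3) F)) := by
  set M := (x : Matrix (Fin 3) (Fin 3) F) with hM
  have hM3 : M ^ 3 = z • (1 : Matrix (Fin 3) (Fin 3) F) := by
    rw [← hz, Units.val_pow_eq_pow_val]
  let νU : Fˣ := Units.mk0 ν hν0
  have hνinv : ((νU⁻¹ : Fˣ) : F) = ν⁻¹ := by rw [Units.val_inv_eq_inv_val]; rfl
  set Y := ((νU⁻¹ : Fˣ) : F) • M with hY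
  have hY3 : Y ^ 3 = 1 := by
    rw [hY, hνinv, smul_pow, hM3, smul_smul, inv_pow, hν]
    have hz0 : z ≠ 0 := by rw [← hν]; exact pow_ne_zero 3 hν0
    rw [inv_mul_cancel₀ hz0, one_smul]
  have hω := units_cube_roots u hu hu1
  have hspan : ∀ v : Fin 3 → F,
      v ∈ Submodule.span F {w : Fin 3 → F | ∃ l : F, l ^ 3 = 1 ∧ Y *ᵥ w = l • w} := by
    intro v
    have hv : v = (3 : F)⁻¹ • (eu Y 1 v + eu Y (u : F) v + eu Y ((u : F) ^ 2) v) := by
      rw [eu_sum hω, smul_smul, inv_mul_cancel₀ hω.three_ne, one_smul]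
    rw [hv]
    apply Submodule.smul_mem
    apply Submodule.add_mem
    · apply Submodule.add_mem
      · exact Submodule.subset_span ⟨1, one_pow 3, mulVec_eu Y hY3 1 (one_pow 3) v⟩
      · exact Submodule.subset_span ⟨_, hω.cube, mulVec_eu Y hY3 _ hω.cube v⟩
    · exact Submodule.subset_span ⟨_, hω.sq_cube.cube, mulVec_eu Y hY3 _ hω.sq_cube.cube v⟩
  obtain ⟨P, d, hd, hYP⟩ := exists_diag Y (fun l => l ^ 3 = 1) hspan
  have hd0 : ∀ i, d i ≠ 0 := by
    intro i h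
    have := hd i
    rw [h] at this
    simp at this
  let dU : Fin 3 → Fˣ := fun i => Units.mk0 (d i) (hd0 i)
  have hdU3 : ∀ i, dU i ^ 3 = 1 :=
    fun i => Units.ext (by rw [Units.val_pow_eq_pow_val, Units.val_one]; exact hd i)
  have hT : (dgH dU : GL (Fin 3) F) ∈ Subgroup.normalizer (R0 u : Set (GL (Fin 3) F)) :=
    dgH_mem_normalizer u hu hu1 dU hdU3
  have hTU : (dgH dU : GL (Fin 3) F) ∈ Cfsg.GU 3 F q := by
    apply dgH_mem_GU D
    intro i
    rw [← Units.val_pow_eq_pow_val, pow_succ_eq_one_of_cube (dU i) (hdU3 i) h3, Units.val_one]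
  have hνU : νU ^ (q + 1) = 1 :=
    Units.ext (by rw [Units.val_pow_eq_pow_val, Units.val_one]; exact hνn)
  refine finishU D hF u x hxU νU hνU (dgH dU) P 1 d hT hTU hYP
    (by rw [Units.val_one, Matrix.mul_one, Matrix.one_mul, dgH_val]; rfl) ?_
  intro δ hδ
  refine ⟨dgH ![δ, 1, 1], ?_, ?_, ?_⟩
  · apply dgH_mem_GU D
    intro i
    rw [← Units.val_pow_eq_pow_val]
    fin_cases i
    · simp only [Fin.zero_eta, Matrix.cons_val_zero]
      rw [hδ, Units.val_one]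
    · simp
    · simp
  · rw [← map_mul, ← map_mul, mul_comm]
  · rw [det_dgH]
    simp

include D in
theorem two_caseU [Fintype F] (hF : Fintype.card F = q ^ 2) (h3 : 3 ∣ q + 1)
    (u : Fˣ) (hu : u ^ 3 = 1) (h2 : (2 : F) ≠ 0) (x : GL (Fin 3) F)
    (hx : x ∈ SUk F q) (z : F)
    (hz : ((x ^ 2 : GL (Fin 3) F) : Matrix (Fin 3) (Fin 3) F) =
      z • (1 : Matrix (Fin 3) (Fin 3) F))
    (hns : ∀ z : F, (x : Matrix (Fin 3) (Fin 3) F) ≠ z • (1 : Matrix (Fin 3) (Fin 3) F)) :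
    ∃ g ∈ SUk F q, g⁻¹ * x * g ∈ Subgroup.normalizer (R0 u : Set (GL (Fin 3) F)) := by
  set M := (x : Matrix (Fin 3) (Fin 3) F) with hM
  have hdet : M.det = 1 := by
    have := congrArg Units.val (MonoidHom.mem_ker.1 hx.2)
    rwa [Matrix.GeneralLinearGroup.val_det_apply, Units.val_one] at this
  have hMM : M * M = z • (1 : Matrix (Fin 3) (Fin 3) F) := by
    rw [← hz, Units.val_pow_eq_pow_val, pow_two]
  have hz3 : z ^ 3 = 1 := by
    have := congrArg Matrix.det hMM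
    rw [Matrix.det_mul, hdet, mul_one, Matrix.det_smul, Matrix.det_one, mul_one,
      Fintype.card_fin] at this
    exact this.symm
  have hz0 : z ≠ 0 := by
    rintro rfl
    simp at hz3
  let ν : Fˣ := Units.mk0 (z ^ 2) (pow_ne_zero 2 hz0)
  have hν : (ν : F) = z ^ 2 := rfl
  have hν3 : ν ^ 3 = 1 := by
    apply Units.ext
    rw [Units.val_pow_eq_pow_val, hν, ← pow_mul, mul_comm, pow_mul, hz3, one_pow, Units.val_one]
  have hνn : ν ^ (q + 1) = 1 := pow_succ_eq_one_of_cube ν hν3 h3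
  have hνinv : ((ν⁻¹ : Fˣ) : F) = z := by
    rw [Units.val_inv_eq_inv_val, hν]
    exact inv_eq_of_mul_eq_one_right (by rw [← pow_succ, hz3])
  set Y := ((ν⁻¹ : Fˣ) : F) • M with hY
  have hYY : Y * Y = 1 := by
    rw [hY, hνinv, Matrix.smul_mul, Matrix.mul_smul, hMM, smul_smul, smul_smul, ← pow_two,
      ← pow_succ, hz3, one_smul]
  have hYdet : Y.det = 1 := by
    rw [hY, hνinv, Matrix.det_smul, hdet, mul_one, Fintype.card_fin, hz3]
  have hspan : ∀ v : Fin 3 → F,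
      v ∈ Submodule.span F {w : Fin 3 → F | ∃ l : F, (l = 1 ∨ l = -1) ∧ Y *ᵥ w = l • w} := by
    intro v
    have hv : v = (2 : F)⁻¹ • ((v + Y *ᵥ v) + (v - Y *ᵥ v)) := by
      rw [add_add_sub_cancel, ← two_smul F v, smul_smul, inv_mul_cancel₀ h2, one_smul]
    rw [hv]
    apply Submodule.smul_mem
    apply Submodule.add_mem
    · apply Submodule.subset_span
      refine ⟨1, Or.inl rfl, ?_⟩
      rw [Matrix.mulVec_add, Matrix.mulVec_mulVec, hYY, Matrix.one_mulVec, one_smul, add_comm]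
    · apply Submodule.subset_span
      refine ⟨-1, Or.inr rfl, ?_⟩
      rw [Matrix.mulVec_sub, Matrix.mulVec_mulVec, hYY, Matrix.one_mulVec, neg_one_smul, neg_sub]
  obtain ⟨P, d, hd, hYP⟩ := exists_diag Y (fun l => l = 1 ∨ l = -1) hspan
  have hP0 : (P : Matrix (Fin 3) (Fin 3) F).det ≠ 0 :=
    ((Matrix.isUnit_iff_isUnit_det _).1 P.isUnit).ne_zero
  have hprod : d 0 * d 1 * d 2 = 1 := by
    have := congrArg Matrix.det hYP
    rw [Matrix.det_mul, Matrix.det_mul, hYdet, one_mul, Matrix.det_diagonal,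
      Fin.prod_univ_three] at this
    exact (mul_left_cancel₀ hP0 (by rw [mul_one]; exact this)).symm
  have hne : (-1 : F) ≠ 1 := by
    intro h
    apply h2
    have : (2 : F) = 1 - (-1) := by norm_num
    rw [this, h, sub_self]
  have fin : ∀ (K : Matrix (Fin 3) (Fin 3) F), K.det ≠ 0 → X3.Tg * K = K * diagonal d →
      ∃ g ∈ SUk F q, g⁻¹ * x * g ∈ Subgroup.normalizer (R0 u : Set (GL (Fin 3) F)) := by
    intro K hK hTK
    refine finishU D hF u x hx.1 ν hνn TgU P (Matrix.GeneralLinearGroup.mkOfDetNeZero K hK) d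
      (TgU_mem_normalizer u hu) (TgU_mem_GU D) hYP hTK ?_
    intro δ hδ
    refine ⟨cdU h2 δ, cdU_mem_GU D h2 δ ?_, cdU_comm h2 δ, det_cdU h2 δ⟩
    rw [← Units.val_pow_eq_pow_val, hδ, Units.val_one]
  have hn2 : (-2 : F) ≠ 0 := neg_ne_zero.2 h2
  rcases hd 0 with h0 | h0 <;> rcases hd 1 with h1 | h1 <;> rcases hd 2 with h2' | h2'
  · exfalso
    have hd1 : d = fun _ => 1 := by
      funext i; fin_cases i <;> assumption
    have hY1 : Y = 1 := by
      have h3 : Y * (P : Matrix (Fin 3) (Fin 3) F) *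
          ((P⁻¹ : GL (Fin 3) F) : Matrix (Fin 3) (Fin 3) F) = Y := by
        rw [Matrix.mul_assoc, ← Units.val_mul, mul_inv_cancel, Units.val_one, Matrix.mul_one]
      rw [← h3, hYP, hd1, Matrix.diagonal_one, Matrix.mul_one, ← Units.val_mul, mul_inv_cancel,
        Units.val_one]
    apply hns (ν : F)
    have : (ν : F) • Y = M := by
      rw [hY, smul_smul, ← Units.val_mul, mul_inv_cancel, Units.val_one, one_smul]
    rw [← this, hY1]
  · exfalso; rw [h0, h1, h2'] at hprod; apply hne; simpa using hprod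
  · exfalso; rw [h0, h1, h2'] at hprod; apply hne; simpa using hprod
  · apply fin K1 (by rw [det_K1]; exact hn2)
    ext i j
    rw [Matrix.mul_diagonal]
    fin_cases i <;> fin_cases j <;>
      simp [Matrix.mul_apply, Fin.sum_univ_three, X3.Tg, K1, h0, h1, h2']
  · exfalso; rw [h0, h1, h2'] at hprod; apply hne; simpa using hprod
  · apply fin K2 (by rw [det_K2]; exact h2)
    ext i j
    rw [Matrix.mul_diagonal]
    fin_cases i <;> fin_cases j <;>
      simp [Matrix.mul_apply, Fin.sum_univ_three, X3.Tg, K2, h0, h1, h2']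
  · apply fin K3 (by rw [det_K3]; exact hn2)
    ext i j
    rw [Matrix.mul_diagonal]
    fin_cases i <;> fin_cases j <;>
      simp [Matrix.mul_apply, Fin.sum_univ_three, X3.Tg, K3, h0, h1, h2']
  · exfalso; rw [h0, h1, h2'] at hprod; apply hne; simpa using hprod

end Cfsg.Agent.Lib.H15.U3
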