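import Cfsg.Agent.Lib.H15.U3C

/-!
# Unitary version: negative cases and the main theorem
-/

set_option autoImplicit false

namespace Cfsg.Agent.Lib.H15.U3

open Matrix Cfsg.Agent.Lib.H13.AutPSU Cfsg.Agent.Lib.H15.X3 Cfsg.Agent.Lib.H11.HermNorm

variable {F : Type*} [Field F] {q : ℕ} (D : UF F q)

theorem big_prime_falseG [Fintype F] (S : Subgroup (GL (Fin 3) F)) (hS : S ≤ SLk F)
    (u : Fˣ) (hu : u ^ 3 = 1) (hu1 : u ≠ 1)
    (hcard : Nat.card (R0 u) = 27) (r : ℕ) [hr : Fact r.Prime] (hr2 : r ≠ 2) (hr3 : r ≠ 3)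
    (hdvd : r ∣ Nat.card S) (hyp : HypG S (R0 u) r) : False := by
  obtain ⟨x, hx⟩ := exists_prime_orderOf_dvd_card' r hdvd
  have hxr : (x : GL (Fin 3) F) ^ r = 1 := by
    have := pow_orderOf_eq_one x
    rw [hx] at this
    exact congrArg Subtype.val this
  have hx1 : (x : GL (Fin 3) F) ≠ 1 := by
    intro h
    have : x = 1 := Subtype.ext h
    rw [this, orderOf_one] at hx
    exact hr.out.one_lt.ne hx
  have hns : ∀ z : F, ((x : GL (Fin 3) F) : Matrix (Fin 3) (Fin 3) F) ≠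
      z • (1 : Matrix (Fin 3) (Fin 3) F) := by
    intro z hz
    have hdet : ((x : GL (Fin 3) F) : Matrix (Fin 3) (Fin 3) F).det = 1 := by
      have := congrArg Units.val (MonoidHom.mem_ker.1 (hS x.2))
      rwa [Matrix.GeneralLinearGroup.val_det_apply, Units.val_one] at this
    have hz3 : z ^ 3 = 1 := by
      rw [hz, Matrix.det_smul, Matrix.det_one, mul_one, Fintype.card_fin] at hdet
      exact hdet
    have hzr : z ^ r = 1 := by
      have h1 := congrArg Units.val hxr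
      rw [Units.val_pow_eq_pow_val, hz, smul_pow, one_pow, Units.val_one] at h1
      have h2 := congrFun (congrFun h1 0) 0
      simpa using h2
    have hcop : Nat.Coprime 3 r := (Nat.coprime_primes Nat.prime_three hr.out).2 (Ne.symm hr3)
    have hz1 : z = 1 := (pow_eq_one_iff_of_coprime hcop).1 ⟨hz3, hzr⟩
    apply hx1
    apply Units.ext
    rw [hz, hz1, one_smul, Units.val_one]
  obtain ⟨g, hg, hN⟩ := hyp (x : GL (Fin 3) F) x.2 ⟨1, by rw [hxr, one_smul, Units.val_one]⟩ hns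
  have hyr : (g⁻¹ * (x : GL (Fin 3) F) * g) ^ r = 1 := by
    have := conj_pow (a := g⁻¹) (b := (x : GL (Fin 3) F)) (i := r)
    rw [inv_inv] at this
    rw [this, hxr, mul_one, inv_mul_cancel]
  obtain ⟨z, hz⟩ := scalar_of_normalizer_pow u hu hu1 hcard r hr2 hr3 _ hN hyr
  apply hns z
  have hxg : (x : GL (Fin 3) F) = g * (g⁻¹ * (x : GL (Fin 3) F) * g) * g⁻¹ := by group
  rw [hxg, Units.val_mul, Units.val_mul, hz, conj_scalar]

lemma not_81_dvdU (n : ℕ) (hn : n % 9 = 1 ∨ n % 9 = 4) :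
    ¬ 81 ∣ (n + 1) ^ 3 * (n * (n + 2)) * ((n + 1) ^ 3 + 1) := by
  have key : ∀ a : Fin 81, (a.val % 9 = 1 ∨ a.val % 9 = 4) →
      ¬ 81 ∣ (a.val + 1) ^ 3 * (a.val * (a.val + 2)) * ((a.val + 1) ^ 3 + 1) := by
    decide
  intro h
  have h1 : n % 81 ≡ n [MOD 81] := Nat.mod_modEq n 81
  have h2 := ((((h1.add_right 1).pow 3)).mul (h1.mul (h1.add_right 2))).mul
    (((h1.add_right 1).pow 3).add_right 1)
  have h3 := (Nat.modEq_zero_iff_dvd.1 (h2.trans (Nat.modEq_zero_iff_dvd.2 h)))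
  have hlt : n % 81 < 81 := Nat.mod_lt _ (by norm_num)
  have h9 : (n % 81) % 9 = n % 9 := Nat.mod_mod_of_dvd n (by norm_num : 9 ∣ 81)
  exact key ⟨n % 81, hlt⟩ (by rw [h9]; exact hn) h3

lemma card_SUk [Fintype F] (n : ℕ) (hF : Fintype.card F = (n + 1) ^ 2) :
    Nat.card (SUk F (n + 1)) = (n + 1) ^ 3 * (n * (n + 2)) * ((n + 1) ^ 3 + 1) := by
  rw [card_SUG, Cfsg.Agent.Lib.H12.UComm.card_SU_eq hF 3 (by norm_num)]
  have e1 : (n + 1) ^ 2 - 1 = n * (n + 2) := Nat.sub_eq_of_eq_add (by ring)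
  rw [Finset.prod_range_succ, Finset.prod_range_one]
  have h1 : ¬ Even (0 + 1) := by decide
  have h2 : Even (1 + 1) := by decide
  rw [if_neg h1, if_pos h2]
  norm_num
  rw [e1]
  ring

include D in
theorem three_not_dvdU [Fintype F] (u : Fˣ) (hu : u ^ 3 = 1) (hcard : Nat.card (R0 u) = 27)
    (n : ℕ) (hq : q = n + 1) (h3 : 3 ∣ q + 1) (hF : Fintype.card F = q ^ 2)
    (hn : n % 9 = 1 ∨ n % 9 = 4) :
    ¬ 3 ∣ (Subgroup.normalizer (R0 u : Set (GL (Fin 3) F))).relIndex (SUk F q) := by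
  subst hq
  intro h3'
  set S := SUk F (n + 1) with hS
  set N := Subgroup.normalizer (R0 u : Set (GL (Fin 3) F)) with hN
  rw [← Subgroup.inf_relIndex_right] at h3'
  have h1 : Nat.card (N ⊓ S : Subgroup (GL (Fin 3) F)) * (N ⊓ S).relIndex S = Nat.card S := by
    have := Subgroup.relIndex_mul_relIndex (H := ⊥) (K := N ⊓ S) (L := S) bot_le inf_le_right
    rwa [Subgroup.relIndex_bot_left, Subgroup.relIndex_bot_left] at this
  have h2 : 27 ∣ Nat.card (N ⊓ S : Subgroup (GL (Fin 3) F)) := by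
    rw [← hcard]
    exact Subgroup.card_dvd_of_le
      (le_inf Subgroup.le_normalizer (le_inf (R0_le_GU D u hu h3) (R0_le_ker u hu)))
  have h81 : 81 ∣ Nat.card S := by
    rw [← h1]
    exact (by norm_num : 81 = 27 * 3) ▸ Nat.mul_dvd_mul h2 h3'
  rw [card_SUk n hF] at h81
  exact not_81_dvdU n hn h81

/-- transport of `HypG` along conjugation by an element normalising `S` -/
lemma HypG_map (S R : Subgroup (GL (Fin 3) F)) (r : ℕ) (P : GL (Fin 3) F)
    (hP1 : ∀ x ∈ S, P * x * P⁻¹ ∈ S) (hP2 : ∀ x ∈ S, P⁻¹ * x * P ∈ S) (h : HypG S R r) :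
    HypG S (R.map (MulAut.conj P).toMonoidHom) r := by
  intro x hx hz hns
  have hx' : P⁻¹ * x * P ∈ S := hP2 x hx
  have hz' : ∃ z : F, (((P⁻¹ * x * P) ^ r : GL (Fin 3) F) : Matrix (Fin 3) (Fin 3) F) =
      z • (1 : Matrix (Fin 3) (Fin 3) F) := by
    obtain ⟨z, hz⟩ := hz
    refine ⟨z, ?_⟩
    have := conj_pow (a := P⁻¹) (b := x) (i := r)
    rw [inv_inv] at this
    rw [this, Units.val_mul, Units.val_mul, hz]
    have := conj_scalar P⁻¹ z
    rwa [inv_inv] at this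
  have hns' : ∀ z : F, ((P⁻¹ * x * P : GL (Fin 3) F) : Matrix (Fin 3) (Fin 3) F) ≠
      z • (1 : Matrix (Fin 3) (Fin 3) F) := by
    intro z hz
    apply hns z
    have hxg : x = P * (P⁻¹ * x * P) * P⁻¹ := by group
    rw [hxg, Units.val_mul, Units.val_mul, hz, conj_scalar]
  obtain ⟨g, hg, hN⟩ := h _ hx' hz' hns'
  refine ⟨P * g * P⁻¹, hP1 g hg, ?_⟩
  rw [← Subgroup.map_equiv_normalizer_eq]
  refine ⟨g⁻¹ * (P⁻¹ * x * P) * g, hN, ?_⟩
  show P * (g⁻¹ * (P⁻¹ * x * P) * g) * P⁻¹ = _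
  group

lemma map_conj_of_mem {G : Type*} [Group G] (H : Subgroup G) (g : G) (hg : g ∈ H) :
    H.map (MulAut.conj g).toMonoidHom = H := by
  ext x
  constructor
  · rintro ⟨y, hy, rfl⟩
    exact H.mul_mem (H.mul_mem hg hy) (H.inv_mem hg)
  · intro hx
    refine ⟨g⁻¹ * x * g, H.mul_mem (H.mul_mem (H.inv_mem hg) hx) hg, ?_⟩
    show g * (g⁻¹ * x * g) * g⁻¹ = x
    group

theorem main_R0U [Fintype F] {p : ℕ} [hp : Fact p.Prime] [CharP F p] (D : UF F p)
    (hF : Fintype.card F = p ^ 2) (hp5 : 5 ≤ p) (hp3 : p % 3 = 2)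
    (u : Fˣ) (hu : u ^ 3 = 1) (hu1 : u ≠ 1) (hcard : Nat.card (R0 u) = 27)
    (r : ℕ) [hr : Fact r.Prime]
    (hΩ : r ∣ (Subgroup.normalizer (R0 u : Set (GL (Fin 3) F))).relIndex (SUk F p)) :
    HypG (SUk F p) (R0 u) r ↔ (r = 2 ∨ (r = 3 ∧ p % 9 = 8)) := by
  have h3 : 3 ∣ p + 1 := by omega
  constructor
  · intro hyp
    by_cases hr2 : r = 2
    · exact Or.inl hr2
    by_cases hr3 : r = 3
    · right
      refine ⟨hr3, ?_⟩
      by_contra hp9
      subst hr3
      exact three_not_dvdU D u hu hcard (p - 1) (by omega) h3 hF (by omega) hΩ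
    · exfalso
      exact big_prime_falseG (SUk F p) inf_le_right u hu hu1 hcard r hr2 hr3
        (hΩ.trans (Subgroup.relIndex_dvd_card _ _)) hyp
  · rintro (rfl | ⟨rfl, hp9⟩)
    · intro x hx hz hns
      obtain ⟨z, hz⟩ := hz
      have h2 : (2 : F) ≠ 0 := by
        intro h
        have h' : ((2 : ℕ) : F) = 0 := by exact_mod_cast h
        rw [CharP.cast_eq_zero_iff F p] at h'
        have := (Nat.prime_dvd_prime_iff_eq hp.out Nat.prime_two).1 h'
        omega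
      exact two_caseU D hF h3 u hu h2 x hx z hz hns
    · intro x hx hz hns
      obtain ⟨z, hz⟩ := hz
      have hdet : (x : Matrix (Fin 3) (Fin 3) F).det = 1 := by
        have := congrArg Units.val (MonoidHom.mem_ker.1 hx.2)
        rwa [Matrix.GeneralLinearGroup.val_det_apply, Units.val_one] at this
      have hz3 : z ^ 3 = 1 := by
        have := congrArg Matrix.det hz
        rw [Units.val_pow_eq_pow_val, Matrix.det_pow, hdet, one_pow, Matrix.det_smul,
          Matrix.det_one, mul_one, Fintype.card_fin] at this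
        exact this.symm
      obtain ⟨ν, hν, hνn⟩ := exists_cube_root_norm (p - 1) ((p + 1) / 9)
        (by rw [hF]; congr 1; omega) (by omega) z hz3
      have hν0 : ν ≠ 0 := by
        rintro rfl
        rw [← hν] at hz3
        simp at hz3
      have hνn' : ν ^ (p + 1) = 1 := by
        have : p + 1 = p - 1 + 2 := by omega
        rw [this]; exact hνn
      exact three_caseU D hF h3 u hu hu1 x hx.1 z hz ν hν0 hν hνn'

theorem mainU [Fintype F] {p : ℕ} [hp : Fact p.Prime] [CharP F p]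
    (hF : Fintype.card F = p ^ 2) (hp5 : 5 ≤ p) (hp3 : p % 3 = 2)
    (R : Subgroup (GL (Fin 3) F)) (hRU : R ≤ Cfsg.GU 3 F p) (hR : Nat.card R = 27)
    (hRe : Monoid.exponent R = 3) (hRna : ¬ IsMulCommutative R) (r : ℕ) [hr : Fact r.Prime]
    (hΩ : r ∣ (Subgroup.normalizer (R : Set (GL (Fin 3) F))).relIndex (SUk F p)) :
    HypG (SUk F p) R r ↔ (r = 2 ∨ (r = 3 ∧ p % 9 = 8)) := by
  have D : UF F p := UF.ofCard (p := p) (f := 1) (by rw [pow_one]) hF
  have h3' : 3 ∣ p + 1 := by omega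
  have h3 : 3 ∣ Nat.card Fˣ := by
    rw [Nat.card_units, Nat.card_eq_fintype_card, hF]
    have h1 : p ^ 2 % 3 = 1 := by rw [Nat.pow_mod, hp3]
    have h2 : 1 ≤ p ^ 2 := Nat.one_le_pow _ _ (by omega)
    omega
  haveI : Fact (Nat.Prime 3) := ⟨Nat.prime_three⟩
  obtain ⟨w, hw⟩ := exists_prime_orderOf_dvd_card' 3 h3
  have hw3 : w ^ 3 = 1 := by rw [← hw]; exact pow_orderOf_eq_one w
  have hw1 : w ≠ 1 := by
    intro h
    rw [h, orderOf_one] at hw
    omega
  have hω : Cube (w : F) := units_cube_roots w hw3 hw1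
  obtain ⟨u, P, hu, hu1, hRP0⟩ := exists_std_form hω R hR hRe hRna
  obtain ⟨Q, hQU, hRP⟩ := unitary_std_form D u hu hu1 h3' R hRU P hRP0
  have hnorm : (SLk F).Normal := MonoidHom.normal_ker _
  have hcard : Nat.card (R0 u) = 27 := by
    rw [← hR, hRP]
    exact Nat.card_congr
      ((R0 u).equivMapOfInjective _ (MulAut.conj Q).injective).toEquiv
  have hSmap : (SUk F p).map (MulAut.conj Q).toMonoidHom = SUk F p := by
    rw [Subgroup.map_inf _ _ _ (MulAut.conj Q).injective, map_conj_of_mem _ Q hQU]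
    haveI := hnorm
    have : (SLk F).map (MulAut.conj Q).toMonoidHom = SLk F :=
      Subgroup.Normal.map_conj_eq (SLk F) Q
    rw [this]
  have hQ1 : ∀ (Q' : GL (Fin 3) F), Q' ∈ Cfsg.GU 3 F p → ∀ x ∈ SUk F p,
      Q' * x * Q'⁻¹ ∈ SUk F p := by
    intro Q' hQ' x hx
    exact ⟨Subgroup.mul_mem _ (Subgroup.mul_mem _ hQ' hx.1) (Subgroup.inv_mem _ hQ'),
      hnorm.conj_mem x hx.2 Q'⟩
  have hQ2 : ∀ (Q' : GL (Fin 3) F), Q' ∈ Cfsg.GU 3 F p → ∀ x ∈ SUk F p,
      Q'⁻¹ * x * Q' ∈ SUk F p := by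
    intro Q' hQ' x hx
    have := hQ1 Q'⁻¹ (Subgroup.inv_mem _ hQ') x hx
    rwa [inv_inv] at this
  have hΩ' : r ∣ (Subgroup.normalizer (R0 u : Set (GL (Fin 3) F))).relIndex (SUk F p) := by
    have h1 : (Subgroup.normalizer (R : Set (GL (Fin 3) F))).relIndex (SUk F p) =
        (Subgroup.normalizer (R0 u : Set (GL (Fin 3) F))).relIndex (SUk F p) := by
      rw [hRP, ← Subgroup.map_equiv_normalizer_eq]
      conv_lhs => rw [← hSmap]
      exact Subgroup.relIndex_map_map_of_injective _ _ (MulAut.conj Q).injective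
    rw [← h1]; exact hΩ
  have hmain := main_R0U D hF hp5 hp3 u hu hu1 hcard r hΩ'
  rw [← hmain]
  constructor
  · intro h
    have := HypG_map (SUk F p) R r Q⁻¹ (hQ1 Q⁻¹ (Subgroup.inv_mem _ hQU))
      (hQ2 Q⁻¹ (Subgroup.inv_mem _ hQU)) h
    rw [hRP, Subgroup.map_map] at this
    have hid : ((MulAut.conj Q⁻¹).toMonoidHom.comp (MulAut.conj Q).toMonoidHom) =
        MonoidHom.id (GL (Fin 3) F) := by
      ext1 g
      simp [MulAut.conj_apply, mul_assoc]
    rwa [hid, Subgroup.map_id] at this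
  · intro h
    rw [hRP]
    exact HypG_map (SUk F p) (R0 u) r Q (hQ1 Q hQU) (hQ2 Q hQU) h

end Cfsg.Agent.Lib.H15.U3
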