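/-
UP2 (unitary phase 2, helper15): the arithmetic of class 6 (UP2-F6) and of the multiplicative order of `p` modulo `r`.
-/
import Cfsg.Agent.Lib.Lead.AschUDefs
import Cfsg.Agent.Lib.H1.AschM7B
import Cfsg.Agent.Lib.H2.HermCount

set_option autoImplicit false

namespace Cfsg.Agent.Lib.H15.UP2

open Cfsg Cfsg.Geo Cfsg.Agent.Lib.Lead.Asch Cfsg.Agent.Lib.H1.Asch
open scoped MatrixGroups Matrix

variable {F : Type*} [Field F] [Fintype F] {n q : ℕ}

theorem eq_pow_of_sq {n r m : ℕ} (h : r ^ (2 * m) = n ^ 2) : n = r ^ m := by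
  have h3 : (r ^ m) ^ 2 = n ^ 2 := by rw [← pow_mul, mul_comm]; exact h
  exact (Nat.pow_left_injective (by norm_num : 2 ≠ 0) h3).symm

/-- **UP2-F6**. -/
theorem uc6_arith (hF : Fintype.card F = q ^ 2) (hn : 3 ≤ n) (r : ℕ) (R : Subgroup (GL (Fin n) F)) (p e k : ℕ)
    (h1 : IsSymplecticTypeGroup r R) (h2 : ActsAbsolutelyIrreducibly (matrixSet R))
    (h5 : IsMinimalFieldFor (Nat.card (Subgroup.center R)) p e F)
    (h6 : (Odd r ∧ Nat.card (Subgroup.center R) = r ∧ 1 ≤ k ∧ Nat.card R = r ^ (1 + 2 * k)) ∨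
      (r = 2 ∧ e = 2 ∧ Nat.card (Subgroup.center R) = 4 ∧ Nat.card R = 2 ^ (2 + 2 * k)))
    (h7 : ∀ x ∈ R, ∀ y ∈ R, x * y * x⁻¹ * y⁻¹ ∈ scalars (Fin n) F) :
    n = r ^ k ∧ 1 ≤ k ∧ ∃ j : ℕ, q = p ^ j ∧ e = 2 * j := by
  have hc : SympCore R R r :=
    { prime := h1.prime
      le := le_rfl
      norm := fun h hh x hx => R.mul_mem (R.mul_mem hh hx) (R.inv_mem hh)
      absIrr := h2
      comm := h7
      pow := by
        intro x hx
        have h1' : (⟨x, hx⟩ : ↥R) ^ Monoid.exponent ↥R = 1 := Monoid.pow_exponent_eq_one _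
        rw [h1.exponent_eq] at h1'
        have := congrArg (fun t : ↥R => (t : GL (Fin n) F)) h1'
        simpa only [Subgroup.coe_pow, Subgroup.coe_one, Subgroup.coe_mk] using this }
  have hcard := hc.card_eq (by omega)
  have hrpos : 0 < r := hc.prime.pos
  have hq : ∃ j : ℕ, q = p ^ j ∧ e = 2 * j := by
    obtain ⟨hp, _, hpe, _, _⟩ := h5
    rw [hF] at hpe
    have hdvd : q ∣ p ^ e := by rw [← hpe]; exact Dvd.intro_left _ (by ring)
    obtain ⟨j, _, hj⟩ := (Nat.dvd_prime_pow hp).1 hdvd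
    refine ⟨j, hj, ?_⟩
    rw [hj, ← pow_mul] at hpe
    exact (Nat.pow_right_injective hp.two_le hpe).symm.trans (mul_comm _ _)
  rcases h6 with h | h
  · obtain ⟨_, hz, hk1, hm⟩ := h
    rw [hz, hm, pow_add, pow_one] at hcard
    exact ⟨eq_pow_of_sq (Nat.eq_of_mul_eq_mul_left hrpos hcard), hk1, hq⟩
  · obtain ⟨hr2, _, hz, hm⟩ := h
    subst hr2
    rw [hz, hm, pow_add] at hcard
    have h4 : n = 2 ^ k := eq_pow_of_sq (Nat.eq_of_mul_eq_mul_left (by norm_num : 0 < 2 ^ 2) hcard)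
    refine ⟨h4, ?_, hq⟩
    rcases Nat.eq_zero_or_pos k with h | h
    · rw [h, pow_zero] at h4; omega
    · exact h

/-! ### the order of `p` modulo `r` -/

theorem dvd_pow_sub_one_iff (r p d : ℕ) (hr : 2 ≤ r) (hp : 0 < p) :
    r ∣ p ^ d - 1 ↔ (p % r) ^ d % r = 1 := by
  have h1 : 1 ≤ p ^ d := Nat.one_le_pow _ _ hp
  rw [← Nat.modEq_iff_dvd' h1, Nat.ModEq, Nat.pow_mod, Nat.mod_eq_of_lt (by omega : 1 < r)]
  exact eq_comm

/-- The data of `IsMinimalFieldFor z p e F` in terms of `a = p % z`. -/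
theorem minimalField_mod {z p e : ℕ} (hz : 2 ≤ z) (h : IsMinimalFieldFor z p e F) :
    0 < e ∧ (p % z) ^ e % z = 1 ∧ ∀ d : ℕ, 0 < d → d < e → (p % z) ^ d % z ≠ 1 := by
  obtain ⟨hp, _, hpe, hdvd, hmin⟩ := h
  refine ⟨?_, (dvd_pow_sub_one_iff z p e hz hp.pos).1 hdvd, fun d hd hde h1 =>
    hmin d hd hde ((dvd_pow_sub_one_iff z p d hz hp.pos).2 h1)⟩
  rcases Nat.eq_zero_or_pos e with h0 | h0
  · rw [h0, pow_zero] at hpe
    have := Fintype.one_lt_card (α := F)
    omega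
  · exact h0

theorem order_mod_3 {a e : ℕ} (ha : a < 3) (he : Even e) (he0 : 0 < e) (h1 : a ^ e % 3 = 1)
    (hmin : ∀ d : ℕ, 0 < d → d < e → a ^ d % 3 ≠ 1) : e = 2 ∧ a = 2 := by
  have hle : e ≤ 2 := by
    by_contra hlt
    have h2 := hmin 2 (by omega) (by omega)
    interval_cases a <;> simp_all
  obtain ⟨j, rfl⟩ := he
  have hj : j = 1 := by omega
  subst hj
  have h2 := hmin 1 (by omega) (by omega)
  interval_cases a <;> simp_all

theorem order_mod_4 {a : ℕ} (ha : a < 4) (h1 : a ^ 2 % 4 = 1) (h2 : a ^ 1 % 4 ≠ 1) : a = 3 := by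
  interval_cases a <;> simp_all

theorem order_mod_7 {a e : ℕ} (ha : a < 7) (he : Even e) (he0 : 0 < e) (h1 : a ^ e % 7 = 1)
    (hmin : ∀ d : ℕ, 0 < d → d < e → a ^ d % 7 ≠ 1) :
    (e = 2 ∧ a = 6) ∨ (e = 6 ∧ (a = 3 ∨ a = 5)) := by
  have ha0 : a ≠ 0 := by
    rintro rfl
    rw [zero_pow (by omega)] at h1
    simp at h1
  have hle : e ≤ 6 := by
    by_contra hlt
    have h2 := hmin 6 (by omega) (by omega)
    interval_cases a <;> simp_all
  obtain ⟨j, rfl⟩ := he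
  have hj : j = 1 ∨ j = 2 ∨ j = 3 := by omega
  rcases hj with rfl | rfl | rfl
  · have h2 := hmin 1 (by omega) (by omega)
    interval_cases a <;> simp_all
  · have h2 := hmin 2 (by omega) (by omega)
    interval_cases a <;> simp_all
  · have h2 := hmin 2 (by omega) (by omega)
    have h3 := hmin 3 (by omega) (by omega)
    interval_cases a <;> simp_all

theorem order_mod_11 {a e : ℕ} (ha : a < 11) (he : Even e) (he0 : 0 < e) (h1 : a ^ e % 11 = 1)
    (hmin : ∀ d : ℕ, 0 < d → d < e → a ^ d % 11 ≠ 1) :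
    (e = 2 ∧ a = 10) ∨ (e = 10 ∧ (a = 2 ∨ a = 6 ∨ a = 7 ∨ a = 8)) := by
  have ha0 : a ≠ 0 := by
    rintro rfl
    rw [zero_pow (by omega)] at h1
    simp at h1
  have hle : e ≤ 10 := by
    by_contra hlt
    have h2 := hmin 10 (by omega) (by omega)
    interval_cases a <;> simp_all
  obtain ⟨j, rfl⟩ := he
  have hj : j = 1 ∨ j = 2 ∨ j = 3 ∨ j = 4 ∨ j = 5 := by omega
  rcases hj with rfl | rfl | rfl | rfl | rfl
  · have h2 := hmin 1 (by omega) (by omega)
    interval_cases a <;> simp_all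
  · have h2 := hmin 2 (by omega) (by omega)
    interval_cases a <;> simp_all
  · have h2 := hmin 2 (by omega) (by omega)
    interval_cases a <;> simp_all
  · have h2 := hmin 2 (by omega) (by omega)
    interval_cases a <;> simp_all
  · have h2 := hmin 2 (by omega) (by omega)
    have h5 := hmin 5 (by omega) (by omega)
    interval_cases a <;> simp_all

end Cfsg.Agent.Lib.H15.UP2
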