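/-
UP2 (unitary phase 2, helper15): generic assembly.  A maximal subgroup of `SU_n(q)`, `n ≥ 7`, is in normal form `UNF` or residual.
-/
import Cfsg.Agent.Lib.H15.UP2F6
import Cfsg.Agent.Lib.H2.AschP2B2F1
import Cfsg.Agent.Lib.H5.AschP2B3F2
import Cfsg.Agent.Lib.H2.UP2B1
import Cfsg.Agent.Lib.H2.UP2B2
import Cfsg.Agent.Lib.H2.UP2B2p
import Cfsg.Agent.Lib.H5.UP2B3
import Cfsg.Agent.Lib.H18.UP2B4
import Cfsg.Agent.Lib.H5.UP2B5
import Cfsg.Agent.Lib.H18.UP2B6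
import Cfsg.Agent.Lib.H3.UP2B7
import Cfsg.Agent.Lib.H23.UP2E1
import Cfsg.Agent.Lib.H27.UP2E2

set_option autoImplicit false

namespace Cfsg.Agent.Lib.H15.UP2

open Cfsg Cfsg.Geo Cfsg.Agent.Lib.Lead.Asch
open scoped MatrixGroups Matrix Kronecker

variable {F : Type*} [Field F] [Fintype F] {n q : ℕ}

/-- The statement of `umain_strong` in dimension `n`. -/
def UMainStrong (n q : ℕ) (F : Type*) [Field F] [Fintype F] : Prop :=
  ∀ H : Subgroup (GL (Fin n) F), H ≤ GU n F q → UTame q H ∨ InUnitaryResidualClass H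

/-! ## A. Generic assembly (helper15; PROVED from the statements above) -/

theorem eq_inf_of_maximal {G : Type*} [Group G] {K H M : Subgroup G} (hH : IsMaximalIn K H) (hHM : H ≤ M)
    (hM : ¬ K ≤ M) : H = M ⊓ K := by
  rcases hH.2 (M ⊓ K) (le_inf hHM hH.1.le) inf_le_right with h | h
  · exact h.symm
  · exact absurd (h ▸ inf_le_left) hM

/-- Normal form of a maximal subgroup of `SU_n(q)`, `n ≥ 7`, which is not in the residual class. -/
def UNF (n q : ℕ) (F : Type*) [Field F] [Fintype F] (H : Subgroup (GL (Fin n) F)) : Prop :=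
  (∃ W : Submodule F (Fin n → F), W ≠ ⊥ ∧ IsTotallySingularFor (hermForm n F q) W ∧
      H = subspaceStabilizer W ⊓ (GU n F q ⊓ specialLinear (Fin n) F)) ∨
  (∃ W : Submodule F (Fin n → F), W ≠ ⊥ ∧ IsNondegenerateOn (hermForm n F q) W ∧ 2 * Module.finrank F W < n ∧
      H = subspaceStabilizer W ⊓ (GU n F q ⊓ specialLinear (Fin n) F)) ∨
  (∃ (t k : ℕ) (D : Fin t → Submodule F (Fin n → F)), t * k = n ∧ 2 ≤ t ∧ (k = 2 → 3 ≤ q) ∧
      IsNondegenerateMDecomposition (hermForm n F q) k D ∧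
      H = decompositionStabilizer D ⊓ (GU n F q ⊓ specialLinear (Fin n) F)) ∨
  (∃ (k : ℕ) (D : Fin 2 → Submodule F (Fin n → F)), 2 * k = n ∧ IsMDecomposition k D ∧
      (∀ i, IsTotallySingularFor (hermForm n F q) (D i)) ∧
      H = decompositionStabilizer D ⊓ (GU n F q ⊓ specialLinear (Fin n) F)) ∨
  (∃ (r : ℕ) (K : Subalgebra F (Matrix (Fin n) (Fin n) F)), r.Prime ∧ Odd r ∧ r ∣ n ∧ IsFieldSubalgebra r K ∧
      IsAdjointClosedFor (hermForm n F q) K ∧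
      H = subalgebraNormalizer K ⊓ (GU n F q ⊓ specialLinear (Fin n) F)) ∨
  (∃ (n₁ n₂ : ℕ) (e : Fin n ≃ Fin n₁ × Fin n₂) (P : GL (Fin n) F)
      (f₁ : (Fin n₁ → F) → (Fin n₁ → F) → F) (f₂ : (Fin n₂ → F) → (Fin n₂ → F) → F),
      2 ≤ n₁ ∧ n₁ < n₂ ∧ n₁ * n₂ = n ∧ (n₁ = 2 → 3 ≤ q) ∧ IsUnitaryFormPow q f₁ ∧ IsUnitaryFormPow q f₂ ∧
      IsTensorFormStructure (fun x : F => x ^ q) (hermForm n F q) f₁ f₂ e P ∧
      H = tensorProductSubgroup n₁ n₂ e P ⊓ (GU n F q ⊓ specialLinear (Fin n) F)) ∨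
  (∃ (F₀ : Subfield F) (r : ℕ) (P : GL (Fin n) F), r.Prime ∧ Odd r ∧ Fintype.card F = Nat.card F₀ ^ r ∧
      IsFormRationalStructure (hermForm n F q) F₀ 1 P ∧
      H = subfieldSubgroup F₀ P ⊓ (GU n F q ⊓ specialLinear (Fin n) F)) ∨
  (∃ (F₀ : Subfield F) (P : GL (Fin n) F), Odd q ∧ Fintype.card F = Nat.card F₀ ^ 2 ∧
      IsFormRationalStructure (hermForm n F q) F₀ 1 P ∧
      H = subfieldSubgroup F₀ P ⊓ (GU n F q ⊓ specialLinear (Fin n) F)) ∨
  (∃ (F₀ : Subfield F) (P : GL (Fin n) F) (ζ : F), Even n ∧ Fintype.card F = Nat.card F₀ ^ 2 ∧ ζ ≠ 0 ∧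
      ζ + ζ ^ q = 0 ∧ IsFormRationalStructure (hermForm n F q) F₀ ζ P ∧
      (∀ u : Fin n → F, (∀ i, u i ∈ F₀) →
        hermForm n F q ((P : Matrix (Fin n) (Fin n) F) *ᵥ u) ((P : Matrix (Fin n) (Fin n) F) *ᵥ u) = 0) ∧
      H = subfieldSubgroup F₀ P ⊓ (GU n F q ⊓ specialLinear (Fin n) F)) ∨
  (∃ (r : ℕ) (R : Subgroup (GL (Fin n) F)) (p e k j : ℕ), IsSymplecticTypeGroup r R ∧
      ActsAbsolutelyIrreducibly (matrixSet R) ∧ R ≤ similarityGroup (hermForm n F q) ∧ r ≠ p ∧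
      IsMinimalFieldFor (Nat.card (Subgroup.center R)) p e F ∧
      ((Odd r ∧ Nat.card (Subgroup.center R) = r ∧ 1 ≤ k ∧ Nat.card R = r ^ (1 + 2 * k)) ∨
       (r = 2 ∧ e = 2 ∧ Nat.card (Subgroup.center R) = 4 ∧ Nat.card R = 2 ^ (2 + 2 * k))) ∧
      n = r ^ k ∧ 1 ≤ k ∧ q = p ^ j ∧ e = 2 * j ∧
      H = subgroupNormalizer R ⊓ (GU n F q ⊓ specialLinear (Fin n) F)) ∨
  (∃ (k t : ℕ) (e : Fin n ≃ (Fin t → Fin k)) (P : GL (Fin n) F) (f₁ : (Fin k → F) → (Fin k → F) → F),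
      3 ≤ k ∧ 2 ≤ t ∧ k ^ t = n ∧ ¬ (q = 2 ∧ k = 3) ∧ IsUnitaryFormPow q f₁ ∧
      IsTensorPowerFormStructure (fun x : F => x ^ q) (hermForm n F q) f₁ e P ∧ H ≤ tensorWreathSubgroup k t e P)

theorem herm_single_self (hq : 0 < q) (i : Fin n) :
    hermForm n F q (Pi.single i 1) (Pi.single i 1) = 1 := by
  unfold hermForm
  rw [Finset.sum_eq_single i]
  · simp
  · intro j _ hji
    simp [Pi.single_apply, hji]
  · intro h; exact absurd (Finset.mem_univ i) h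

theorem urow_cases (hF : Fintype.card F = q ^ 2) (hn : 7 ≤ n) (hmain : UMainStrong n q F)
    (H : Subgroup (GL (Fin n) F)) (hH : IsMaximalIn (GU n F q ⊓ specialLinear (Fin n) F) H) :
    UNF n q F H ∨ InUnitaryResidualClass H := by
  have hHGU : H ≤ GU n F q := hH.1.le.trans inf_le_left
  rcases hmain H hHGU with hS | hres
  swap
  · exact Or.inr hres
  left
  have hq2 : 2 ≤ q := Cfsg.Agent.Lib.H2.Herm.two_le_q hF
  have c1 : ∀ W : Submodule F (Fin n → F), W ≠ ⊥ → W ≠ ⊤ → H ≤ subspaceStabilizer W →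
      H = subspaceStabilizer W ⊓ (GU n F q ⊓ specialLinear (Fin n) F) := by
    intro W h0 h1 hle
    exact eq_inf_of_maximal hH hle (Cfsg.Agent.Lib.H2.UP2.not_su_le_subspaceStabilizer hF (by omega) W h0 h1)
  have c2a : ∀ (t k : ℕ) (D : Fin t → Submodule F (Fin n → F)),
      IsNondegenerateMDecomposition (hermForm n F q) k D → H ≤ decompositionStabilizer D → UNF n q F H := by
    intro t k D hD hle
    have htk := Cfsg.Agent.Lib.H2.AschP2.mul_eq_of_isMDecomposition D hD.decomp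
    by_cases hk2 : k = 2 ∧ q = 2
    · obtain ⟨rfl, hq⟩ := hk2
      obtain ⟨D', hD', hle'⟩ := Cfsg.Agent.Lib.H23.UP2.c2_k2_q2 hF hq D hD
      have hle2 : H ≤ decompositionStabilizer D' := (le_inf hle hHGU).trans hle'
      exact Or.inr (Or.inr (Or.inl ⟨n, 1, D', by omega, by omega, fun h => by omega, hD',
        eq_inf_of_maximal hH hle2 (Cfsg.Agent.Lib.H2.UP2.not_su_le_decompositionStabilizer_one hF (by omega) D' hD')⟩))
    · have hne : ¬ GU n F q ⊓ specialLinear (Fin n) F ≤ decompositionStabilizer D := by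
        by_cases hk : 2 ≤ k
        · exact Cfsg.Agent.Lib.H2.UP2.not_su_le_decompositionStabilizer hF (by omega) D hD.decomp hk
        · have hk1 : k = 1 := by have := hD.decomp.pos; omega
          subst hk1
          exact Cfsg.Agent.Lib.H2.UP2.not_su_le_decompositionStabilizer_one hF (by omega) D hD
      exact Or.inr (Or.inr (Or.inl ⟨t, k, D, htk, hD.decomp.two_le, fun h => by omega, hD,
        eq_inf_of_maximal hH hle hne⟩))
  have c5 : ∀ (F₀ : Subfield F) (r : ℕ) (P : GL (Fin n) F), 2 ≤ r → Fintype.card F = Nat.card F₀ ^ r →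
      H ≤ subfieldSubgroup F₀ P → H = subfieldSubgroup F₀ P ⊓ (GU n F q ⊓ specialLinear (Fin n) F) := by
    intro F₀ r P hr hcard hle
    exact eq_inf_of_maximal hH hle (Cfsg.Agent.Lib.H5.UP2.not_su_le_subfieldSubgroup hF hn F₀ r P hr hcard)
  rcases hS with (h | h) | (h | h) | h | h | (h | h | h) | h | h
  · -- C1a
    obtain ⟨W, h0, hts, hle⟩ := h
    have h1 : W ≠ ⊤ := by
      rintro rfl
      have := hts (Pi.single ⟨0, by omega⟩ 1) Submodule.mem_top (Pi.single ⟨0, by omega⟩ 1) Submodule.mem_top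
      rw [herm_single_self (by omega)] at this
      exact one_ne_zero this
    exact Or.inl ⟨W, h0, hts, c1 W h0 h1 hle⟩
  · -- C1b
    obtain ⟨W, h0, hnd, hdim, hle⟩ := h
    have h1 : W ≠ ⊤ := by
      rintro rfl
      rw [finrank_top, Module.finrank_fin_fun] at hdim
      omega
    exact Or.inr (Or.inl ⟨W, h0, hnd, hdim, c1 W h0 h1 hle⟩)
  · -- C2a
    obtain ⟨t, k, D, hD, hle⟩ := h
    exact c2a t k D hD hle
  · -- C2b
    obtain ⟨k, D, h2k, hD, hts, hle⟩ := h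
    exact Or.inr (Or.inr (Or.inr (Or.inl ⟨k, D, h2k, hD, hts,
      eq_inf_of_maximal hH hle (Cfsg.Agent.Lib.H2.UP2.not_su_le_decompositionStabilizer hF (by omega) D hD (by omega))⟩)))
  · -- C3
    obtain ⟨r, K, hr, hodd, hK, hadj, hle⟩ := h
    exact Or.inr (Or.inr (Or.inr (Or.inr (Or.inl ⟨r, K, hr, hodd,
      Cfsg.Agent.Lib.H5.AschP2.dvd_of_isFieldSubalgebra (by omega) r K hK, hK, hadj,
      eq_inf_of_maximal hH hle (Cfsg.Agent.Lib.H5.UP2.not_su_le_subalgebraNormalizer hF (by omega) r K hr.two_le hK)⟩))))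
  · -- C4
    obtain ⟨n₁, n₂, e, P, f₁, f₂, h1, h2, hf1, hf2, hT, hle⟩ := h
    have hcard : n₁ * n₂ = n := by
      have := Fintype.card_congr e
      simpa [Fintype.card_prod] using this.symm
    by_cases h2q : n₁ = 2 ∧ q = 2
    · obtain ⟨rfl, hq⟩ := h2q
      obtain ⟨D, hD, hle'⟩ := Cfsg.Agent.Lib.H27.UP2.c4_two_q2 hF hq n₂ e P f₁ f₂ hf1 hf2 hT (by omega)
      exact c2a 2 n₂ D hD ((le_inf hle hHGU).trans hle')
    · exact Or.inr (Or.inr (Or.inr (Or.inr (Or.inr (Or.inl ⟨n₁, n₂, e, P, f₁, f₂, h1, h2, hcard,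
        fun h => by omega, hf1, hf2, hT,
        eq_inf_of_maximal hH hle (Cfsg.Agent.Lib.H18.UP2.not_su_le_tensorProductSubgroup hF n₁ n₂ e P h1 (by omega))⟩)))))
  · -- C5a
    obtain ⟨F₀, r, P, hr, hodd, hcard, hrat, hle⟩ := h
    exact Or.inr (Or.inr (Or.inr (Or.inr (Or.inr (Or.inr (Or.inl ⟨F₀, r, P, hr, hodd, hcard, hrat,
      c5 F₀ r P hr.two_le hcard hle⟩))))))
  · -- C5b
    obtain ⟨F₀, P, hodd, hcard, hrat, hle⟩ := h
    exact Or.inr (Or.inr (Or.inr (Or.inr (Or.inr (Or.inr (Or.inr (Or.inl ⟨F₀, P, hodd, hcard, hrat,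
      c5 F₀ 2 P le_rfl hcard hle⟩)))))))
  · -- C5c
    obtain ⟨F₀, P, ζ, hev, hcard, hζ0, hζ, hrat, hiso, hle⟩ := h
    exact Or.inr (Or.inr (Or.inr (Or.inr (Or.inr (Or.inr (Or.inr (Or.inr (Or.inl ⟨F₀, P, ζ, hev, hcard, hζ0, hζ,
      hrat, hiso, c5 F₀ 2 P le_rfl hcard hle⟩))))))))
  · -- C6
    obtain ⟨r, R, p, e, k, h1, h2, h3, h4, h5, h6, h7, hle⟩ := h
    obtain ⟨hnk, hk1, j, hqj, hej⟩ := uc6_arith hF (by omega) r R p e k h1 h2 h5 h6 h7
    exact Or.inr (Or.inr (Or.inr (Or.inr (Or.inr (Or.inr (Or.inr (Or.inr (Or.inr (Or.inl ⟨r, R, p, e, k, j,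
      h1, h2, h3, h4, h5, h6, hnk, hk1, hqj, hej,
      eq_inf_of_maximal hH hle (Cfsg.Agent.Lib.H18.UP2.not_su_le_subgroupNormalizer hF (by omega) R h2 h7)⟩)))))))))
  · -- C7
    obtain ⟨k, t, e, P, f₁, h1, h2, h3, h4, h5, hle⟩ := h
    have hcard : k ^ t = n := by
      have := Fintype.card_congr e
      simpa using this.symm
    exact Or.inr (Or.inr (Or.inr (Or.inr (Or.inr (Or.inr (Or.inr (Or.inr (Or.inr (Or.inr ⟨k, t, e, P, f₁,
      h1, h2, hcard, h3, h4, h5, hle⟩)))))))))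

end Cfsg.Agent.Lib.H15.UP2
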