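/-
UP2 (unitary phase 2, helper15): `umain_strong` in the dimensions where the special tensor cases `2 ⊗ 2` (n = 4) and
`3 ⊗ 3` over `F_4` (n = 9, q = 2) of the module UM4 do not occur.
-/
import Cfsg.Agent.Lib.Lead.AschUMain
import Cfsg.Agent.Lib.H20.AschUT4
import Cfsg.Agent.Lib.H20.AschUM4S
import Cfsg.Agent.Lib.H20.AschUM4Pw
import Cfsg.Agent.Lib.H15.UP2Gen

set_option autoImplicit false

namespace Cfsg.Agent.Lib.H15.UP2

open Cfsg Cfsg.Geo Cfsg.Agent.Lib.Lead.Asch Cfsg.Agent.Lib.H20.Asch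
open scoped MatrixGroups Matrix Kronecker

variable {F : Type*} [Field F] [Fintype F] {n q : ℕ}

theorem utame_of_kronecker_of_ne (hF : Fintype.card F = q ^ 2) (hn4 : n ≠ 4) (hn9 : n ≠ 9 ∨ q ≠ 2)
    (H : Subgroup (GL (Fin n) F))
    (hHU : H ≤ GU n F q) {d k : ℕ} (hd : 2 ≤ d) (hk : 2 ≤ k) (e : Fin n ≃ Fin d × Fin k) (P : GL (Fin n) F)
    (f₁ : (Fin d → F) → (Fin d → F) → F) (f₂ : (Fin k → F) → (Fin k → F) → F)
    (h₁ : IsUnitaryFormPow q f₁) (h₂ : IsUnitaryFormPow q f₂)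
    (hform : IsTensorFormStructure (fun x : F => x ^ q) (hermForm n F q) f₁ f₂ e P⁻¹)
    (hH : ∀ h ∈ H, glReindex e (P * h * P⁻¹) ∈ kroneckerSubgroup d k F) :
    UC4 q H ∨ UC7 q H ∨ UC5 q H ∨ UC6 q H := by
  have hcard : d * k = n := by
    have := Fintype.card_congr e
    simpa [Fintype.card_prod] using this.symm
  rcases lt_trichotomy d k with hlt | heq | hgt
  · exact Or.inl ⟨d, k, e, P⁻¹, f₁, f₂, hd, hlt, h₁, h₂, hform, le_tensorProductSubgroup H e P hH⟩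
  · subst heq
    have h3 : 3 ≤ d := by
      by_contra hlt
      have h2 : d = 2 := by omega
      subst h2
      omega
    have hq3 : ¬ (q = 2 ∧ d = 3) := by
      rintro ⟨hq2, rfl⟩
      rcases hn9 with h | h
      · omega
      · exact h hq2
    exact Or.inr (Or.inl (uc7_of_kronecker_eq hF H h3 hq3 e P f₁ f₂ h₁ h₂ hform hH))
  · refine Or.inl ⟨k, d, e.trans (Equiv.prodComm (Fin d) (Fin k)), P⁻¹, f₂, f₁, hk, hgt, h₂, h₁,
      isTensorFormStructure_swap _ _ f₁ f₂ e P⁻¹ hform, ?_⟩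
    apply le_tensorProductSubgroup H (e.trans (Equiv.prodComm (Fin d) (Fin k))) P
    intro h hh
    rw [glReindex_trans]
    exact prodComm_mem_kronecker _ (hH h hh)

theorem um4_of_ne (hF : Fintype.card F = q ^ 2) (hn : 3 ≤ n) (hn4 : n ≠ 4) (hn9 : n ≠ 9 ∨ q ≠ 2)
    (H : Subgroup (GL (Fin n) F)) (hH : H ≤ GU n F q) : UM4Stmt q H := by
  intro N hNH hnorm D habs hd hk
  obtain ⟨f₁, f₂, h₁, h₂, hform, _⟩ := exists_tensor_form hF N (hNH.trans hH) D habs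
  exact utame_of_kronecker_of_ne hF hn4 hn9 H hH hd hk D.e D.P f₁ f₂ h₁ h₂ hform fun h hh =>
    mem_kronecker_of_homog H N hnorm D habs (by omega) (by omega) h hh

/-- `umain_strong` for `n ≠ 4` and `(n, q) ≠ (9, 2)`. -/
theorem umainStrong_of_ne (hF : Fintype.card F = q ^ 2) (hn : 3 ≤ n) (hn4 : n ≠ 4) (hn9 : n ≠ 9 ∨ q ≠ 2) :
    UMainStrong n q F := fun H hH =>
  umain_strong_of hF hn H hH (um4_of_ne hF hn hn4 hn9 H hH)

end Cfsg.Agent.Lib.H15.UP2
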