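/-
UP2 (unitary phase 2, helper15): a group of similarities of the hermitian form whose exponent is prime to `q - 1`
consists of isometries.
-/
import Cfsg.Agent.Lib.H15.UP2Base

set_option autoImplicit false
set_option linter.unusedSectionVars false
set_option linter.unusedVariables false

namespace Cfsg.Agent.Lib.H15.UP2

open Cfsg Cfsg.Geo Cfsg.Agent.Lib.H15.SUGen Cfsg.Agent.Lib.H2.Herm
open scoped MatrixGroups Matrix

variable {F : Type*} [Field F] [Fintype F] {n q : ℕ}

theorem sim_pow (x : GL (Fin n) F) (c : F)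
    (hx : ∀ u v, hermForm n F q ((x : Matrix (Fin n) (Fin n) F) *ᵥ u) ((x : Matrix (Fin n) (Fin n) F) *ᵥ v) =
      c * hermForm n F q u v) (k : ℕ) (u v : Fin n → F) :
    hermForm n F q (((x ^ k : GL (Fin n) F) : Matrix (Fin n) (Fin n) F) *ᵥ u)
      (((x ^ k : GL (Fin n) F) : Matrix (Fin n) (Fin n) F) *ᵥ v) = c ^ k * hermForm n F q u v := by
  induction k generalizing u v with
  | zero => simp
  | succ k ih =>
    rw [pow_succ, Units.val_mul, ← Matrix.mulVec_mulVec, ← Matrix.mulVec_mulVec, ih, hx, pow_succ, mul_assoc]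

theorem le_GU_of_exponent (hF : Fintype.card F = q ^ 2) (hn : 0 < n) (R : Subgroup (GL (Fin n) F)) (r : ℕ)
    (hR : R ≤ similarityGroup (hermForm n F q)) (hexp : ∀ x ∈ R, x ^ r = 1)
    (hcop : Nat.Coprime r (q - 1)) : R ≤ GU n F q := by
  intro x hxR
  obtain ⟨c, hc⟩ := hR hxR
  have hq := two_le_q hF
  set e0 : Fin n → F := Pi.single ⟨0, hn⟩ 1 with he0
  have h11 : hermForm n F q e0 e0 = 1 := by
    show hf q (Pi.single ⟨0, hn⟩ 1) (Pi.single ⟨0, hn⟩ 1) = 1
    rw [hf_single_left hF]
    simp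
  -- c is fixed by Frobenius
  have hcq : (c : F) ^ q = c := by
    have h1 := hc e0 e0
    rw [h11, mul_one] at h1
    rw [← h1]
    exact hf_conj hF _ _
  have hcq1 : c ^ (q - 1) = 1 := by
    apply Units.ext
    rw [Units.val_pow_eq_pow_val, Units.val_one]
    have h3 : (c : F) * (c : F) ^ (q - 1) = (c : F) * 1 := by
      rw [← pow_succ', Nat.sub_add_cancel (by omega), hcq, mul_one]
    exact mul_left_cancel₀ c.ne_zero h3
  have hcr : c ^ r = 1 := by
    apply Units.ext
    rw [Units.val_pow_eq_pow_val, Units.val_one]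
    have h1 := sim_pow x (c : F) hc r e0 e0
    rw [hexp x hxR, Units.val_one, Matrix.one_mulVec, h11, mul_one] at h1
    exact h1.symm
  have hc1 : c = 1 := by
    have h1 := orderOf_dvd_of_pow_eq_one hcr
    have h2 := orderOf_dvd_of_pow_eq_one hcq1
    have h3 : orderOf c ∣ 1 := by
      have := Nat.dvd_gcd h1 h2
      rwa [hcop] at this
    exact orderOf_eq_one_iff.1 (Nat.dvd_one.1 h3)
  rw [mem_GU_iff]
  intro u v
  rw [hc, hc1, Units.val_one, one_mul]

end Cfsg.Agent.Lib.H15.UP2
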