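/-
UP2 (unitary phase 2, helper15): the row n = 11 (S5856) from the statement of `umain_strong`.
-/
import Cfsg.Agent.Lib.H15.UP2Gen
import Cfsg.Agent.Lib.H15.UP2Sim
set_option autoImplicit false
set_option maxHeartbeats 1000000

namespace Cfsg.Agent.Lib.H15.UP2

open Cfsg Cfsg.Geo Cfsg.Agent.Lib.Lead.Asch
open scoped MatrixGroups Matrix Kronecker

theorem row11 {F : Type*} [Field F] [Fintype F] (q : ℕ) (hF : Fintype.card F = q ^ 2)
    (hmain : UMainStrong 11 q F) (H : Subgroup (Matrix.GeneralLinearGroup (Fin 11) F))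
    (hH : Cfsg.Geo.IsMaximalIn (Cfsg.GU 11 F q ⊓ Cfsg.Geo.specialLinear (Fin 11) F) H) :
    (∃ W : Submodule F (Fin 11 → F), W ≠ ⊥ ∧ Cfsg.Geo.IsTotallySingularFor (Cfsg.hermForm 11 F q) W ∧ H = Cfsg.Geo.subspaceStabilizer W ⊓ (Cfsg.GU 11 F q ⊓ Cfsg.Geo.specialLinear (Fin 11) F)) ∨
    (∃ W : Submodule F (Fin 11 → F), W ≠ ⊥ ∧ Cfsg.Geo.IsNondegenerateOn (Cfsg.hermForm 11 F q) W ∧ 2 * Module.finrank F W < 11 ∧ H = Cfsg.Geo.subspaceStabilizer W ⊓ (Cfsg.GU 11 F q ⊓ Cfsg.Geo.specialLinear (Fin 11) F)) ∨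
    (∃ D : Fin 11 → Submodule F (Fin 11 → F), Cfsg.Geo.IsNondegenerateMDecomposition (Cfsg.hermForm 11 F q) 1 D ∧ H = Cfsg.Geo.decompositionStabilizer D ⊓ (Cfsg.GU 11 F q ⊓ Cfsg.Geo.specialLinear (Fin 11) F)) ∨
    (∃ K : Subalgebra F (Matrix (Fin 11) (Fin 11) F), Cfsg.Geo.IsFieldSubalgebra 11 K ∧ Cfsg.Geo.IsAdjointClosedFor (Cfsg.hermForm 11 F q) K ∧ H = Cfsg.Geo.subalgebraNormalizer K ⊓ (Cfsg.GU 11 F q ⊓ Cfsg.Geo.specialLinear (Fin 11) F)) ∨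
    (∃ (F₀ : Subfield F) (r : ℕ) (P : Matrix.GeneralLinearGroup (Fin 11) F), r.Prime ∧ Odd r ∧ Fintype.card F = Nat.card F₀ ^ r ∧ Cfsg.Geo.IsFormRationalStructure (Cfsg.hermForm 11 F q) F₀ 1 P ∧ H = Cfsg.Geo.subfieldSubgroup F₀ P ⊓ (Cfsg.GU 11 F q ⊓ Cfsg.Geo.specialLinear (Fin 11) F)) ∨
    (Odd q ∧ ∃ (F₀ : Subfield F) (P : Matrix.GeneralLinearGroup (Fin 11) F), Fintype.card F = Nat.card F₀ ^ 2 ∧ Cfsg.Geo.IsFormRationalStructure (Cfsg.hermForm 11 F q) F₀ 1 P ∧ H = Cfsg.Geo.subfieldSubgroup F₀ P ⊓ (Cfsg.GU 11 F q ⊓ Cfsg.Geo.specialLinear (Fin 11) F)) ∨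
    (∃ (p : ℕ) (R : Subgroup (Matrix.GeneralLinearGroup (Fin 11) F)), p.Prime ∧ CharP F p ∧ ((q = p ∧ p % 11 = 10) ∨ (q = p ^ 5 ∧ (p % 11 = 2 ∨ p % 11 = 6 ∨ p % 11 = 7 ∨ p % 11 = 8))) ∧ Cfsg.Geo.IsSymplecticTypeGroup 11 R ∧ Cfsg.Geo.ActsAbsolutelyIrreducibly (Cfsg.Geo.matrixSet R) ∧ R ≤ Cfsg.GU 11 F q ∧ Nat.card R = 1331 ∧ Nat.card (Subgroup.center R) = 11 ∧ H = Cfsg.Geo.subgroupNormalizer R ⊓ (Cfsg.GU 11 F q ⊓ Cfsg.Geo.specialLinear (Fin 11) F)) ∨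
    Cfsg.Geo.InUnitaryResidualClass H := by
  rcases urow_cases hF (by norm_num) hmain H hH with h | h
  swap
  · exact Or.inr (Or.inr (Or.inr (Or.inr (Or.inr (Or.inr (Or.inr (h)))))))
  rcases h with h | h | h | h | h | h | h | h | h | h | h
  · exact Or.inl (h)
  · exact Or.inr (Or.inl (h))
  · -- C2a
    obtain ⟨t, k, D, htk, ht2, hk2, hD, hHeq⟩ := h
    have htd : t ∣ 11 := Dvd.intro _ htk
    rcases (Nat.dvd_prime (by norm_num : Nat.Prime 11)).1 htd with rfl | rfl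
    · omega
    · have hk : k = 1 := by omega
      subst hk
      exact Or.inr (Or.inr (Or.inl (⟨D, hD, hHeq⟩)))
  · -- C2b
    obtain ⟨k, D, h2k, _⟩ := h
    omega
  · -- C3
    obtain ⟨r, K, hr, hodd, hdvd, hK, hadj, hHeq⟩ := h
    rcases (Nat.dvd_prime (by norm_num : Nat.Prime 11)).1 hdvd with rfl | rfl
    · exact absurd hr Nat.not_prime_one
    · exact Or.inr (Or.inr (Or.inr (Or.inl (⟨K, hK, hadj, hHeq⟩))))
  · -- C4
    obtain ⟨n₁, n₂, e, P, f₁, f₂, h1, h2, hmul, _⟩ := h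
    exfalso
    have hd : n₁ ∣ 11 := Dvd.intro _ hmul
    rcases (Nat.dvd_prime (by norm_num : Nat.Prime 11)).1 hd with rfl | rfl
    · omega
    · have : n₂ = 1 := by omega
      omega
  · exact Or.inr (Or.inr (Or.inr (Or.inr (Or.inl (h)))))
  · -- C5b
    obtain ⟨F₀, P, hodd, hcard, hrat, hHeq⟩ := h
    exact Or.inr (Or.inr (Or.inr (Or.inr (Or.inr (Or.inl (⟨hodd, F₀, P, hcard, hrat, hHeq⟩))))))
  · -- C5c
    obtain ⟨F₀, P, ζ, hev, _⟩ := h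
    exact absurd hev (by decide)
  · -- C6
    obtain ⟨r, R, p, e, k, j, h1, h2, h3, h4, h5, h6, hnk, hk1, hqj, hej, hHeq⟩ := h
    obtain ⟨rfl, rfl⟩ := (Nat.Prime.pow_eq_iff (by norm_num : Nat.Prime 11)).1 hnk.symm
    rcases h6 with h6 | h6
    swap
    · omega
    obtain ⟨_, hz, _, hcardR⟩ := h6
    rw [hz] at h5
    obtain ⟨he0, hpow, hmin⟩ := minimalField_mod (by norm_num) h5
    have hp := h5.1
    have hchar := h5.2.1
    have hlt : p % 11 < 11 := Nat.mod_lt _ (by norm_num)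
    have hGU : R ≤ GU 11 F q := by
      refine le_GU_of_exponent hF (by norm_num) R 11 h3 ?_ ?_
      · intro x hx
        have h1' : (⟨x, hx⟩ : ↥R) ^ Monoid.exponent ↥R = 1 := Monoid.pow_exponent_eq_one _
        rw [h1.exponent_eq] at h1'
        have := congrArg (fun t : ↥R => (t : GL (Fin 11) F)) h1'
        have h11 : 11 * Nat.gcd 2 11 = 11 := by norm_num
        rw [h11] at this
        simpa only [Subgroup.coe_pow, Subgroup.coe_one, Subgroup.coe_mk] using this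
      · rw [Nat.Prime.coprime_iff_not_dvd (by norm_num : Nat.Prime 11)]
        have hmin' := h5.2.2.2.2 j (by omega) (by omega)
        rw [hqj]
        exact hmin'
    rcases order_mod_11 hlt ⟨j, by omega⟩ he0 hpow hmin with ⟨he, ha⟩ | ⟨he, ha⟩
    · have hj : j = 1 := by omega
      subst hj
      rw [pow_one] at hqj
      exact Or.inr (Or.inr (Or.inr (Or.inr (Or.inr (Or.inr (Or.inl (⟨p, R, hp, hchar, Or.inl ⟨hqj, ha⟩, h1, h2, hGU, by rw [hcardR]; norm_num, hz, hHeq⟩)))))))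
    · have hj : j = 5 := by omega
      subst hj
      exact Or.inr (Or.inr (Or.inr (Or.inr (Or.inr (Or.inr (Or.inl (⟨p, R, hp, hchar, Or.inr ⟨hqj, ha⟩, h1, h2, hGU, by rw [hcardR]; norm_num, hz, hHeq⟩)))))))
  · -- C7
    obtain ⟨k, t, e, P, f₁, h1, h2, hkt, _⟩ := h
    exfalso
    have h9 : 3 ^ 2 ≤ k ^ t := (Nat.pow_le_pow_left h1 2).trans (Nat.pow_le_pow_right (by omega) h2)
    have hk11 : k ∣ 11 := by rw [← hkt]; exact dvd_pow_self k (by omega)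
    rcases (Nat.dvd_prime (by norm_num : Nat.Prime 11)).1 hk11 with rfl | rfl
    · omega
    · have : 11 ^ 2 ≤ 11 ^ t := Nat.pow_le_pow_right (by norm_num) h2
      omega

end Cfsg.Agent.Lib.H15.UP2
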