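/-
UP2 (unitary phase 2, helper15): the row n = 12 (S5865) from the statement of `umain_strong`.
-/
import Cfsg.Agent.Lib.H15.UP2Gen

set_option autoImplicit false
set_option maxHeartbeats 1000000

namespace Cfsg.Agent.Lib.H15.UP2

open Cfsg Cfsg.Geo Cfsg.Agent.Lib.Lead.Asch
open scoped MatrixGroups Matrix Kronecker

theorem row12 {F : Type*} [Field F] [Fintype F] (q : ℕ) (hF : Fintype.card F = q ^ 2)
    (hmain : UMainStrong 12 q F) (H : Subgroup (Matrix.GeneralLinearGroup (Fin 12) F))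
    (hH : Cfsg.Geo.IsMaximalIn (Cfsg.GU 12 F q ⊓ Cfsg.Geo.specialLinear (Fin 12) F) H) :
    (∃ W : Submodule F (Fin 12 → F), W ≠ ⊥ ∧ Cfsg.Geo.IsTotallySingularFor (Cfsg.hermForm 12 F q) W ∧ H = Cfsg.Geo.subspaceStabilizer W ⊓ (Cfsg.GU 12 F q ⊓ Cfsg.Geo.specialLinear (Fin 12) F)) ∨
    (∃ W : Submodule F (Fin 12 → F), W ≠ ⊥ ∧ Cfsg.Geo.IsNondegenerateOn (Cfsg.hermForm 12 F q) W ∧ 2 * Module.finrank F W < 12 ∧ H = Cfsg.Geo.subspaceStabilizer W ⊓ (Cfsg.GU 12 F q ⊓ Cfsg.Geo.specialLinear (Fin 12) F)) ∨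
    (∃ D : Fin 12 → Submodule F (Fin 12 → F), Cfsg.Geo.IsNondegenerateMDecomposition (Cfsg.hermForm 12 F q) 1 D ∧ H = Cfsg.Geo.decompositionStabilizer D ⊓ (Cfsg.GU 12 F q ⊓ Cfsg.Geo.specialLinear (Fin 12) F)) ∨
    (3 ≤ q ∧ ∃ D : Fin 6 → Submodule F (Fin 12 → F), Cfsg.Geo.IsNondegenerateMDecomposition (Cfsg.hermForm 12 F q) 2 D ∧ H = Cfsg.Geo.decompositionStabilizer D ⊓ (Cfsg.GU 12 F q ⊓ Cfsg.Geo.specialLinear (Fin 12) F)) ∨
    (∃ D : Fin 4 → Submodule F (Fin 12 → F), Cfsg.Geo.IsNondegenerateMDecomposition (Cfsg.hermForm 12 F q) 3 D ∧ H = Cfsg.Geo.decompositionStabilizer D ⊓ (Cfsg.GU 12 F q ⊓ Cfsg.Geo.specialLinear (Fin 12) F)) ∨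
    (∃ D : Fin 3 → Submodule F (Fin 12 → F), Cfsg.Geo.IsNondegenerateMDecomposition (Cfsg.hermForm 12 F q) 4 D ∧ H = Cfsg.Geo.decompositionStabilizer D ⊓ (Cfsg.GU 12 F q ⊓ Cfsg.Geo.specialLinear (Fin 12) F)) ∨
    (∃ D : Fin 2 → Submodule F (Fin 12 → F), Cfsg.Geo.IsNondegenerateMDecomposition (Cfsg.hermForm 12 F q) 6 D ∧ H = Cfsg.Geo.decompositionStabilizer D ⊓ (Cfsg.GU 12 F q ⊓ Cfsg.Geo.specialLinear (Fin 12) F)) ∨
    (∃ D : Fin 2 → Submodule F (Fin 12 → F), Cfsg.Geo.IsMDecomposition 6 D ∧ (∀ i, Cfsg.Geo.IsTotallySingularFor (Cfsg.hermForm 12 F q) (D i)) ∧ H = Cfsg.Geo.decompositionStabilizer D ⊓ (Cfsg.GU 12 F q ⊓ Cfsg.Geo.specialLinear (Fin 12) F)) ∨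
    (∃ K : Subalgebra F (Matrix (Fin 12) (Fin 12) F), Cfsg.Geo.IsFieldSubalgebra 3 K ∧ Cfsg.Geo.IsAdjointClosedFor (Cfsg.hermForm 12 F q) K ∧ H = Cfsg.Geo.subalgebraNormalizer K ⊓ (Cfsg.GU 12 F q ⊓ Cfsg.Geo.specialLinear (Fin 12) F)) ∨
    (3 ≤ q ∧ ∃ (e : Fin 12 ≃ Fin 2 × Fin 6) (P : Matrix.GeneralLinearGroup (Fin 12) F) (f₁ : (Fin 2 → F) → (Fin 2 → F) → F) (f₂ : (Fin 6 → F) → (Fin 6 → F) → F), Cfsg.Geo.IsUnitaryFormPow q f₁ ∧ Cfsg.Geo.IsUnitaryFormPow q f₂ ∧ Cfsg.Geo.IsTensorFormStructure (fun x : F => x ^ q) (Cfsg.hermForm 12 F q) f₁ f₂ e P ∧ H = Cfsg.Geo.tensorProductSubgroup 2 6 e P ⊓ (Cfsg.GU 12 F q ⊓ Cfsg.Geo.specialLinear (Fin 12) F)) ∨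
    (∃ (e : Fin 12 ≃ Fin 3 × Fin 4) (P : Matrix.GeneralLinearGroup (Fin 12) F) (f₁ : (Fin 3 → F) → (Fin 3 → F) → F) (f₂ : (Fin 4 → F) → (Fin 4 → F) → F), Cfsg.Geo.IsUnitaryFormPow q f₁ ∧ Cfsg.Geo.IsUnitaryFormPow q f₂ ∧ Cfsg.Geo.IsTensorFormStructure (fun x : F => x ^ q) (Cfsg.hermForm 12 F q) f₁ f₂ e P ∧ H = Cfsg.Geo.tensorProductSubgroup 3 4 e P ⊓ (Cfsg.GU 12 F q ⊓ Cfsg.Geo.specialLinear (Fin 12) F)) ∨
    (∃ (F₀ : Subfield F) (r : ℕ) (P : Matrix.GeneralLinearGroup (Fin 12) F), r.Prime ∧ Odd r ∧ Fintype.card F = Nat.card F₀ ^ r ∧ Cfsg.Geo.IsFormRationalStructure (Cfsg.hermForm 12 F q) F₀ 1 P ∧ H = Cfsg.Geo.subfieldSubgroup F₀ P ⊓ (Cfsg.GU 12 F q ⊓ Cfsg.Geo.specialLinear (Fin 12) F)) ∨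
    (∃ (F₀ : Subfield F) (P : Matrix.GeneralLinearGroup (Fin 12) F) (ζ : F), Fintype.card F = Nat.card F₀ ^ 2 ∧ ζ ≠ 0 ∧ ζ + ζ ^ q = 0 ∧ Cfsg.Geo.IsFormRationalStructure (Cfsg.hermForm 12 F q) F₀ ζ P ∧ (∀ u : Fin 12 → F, (∀ i, u i ∈ F₀) → (Cfsg.hermForm 12 F q) (Matrix.mulVec (P : Matrix (Fin 12) (Fin 12) F) u) (Matrix.mulVec (P : Matrix (Fin 12) (Fin 12) F) u) = 0) ∧ H = Cfsg.Geo.subfieldSubgroup F₀ P ⊓ (Cfsg.GU 12 F q ⊓ Cfsg.Geo.specialLinear (Fin 12) F)) ∨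
    (Odd q ∧ ∃ (F₀ : Subfield F) (P : Matrix.GeneralLinearGroup (Fin 12) F), Fintype.card F = Nat.card F₀ ^ 2 ∧ Cfsg.Geo.IsFormRationalStructure (Cfsg.hermForm 12 F q) F₀ 1 P ∧ H = Cfsg.Geo.subfieldSubgroup F₀ P ⊓ (Cfsg.GU 12 F q ⊓ Cfsg.Geo.specialLinear (Fin 12) F)) ∨
    Cfsg.Geo.InUnitaryResidualClass H := by
  have hq2 : 2 ≤ q := Cfsg.Agent.Lib.H2.Herm.two_le_q hF
  rcases urow_cases hF (by norm_num) hmain H hH with h | h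
  swap
  · exact Or.inr (Or.inr (Or.inr (Or.inr (Or.inr (Or.inr (Or.inr (Or.inr (Or.inr (Or.inr (Or.inr (Or.inr (Or.inr (Or.inr (h))))))))))))))
  rcases h with h | h | h | h | h | h | h | h | h | h | h
  · exact Or.inl (h)
  · exact Or.inr (Or.inl (h))
  · -- C2a
    obtain ⟨t, k, D, htk, ht2, hk2, hD, hHeq⟩ := h
    have ht9 : t ≤ 12 := Nat.le_of_dvd (by norm_num) (Dvd.intro _ htk)
    interval_cases t
    · have hk : k = 6 := by omega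
      subst hk
      exact Or.inr (Or.inr (Or.inr (Or.inr (Or.inr (Or.inr (Or.inl (⟨D, hD, hHeq⟩)))))))
    · have hk : k = 4 := by omega
      subst hk
      exact Or.inr (Or.inr (Or.inr (Or.inr (Or.inr (Or.inl (⟨D, hD, hHeq⟩))))))
    · have hk : k = 3 := by omega
      subst hk
      exact Or.inr (Or.inr (Or.inr (Or.inr (Or.inl (⟨D, hD, hHeq⟩)))))
    · omega
    · have hk : k = 2 := by omega
      subst hk
      exact Or.inr (Or.inr (Or.inr (Or.inl (⟨hk2 rfl, D, hD, hHeq⟩))))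
    · omega
    · omega
    · omega
    · omega
    · omega
    · have hk : k = 1 := by omega
      subst hk
      exact Or.inr (Or.inr (Or.inl (⟨D, hD, hHeq⟩)))
  · -- C2b
    obtain ⟨k, D, h2k, hD, hts, hHeq⟩ := h
    have hk : k = 6 := by omega
    subst hk
    exact Or.inr (Or.inr (Or.inr (Or.inr (Or.inr (Or.inr (Or.inr (Or.inl (⟨D, hD, hts, hHeq⟩))))))))
  · -- C3
    obtain ⟨r, K, hr, hodd, hdvd, hK, hadj, hHeq⟩ := h
    have h3 : r = 3 := by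
      have h25 : r ∣ 2 ^ 2 * 3 := by norm_num; exact hdvd
      rcases (Nat.Prime.dvd_mul hr).1 h25 with h | h
      · have h2 : r = 2 := (Nat.prime_dvd_prime_iff_eq hr Nat.prime_two).1 (hr.dvd_of_dvd_pow h)
        subst h2
        exact absurd hodd (by decide)
      · exact (Nat.prime_dvd_prime_iff_eq hr Nat.prime_three).1 h
    subst h3
    exact Or.inr (Or.inr (Or.inr (Or.inr (Or.inr (Or.inr (Or.inr (Or.inr (Or.inl (⟨K, hK, hadj, hHeq⟩)))))))))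
  · -- C4
    obtain ⟨n₁, n₂, e, P, f₁, f₂, h1, h2, hmul, hq3, hf1, hf2, hT, hHeq⟩ := h
    have h9 : n₁ ≤ 12 := Nat.le_of_dvd (by norm_num) (Dvd.intro _ hmul)
    have hn1 : n₁ = 2 ∨ n₁ = 3 := by interval_cases n₁ <;> omega
    rcases hn1 with rfl | rfl
    · have hn2 : n₂ = 6 := by omega
      subst hn2
      exact Or.inr (Or.inr (Or.inr (Or.inr (Or.inr (Or.inr (Or.inr (Or.inr (Or.inr (Or.inl (⟨hq3 rfl, e, P, f₁, f₂, hf1, hf2, hT, hHeq⟩))))))))))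
    · have hn2 : n₂ = 4 := by omega
      subst hn2
      exact Or.inr (Or.inr (Or.inr (Or.inr (Or.inr (Or.inr (Or.inr (Or.inr (Or.inr (Or.inr (Or.inl (⟨e, P, f₁, f₂, hf1, hf2, hT, hHeq⟩)))))))))))
  · exact Or.inr (Or.inr (Or.inr (Or.inr (Or.inr (Or.inr (Or.inr (Or.inr (Or.inr (Or.inr (Or.inr (Or.inl (h))))))))))))
  · -- C5b
    obtain ⟨F₀, P, hodd, hcard, hrat, hHeq⟩ := h
    exact Or.inr (Or.inr (Or.inr (Or.inr (Or.inr (Or.inr (Or.inr (Or.inr (Or.inr (Or.inr (Or.inr (Or.inr (Or.inr (Or.inl (⟨hodd, F₀, P, hcard, hrat, hHeq⟩))))))))))))))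
  · -- C5c
    obtain ⟨F₀, P, ζ, hev, hcard, hζ0, hζ, hrat, hiso, hHeq⟩ := h
    exact Or.inr (Or.inr (Or.inr (Or.inr (Or.inr (Or.inr (Or.inr (Or.inr (Or.inr (Or.inr (Or.inr (Or.inr (Or.inl (⟨F₀, P, ζ, hcard, hζ0, hζ, hrat, hiso, hHeq⟩)))))))))))))
  · -- C6
    obtain ⟨r, R, p, e, k, j, h1, h2, h3, h4, h5, h6, hnk, hk1, hqj, hej, hHeq⟩ := h
    exfalso
    have hr := h1.prime
    have hr2 := hr.two_le
    have hrle : r ≤ 12 := by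
      have : r ∣ r ^ k := dvd_pow_self r (by omega)
      rw [← hnk] at this
      exact Nat.le_of_dvd (by norm_num) this
    have hk3 : k ≤ 3 := by
      by_contra hlt
      have h1' : 2 ^ 4 ≤ 2 ^ k := Nat.pow_le_pow_right (by norm_num) (by omega)
      have h2' : 2 ^ k ≤ r ^ k := Nat.pow_le_pow_left hr2 k
      omega
    interval_cases r <;> interval_cases k <;> first | (norm_num at hnk; done) | (norm_num at hr; done)
  · -- C7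
    obtain ⟨k, t, e, P, f₁, h1, h2, hkt, _⟩ := h
    exfalso
    have hk3 : k = 3 := by
      have h9 : k ^ 2 ≤ k ^ t := Nat.pow_le_pow_right (by omega) h2
      have : k ^ 2 ≤ 12 := by omega
      nlinarith
    subst hk3
    have ht3 : t ≤ 2 := by
      by_contra hlt
      have h1' : 3 ^ 3 ≤ 3 ^ t := Nat.pow_le_pow_right (by norm_num) (by omega)
      omega
    interval_cases t
    norm_num at hkt

end Cfsg.Agent.Lib.H15.UP2
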