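/-
UP2 (unitary phase 2, helper15): the row n = 7 (S5811) from the statement of `umain_strong`.
-/
import Cfsg.Agent.Lib.H15.UP2Gen

set_option autoImplicit false
set_option maxHeartbeats 1000000

namespace Cfsg.Agent.Lib.H15.UP2

open Cfsg Cfsg.Geo Cfsg.Agent.Lib.Lead.Asch
open scoped MatrixGroups Matrix Kronecker

theorem row7 {F : Type*} [Field F] [Fintype F] (q : ℕ) (hF : Fintype.card F = q ^ 2)
    (hmain : UMainStrong 7 q F) (H : Subgroup (Matrix.GeneralLinearGroup (Fin 7) F))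
    (hH : Cfsg.Geo.IsMaximalIn (Cfsg.GU 7 F q ⊓ Cfsg.Geo.specialLinear (Fin 7) F) H) :
    (∃ W : Submodule F (Fin 7 → F), W ≠ ⊥ ∧ Cfsg.Geo.IsTotallySingularFor (Cfsg.hermForm 7 F q) W ∧ H = Cfsg.Geo.subspaceStabilizer W ⊓ (Cfsg.GU 7 F q ⊓ Cfsg.Geo.specialLinear (Fin 7) F)) ∨
    (∃ W : Submodule F (Fin 7 → F), W ≠ ⊥ ∧ Cfsg.Geo.IsNondegenerateOn (Cfsg.hermForm 7 F q) W ∧ 2 * Module.finrank F W < 7 ∧ H = Cfsg.Geo.subspaceStabilizer W ⊓ (Cfsg.GU 7 F q ⊓ Cfsg.Geo.specialLinear (Fin 7) F)) ∨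
    (∃ D : Fin 7 → Submodule F (Fin 7 → F), Cfsg.Geo.IsNondegenerateMDecomposition (Cfsg.hermForm 7 F q) 1 D ∧ H = Cfsg.Geo.decompositionStabilizer D ⊓ (Cfsg.GU 7 F q ⊓ Cfsg.Geo.specialLinear (Fin 7) F)) ∨
    (∃ K : Subalgebra F (Matrix (Fin 7) (Fin 7) F), Cfsg.Geo.IsFieldSubalgebra 7 K ∧ Cfsg.Geo.IsAdjointClosedFor (Cfsg.hermForm 7 F q) K ∧ H = Cfsg.Geo.subalgebraNormalizer K ⊓ (Cfsg.GU 7 F q ⊓ Cfsg.Geo.specialLinear (Fin 7) F)) ∨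
    (∃ (F₀ : Subfield F) (r : ℕ) (P : Matrix.GeneralLinearGroup (Fin 7) F), r.Prime ∧ Odd r ∧ Fintype.card F = Nat.card F₀ ^ r ∧ Cfsg.Geo.IsFormRationalStructure (Cfsg.hermForm 7 F q) F₀ 1 P ∧ H = Cfsg.Geo.subfieldSubgroup F₀ P ⊓ (Cfsg.GU 7 F q ⊓ Cfsg.Geo.specialLinear (Fin 7) F)) ∨
    (Odd q ∧ ∃ (F₀ : Subfield F) (P : Matrix.GeneralLinearGroup (Fin 7) F), Fintype.card F = Nat.card F₀ ^ 2 ∧ Cfsg.Geo.IsFormRationalStructure (Cfsg.hermForm 7 F q) F₀ 1 P ∧ H = Cfsg.Geo.subfieldSubgroup F₀ P ⊓ (Cfsg.GU 7 F q ⊓ Cfsg.Geo.specialLinear (Fin 7) F)) ∨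
    (∃ (p : ℕ) (R : Subgroup (Matrix.GeneralLinearGroup (Fin 7) F)), p.Prime ∧ CharP F p ∧ ((q = p ∧ p % 7 = 6) ∨ (q = p ^ 3 ∧ (p % 7 = 3 ∨ p % 7 = 5))) ∧ Cfsg.Geo.IsSymplecticTypeGroup 7 R ∧ Cfsg.Geo.ActsAbsolutelyIrreducibly (Cfsg.Geo.matrixSet R) ∧ R ≤ Cfsg.Geo.similarityGroup (Cfsg.hermForm 7 F q) ∧ Nat.card R = 343 ∧ Nat.card (Subgroup.center R) = 7 ∧ H = Cfsg.Geo.subgroupNormalizer R ⊓ (Cfsg.GU 7 F q ⊓ Cfsg.Geo.specialLinear (Fin 7) F)) ∨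
    Cfsg.Geo.InUnitaryResidualClass H := by
  rcases urow_cases hF (by norm_num) hmain H hH with h | h
  swap
  · exact Or.inr (Or.inr (Or.inr (Or.inr (Or.inr (Or.inr (Or.inr (h)))))))
  rcases h with h | h | h | h | h | h | h | h | h | h | h
  · exact Or.inl (h)
  · exact Or.inr (Or.inl (h))
  · -- C2a
    obtain ⟨t, k, D, htk, ht2, hk2, hD, hHeq⟩ := h
    have htd : t ∣ 7 := Dvd.intro _ htk
    rcases (Nat.dvd_prime (by norm_num : Nat.Prime 7)).1 htd with rfl | rfl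
    · omega
    · have hk : k = 1 := by omega
      subst hk
      exact Or.inr (Or.inr (Or.inl (⟨D, hD, hHeq⟩)))
  · -- C2b
    obtain ⟨k, D, h2k, _⟩ := h
    omega
  · -- C3
    obtain ⟨r, K, hr, hodd, hdvd, hK, hadj, hHeq⟩ := h
    rcases (Nat.dvd_prime (by norm_num : Nat.Prime 7)).1 hdvd with rfl | rfl
    · exact absurd hr Nat.not_prime_one
    · exact Or.inr (Or.inr (Or.inr (Or.inl (⟨K, hK, hadj, hHeq⟩))))
  · -- C4
    obtain ⟨n₁, n₂, e, P, f₁, f₂, h1, h2, hmul, _⟩ := h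
    exfalso
    have hd : n₁ ∣ 7 := Dvd.intro _ hmul
    rcases (Nat.dvd_prime (by norm_num : Nat.Prime 7)).1 hd with rfl | rfl
    · omega
    · have : n₂ = 1 := by omega
      omega
  · exact Or.inr (Or.inr (Or.inr (Or.inr (Or.inl (h)))))
  · -- C5b
    obtain ⟨F₀, P, hodd, hcard, hrat, hHeq⟩ := h
    exact Or.inr (Or.inr (Or.inr (Or.inr (Or.inr (Or.inl (⟨hodd, F₀, P, hcard, hrat, hHeq⟩))))))
  · -- C5c
    obtain ⟨F₀, P, ζ, hev, _⟩ := h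
    exact absurd hev (by decide)
  · -- C6
    obtain ⟨r, R, p, e, k, j, h1, h2, h3, h4, h5, h6, hnk, hk1, hqj, hej, hHeq⟩ := h
    obtain ⟨rfl, rfl⟩ := (Nat.Prime.pow_eq_iff (by norm_num : Nat.Prime 7)).1 hnk.symm
    rcases h6 with h6 | h6
    swap
    · omega
    obtain ⟨_, hz, _, hcardR⟩ := h6
    rw [hz] at h5
    obtain ⟨he0, hpow, hmin⟩ := minimalField_mod (by norm_num) h5
    have hp := h5.1
    have hchar := h5.2.1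
    have hlt : p % 7 < 7 := Nat.mod_lt _ (by norm_num)
    rcases order_mod_7 hlt ⟨j, by omega⟩ he0 hpow hmin with ⟨he, ha⟩ | ⟨he, ha⟩
    · have hj : j = 1 := by omega
      subst hj
      rw [pow_one] at hqj
      exact Or.inr (Or.inr (Or.inr (Or.inr (Or.inr (Or.inr (Or.inl (⟨p, R, hp, hchar, Or.inl ⟨hqj, ha⟩, h1, h2, h3, by rw [hcardR]; norm_num, hz, hHeq⟩)))))))
    · have hj : j = 3 := by omega
      subst hj
      exact Or.inr (Or.inr (Or.inr (Or.inr (Or.inr (Or.inr (Or.inl (⟨p, R, hp, hchar, Or.inr ⟨hqj, ha⟩, h1, h2, h3, by rw [hcardR]; norm_num, hz, hHeq⟩)))))))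
  · -- C7
    obtain ⟨k, t, e, P, f₁, h1, h2, hkt, _⟩ := h
    exfalso
    have h9 : 3 ^ 2 ≤ k ^ t := (Nat.pow_le_pow_left h1 2).trans (Nat.pow_le_pow_right (by omega) h2)
    omega

end Cfsg.Agent.Lib.H15.UP2
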