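/-
UP2 (unitary phase 2, helper15): the row n = 8 (S5820) from the statement of `umain_strong`.
-/
import Cfsg.Agent.Lib.H15.UP2Gen

set_option autoImplicit false
set_option maxHeartbeats 1000000

namespace Cfsg.Agent.Lib.H15.UP2

open Cfsg Cfsg.Geo Cfsg.Agent.Lib.Lead.Asch
open scoped MatrixGroups Matrix Kronecker

theorem row8 {F : Type*} [Field F] [Fintype F] (q : ℕ) (hF : Fintype.card F = q ^ 2)
    (hmain : UMainStrong 8 q F) (H : Subgroup (Matrix.GeneralLinearGroup (Fin 8) F))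
    (hH : Cfsg.Geo.IsMaximalIn (Cfsg.GU 8 F q ⊓ Cfsg.Geo.specialLinear (Fin 8) F) H) :
    (∃ W : Submodule F (Fin 8 → F), W ≠ ⊥ ∧ Cfsg.Geo.IsTotallySingularFor (Cfsg.hermForm 8 F q) W ∧ H = Cfsg.Geo.subspaceStabilizer W ⊓ (Cfsg.GU 8 F q ⊓ Cfsg.Geo.specialLinear (Fin 8) F)) ∨
    (∃ W : Submodule F (Fin 8 → F), W ≠ ⊥ ∧ Cfsg.Geo.IsNondegenerateOn (Cfsg.hermForm 8 F q) W ∧ 2 * Module.finrank F W < 8 ∧ H = Cfsg.Geo.subspaceStabilizer W ⊓ (Cfsg.GU 8 F q ⊓ Cfsg.Geo.specialLinear (Fin 8) F)) ∨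
    (∃ D : Fin 8 → Submodule F (Fin 8 → F), Cfsg.Geo.IsNondegenerateMDecomposition (Cfsg.hermForm 8 F q) 1 D ∧ H = Cfsg.Geo.decompositionStabilizer D ⊓ (Cfsg.GU 8 F q ⊓ Cfsg.Geo.specialLinear (Fin 8) F)) ∨
    (3 ≤ q ∧ ∃ D : Fin 4 → Submodule F (Fin 8 → F), Cfsg.Geo.IsNondegenerateMDecomposition (Cfsg.hermForm 8 F q) 2 D ∧ H = Cfsg.Geo.decompositionStabilizer D ⊓ (Cfsg.GU 8 F q ⊓ Cfsg.Geo.specialLinear (Fin 8) F)) ∨
    (∃ D : Fin 2 → Submodule F (Fin 8 → F), Cfsg.Geo.IsNondegenerateMDecomposition (Cfsg.hermForm 8 F q) 4 D ∧ H = Cfsg.Geo.decompositionStabilizer D ⊓ (Cfsg.GU 8 F q ⊓ Cfsg.Geo.specialLinear (Fin 8) F)) ∨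
    (∃ D : Fin 2 → Submodule F (Fin 8 → F), Cfsg.Geo.IsMDecomposition 4 D ∧ (∀ i, Cfsg.Geo.IsTotallySingularFor (Cfsg.hermForm 8 F q) (D i)) ∧ H = Cfsg.Geo.decompositionStabilizer D ⊓ (Cfsg.GU 8 F q ⊓ Cfsg.Geo.specialLinear (Fin 8) F)) ∨
    (3 ≤ q ∧ ∃ (e : Fin 8 ≃ Fin 2 × Fin 4) (P : Matrix.GeneralLinearGroup (Fin 8) F) (f₁ : (Fin 2 → F) → (Fin 2 → F) → F) (f₂ : (Fin 4 → F) → (Fin 4 → F) → F), Cfsg.Geo.IsUnitaryFormPow q f₁ ∧ Cfsg.Geo.IsUnitaryFormPow q f₂ ∧ Cfsg.Geo.IsTensorFormStructure (fun x : F => x ^ q) (Cfsg.hermForm 8 F q) f₁ f₂ e P ∧ H = Cfsg.Geo.tensorProductSubgroup 2 4 e P ⊓ (Cfsg.GU 8 F q ⊓ Cfsg.Geo.specialLinear (Fin 8) F)) ∨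
    (∃ (F₀ : Subfield F) (r : ℕ) (P : Matrix.GeneralLinearGroup (Fin 8) F), r.Prime ∧ Odd r ∧ Fintype.card F = Nat.card F₀ ^ r ∧ Cfsg.Geo.IsFormRationalStructure (Cfsg.hermForm 8 F q) F₀ 1 P ∧ H = Cfsg.Geo.subfieldSubgroup F₀ P ⊓ (Cfsg.GU 8 F q ⊓ Cfsg.Geo.specialLinear (Fin 8) F)) ∨
    (∃ (F₀ : Subfield F) (P : Matrix.GeneralLinearGroup (Fin 8) F) (ζ : F), Fintype.card F = Nat.card F₀ ^ 2 ∧ ζ ≠ 0 ∧ ζ + ζ ^ q = 0 ∧ Cfsg.Geo.IsFormRationalStructure (Cfsg.hermForm 8 F q) F₀ ζ P ∧ (∀ u : Fin 8 → F, (∀ i, u i ∈ F₀) → (Cfsg.hermForm 8 F q) (Matrix.mulVec (P : Matrix (Fin 8) (Fin 8) F) u) (Matrix.mulVec (P : Matrix (Fin 8) (Fin 8) F) u) = 0) ∧ H = Cfsg.Geo.subfieldSubgroup F₀ P ⊓ (Cfsg.GU 8 F q ⊓ Cfsg.Geo.specialLinear (Fin 8) F)) ∨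
    (Odd q ∧ ∃ (F₀ : Subfield F) (P : Matrix.GeneralLinearGroup (Fin 8) F), Fintype.card F = Nat.card F₀ ^ 2 ∧ Cfsg.Geo.IsFormRationalStructure (Cfsg.hermForm 8 F q) F₀ 1 P ∧ H = Cfsg.Geo.subfieldSubgroup F₀ P ⊓ (Cfsg.GU 8 F q ⊓ Cfsg.Geo.specialLinear (Fin 8) F)) ∨
    (∃ (p : ℕ) (R : Subgroup (Matrix.GeneralLinearGroup (Fin 8) F)), p.Prime ∧ q = p ∧ p % 4 = 3 ∧ Cfsg.Geo.IsSymplecticTypeGroup 2 R ∧ Cfsg.Geo.ActsAbsolutelyIrreducibly (Cfsg.Geo.matrixSet R) ∧ R ≤ Cfsg.Geo.similarityGroup (Cfsg.hermForm 8 F q) ∧ Nat.card R = 256 ∧ Nat.card (Subgroup.center R) = 4 ∧ H = Cfsg.Geo.subgroupNormalizer R ⊓ (Cfsg.GU 8 F q ⊓ Cfsg.Geo.specialLinear (Fin 8) F)) ∨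
    Cfsg.Geo.InUnitaryResidualClass H := by
  have hq2 : 2 ≤ q := Cfsg.Agent.Lib.H2.Herm.two_le_q hF
  rcases urow_cases hF (by norm_num) hmain H hH with h | h
  swap
  · exact Or.inr (Or.inr (Or.inr (Or.inr (Or.inr (Or.inr (Or.inr (Or.inr (Or.inr (Or.inr (Or.inr (h)))))))))))
  rcases h with h | h | h | h | h | h | h | h | h | h | h
  · exact Or.inl (h)
  · exact Or.inr (Or.inl (h))
  · -- C2a
    obtain ⟨t, k, D, htk, ht2, hk2, hD, hHeq⟩ := h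
    have ht9 : t ≤ 8 := Nat.le_of_dvd (by norm_num) (Dvd.intro _ htk)
    interval_cases t
    · have hk : k = 4 := by omega
      subst hk
      exact Or.inr (Or.inr (Or.inr (Or.inr (Or.inl (⟨D, hD, hHeq⟩)))))
    · omega
    · have hk : k = 2 := by omega
      subst hk
      exact Or.inr (Or.inr (Or.inr (Or.inl (⟨hk2 rfl, D, hD, hHeq⟩))))
    · omega
    · omega
    · omega
    · have hk : k = 1 := by omega
      subst hk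
      exact Or.inr (Or.inr (Or.inl (⟨D, hD, hHeq⟩)))
  · -- C2b
    obtain ⟨k, D, h2k, hD, hts, hHeq⟩ := h
    have hk : k = 4 := by omega
    subst hk
    exact Or.inr (Or.inr (Or.inr (Or.inr (Or.inr (Or.inl (⟨D, hD, hts, hHeq⟩))))))
  · -- C3
    obtain ⟨r, K, hr, hodd, hdvd, hK, hadj, hHeq⟩ := h
    exfalso
    have h2 : r = 2 :=
      (Nat.prime_dvd_prime_iff_eq hr Nat.prime_two).1 (hr.dvd_of_dvd_pow (show r ∣ 2 ^ 3 by norm_num; exact hdvd))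
    subst h2
    exact absurd hodd (by decide)
  · -- C4
    obtain ⟨n₁, n₂, e, P, f₁, f₂, h1, h2, hmul, hq3, hf1, hf2, hT, hHeq⟩ := h
    have h9 : n₁ ≤ 8 := Nat.le_of_dvd (by norm_num) (Dvd.intro _ hmul)
    have hn1 : n₁ = 2 := by interval_cases n₁ <;> omega
    subst hn1
    have hn2 : n₂ = 4 := by omega
    subst hn2
    exact Or.inr (Or.inr (Or.inr (Or.inr (Or.inr (Or.inr (Or.inl (⟨hq3 rfl, e, P, f₁, f₂, hf1, hf2, hT, hHeq⟩)))))))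
  · exact Or.inr (Or.inr (Or.inr (Or.inr (Or.inr (Or.inr (Or.inr (Or.inl (h))))))))
  · -- C5b
    obtain ⟨F₀, P, hodd, hcard, hrat, hHeq⟩ := h
    exact Or.inr (Or.inr (Or.inr (Or.inr (Or.inr (Or.inr (Or.inr (Or.inr (Or.inr (Or.inl (⟨hodd, F₀, P, hcard, hrat, hHeq⟩))))))))))
  · -- C5c
    obtain ⟨F₀, P, ζ, hev, hcard, hζ0, hζ, hrat, hiso, hHeq⟩ := h
    exact Or.inr (Or.inr (Or.inr (Or.inr (Or.inr (Or.inr (Or.inr (Or.inr (Or.inl (⟨F₀, P, ζ, hcard, hζ0, hζ, hrat, hiso, hHeq⟩)))))))))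
  · -- C6
    obtain ⟨r, R, p, e, k, j, h1, h2, h3, h4, h5, h6, hnk, hk1, hqj, hej, hHeq⟩ := h
    have hr2 : r = 2 := by
      have hd : r ∣ 2 ^ 3 := by
        have : r ∣ r ^ k := dvd_pow_self r (by omega)
        rw [← hnk] at this
        norm_num
        exact this
      exact (Nat.prime_dvd_prime_iff_eq h1.prime Nat.prime_two).1 (h1.prime.dvd_of_dvd_pow hd)
    subst hr2
    have hk3 : k = 3 := by
      have : (2 : ℕ) ^ 3 = 2 ^ k := by rw [← hnk]; norm_num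
      exact (Nat.pow_right_injective (le_refl 2) this).symm
    subst hk3
    rcases h6 with h6 | h6
    · exact absurd h6.1 (by decide)
    obtain ⟨_, he2, hz, hcardR⟩ := h6
    rw [hz] at h5
    obtain ⟨he0, hpow, hmin⟩ := minimalField_mod (by norm_num) h5
    have hp := h5.1
    have hlt : p % 4 < 4 := Nat.mod_lt _ (by norm_num)
    subst he2
    have ha := order_mod_4 hlt hpow (hmin 1 (by norm_num) (by norm_num))
    have hj : j = 1 := by omega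
    subst hj
    rw [pow_one] at hqj
    exact Or.inr (Or.inr (Or.inr (Or.inr (Or.inr (Or.inr (Or.inr (Or.inr (Or.inr (Or.inr (Or.inl (⟨p, R, hp, hqj, ha, h1, h2, h3, by rw [hcardR]; norm_num, hz, hHeq⟩)))))))))))
  · -- C7
    obtain ⟨k, t, e, P, f₁, h1, h2, hkt, _⟩ := h
    exfalso
    have h9 : 3 ^ 2 ≤ k ^ t := (Nat.pow_le_pow_left h1 2).trans (Nat.pow_le_pow_right (by omega) h2)
    omega

end Cfsg.Agent.Lib.H15.UP2
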