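/-
UP2 (unitary phase 2, helper15): the row n = 9 (S5832) from the statement of `umain_strong`.
-/
import Cfsg.Agent.Lib.H15.UP2Gen

set_option autoImplicit false
set_option maxHeartbeats 1000000

namespace Cfsg.Agent.Lib.H15.UP2

open Cfsg Cfsg.Geo Cfsg.Agent.Lib.Lead.Asch
open scoped MatrixGroups Matrix Kronecker

theorem row9 {F : Type*} [Field F] [Fintype F] (q : ℕ) (hF : Fintype.card F = q ^ 2)
    (hmain : UMainStrong 9 q F) (H : Subgroup (Matrix.GeneralLinearGroup (Fin 9) F))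
    (hH : Cfsg.Geo.IsMaximalIn (Cfsg.GU 9 F q ⊓ Cfsg.Geo.specialLinear (Fin 9) F) H) :
    (∃ W : Submodule F (Fin 9 → F), W ≠ ⊥ ∧ Cfsg.Geo.IsTotallySingularFor (Cfsg.hermForm 9 F q) W ∧ H = Cfsg.Geo.subspaceStabilizer W ⊓ (Cfsg.GU 9 F q ⊓ Cfsg.Geo.specialLinear (Fin 9) F)) ∨
    (∃ W : Submodule F (Fin 9 → F), W ≠ ⊥ ∧ Cfsg.Geo.IsNondegenerateOn (Cfsg.hermForm 9 F q) W ∧ 2 * Module.finrank F W < 9 ∧ H = Cfsg.Geo.subspaceStabilizer W ⊓ (Cfsg.GU 9 F q ⊓ Cfsg.Geo.specialLinear (Fin 9) F)) ∨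
    (∃ D : Fin 9 → Submodule F (Fin 9 → F), Cfsg.Geo.IsNondegenerateMDecomposition (Cfsg.hermForm 9 F q) 1 D ∧ H = Cfsg.Geo.decompositionStabilizer D ⊓ (Cfsg.GU 9 F q ⊓ Cfsg.Geo.specialLinear (Fin 9) F)) ∨
    (∃ D : Fin 3 → Submodule F (Fin 9 → F), Cfsg.Geo.IsNondegenerateMDecomposition (Cfsg.hermForm 9 F q) 3 D ∧ H = Cfsg.Geo.decompositionStabilizer D ⊓ (Cfsg.GU 9 F q ⊓ Cfsg.Geo.specialLinear (Fin 9) F)) ∨
    (∃ K : Subalgebra F (Matrix (Fin 9) (Fin 9) F), Cfsg.Geo.IsFieldSubalgebra 3 K ∧ Cfsg.Geo.IsAdjointClosedFor (Cfsg.hermForm 9 F q) K ∧ H = Cfsg.Geo.subalgebraNormalizer K ⊓ (Cfsg.GU 9 F q ⊓ Cfsg.Geo.specialLinear (Fin 9) F)) ∨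
    (∃ (F₀ : Subfield F) (r : ℕ) (P : Matrix.GeneralLinearGroup (Fin 9) F), r.Prime ∧ Odd r ∧ Fintype.card F = Nat.card F₀ ^ r ∧ Cfsg.Geo.IsFormRationalStructure (Cfsg.hermForm 9 F q) F₀ 1 P ∧ H = Cfsg.Geo.subfieldSubgroup F₀ P ⊓ (Cfsg.GU 9 F q ⊓ Cfsg.Geo.specialLinear (Fin 9) F)) ∨
    (Odd q ∧ ∃ (F₀ : Subfield F) (P : Matrix.GeneralLinearGroup (Fin 9) F), Fintype.card F = Nat.card F₀ ^ 2 ∧ Cfsg.Geo.IsFormRationalStructure (Cfsg.hermForm 9 F q) F₀ 1 P ∧ H = Cfsg.Geo.subfieldSubgroup F₀ P ⊓ (Cfsg.GU 9 F q ⊓ Cfsg.Geo.specialLinear (Fin 9) F)) ∨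
    (∃ (p : ℕ) (R : Subgroup (Matrix.GeneralLinearGroup (Fin 9) F)), p.Prime ∧ q = p ∧ p % 3 = 2 ∧ Cfsg.Geo.IsSymplecticTypeGroup 3 R ∧ Cfsg.Geo.ActsAbsolutelyIrreducibly (Cfsg.Geo.matrixSet R) ∧ R ≤ Cfsg.Geo.similarityGroup (Cfsg.hermForm 9 F q) ∧ Nat.card R = 243 ∧ Nat.card (Subgroup.center R) = 3 ∧ H = Cfsg.Geo.subgroupNormalizer R ⊓ (Cfsg.GU 9 F q ⊓ Cfsg.Geo.specialLinear (Fin 9) F)) ∨
    (3 ≤ q ∧ ∃ (e : Fin 9 ≃ (Fin 2 → Fin 3)) (P : Matrix.GeneralLinearGroup (Fin 9) F) (f₁ : (Fin 3 → F) → (Fin 3 → F) → F), Cfsg.Geo.IsUnitaryFormPow q f₁ ∧ Cfsg.Geo.IsTensorPowerFormStructure (fun x : F => x ^ q) (Cfsg.hermForm 9 F q) f₁ e P ∧ H = Cfsg.Geo.tensorWreathSubgroup 3 2 e P ⊓ (Cfsg.GU 9 F q ⊓ Cfsg.Geo.specialLinear (Fin 9) F)) ∨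
    Cfsg.Geo.InUnitaryResidualClass H := by
  have hq2 : 2 ≤ q := Cfsg.Agent.Lib.H2.Herm.two_le_q hF
  rcases urow_cases hF (by norm_num) hmain H hH with h | h
  swap
  · exact Or.inr (Or.inr (Or.inr (Or.inr (Or.inr (Or.inr (Or.inr (Or.inr (Or.inr (h)))))))))
  rcases h with h | h | h | h | h | h | h | h | h | h | h
  · exact Or.inl (h)
  · exact Or.inr (Or.inl (h))
  · -- C2a
    obtain ⟨t, k, D, htk, ht2, hk2, hD, hHeq⟩ := h
    have ht9 : t ≤ 9 := Nat.le_of_dvd (by norm_num) (Dvd.intro _ htk)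
    interval_cases t
    · omega
    · have hk : k = 3 := by omega
      subst hk
      exact Or.inr (Or.inr (Or.inr (Or.inl (⟨D, hD, hHeq⟩))))
    · omega
    · omega
    · omega
    · omega
    · omega
    · have hk : k = 1 := by omega
      subst hk
      exact Or.inr (Or.inr (Or.inl (⟨D, hD, hHeq⟩)))
  · -- C2b
    obtain ⟨k, D, h2k, _⟩ := h
    omega
  · -- C3
    obtain ⟨r, K, hr, hodd, hdvd, hK, hadj, hHeq⟩ := h
    have h3 : r = 3 :=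
      (Nat.prime_dvd_prime_iff_eq hr Nat.prime_three).1 (hr.dvd_of_dvd_pow (show r ∣ 3 ^ 2 by norm_num; exact hdvd))
    subst h3
    exact Or.inr (Or.inr (Or.inr (Or.inr (Or.inl (⟨K, hK, hadj, hHeq⟩)))))
  · -- C4
    obtain ⟨n₁, n₂, e, P, f₁, f₂, h1, h2, hmul, _⟩ := h
    exfalso
    have h9 : n₁ ≤ 9 := Nat.le_of_dvd (by norm_num) (Dvd.intro _ hmul)
    interval_cases n₁ <;> omega
  · exact Or.inr (Or.inr (Or.inr (Or.inr (Or.inr (Or.inl (h))))))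
  · -- C5b
    obtain ⟨F₀, P, hodd, hcard, hrat, hHeq⟩ := h
    exact Or.inr (Or.inr (Or.inr (Or.inr (Or.inr (Or.inr (Or.inl (⟨hodd, F₀, P, hcard, hrat, hHeq⟩)))))))
  · -- C5c
    obtain ⟨F₀, P, ζ, hev, _⟩ := h
    exact absurd hev (by decide)
  · -- C6
    obtain ⟨r, R, p, e, k, j, h1, h2, h3, h4, h5, h6, hnk, hk1, hqj, hej, hHeq⟩ := h
    have hr3 : r = 3 := by
      have hd : r ∣ 3 ^ 2 := by
        have : r ∣ r ^ k := dvd_pow_self r (by omega)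
        rw [← hnk] at this
        norm_num
        exact this
      exact (Nat.prime_dvd_prime_iff_eq h1.prime Nat.prime_three).1 (h1.prime.dvd_of_dvd_pow hd)
    subst hr3
    have hk2 : k = 2 := by
      have : (3 : ℕ) ^ 2 = 3 ^ k := by rw [← hnk]; norm_num
      exact (Nat.pow_right_injective (by norm_num : 2 ≤ 3) this).symm
    subst hk2
    rcases h6 with h6 | h6
    swap
    · omega
    obtain ⟨_, hz, _, hcardR⟩ := h6
    rw [hz] at h5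
    obtain ⟨he0, hpow, hmin⟩ := minimalField_mod (by norm_num) h5
    have hp := h5.1
    have hlt : p % 3 < 3 := Nat.mod_lt _ (by norm_num)
    obtain ⟨he, ha⟩ := order_mod_3 hlt ⟨j, by omega⟩ he0 hpow hmin
    have hj : j = 1 := by omega
    subst hj
    rw [pow_one] at hqj
    exact Or.inr (Or.inr (Or.inr (Or.inr (Or.inr (Or.inr (Or.inr (Or.inl (⟨p, R, hp, hqj, ha, h1, h2, h3, by rw [hcardR]; norm_num, hz, hHeq⟩))))))))
  · -- C7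
    obtain ⟨k, t, e, P, f₁, h1, h2, hkt, hq3, hf₁, hT, hle⟩ := h
    have hk3 : k = 3 := by
      have h9 : k ^ 2 ≤ k ^ t := Nat.pow_le_pow_right (by omega) h2
      have : k ^ 2 ≤ 9 := by omega
      nlinarith
    subst hk3
    have ht2 : t = 2 := by
      have : (3 : ℕ) ^ t = 3 ^ 2 := by rw [hkt]; norm_num
      exact Nat.pow_right_injective (by norm_num : 2 ≤ 3) this
    subst ht2
    have hq3' : 3 ≤ q := by
      by_contra hlt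
      exact hq3 ⟨by omega, rfl⟩
    exact Or.inr (Or.inr (Or.inr (Or.inr (Or.inr (Or.inr (Or.inr (Or.inr (Or.inl (⟨hq3', e, P, f₁, hf₁, hT, eq_inf_of_maximal hH hle (Cfsg.Agent.Lib.H3.UP2.not_su_le_tensorWreathSubgroup hF 3 e P (by norm_num))⟩)))))))))

end Cfsg.Agent.Lib.H15.UP2
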