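/-
UP3-B6' (helper15): `SU_n(q)`, `n ≥ 4`, is not contained in the normaliser of an absolutely irreducible group with scalar
commutators.  Extends helper18's UP2-B6 (`n ≥ 5`) to `n = 4`.
-/
import Cfsg.Agent.Lib.H18.UP2B6

set_option autoImplicit false
set_option linter.unusedSectionVars false

namespace Cfsg.Agent.Lib.H15.UP3

open Cfsg Cfsg.Geo Cfsg.Agent.Lib.H15.SUGen Cfsg.Agent.Lib.H15.UP2 Cfsg.Agent.Lib.H18.UP2
open scoped MatrixGroups Matrix

variable {F : Type*} [Field F] [Fintype F] {n q : ℕ}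

theorem utv_inv_mulVec (hF : Fintype.card F = q ^ 2) {a : F} {v : Fin n → F} (ha : a + a ^ q = 0)
    (hv : hermForm n F q v v = 0) (z : Fin n → F) :
    (((utv hF a v)⁻¹ : GL (Fin n) F) : Matrix (Fin n) (Fin n) F) *ᵥ z = z - (a * hermForm n F q z v) • v := by
  have h1 : ((utv hF a v : GL (Fin n) F) : Matrix (Fin n) (Fin n) F) *ᵥ (z - (a * hermForm n F q z v) • v) = z := by
    rw [utv_mulVec hF ha hv]
    have h2 : hermForm n F q (z - (a * hermForm n F q z v) • v) v = hermForm n F q z v := by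
      have h3 : z - (a * hermForm n F q z v) • v = z + (-(a * hermForm n F q z v)) • v := by
        rw [neg_smul, sub_eq_add_neg]
      rw [h3]
      have := hf_add_left (q := q) z ((-(a * hermForm n F q z v)) • v) v
      unfold hf at this
      rw [this]
      have h4 := hf_smul_left (q := q) (-(a * hermForm n F q z v)) v v
      unfold hf at h4
      rw [h4, hv, mul_zero, add_zero]
    rw [h2]
    abel
  have h5 := gl_inv_mul_mulVec (utv hF a v) (z - (a * hermForm n F q z v) • v)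
  rw [h1] at h5
  exact h5

/-- `y u - u ∈ span {v, x v}` for `y = τ x τ⁻¹ x⁻¹`. -/
theorem comm_sub_mem (hF : Fintype.card F = q ^ 2) {a : F} {v : Fin n → F} (ha : a + a ^ q = 0)
    (hv : hermForm n F q v v = 0) (x : GL (Fin n) F) (u : Fin n → F) :
    ((utv hF a v * x * (utv hF a v)⁻¹ * x⁻¹ : GL (Fin n) F) : Matrix (Fin n) (Fin n) F) *ᵥ u =
      u - (a * hermForm n F q (((x⁻¹ : GL (Fin n) F) : Matrix (Fin n) (Fin n) F) *ᵥ u) v) •
            ((x : Matrix (Fin n) (Fin n) F) *ᵥ v)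
        + (a * hermForm n F q (u - (a * hermForm n F q
            (((x⁻¹ : GL (Fin n) F) : Matrix (Fin n) (Fin n) F) *ᵥ u) v) •
              ((x : Matrix (Fin n) (Fin n) F) *ᵥ v)) v) • v := by
  simp only [Units.val_mul]
  rw [← Matrix.mulVec_mulVec, ← Matrix.mulVec_mulVec, ← Matrix.mulVec_mulVec,
    utv_inv_mulVec hF ha hv, Matrix.mulVec_sub, Matrix.mulVec_smul, gl_mul_inv_mulVec,
    utv_mulVec hF ha hv]

/-- every unitary transvection commutes with every element of `R` (`n ≥ 4`) -/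
theorem comm_eq_one' (hF : Fintype.card F = q ^ 2) (hn : 4 ≤ n)
    (R : Subgroup (GL (Fin n) F)) (habs : ActsAbsolutelyIrreducibly (matrixSet R))
    (hcl2 : ∀ x ∈ R, ∀ y ∈ R, x * y * x⁻¹ * y⁻¹ ∈ scalars (Fin n) F)
    (h : GU n F q ⊓ specialLinear (Fin n) F ≤ subgroupNormalizer R)
    {a : F} {v : Fin n → F} (ha : a + a ^ q = 0) (hv : hermForm n F q v v = 0)
    (x : GL (Fin n) F) (hx : x ∈ R) :
    utv hF a v * x * (utv hF a v)⁻¹ * x⁻¹ = 1 := by
  classical
  obtain ⟨τ, hτ⟩ : ∃ τ : GL (Fin n) F, τ = utv hF a v := ⟨_, rfl⟩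
  rw [← hτ]
  have hτN : τ ∈ Subgroup.normalizer (R : Set (GL (Fin n) F)) := hτ ▸ h (utv_mem hF a v)
  have hτx : τ * x * τ⁻¹ ∈ R := (Subgroup.mem_normalizer_iff.1 hτN x).1 hx
  obtain ⟨y, hy⟩ : ∃ y : GL (Fin n) F, y = τ * x * τ⁻¹ * x⁻¹ := ⟨_, rfl⟩
  have hyR : y ∈ R := hy ▸ R.mul_mem hτx (R.inv_mem hx)
  rw [← hy]
  obtain ⟨U, hU⟩ : ∃ U : Submodule F (Fin n → F), U = LinearMap.ker (phiM q 1 v) ⊓
      LinearMap.ker (phiM q ((x⁻¹ : GL (Fin n) F) : Matrix (Fin n) (Fin n) F) v) := ⟨_, rfl⟩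
  have hUmem : ∀ u, u ∈ U ↔ hermForm n F q u v = 0 ∧
      hermForm n F q (((x⁻¹ : GL (Fin n) F) : Matrix (Fin n) (Fin n) F) *ᵥ u) v = 0 := by
    intro u
    rw [hU, Submodule.mem_inf, LinearMap.mem_ker, LinearMap.mem_ker, phiM_apply, phiM_apply,
      Matrix.one_mulVec]
  have hUfix : ∀ u ∈ U, (y : Matrix (Fin n) (Fin n) F) *ᵥ u = u := by
    intro u hu
    rw [hy, hτ]
    exact comm_fix hF ha hv x u ((hUmem u).1 hu).1 ((hUmem u).1 hu).2
  have hUdim : n ≤ Module.finrank F U + 2 := hU ▸ finrank_ker_inf_ker _ _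
  by_cases hcen : ∀ s ∈ R, y * s = s * y
  · obtain ⟨c, hc⟩ := habs.2 (y : Matrix (Fin n) (Fin n) F) (by
      rintro s ⟨s', hs', rfl⟩
      have := congrArg (fun g : GL (Fin n) F => (g : Matrix (Fin n) (Fin n) F)) (hcen s' hs')
      simpa using this)
    have hUne : U ≠ ⊥ := by
      intro hbot
      rw [hbot, finrank_bot] at hUdim
      omega
    obtain ⟨u, huU, hu0⟩ := Submodule.exists_mem_ne_zero_of_ne_bot hUne
    have h1 := hUfix u huU
    rw [hc, Matrix.smul_mulVec, Matrix.one_mulVec] at h1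
    have hc1 : c = 1 := by
      by_contra hne
      apply hu0
      have h2 : (c - 1) • u = 0 := by rw [sub_smul, one_smul, h1, sub_self]
      rcases smul_eq_zero.1 h2 with h3 | h3
      · exact absurd (sub_eq_zero.1 h3) hne
      · exact h3
    apply Units.ext
    rw [hc, hc1, one_smul]
    rfl
  · exfalso
    push Not at hcen
    obtain ⟨w, hwR, hw⟩ := hcen
    obtain ⟨ξ, hξ⟩ := (mem_scalars_iff _).1 (hcl2 w hwR y hyR)
    obtain ⟨U', hU'⟩ : ∃ U' : Submodule F (Fin n → F),
        U' = LinearMap.ker (phiM q ((w⁻¹ : GL (Fin n) F) : Matrix (Fin n) (Fin n) F) v) ⊓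
          LinearMap.ker (phiM q (((x⁻¹ : GL (Fin n) F) : Matrix (Fin n) (Fin n) F) *
            ((w⁻¹ : GL (Fin n) F) : Matrix (Fin n) (Fin n) F)) v) := ⟨_, rfl⟩
    have hU'dim : n ≤ Module.finrank F U' + 2 := hU' ▸ finrank_ker_inf_ker _ _
    have hξ1 : (ξ : F) ≠ 1 := by
      intro h1
      apply hw
      have h2 : w * y * w⁻¹ * y⁻¹ = 1 := by
        apply Units.ext
        rw [hξ, h1, one_smul]
        rfl
      have h3 := congrArg (fun g => g * y * w) h2
      simp only [inv_mul_cancel_right, one_mul] at h3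
      exact h3.symm
    have h5 : ((w * y * w⁻¹ : GL (Fin n) F) : Matrix (Fin n) (Fin n) F)
        = ((ξ : F) • (1 : Matrix (Fin n) (Fin n) F)) * (y : Matrix (Fin n) (Fin n) F) := by
      have h6 : w * y * w⁻¹ * y⁻¹ * y = w * y * w⁻¹ := inv_mul_cancel_right _ _
      rw [← h6, Units.val_mul, hξ]
    -- `y u = ξ⁻¹ u` on `U'`, in the form `u = ξ • y u`
    have hU'eig : ∀ u ∈ U', u = (ξ : F) • ((y : Matrix (Fin n) (Fin n) F) *ᵥ u) := by
      intro u huU'
      rw [hU', Submodule.mem_inf, LinearMap.mem_ker, LinearMap.mem_ker, phiM_apply,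
        phiM_apply, ← Matrix.mulVec_mulVec] at huU'
      have h2 : ((w⁻¹ : GL (Fin n) F) : Matrix (Fin n) (Fin n) F) *ᵥ u ∈ U :=
        (hUmem _).2 ⟨huU'.1, huU'.2⟩
      have h3 := hUfix _ h2
      have h4 := congrArg (fun M : Matrix (Fin n) (Fin n) F => M *ᵥ u) h5
      simp only [Units.val_mul, ← Matrix.mulVec_mulVec] at h4
      rw [h3, gl_mul_inv_mulVec, Matrix.smul_mulVec, Matrix.one_mulVec] at h4
      exact h4
    -- `U' ≤ span {v, x v}`
    obtain ⟨S, hS⟩ : ∃ S : Submodule F (Fin n → F),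
        S = Submodule.span F {v, (x : Matrix (Fin n) (Fin n) F) *ᵥ v} := ⟨_, rfl⟩
    have hvS : v ∈ S := hS ▸ Submodule.subset_span (by simp)
    have hxvS : (x : Matrix (Fin n) (Fin n) F) *ᵥ v ∈ S := hS ▸ Submodule.subset_span (by simp)
    have hξ0 : (ξ : F) ≠ 0 := ξ.ne_zero
    have hysub : ∀ u, (y : Matrix (Fin n) (Fin n) F) *ᵥ u - u ∈ S := by
      intro u
      rw [hy, hτ, comm_sub_mem hF ha hv x u]
      have : ∀ (b c : F), u - b • ((x : Matrix (Fin n) (Fin n) F) *ᵥ v) + c • v - u =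
          -(b • ((x : Matrix (Fin n) (Fin n) F) *ᵥ v)) + c • v := by
        intro b c; abel
      rw [this]
      exact S.add_mem (S.neg_mem (S.smul_mem _ hxvS)) (S.smul_mem _ hvS)
    have hU'S : U' ≤ S := by
      intro u hu
      have h1 := hU'eig u hu
      have h2 := hysub u
      -- `(1 - ξ) • y u = u - y u`... use `u = ξ • y u`: `y u - u = (1 - ξ) • y u`, and `y u = ξ⁻¹ • u`
      have h3 : (y : Matrix (Fin n) (Fin n) F) *ᵥ u = (ξ : F)⁻¹ • u := by
        conv_rhs => rw [h1]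
        rw [smul_smul, inv_mul_cancel₀ hξ0, one_smul]
      rw [h3] at h2
      have h4 : (ξ : F)⁻¹ • u - u = ((ξ : F)⁻¹ - 1) • u := by rw [sub_smul, one_smul]
      rw [h4] at h2
      have h5 : (ξ : F)⁻¹ - 1 ≠ 0 := by
        intro h6
        apply hξ1
        have : (ξ : F)⁻¹ = 1 := sub_eq_zero.1 h6
        rw [← inv_inv (ξ : F), this, inv_one]
      have h6 := S.smul_mem ((ξ : F)⁻¹ - 1)⁻¹ h2
      rwa [smul_smul, inv_mul_cancel₀ h5, one_smul] at h6
    have hSdim : Module.finrank F S ≤ 2 := by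
      rw [hS]
      have h1 : ({v, (x : Matrix (Fin n) (Fin n) F) *ᵥ v} : Set (Fin n → F)) =
          (({v, (x : Matrix (Fin n) (Fin n) F) *ᵥ v} : Finset (Fin n → F)) : Set (Fin n → F)) := by
        simp
      rw [h1]
      exact (finrank_span_finset_le_card _).trans Finset.card_le_two
    have hU'eqS : U' = S :=
      Submodule.eq_of_le_of_finrank_le hU'S (by omega)
    -- `y v = ξ⁻¹ v`
    have hvU' : v ∈ U' := hU'eqS ▸ hvS
    have h7 := hU'eig v hvU'
    have h8 := comm_sub_mem hF ha hv x v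
    rw [← hτ, ← hy] at h8
    obtain ⟨c, hc⟩ : ∃ c : F, c = a * hermForm n F q
        (((x⁻¹ : GL (Fin n) F) : Matrix (Fin n) (Fin n) F) *ᵥ v) v := ⟨_, rfl⟩
    rw [← hc] at h8
    -- `x v ∈ span {v}`
    have hxv : (x : Matrix (Fin n) (Fin n) F) *ᵥ v ∈ Submodule.span F {v} := by
      by_cases hc0 : c = 0
      · -- then `y v = v`, so `v = ξ • v`, so `v = 0`
        rw [hc0, zero_smul, sub_zero, hv, mul_zero, zero_smul, add_zero] at h8
        rw [h8] at h7
        have h9 : ((ξ : F) - 1) • v = 0 := by rw [sub_smul, one_smul, ← h7, sub_self]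
        rcases smul_eq_zero.1 h9 with h10 | h10
        · exact absurd (sub_eq_zero.1 h10) hξ1
        · rw [h10, Matrix.mulVec_zero]
          exact Submodule.zero_mem _
      · -- solve for `x v`
        rw [h8] at h7
        obtain ⟨d, hd⟩ : ∃ d : F, d = a * hermForm n F q
            (v - c • ((x : Matrix (Fin n) (Fin n) F) *ᵥ v)) v := ⟨_, rfl⟩
        rw [← hd] at h7
        have h9 : ((ξ : F) * c) • ((x : Matrix (Fin n) (Fin n) F) *ᵥ v) = ((ξ : F) - 1 + (ξ : F) * d) • v := by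
          have h10 : (ξ : F) • (v - c • ((x : Matrix (Fin n) (Fin n) F) *ᵥ v) + d • v) =
              ((ξ : F) + (ξ : F) * d) • v - ((ξ : F) * c) • ((x : Matrix (Fin n) (Fin n) F) *ᵥ v) := by
            rw [smul_add, smul_sub, smul_smul, smul_smul, add_smul]
            abel
          rw [h10] at h7
          have h11 : ((ξ : F) * c) • ((x : Matrix (Fin n) (Fin n) F) *ᵥ v) =
              ((ξ : F) + (ξ : F) * d) • v - v := by
            rw [eq_sub_iff_add_eq, add_comm]
            rw [eq_sub_iff_add_eq] at h7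
            exact h7.symm ▸ rfl
          rw [h11]
          rw [sub_add_eq_add_sub, sub_smul, one_smul]
        have h12 : (ξ : F) * c ≠ 0 := mul_ne_zero hξ0 hc0
        have h13 := congrArg (fun z => ((ξ : F) * c)⁻¹ • z) h9
        simp only [smul_smul, inv_mul_cancel₀ h12, one_smul] at h13
        rw [h13]
        exact Submodule.smul_mem _ _ (Submodule.mem_span_singleton_self v)
    have hS1 : S ≤ Submodule.span F {v} := by
      rw [hS, Submodule.span_le]
      intro z hz
      rcases hz with rfl | hz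
      · exact Submodule.mem_span_singleton_self _
      · rw [Set.mem_singleton_iff] at hz
        rw [hz]
        exact hxv
    have hS1dim : Module.finrank F S ≤ 1 := by
      have h1 : ({v} : Set (Fin n → F)) = (({v} : Finset (Fin n → F)) : Set (Fin n → F)) := by simp
      have h2 : Module.finrank F (Submodule.span F ({v} : Set (Fin n → F))) ≤ 1 := by
        rw [h1]
        exact (finrank_span_finset_le_card _).trans (by simp)
      exact (Submodule.finrank_mono hS1).trans h2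
    rw [← hU'eqS] at hS1dim
    omega

/-- **UP3-B6'** -/
theorem not_su_le_subgroupNormalizer' (hF : Fintype.card F = q ^ 2) (hn : 4 ≤ n)
    (R : Subgroup (GL (Fin n) F)) (habs : ActsAbsolutelyIrreducibly (matrixSet R))
    (hcl2 : ∀ x ∈ R, ∀ y ∈ R, x * y * x⁻¹ * y⁻¹ ∈ scalars (Fin n) F) :
    ¬ GU n F q ⊓ specialLinear (Fin n) F ≤ subgroupNormalizer R := by
  classical
  intro h
  have hscal : ∀ x ∈ R, ∃ c : F, (x : Matrix (Fin n) (Fin n) F) = c • (1 : Matrix (Fin n) (Fin n) F) := by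
    intro x hx
    apply scalar_of_comm_utv hF (by omega : 2 ≤ n)
    intro a v ha hv
    have h1 := comm_eq_one' hF hn R habs hcl2 h ha hv x hx
    have h2 : utv hF a v * x = x * utv hF a v := by
      have h3 := congrArg (fun g => g * x * utv hF a v) h1
      simp only [inv_mul_cancel_right, one_mul] at h3
      exact h3
    have h4 := congrArg (fun g : GL (Fin n) F => (g : Matrix (Fin n) (Fin n) F)) h2
    simp only [Units.val_mul] at h4
    exact h4.symm
  obtain ⟨W, hW⟩ : ∃ W : Submodule F (Fin n → F), W = F ∙ (Pi.single (⟨0, by omega⟩ : Fin n) (1 : F)) :=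
    ⟨_, rfl⟩
  have hne : (Pi.single (⟨0, by omega⟩ : Fin n) (1 : F) : Fin n → F) ≠ 0 := by
    intro h0
    have := congrFun h0 ⟨0, by omega⟩
    simp at this
  have hinv : ∀ s ∈ matrixSet R, W.map (Matrix.toLin' s) ≤ W := by
    rintro s ⟨x, hx, rfl⟩
    obtain ⟨c, hc⟩ := hscal x hx
    rintro _ ⟨u, hu, rfl⟩
    simp only [hc, Matrix.toLin'_apply, Matrix.smul_mulVec, Matrix.one_mulVec]
    exact W.smul_mem c hu
  have hfr : Module.finrank F W = 1 := by
    rw [hW]
    exact finrank_span_singleton hne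
  rcases habs.1 W hinv with h0 | h0
  · rw [h0, finrank_bot] at hfr
    omega
  · rw [h0, finrank_top, Module.finrank_fin_fun] at hfr
    omega

end Cfsg.Agent.Lib.H15.UP3
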