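/-
UP3 (unitary phase 3, helper15): the rows `SU_4(q)` (S5784) and `SU_6(q)` (S5802).  Definitions of the standard model used
for the class-3 exclusion in `SU_6(2)`:  `K = F[t]`, `t = tstd ω` (two companion blocks of `x³ - ω`), and the
`F₂`-structure `pstd ω` (columns `κ v₁ + κ̄ v₂`).
-/
import Cfsg.Agent.Lib.H15.UP2Base

set_option autoImplicit false

namespace Cfsg.Agent.Lib.H15.UP3

open Cfsg Cfsg.Geo
open scoped MatrixGroups Matrix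

variable {F : Type*} [Field F]

/-- two companion blocks of `x³ - ω`: `e₀ ↦ e₁ ↦ e₂ ↦ ω e₀`, `e₃ ↦ e₄ ↦ e₅ ↦ ω e₃` -/
def tstd (ω : F) : Matrix (Fin 6) (Fin 6) F :=
  !![0, 0, ω, 0, 0, 0; 1, 0, 0, 0, 0, 0; 0, 1, 0, 0, 0, 0; 0, 0, 0, 0, 0, ω; 0, 0, 0, 1, 0, 0; 0, 0, 0, 0, 1, 0]

/-- the `F₂`-structure: columns `κ v₁ + κ̄ v₂` for `κ = 1, t, t², ω, ω t, ω t²` -/
def pstd (ω : F) : Matrix (Fin 6) (Fin 6) F :=
  !![1, 0, 0, ω, 0, 0; 0, 1, 0, 0, ω, 0; 0, 0, 1, 0, 0, ω; 1, 0, 0, ω ^ 2, 0, 0; 0, 0, ω ^ 2, 0, 0, ω;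
     0, ω ^ 2, 0, 0, ω, 0]

/-- the inverse of `pstd ω` (when `ω² + ω + 1 = 0` and `2 = 0`) -/
def pstdInv (ω : F) : Matrix (Fin 6) (Fin 6) F :=
  !![ω ^ 2, 0, 0, ω, 0, 0; 0, ω ^ 2, 0, 0, 0, ω ^ 2; 0, 0, ω ^ 2, 0, ω ^ 2, 0; 1, 0, 0, 1, 0, 0; 0, 1, 0, 0, 0, ω;
     0, 0, 1, 0, ω, 0]

theorem pstd_mul_pstdInv {ω : F} (hω : ω ^ 2 + ω + 1 = 0) (h2 : (2 : F) = 0) : pstd ω * pstdInv ω = 1 := by
  ext i j
  fin_cases i <;> fin_cases j <;>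
    simp [pstd, pstdInv, Matrix.mul_apply, Fin.sum_univ_succ] <;>
    first
      | linear_combination ω * h2
      | linear_combination hω - h2
      | linear_combination (ω ^ 2 - ω) * hω + hω - h2
      | linear_combination (ω ^ 2 - ω) * hω + ω * h2
      | linear_combination ω ^ 2 * h2

theorem pstdInv_mul_pstd {ω : F} (hω : ω ^ 2 + ω + 1 = 0) (h2 : (2 : F) = 0) : pstdInv ω * pstd ω = 1 :=
  mul_eq_one_comm.1 (pstd_mul_pstdInv hω h2)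

end Cfsg.Agent.Lib.H15.UP3
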