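/-
UP3-E6a (helper15), combinatorial core: Mitchell's 126 points in `F_4^6`.  A coordinate vector `c : Fin 6 → F` is a *Mitchell
point* if it has exactly two non-zero coordinates, or six non-zero coordinates with product `1`.  The map
`c ↦ c + (∑ c) • (1,…,1)` (the transvection with centre `(1,…,1)`) preserves Mitchell points.  Checked in helper4's explicit
model `F4` by `decide +kernel` and transferred along `F4 ≃+* F`.
-/
import Cfsg.Agent.Lib.H4.AschU91a

set_option autoImplicit false

namespace Cfsg.Agent.Lib.H15.UP3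

open Cfsg.Agent.Lib.H4.Asch

section defs

variable {K : Type*} [Field K] [DecidableEq K]

/-- number of non-zero coordinates -/
def mnz (c : Fin 6 → K) : ℕ := (Finset.univ.filter fun i => c i ≠ 0).card

/-- Mitchell point (coordinates) -/
def MP (c : Fin 6 → K) : Prop := mnz c = 2 ∨ (mnz c = 6 ∧ ∏ i, c i = 1)

/-- explicit version -/
def mnze (c : Fin 6 → K) : ℕ :=
  (if c 0 = 0 then 0 else 1) + (if c 1 = 0 then 0 else 1) + (if c 2 = 0 then 0 else 1) +
    (if c 3 = 0 then 0 else 1) + (if c 4 = 0 then 0 else 1) + (if c 5 = 0 then 0 else 1)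

def MPe (c : Fin 6 → K) : Prop := mnze c = 2 ∨ (mnze c = 6 ∧ c 0 * c 1 * c 2 * c 3 * c 4 * c 5 = 1)

instance (c : Fin 6 → K) : Decidable (MPe c) := by unfold MPe; infer_instance

theorem mnz_eq_mnze (c : Fin 6 → K) : mnz c = mnze c := by
  unfold mnz mnze
  rw [Finset.card_filter, Fin.sum_univ_six]
  simp only [ite_not]

theorem mp_iff (c : Fin 6 → K) : MP c ↔ MPe c := by
  unfold MP MPe
  rw [mnz_eq_mnze, Fin.prod_univ_six]

end defs

/-- the model computation -/
theorem model_tau : ∀ a b c d e f : F4, MPe ![a, b, c, d, e, f] →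
    MPe ![a + (a + b + c + d + e + f), b + (a + b + c + d + e + f), c + (a + b + c + d + e + f),
      d + (a + b + c + d + e + f), e + (a + b + c + d + e + f), f + (a + b + c + d + e + f)] := by
  decide +kernel

section transfer

variable {F : Type*} [Field F] [DecidableEq F]

theorem mpe_map (ι : F4 ≃+* F) (c : Fin 6 → F4) : MPe (fun i => ι (c i)) ↔ MPe c := by
  unfold MPe mnze
  simp only [map_eq_zero_iff ι ι.injective]
  rw [← map_mul, ← map_mul, ← map_mul, ← map_mul, ← map_mul]
  constructor
  · rintro (h | ⟨h, h'⟩)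
    · exact Or.inl h
    · exact Or.inr ⟨h, ι.injective (by rw [h', map_one])⟩
  · rintro (h | ⟨h, h'⟩)
    · exact Or.inl h
    · exact Or.inr ⟨h, by rw [h', map_one]⟩

/-- the transvection with centre `(1,…,1)` preserves Mitchell points -/
theorem mp_tau [Fintype F] (hF : Fintype.card F = 4) (c : Fin 6 → F) (hc : MP c) :
    MP (fun i => c i + ∑ j, c j) := by
  let ι : F4 ≃+* F := FiniteField.ringEquivOfCardEq (K := F4) (K' := F) (by rw [F4.card_eq, hF])
  obtain ⟨c0, rfl⟩ : ∃ c0 : Fin 6 → F4, c = fun i => ι (c0 i) :=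
    ⟨fun i => ι.symm (c i), by funext i; simp⟩
  rw [mp_iff] at hc ⊢
  rw [mpe_map] at hc
  have h1 : c0 = ![c0 0, c0 1, c0 2, c0 3, c0 4, c0 5] := by
    funext i
    fin_cases i <;> rfl
  rw [h1] at hc
  have h2 := model_tau _ _ _ _ _ _ hc
  rw [← mpe_map ι] at h2
  convert h2 using 2 with i
  rw [Fin.sum_univ_six]
  fin_cases i <;> simp [map_add]

end transfer

end Cfsg.Agent.Lib.H15.UP3
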