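/-
UP3-E6a (helper15): the monomial group `3⁵ : S₆` of `SU_6(2)` is not maximal (it lies in Mitchell's group): the setwise
stabiliser of the 126 Mitchell points (coordinates w.r.t. the orthonormal frame: two non-zero coordinates, or six with product 1)
lies strictly between.
-/
import Cfsg.Agent.Lib.H15.UP3E6aModel
import Cfsg.Agent.Lib.H15.UP2Base
import Cfsg.Agent.Lib.H14.C2Defs
import Cfsg.Agent.Lib.H23.UP2E1a

set_option autoImplicit false
set_option linter.unusedSectionVars false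

namespace Cfsg.Agent.Lib.H15.UP3

open Cfsg Cfsg.Geo Cfsg.Agent.Lib.H15.SUGen Cfsg.Agent.Lib.H15.UP2
open scoped MatrixGroups Matrix

variable {F : Type*} [Field F] [Fintype F]

/-- coordinates with respect to an orthonormal frame -/
def coord (x : Fin 6 → Fin 6 → F) (v : Fin 6 → F) : Fin 6 → F := fun i => hermForm 6 F 2 v (x i)

theorem coord_add (x : Fin 6 → Fin 6 → F) (u v : Fin 6 → F) (i : Fin 6) :
    coord x (u + v) i = coord x u i + coord x v i := hf_add_left (q := 2) u v (x i)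

theorem coord_smul (x : Fin 6 → Fin 6 → F) (a : F) (v : Fin 6 → F) (i : Fin 6) :
    coord x (a • v) i = a * coord x v i := hf_smul_left (q := 2) a v (x i)

theorem herm_sum_right (hF : Fintype.card F = 2 ^ 2) {ι : Type*} (s : Finset ι) (v : Fin 6 → F)
    (y : ι → Fin 6 → F) : hermForm 6 F 2 v (∑ j ∈ s, y j) = ∑ j ∈ s, hermForm 6 F 2 v (y j) := by
  classical
  induction s using Finset.induction_on with
  | empty => simpa using hf_zero_right (q := 2) hF v
  | insert a s ha ih =>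
    rw [Finset.sum_insert ha, Finset.sum_insert ha, ← ih]
    exact hf_add_right (q := 2) hF v _ _

theorem herm_sum_left {ι : Type*} (s : Finset ι) (v : Fin 6 → F)
    (y : ι → Fin 6 → F) : hermForm 6 F 2 (∑ j ∈ s, y j) v = ∑ j ∈ s, hermForm 6 F 2 (y j) v := by
  classical
  induction s using Finset.induction_on with
  | empty => simpa using hf_zero_left (q := 2) v
  | insert a s ha ih =>
    rw [Finset.sum_insert ha, Finset.sum_insert ha, ← ih]
    exact hf_add_left (q := 2) _ _ v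

/-- the setwise stabiliser of the Mitchell points -/
def mitchellStab [DecidableEq F] (x : Fin 6 → Fin 6 → F) : Subgroup (GL (Fin 6) F) where
  carrier := {g | ∀ v, MP (coord x ((g : Matrix (Fin 6) (Fin 6) F) *ᵥ v)) ↔ MP (coord x v)}
  mul_mem' := by
    intro a b ha hb v
    rw [Units.val_mul, ← Matrix.mulVec_mulVec, ha, hb]
  one_mem' := by
    intro v
    rw [Units.val_one, Matrix.one_mulVec]
  inv_mem' := by
    intro a ha v
    have h := ha (((a⁻¹ : GL (Fin 6) F) : Matrix (Fin 6) (Fin 6) F) *ᵥ v)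
    rw [Matrix.mulVec_mulVec, ← Units.val_mul, mul_inv_cancel, Units.val_one, Matrix.one_mulVec] at h
    exact h.symm

variable [DecidableEq F]

/-- monomial elements of determinant one (w.r.t. the frame) preserve the Mitchell points -/
theorem mono_mem_mitchellStab (hF : Fintype.card F = 2 ^ 2) (x : Fin 6 → Fin 6 → F)
    (hx : ∀ i j, hermForm 6 F 2 (x i) (x j) = if i = j then 1 else 0)
    (g : GL (Fin 6) F) (hgU : g ∈ GU 6 F 2) (hgS : g ∈ specialLinear (Fin 6) F)
    (σ : Equiv.Perm (Fin 6)) (d : Fin 6 → F)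
    (hg : ∀ i, (g : Matrix (Fin 6) (Fin 6) F) *ᵥ x i = d i • x (σ i)) :
    g ∈ mitchellStab x := by
  have h2 : (1 : F) + 1 = 0 := Cfsg.Agent.Lib.H23.UP2.f4_two hF
  have h2' : (2 : F) = 0 := by rw [← one_add_one_eq_two]; exact h2
  -- `d i ≠ 0`
  have hd0 : ∀ i, d i ≠ 0 := by
    intro i hdi
    have h1 := hg i
    rw [hdi, zero_smul] at h1
    have h3 := (mem_GU_iff g).1 hgU (x i) (x i)
    have h4 : hermForm 6 F 2 (0 : Fin 6 → F) 0 = 0 := hf_zero_left (q := 2) (0 : Fin 6 → F)
    rw [h1, h4, hx i i, if_pos rfl] at h3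
    exact zero_ne_one h3
  -- determinant
  have hdet : ∏ i, d i = 1 := by
    obtain ⟨X, hX⟩ : ∃ X : Matrix (Fin 6) (Fin 6) F, X = fun a i => x i a := ⟨_, rfl⟩
    obtain ⟨Y, hY⟩ : ∃ Y : Matrix (Fin 6) (Fin 6) F, Y = fun i a => x i a ^ 2 := ⟨_, rfl⟩
    have hYX : Y * X = 1 := by
      ext i j
      rw [Matrix.mul_apply, Matrix.one_apply]
      have := hx j i
      unfold hermForm at this
      rw [hX, hY]
      simp only
      rw [show (∑ a, x i a ^ 2 * x j a) = ∑ a, x j a * x i a ^ 2 from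
        Finset.sum_congr rfl (fun a _ => mul_comm _ _), this]
      by_cases hij : i = j
      · rw [if_pos hij, if_pos hij.symm]
      · rw [if_neg hij, if_neg (Ne.symm hij)]
    have hYgX : Y * (g : Matrix (Fin 6) (Fin 6) F) * X = Cfsg.Agent.Lib.H14.C2.monMat σ d := by
      ext j i
      rw [Matrix.mul_assoc, Matrix.mul_apply, Cfsg.Agent.Lib.H14.C2.monMat_apply]
      have h1 : ∀ a, ((g : Matrix (Fin 6) (Fin 6) F) * X) a i = ((g : Matrix (Fin 6) (Fin 6) F) *ᵥ x i) a := by
        intro a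
        rw [Matrix.mul_apply, hX]
        rfl
      simp only [h1, hg i]
      have h3 : hermForm 6 F 2 (d i • x (σ i)) (x j) = d i * (if σ i = j then 1 else 0) := by
        rw [← hx (σ i) j]
        exact hf_smul_left (q := 2) (d i) _ _
      unfold hermForm at h3
      rw [hY]
      simp only
      have h4 : (∑ a, x j a ^ 2 * (d i • x (σ i)) a) = ∑ a, (d i • x (σ i)) a * x j a ^ 2 := by
        apply Finset.sum_congr rfl
        intro a _
        ring
      rw [h4, h3]
      by_cases hji : j = σ i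
      · rw [if_pos hji, if_pos hji.symm, mul_one]
      · rw [if_neg hji, if_neg (Ne.symm hji), mul_zero]
    have hdetg : (g : Matrix (Fin 6) (Fin 6) F).det = 1 := (Cfsg.Agent.Lib.H14.C2.mem_sl_iff g).1 hgS
    have h5 := congrArg Matrix.det hYgX
    rw [Matrix.det_mul, Matrix.det_mul, hdetg, mul_one, ← Matrix.det_mul, hYX, Matrix.det_one,
      Cfsg.Agent.Lib.H14.C2.det_monMat] at h5
    have h6 : ((Equiv.Perm.sign σ : ℤ) : F) = 1 := by
      rcases Int.units_eq_one_or (Equiv.Perm.sign σ) with h | h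
      · rw [h]; simp
      · rw [h]
        simp only [Units.val_neg, Units.val_one, Int.cast_neg, Int.cast_one]
        linear_combination -h2
    rw [h6, one_mul] at h5
    exact h5.symm
  -- coordinates of `g v`
  have hcoord : ∀ v i, coord x ((g : Matrix (Fin 6) (Fin 6) F) *ᵥ v) (σ i) = ((d i)⁻¹) ^ 2 * coord x v i := by
    intro v i
    have h1 : x (σ i) = (d i)⁻¹ • ((g : Matrix (Fin 6) (Fin 6) F) *ᵥ x i) := by
      rw [hg i, smul_smul, inv_mul_cancel₀ (hd0 i), one_smul]
    unfold coord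
    rw [h1]
    have h3 := hf_smul_right (q := 2) ((d i)⁻¹) ((g : Matrix (Fin 6) (Fin 6) F) *ᵥ v)
      ((g : Matrix (Fin 6) (Fin 6) F) *ᵥ x i)
    unfold hf at h3
    rw [h3, (mem_GU_iff g).1 hgU v (x i)]
  have he0 : ∀ i, ((d i)⁻¹) ^ 2 ≠ 0 := fun i => pow_ne_zero _ (inv_ne_zero (hd0 i))
  have hmnz : ∀ v, mnz (coord x ((g : Matrix (Fin 6) (Fin 6) F) *ᵥ v)) = mnz (coord x v) := by
    intro v
    unfold mnz
    symm
    apply Finset.card_bij (fun i _ => σ i)
    · intro i hi
      rw [Finset.mem_filter] at hi ⊢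
      refine ⟨Finset.mem_univ _, ?_⟩
      rw [hcoord]
      exact mul_ne_zero (he0 i) hi.2
    · intro i _ j _ hij
      exact σ.injective hij
    · intro j hj
      rw [Finset.mem_filter] at hj
      refine ⟨σ.symm j, ?_, by simp⟩
      rw [Finset.mem_filter]
      refine ⟨Finset.mem_univ _, ?_⟩
      have h1 := hcoord v (σ.symm j)
      rw [Equiv.apply_symm_apply] at h1
      intro h0
      rw [h0, mul_zero] at h1
      exact hj.2 h1
  have hprod : ∀ v, ∏ i, coord x ((g : Matrix (Fin 6) (Fin 6) F) *ᵥ v) i = ∏ i, coord x v i := by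
    intro v
    rw [← Equiv.prod_comp σ]
    simp only [hcoord]
    rw [Finset.prod_mul_distrib, Finset.prod_pow, Finset.prod_inv_distrib, hdet, inv_one, one_pow, one_mul]
  intro v
  unfold MP
  rw [hmnz, hprod]

/-- the sum of the frame vectors -/
def rsum (x : Fin 6 → Fin 6 → F) : Fin 6 → F := ∑ i, x i

theorem herm_rsum_x (x : Fin 6 → Fin 6 → F)
    (hx : ∀ i j, hermForm 6 F 2 (x i) (x j) = if i = j then 1 else 0) (i : Fin 6) :
    hermForm 6 F 2 (rsum x) (x i) = 1 := by
  unfold rsum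
  rw [herm_sum_left]
  simp only [hx]
  rw [Finset.sum_ite_eq' Finset.univ i]
  simp

theorem herm_v_rsum (hF : Fintype.card F = 2 ^ 2) (x : Fin 6 → Fin 6 → F) (v : Fin 6 → F) :
    hermForm 6 F 2 v (rsum x) = ∑ j, coord x v j := by
  unfold rsum
  rw [herm_sum_right hF]
  rfl

theorem herm_rsum_rsum (hF : Fintype.card F = 2 ^ 2) (x : Fin 6 → Fin 6 → F)
    (hx : ∀ i j, hermForm 6 F 2 (x i) (x j) = if i = j then 1 else 0) :
    hermForm 6 F 2 (rsum x) (rsum x) = 0 := by
  have h2 : (1 : F) + 1 = 0 := Cfsg.Agent.Lib.H23.UP2.f4_two hF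
  rw [herm_v_rsum hF]
  unfold coord
  simp only [herm_rsum_x x hx]
  rw [Finset.sum_const, Finset.card_univ, Fintype.card_fin]
  simp only [nsmul_eq_mul, Nat.cast_ofNat, mul_one]
  linear_combination 3 * h2

theorem one_add_one_pow (hF : Fintype.card F = 2 ^ 2) : (1 : F) + 1 ^ 2 = 0 := by
  rw [one_pow]; exact Cfsg.Agent.Lib.H23.UP2.f4_two hF

/-- the transvection with centre `Σ x_i` preserves the Mitchell points -/
theorem tau_mem_mitchellStab (hF : Fintype.card F = 2 ^ 2) (x : Fin 6 → Fin 6 → F)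
    (hx : ∀ i j, hermForm 6 F 2 (x i) (x j) = if i = j then 1 else 0) :
    utv hF 1 (rsum x) ∈ mitchellStab x := by
  have h2 : (1 : F) + 1 = 0 := Cfsg.Agent.Lib.H23.UP2.f4_two hF
  have hr := herm_rsum_rsum hF x hx
  have ha := one_add_one_pow hF
  have hcoord : ∀ v, coord x (((utv hF 1 (rsum x) : GL (Fin 6) F) : Matrix (Fin 6) (Fin 6) F) *ᵥ v) =
      fun i => coord x v i + ∑ j, coord x v j := by
    intro v
    funext i
    rw [utv_mulVec hF ha hr, coord_add, coord_smul, one_mul, herm_v_rsum hF]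
    unfold coord
    rw [herm_rsum_x x hx, mul_one]
  have hinv : ∀ v, ((utv hF 1 (rsum x) : GL (Fin 6) F) : Matrix (Fin 6) (Fin 6) F) *ᵥ
      (((utv hF 1 (rsum x) : GL (Fin 6) F) : Matrix (Fin 6) (Fin 6) F) *ᵥ v) = v := by
    intro v
    rw [utv_mulVec hF ha hr, utv_mulVec hF ha hr]
    have h3 := hf_add_left (q := 2) v ((1 * hermForm 6 F 2 v (rsum x)) • rsum x) (rsum x)
    have h4 := hf_smul_left (q := 2) (1 * hermForm 6 F 2 v (rsum x)) (rsum x) (rsum x)
    unfold hf at h3 h4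
    rw [h3, h4, hr, mul_zero, add_zero, add_assoc, ← add_smul]
    have h5 : (1 * hermForm 6 F 2 v (rsum x) + 1 * hermForm 6 F 2 v (rsum x)) = 0 := by
      linear_combination hermForm 6 F 2 v (rsum x) * h2
    rw [h5, zero_smul, add_zero]
  have hF4 : Fintype.card F = 4 := by rw [hF]; norm_num
  intro v
  constructor
  · intro h
    have h6 := mp_tau hF4 _ h
    rw [← hcoord, hinv] at h6
    exact h6
  · intro h
    rw [hcoord]
    exact mp_tau hF4 _ h

/-- partial sums of the frame vectors -/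
def rS (x : Fin 6 → Fin 6 → F) (S : Finset (Fin 6)) : Fin 6 → F := ∑ i ∈ S, x i

theorem herm_rS_x (x : Fin 6 → Fin 6 → F)
    (hx : ∀ i j, hermForm 6 F 2 (x i) (x j) = if i = j then 1 else 0) (S : Finset (Fin 6)) (a : Fin 6) :
    hermForm 6 F 2 (rS x S) (x a) = if a ∈ S then 1 else 0 := by
  unfold rS
  rw [herm_sum_left]
  simp only [hx]
  rw [Finset.sum_ite_eq' S a]

theorem herm_v_rS (hF : Fintype.card F = 2 ^ 2) (x : Fin 6 → Fin 6 → F) (S : Finset (Fin 6)) (v : Fin 6 → F) :
    hermForm 6 F 2 v (rS x S) = ∑ j ∈ S, coord x v j := by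
  unfold rS
  rw [herm_sum_right hF]
  rfl

theorem herm_rS_rS (hF : Fintype.card F = 2 ^ 2) (x : Fin 6 → Fin 6 → F)
    (hx : ∀ i j, hermForm 6 F 2 (x i) (x j) = if i = j then 1 else 0) (S : Finset (Fin 6)) :
    hermForm 6 F 2 (rS x S) (rS x S) = (S.card : F) := by
  rw [herm_v_rS hF]
  unfold coord
  simp only [herm_rS_x x hx]
  rw [Finset.sum_ite_mem, Finset.inter_self, Finset.sum_const]
  simp

theorem c2_k1_q2_n6_aux {q : ℕ} (hF : Fintype.card F = q ^ 2) (hq : q = 2) (D : Fin 6 → Submodule F (Fin 6 → F))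
    (hD : IsNondegenerateMDecomposition (hermForm 6 F q) 1 D) :
    ¬ IsMaximalIn (GU 6 F q ⊓ specialLinear (Fin 6) F)
      (decompositionStabilizer D ⊓ (GU 6 F q ⊓ specialLinear (Fin 6) F)) := by
  classical
  subst hq
  have h2 : (1 : F) + 1 = 0 := Cfsg.Agent.Lib.H23.UP2.f4_two hF
  -- generators of the lines
  have hxe : ∀ i, ∃ x ∈ D i, x ≠ 0 := by
    intro i
    have hne : D i ≠ ⊥ := by
      intro h
      have := hD.decomp.finrank_eq i
      rw [h, finrank_bot] at this
      omega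
    exact (Submodule.ne_bot_iff _).1 hne
  choose x hxD hx0 using hxe
  have hspan : ∀ i, ∀ y ∈ D i, ∃ b : F, b • x i = y := by
    intro i y hy
    obtain ⟨b, hb⟩ := (finrank_eq_one_iff_of_nonzero' (⟨x i, hxD i⟩ : ↥(D i))
      (fun h => hx0 i (congrArg Subtype.val h))).1 (hD.decomp.finrank_eq i) ⟨y, hy⟩
    exact ⟨b, congrArg Subtype.val hb⟩
  have hxx : ∀ i, hermForm 6 F 2 (x i) (x i) = 1 := by
    intro i
    obtain ⟨⟨y, hyD, hy⟩, -⟩ := hD.nondegenerate i (x i) (hxD i) (hx0 i)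
    obtain ⟨b, hb⟩ := hspan i y hyD
    have h3 := hf_smul_left (q := 2) b (x i) (x i)
    unfold hf at h3
    rw [← hb, h3] at hy
    have h4 : hermForm 6 F 2 (x i) (x i) ≠ 0 := right_ne_zero_of_mul hy
    have h5 := hf_conj (q := 2) hF (x i) (x i)
    unfold hf at h5
    exact Cfsg.Agent.Lib.H23.UP2.f4_fix h5 h4
  have hx : ∀ i j, hermForm 6 F 2 (x i) (x j) = if i = j then 1 else 0 := by
    intro i j
    by_cases hij : i = j
    · subst hij
      rw [if_pos rfl, hxx]
    · rw [if_neg hij]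
      exact hD.orthogonal i j hij (x i) (hxD i) (x j) (hxD j)
  intro hmax
  obtain ⟨M, hM⟩ : ∃ M : Subgroup (GL (Fin 6) F),
      M = mitchellStab x ⊓ (GU 6 F 2 ⊓ specialLinear (Fin 6) F) := ⟨_, rfl⟩
  have h1 : decompositionStabilizer D ⊓ (GU 6 F 2 ⊓ specialLinear (Fin 6) F) ≤ M := by
    rintro g ⟨hgD, hgU, hgS⟩
    obtain ⟨σ, hσ⟩ := hgD
    have hex : ∀ i, ∃ d : F, (g : Matrix (Fin 6) (Fin 6) F) *ᵥ x i = d • x (σ i) := by
      intro i
      have himg : (g : Matrix (Fin 6) (Fin 6) F) *ᵥ x i ∈ D (σ i) := by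
        rw [← hσ i]
        exact ⟨x i, hxD i, by simp [Matrix.toLin'_apply]⟩
      obtain ⟨b, hb⟩ := hspan (σ i) _ himg
      exact ⟨b, hb.symm⟩
    choose d hd using hex
    rw [hM]
    exact ⟨mono_mem_mitchellStab hF x hx g hgU hgS σ d hd, hgU, hgS⟩
  have ha := one_add_one_pow hF
  rcases hmax.2 M h1 (hM ▸ inf_le_right) with h | h
  · -- the transvection with centre `Σ x_i` is in `M` but not monomial
    have hτ : utv hF 1 (rsum x) ∈ M := by
      rw [hM]
      exact ⟨tau_mem_mitchellStab hF x hx, utv_mem hF 1 (rsum x)⟩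
    rw [h] at hτ
    obtain ⟨σ, hσ⟩ := hτ.1
    have himg : ((utv hF 1 (rsum x) : GL (Fin 6) F) : Matrix (Fin 6) (Fin 6) F) *ᵥ x 0 ∈ D (σ 0) := by
      rw [← hσ 0]
      exact ⟨x 0, hxD 0, by simp [Matrix.toLin'_apply]⟩
    obtain ⟨b, hb⟩ := hspan (σ 0) _ himg
    rw [utv_mulVec hF ha (herm_rsum_rsum hF x hx), herm_v_rsum hF] at hb
    have hc : ∀ a, b * (if σ 0 = a then 1 else 0) = (if (0 : Fin 6) = a then 1 else 0) +
        (1 * ∑ j, coord x (x 0) j) * 1 := by
      intro a
      have h3 := congrArg (fun w => coord x w a) hb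
      simp only [coord_smul, coord_add] at h3
      unfold coord at h3
      rw [hx, hx, herm_rsum_x x hx] at h3
      exact h3
    have hs : ∑ j, coord x (x 0) j = 1 := by
      unfold coord
      simp only [hx]
      rw [Finset.sum_ite_eq Finset.univ (0 : Fin 6)]
      simp
    rw [hs] at hc
    have hc1 := hc 1
    have hc2 := hc 2
    rw [if_neg (show ¬ (0 : Fin 6) = 1 by decide), zero_add, mul_one, mul_one] at hc1
    rw [if_neg (show ¬ (0 : Fin 6) = 2 by decide), zero_add, mul_one, mul_one] at hc2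
    by_cases h01 : σ 0 = 1
    · rw [if_neg (by rw [h01]; decide), mul_zero] at hc2
      exact zero_ne_one hc2
    · rw [if_neg h01, mul_zero] at hc1
      exact zero_ne_one hc1
  · -- a transvection moving a Mitchell point to a non-Mitchell point
    obtain ⟨S, hS⟩ : ∃ S : Finset (Fin 6), S = {0, 1, 2, 3} := ⟨_, rfl⟩
    have hr : hermForm 6 F 2 (rS x S) (rS x S) = 0 := by
      rw [herm_rS_rS hF x hx, hS]
      have : (({0, 1, 2, 3} : Finset (Fin 6)).card : F) = 4 := by
        rw [show ({0, 1, 2, 3} : Finset (Fin 6)).card = 4 by decide]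
        norm_num
      rw [this]
      linear_combination 2 * h2
    have hτ' : utv hF 1 (rS x S) ∈ M := by
      rw [h]
      exact utv_mem hF 1 (rS x S)
    rw [hM] at hτ'
    have h3 := hτ'.1 (x 0 + x 4)
    have hc0 : coord x (x 0 + x 4) = ![1, 0, 0, 0, 1, 0] := by
      funext a
      rw [coord_add]
      unfold coord
      rw [hx, hx]
      fin_cases a <;> simp
    have hs : hermForm 6 F 2 (x 0 + x 4) (rS x S) = 1 := by
      rw [herm_v_rS hF, hc0, hS]
      simp [Finset.sum_insert]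
    have hc1 : coord x (((utv hF 1 (rS x S) : GL (Fin 6) F) : Matrix (Fin 6) (Fin 6) F) *ᵥ (x 0 + x 4)) =
        ![0, 1, 1, 1, 1, 0] := by
      funext a
      rw [utv_mulVec hF ha hr, hs, coord_add, coord_smul, hc0]
      unfold coord
      rw [herm_rS_x x hx, hS]
      fin_cases a <;> simp [h2]
    rw [hc0, hc1, mp_iff, mp_iff] at h3
    have h4 : MPe (![1, 0, 0, 0, 1, 0] : Fin 6 → F) := by
      left
      unfold mnze
      simp
    have h5 := h3.2 h4
    unfold MPe mnze at h5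
    simp at h5

omit [DecidableEq F] in
/-- **UP3-E6a** -/
theorem c2_k1_q2_n6 {q : ℕ} (hF : Fintype.card F = q ^ 2) (hq : q = 2) (D : Fin 6 → Submodule F (Fin 6 → F))
    (hD : IsNondegenerateMDecomposition (hermForm 6 F q) 1 D) :
    ¬ IsMaximalIn (GU 6 F q ⊓ specialLinear (Fin 6) F)
      (decompositionStabilizer D ⊓ (GU 6 F q ⊓ specialLinear (Fin 6) F)) := by
  classical
  exact c2_k1_q2_n6_aux hF hq D hD

end Cfsg.Agent.Lib.H15.UP3
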