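/-
UP3-E6c (helper15), assembly: the normaliser in `SU_6(2)` of an adjoint-closed field `K ≅ F_64` lies in a class-5c subfield
group (`Sp_6(2) × 3`).  From the statements of UP3-E6c-A1 (helper20), A2 (helper2) and B (helper29).
-/
import Cfsg.Agent.Lib.H15.UP3Defs
import Cfsg.Agent.Lib.H15.UP3E6a
import Cfsg.Agent.Lib.H22.AschUM422a
import Cfsg.Agent.Lib.H28.AschP2E8e

set_option autoImplicit false
set_option linter.unusedSectionVars false

namespace Cfsg.Agent.Lib.H15.UP3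

open Cfsg Cfsg.Geo Cfsg.Agent.Lib.H15.SUGen Cfsg.Agent.Lib.H15.UP2
open scoped MatrixGroups Matrix

variable {F : Type*} [Field F] [Fintype F]

/-- `pstd ω` as an element of `GL` -/
noncomputable def pstdGL {ω : F} (hω : ω ^ 2 + ω + 1 = 0) (h2 : (2 : F) = 0) : GL (Fin 6) F :=
  ⟨pstd ω, pstdInv ω, pstd_mul_pstdInv hω h2, pstdInv_mul_pstd hω h2⟩

theorem pstdGL_val {ω : F} (hω : ω ^ 2 + ω + 1 = 0) (h2 : (2 : F) = 0) :
    ((pstdGL hω h2 : GL (Fin 6) F) : Matrix (Fin 6) (Fin 6) F) = pstd ω := rfl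

theorem pstdGL_inv_val {ω : F} (hω : ω ^ 2 + ω + 1 = 0) (h2 : (2 : F) = 0) :
    (((pstdGL hω h2)⁻¹ : GL (Fin 6) F) : Matrix (Fin 6) (Fin 6) F) = pstdInv ω := rfl

/-- the Gram matrix of the columns of `pstd ω` is the standard symplectic one -/
theorem pstd_gram {ω : F} (hω : ω ^ 2 + ω + 1 = 0) (h2 : (2 : F) = 0) (a b : Fin 6) :
    hermForm 6 F 2 (fun i => pstd ω i a) (fun i => pstd ω i b) = if b = a + 3 then 1 else 0 := by
  unfold hermForm
  rw [Fin.sum_univ_six]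
  fin_cases a <;> fin_cases b <;>
    simp [pstd] <;>
    first
      | linear_combination h2
      | linear_combination (ω - 1) * (ω ^ 3 + 1) * hω + h2
      | linear_combination ω ^ 3 * h2
      | linear_combination ω ^ 3 * (ω - 1) * hω + ω ^ 3 * h2
      | linear_combination (ω ^ 2 * (ω - 1) + 1) * hω - h2
      | linear_combination hω - h2
      | linear_combination (ω * (ω - 1) + 1) * hω - h2

theorem mulVec_eq_sum_col (M : Matrix (Fin 6) (Fin 6) F) (u : Fin 6 → F) :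
    M *ᵥ u = ∑ a, u a • (fun i => M i a) := by
  funext i
  simp [Matrix.mulVec, dotProduct, Finset.sum_apply, mul_comm]

/-- the form on the `F`-span of the columns of `pstd ω` -/
theorem herm_pstd (hF : Fintype.card F = 2 ^ 2) {ω : F} (hω : ω ^ 2 + ω + 1 = 0) (h2 : (2 : F) = 0)
    (u v : Fin 6 → F) :
    hermForm 6 F 2 (pstd ω *ᵥ u) (pstd ω *ᵥ v) = ∑ a, u a * (v (a + 3)) ^ 2 := by
  have hsl : ∀ (a : F) (y z : Fin 6 → F), hermForm 6 F 2 (a • y) z = a * hermForm 6 F 2 y z :=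
    fun a y z => hf_smul_left (q := 2) a y z
  have hsr : ∀ (a : F) (y z : Fin 6 → F), hermForm 6 F 2 y (a • z) = a ^ 2 * hermForm 6 F 2 y z :=
    fun a y z => hf_smul_right (q := 2) a y z
  rw [mulVec_eq_sum_col, mulVec_eq_sum_col, herm_sum_left]
  apply Finset.sum_congr rfl
  intro a _
  rw [hsl, herm_sum_right hF]
  congr 1
  simp only [hsr, pstd_gram hω h2]
  rw [Finset.sum_eq_single (a + 3)]
  · rw [if_pos rfl, mul_one]
  · intro b _ hb
    rw [if_neg hb, mul_zero]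
  · intro h
    exact absurd (Finset.mem_univ _) h

/-- rationality: entries in the prime subfield -/
theorem herm_pstd_mem (hF : Fintype.card F = 2 ^ 2) {ω : F} (hω : ω ^ 2 + ω + 1 = 0) (h2 : (2 : F) = 0)
    (F₀ : Subfield F) (u v : Fin 6 → F) (hu : ∀ i, u i ∈ F₀) (hv : ∀ i, v i ∈ F₀) :
    hermForm 6 F 2 (pstd ω *ᵥ u) (pstd ω *ᵥ v) ∈ F₀ := by
  rw [herm_pstd hF hω h2]
  exact Subfield.sum_mem _ (fun a _ => F₀.mul_mem (hu a) (F₀.pow_mem (hv _) 2))

/-- the form is alternating on the `F₂`-span -/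
theorem herm_pstd_self (hF : Fintype.card F = 2 ^ 2) {ω : F} (hω : ω ^ 2 + ω + 1 = 0) (h2 : (2 : F) = 0)
    (u : Fin 6 → F) (hu : ∀ i, u i ^ 2 = u i) :
    hermForm 6 F 2 (pstd ω *ᵥ u) (pstd ω *ᵥ u) = 0 := by
  rw [herm_pstd hF hω h2]
  simp only [hu]
  rw [Fin.sum_univ_six]
  have e0 : ((0 : Fin 6) + 3) = 3 := by decide
  have e1 : ((1 : Fin 6) + 3) = 4 := by decide
  have e2 : ((2 : Fin 6) + 3) = 5 := by decide
  have e3 : ((3 : Fin 6) + 3) = 0 := by decide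
  have e4 : ((4 : Fin 6) + 3) = 1 := by decide
  have e5 : ((5 : Fin 6) + 3) = 2 := by decide
  rw [e0, e1, e2, e3, e4, e5]
  linear_combination (u 0 * u 3 + u 1 * u 4 + u 2 * u 5) * h2

section cube

variable {n : ℕ}

/-- no zero divisors in a field subalgebra -/
theorem eq_zero_of_mul_eq_zero (K : Subalgebra F (Matrix (Fin n) (Fin n) F))
    (hcomm : ∀ x ∈ K, ∀ y ∈ K, x * y = y * x) (hinv : ∀ x ∈ K, x ≠ 0 → ∃ y ∈ K, x * y = 1)
    {x y : Matrix (Fin n) (Fin n) F} (hx : x ∈ K) (hy : y ∈ K) (hxy : x * y = 0) : x = 0 ∨ y = 0 := by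
  by_cases hx0 : x = 0
  · exact Or.inl hx0
  · right
    obtain ⟨x', hx', hxx'⟩ := hinv x hx hx0
    have h1 : x' * x = 1 := by rw [← hcomm x hx x' hx', hxx']
    calc y = (x' * x) * y := by rw [h1, one_mul]
      _ = x' * (x * y) := by rw [mul_assoc]
      _ = 0 := by rw [hxy, mul_zero]

theorem cube_factor (ω : F) (hω : ω ^ 2 + ω + 1 = 0) (u : Matrix (Fin n) (Fin n) F) :
    (u - 1) * (u - ω • 1) * (u - ω ^ 2 • 1) = u ^ 3 - 1 := by
  have hp : ((Polynomial.X : Polynomial F) - 1) * (Polynomial.X - Polynomial.C ω) *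
      (Polynomial.X - Polynomial.C (ω ^ 2)) = Polynomial.X ^ 3 - 1 := by
    have h1 : (Polynomial.C (ω ^ 2) : Polynomial F) = Polynomial.C ω ^ 2 := by rw [map_pow]
    have h2 : (Polynomial.C ω : Polynomial F) ^ 2 + Polynomial.C ω + 1 = 0 := by
      have := congrArg (Polynomial.C : F → Polynomial F) hω
      simpa [map_add, map_pow] using this
    rw [h1]
    linear_combination (-(Polynomial.X : Polynomial F) ^ 2 + Polynomial.C ω * Polynomial.X - (Polynomial.C ω - 1)) * h2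
  have := congrArg (Polynomial.aeval u) hp
  simp only [map_mul, map_sub, map_pow, map_one, Polynomial.aeval_X, Polynomial.aeval_C,
    Algebra.algebraMap_eq_smul_one, smul_pow, one_pow] at this
  exact this

/-- two cube roots of the same element of a field subalgebra differ by a cube root of unity of `F` -/
theorem eq_pow_smul_of_cube (K : Subalgebra F (Matrix (Fin n) (Fin n) F))
    (hcomm : ∀ x ∈ K, ∀ y ∈ K, x * y = y * x) (hinv : ∀ x ∈ K, x ≠ 0 → ∃ y ∈ K, x * y = 1)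
    {ω : F} (hω : ω ^ 2 + ω + 1 = 0) {s t : Matrix (Fin n) (Fin n) F} (hs : s ∈ K) (ht : t ∈ K)
    (ht0 : t ≠ 0) (h3 : s ^ 3 = t ^ 3) : ∃ j : ℕ, s = ω ^ j • t := by
  obtain ⟨t', ht', htt'⟩ := hinv t ht ht0
  have ht't : t' * t = 1 := by rw [← hcomm t ht t' ht', htt']
  obtain ⟨u, hu⟩ : ∃ u, u = s * t' := ⟨_, rfl⟩
  have huK : u ∈ K := hu ▸ K.mul_mem hs ht'
  have hut : u * t = s := by rw [hu, mul_assoc, ht't, mul_one]
  have hu3 : u ^ 3 = 1 := by
    have hc : Commute s t' := hcomm s hs t' ht'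
    have hc' : Commute t t' := hcomm t ht t' ht'
    rw [hu, hc.mul_pow, h3, ← hc'.mul_pow, htt', one_pow]
  have h1 := cube_factor ω hω u
  rw [hu3, sub_self] at h1
  have hk1 : u - 1 ∈ K := K.sub_mem huK K.one_mem
  have hk2 : u - ω • 1 ∈ K := K.sub_mem huK (K.smul_mem K.one_mem ω)
  have hk3 : u - ω ^ 2 • 1 ∈ K := K.sub_mem huK (K.smul_mem K.one_mem (ω ^ 2))
  rcases eq_zero_of_mul_eq_zero K hcomm hinv (K.mul_mem hk1 hk2) hk3 h1 with h | h
  · rcases eq_zero_of_mul_eq_zero K hcomm hinv hk1 hk2 h with h | h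
    · refine ⟨0, ?_⟩
      rw [pow_zero, one_smul, ← hut, sub_eq_zero.1 h, one_mul]
    · refine ⟨1, ?_⟩
      rw [pow_one, ← hut, sub_eq_zero.1 h, smul_mul_assoc, one_mul]
  · refine ⟨2, ?_⟩
    rw [← hut, sub_eq_zero.1 h, smul_mul_assoc, one_mul]

end cube

/-- **UP3-E6c**, from the statements of A1, A2, B. -/
theorem c3_q2_n6_of {q : ℕ} (hF : Fintype.card F = q ^ 2) (hq : q = 2)
    (hA1 : ∀ K : Subalgebra F (Matrix (Fin 6) (Fin 6) F), IsFieldSubalgebra 3 K →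
      IsAdjointClosedFor (hermForm 6 F q) K →
      ∃ (ω : F) (t : Matrix (Fin 6) (Fin 6) F), ω ^ 2 + ω + 1 = 0 ∧ t ∈ K ∧
        t ^ 3 = ω • (1 : Matrix (Fin 6) (Fin 6) F) ∧
        ∀ u v : Fin 6 → F, hermForm 6 F q (t *ᵥ u) (t *ᵥ v) = hermForm 6 F q u v)
    (hA2 : ∀ K : Subalgebra F (Matrix (Fin 6) (Fin 6) F), IsFieldSubalgebra 3 K →
      IsAdjointClosedFor (hermForm 6 F q) K → ∀ (ω : F) (t : Matrix (Fin 6) (Fin 6) F), ω ^ 2 + ω + 1 = 0 →
      t ∈ K → t ^ 3 = ω • (1 : Matrix (Fin 6) (Fin 6) F) →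
      (∀ u v : Fin 6 → F, hermForm 6 F q (t *ᵥ u) (t *ᵥ v) = hermForm 6 F q u v) →
      ∃ X : GL (Fin 6) F, X ∈ GU 6 F q ∧
        (X : Matrix (Fin 6) (Fin 6) F) * tstd ω = t * (X : Matrix (Fin 6) (Fin 6) F))
    (hB : ∀ ω : F, ω ^ 2 + ω + 1 = 0 → ∀ g : GL (Fin 6) F, g ∈ GU 6 F q ⊓ specialLinear (Fin 6) F → ∀ j : ℕ,
      (g : Matrix (Fin 6) (Fin 6) F) * tstd ω = (ω ^ j) • (tstd ω * (g : Matrix (Fin 6) (Fin 6) F)) →
      ∃ l : F, l ≠ 0 ∧ ∀ a b, (l * (pstdInv ω * (g : Matrix (Fin 6) (Fin 6) F) * pstd ω) a b) ^ 2 =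
        l * (pstdInv ω * (g : Matrix (Fin 6) (Fin 6) F) * pstd ω) a b)
    (K : Subalgebra F (Matrix (Fin 6) (Fin 6) F))
    (hK : IsFieldSubalgebra 3 K) (hadj : IsAdjointClosedFor (hermForm 6 F q) K) :
    ∃ (F₀ : Subfield F) (P : GL (Fin 6) F) (ζ : F), Fintype.card F = Nat.card F₀ ^ 2 ∧ ζ ≠ 0 ∧ ζ + ζ ^ q = 0 ∧
      IsFormRationalStructure (hermForm 6 F q) F₀ ζ P ∧
      (∀ u : Fin 6 → F, (∀ i, u i ∈ F₀) →
        hermForm 6 F q ((P : Matrix (Fin 6) (Fin 6) F) *ᵥ u) ((P : Matrix (Fin 6) (Fin 6) F) *ᵥ u) = 0) ∧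
      subalgebraNormalizer K ⊓ (GU 6 F q ⊓ specialLinear (Fin 6) F) ≤ subfieldSubgroup F₀ P := by
  subst hq
  have hF4 : Fintype.card F = 4 := by rw [hF]; norm_num
  have h2 : (2 : F) = 0 := Cfsg.Agent.Lib.H28.AschP2E8.two_eq_zero hF4
  obtain ⟨ω, t, hω, htK, ht3, htU⟩ := hA1 K hK hadj
  obtain ⟨X, hXU, hXt⟩ := hA2 K hK hadj ω t hω htK ht3 htU
  obtain ⟨P, hP⟩ : ∃ P : GL (Fin 6) F, P = X * pstdGL hω h2 := ⟨_, rfl⟩
  have hPv : ∀ u : Fin 6 → F, (P : Matrix (Fin 6) (Fin 6) F) *ᵥ u =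
      (X : Matrix (Fin 6) (Fin 6) F) *ᵥ (pstd ω *ᵥ u) := by
    intro u
    rw [hP, Units.val_mul, pstdGL_val, Matrix.mulVec_mulVec]
  have hω0 : ω ≠ 0 := by
    rintro rfl
    norm_num at hω
  refine ⟨Cfsg.Agent.Lib.H28.AschP2E8.primeSub hF4, P, 1, ?_, one_ne_zero, ?_, ?_, ?_, ?_⟩
  · rw [Cfsg.Agent.Lib.H28.AschP2E8.natCard_primeSub hF4, hF]
  · rw [one_pow]
    linear_combination h2
  · intro u v hu hv
    rw [one_mul, hPv, hPv, (mem_GU_iff X).1 hXU]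
    exact herm_pstd_mem hF hω h2 _ u v hu hv
  · intro u hu
    rw [hPv, (mem_GU_iff X).1 hXU]
    exact herm_pstd_self hF hω h2 u (fun i => (Cfsg.Agent.Lib.H28.AschP2E8.mem_primeSub hF4 _).1 (hu i))
  · rintro g ⟨hgN, hgU, hgS⟩
    have ht0 : t ≠ 0 := by
      rintro rfl
      rw [zero_pow (by norm_num)] at ht3
      have h1 := congrFun (congrFun ht3 0) 0
      simp at h1
      exact hω0 h1.symm
    obtain ⟨s, hs⟩ : ∃ s : Matrix (Fin 6) (Fin 6) F,
        s = (g : Matrix (Fin 6) (Fin 6) F) * t * ((g⁻¹ : GL (Fin 6) F) : Matrix (Fin 6) (Fin 6) F) := ⟨_, rfl⟩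
    have hsK : s ∈ K := hs ▸ (hgN t).1 htK
    have hgg : (g : Matrix (Fin 6) (Fin 6) F) * ((g⁻¹ : GL (Fin 6) F) : Matrix (Fin 6) (Fin 6) F) = 1 := by
      rw [← Units.val_mul, mul_inv_cancel, Units.val_one]
    have hgg' : ((g⁻¹ : GL (Fin 6) F) : Matrix (Fin 6) (Fin 6) F) * (g : Matrix (Fin 6) (Fin 6) F) = 1 := by
      rw [← Units.val_mul, inv_mul_cancel, Units.val_one]
    have hs3 : s ^ 3 = t ^ 3 := by
      have h1 : s ^ 3 = (g : Matrix (Fin 6) (Fin 6) F) * t ^ 3 *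
          ((g⁻¹ : GL (Fin 6) F) : Matrix (Fin 6) (Fin 6) F) := by
        rw [hs, pow_three, pow_three]
        calc (g : Matrix (Fin 6) (Fin 6) F) * t * ((g⁻¹ : GL (Fin 6) F) : Matrix (Fin 6) (Fin 6) F) *
              ((g : Matrix (Fin 6) (Fin 6) F) * t * ((g⁻¹ : GL (Fin 6) F) : Matrix (Fin 6) (Fin 6) F) *
                ((g : Matrix (Fin 6) (Fin 6) F) * t * ((g⁻¹ : GL (Fin 6) F) : Matrix (Fin 6) (Fin 6) F)))
            = (g : Matrix (Fin 6) (Fin 6) F) * t *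
              (((g⁻¹ : GL (Fin 6) F) : Matrix (Fin 6) (Fin 6) F) * (g : Matrix (Fin 6) (Fin 6) F)) * t *
              (((g⁻¹ : GL (Fin 6) F) : Matrix (Fin 6) (Fin 6) F) * (g : Matrix (Fin 6) (Fin 6) F)) * t *
                ((g⁻¹ : GL (Fin 6) F) : Matrix (Fin 6) (Fin 6) F) := by
              simp only [mul_assoc]
          _ = (g : Matrix (Fin 6) (Fin 6) F) * (t * (t * t)) *
                ((g⁻¹ : GL (Fin 6) F) : Matrix (Fin 6) (Fin 6) F) := by
              rw [hgg', mul_one, mul_one]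
              simp only [mul_assoc]
      rw [h1, ht3, Matrix.mul_smul, Matrix.mul_one, Matrix.smul_mul, hgg]
    obtain ⟨j, hj⟩ := eq_pow_smul_of_cube K hK.comm hK.inv hω hsK htK ht0 hs3
    -- `g t = ω^j • t g`
    have hgt : (g : Matrix (Fin 6) (Fin 6) F) * t = ω ^ j • (t * (g : Matrix (Fin 6) (Fin 6) F)) := by
      have h1 : s * (g : Matrix (Fin 6) (Fin 6) F) = (g : Matrix (Fin 6) (Fin 6) F) * t := by
        rw [hs, mul_assoc, hgg', mul_one]
      rw [← h1, hj, Matrix.smul_mul]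
    -- the conjugate `g' = X⁻¹ g X`
    obtain ⟨g', hg'⟩ : ∃ g' : GL (Fin 6) F, g' = X⁻¹ * g * X := ⟨_, rfl⟩
    have hXX : ((X⁻¹ : GL (Fin 6) F) : Matrix (Fin 6) (Fin 6) F) * (X : Matrix (Fin 6) (Fin 6) F) = 1 := by
      rw [← Units.val_mul, inv_mul_cancel, Units.val_one]
    have hXX' : (X : Matrix (Fin 6) (Fin 6) F) * ((X⁻¹ : GL (Fin 6) F) : Matrix (Fin 6) (Fin 6) F) = 1 := by
      rw [← Units.val_mul, mul_inv_cancel, Units.val_one]
    have hg'mem : g' ∈ GU 6 F 2 ⊓ specialLinear (Fin 6) F := by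
      rw [hg']
      refine ⟨(GU 6 F 2).mul_mem ((GU 6 F 2).mul_mem ((GU 6 F 2).inv_mem hXU) hgU) hXU, ?_⟩
      have hn : (specialLinear (Fin 6) F).Normal := by
        unfold specialLinear
        exact MonoidHom.normal_ker _
      have := hn.conj_mem g hgS X⁻¹
      rwa [inv_inv] at this
    have hXit : ((X⁻¹ : GL (Fin 6) F) : Matrix (Fin 6) (Fin 6) F) * t =
        tstd ω * ((X⁻¹ : GL (Fin 6) F) : Matrix (Fin 6) (Fin 6) F) := by
      calc ((X⁻¹ : GL (Fin 6) F) : Matrix (Fin 6) (Fin 6) F) * t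
          = ((X⁻¹ : GL (Fin 6) F) : Matrix (Fin 6) (Fin 6) F) * (t * (X : Matrix (Fin 6) (Fin 6) F)) *
              ((X⁻¹ : GL (Fin 6) F) : Matrix (Fin 6) (Fin 6) F) := by
            rw [mul_assoc, mul_assoc, hXX', mul_one]
        _ = tstd ω * ((X⁻¹ : GL (Fin 6) F) : Matrix (Fin 6) (Fin 6) F) := by
            rw [← hXt, ← mul_assoc, hXX, one_mul]
    have hg't : (g' : Matrix (Fin 6) (Fin 6) F) * tstd ω =
        ω ^ j • (tstd ω * (g' : Matrix (Fin 6) (Fin 6) F)) := by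
      rw [hg', Units.val_mul, Units.val_mul]
      calc ((X⁻¹ : GL (Fin 6) F) : Matrix (Fin 6) (Fin 6) F) * (g : Matrix (Fin 6) (Fin 6) F) *
            (X : Matrix (Fin 6) (Fin 6) F) * tstd ω
          = ((X⁻¹ : GL (Fin 6) F) : Matrix (Fin 6) (Fin 6) F) * ((g : Matrix (Fin 6) (Fin 6) F) * t) *
              (X : Matrix (Fin 6) (Fin 6) F) := by
            rw [mul_assoc, hXt]
            simp only [mul_assoc]
        _ = ω ^ j • (((X⁻¹ : GL (Fin 6) F) : Matrix (Fin 6) (Fin 6) F) * t * (g : Matrix (Fin 6) (Fin 6) F) *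
              (X : Matrix (Fin 6) (Fin 6) F)) := by
            rw [hgt, Matrix.mul_smul, Matrix.smul_mul]
            simp only [mul_assoc]
        _ = ω ^ j • (tstd ω * (((X⁻¹ : GL (Fin 6) F) : Matrix (Fin 6) (Fin 6) F) *
              (g : Matrix (Fin 6) (Fin 6) F) * (X : Matrix (Fin 6) (Fin 6) F))) := by
            rw [hXit]
            simp only [mul_assoc]
    obtain ⟨l, hl0, hl⟩ := hB ω hω g' hg'mem j hg't
    have hmem := Cfsg.Agent.Lib.H22.Asch.mem_subfieldSubgroup_of_smul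
      (Cfsg.Agent.Lib.H28.AschP2E8.primeSub hF4) P⁻¹ g l hl0 (by
        intro a b
        rw [Cfsg.Agent.Lib.H28.AschP2E8.mem_primeSub]
        have h1 : ((P⁻¹ * g * P⁻¹⁻¹ : GL (Fin 6) F) : Matrix (Fin 6) (Fin 6) F) =
            pstdInv ω * (g' : Matrix (Fin 6) (Fin 6) F) * pstd ω := by
          rw [inv_inv, hP, mul_inv_rev, hg']
          simp only [Units.val_mul, pstdGL_val, pstdGL_inv_val, mul_assoc]
        rw [h1]
        exact hl a b)
    rwa [inv_inv] at hmem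

end Cfsg.Agent.Lib.H15.UP3
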