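/-
UP3 (unitary phase 3, helper15): generic assembly for `n ≥ 4`.  A maximal subgroup of `SU_n(q)`, `n ≥ 4`, is in normal form `UNF`
or residual, given the statement `B5Stmt` of UP3-B5' (SU in no subfield group).
-/
import Cfsg.Agent.Lib.H15.UP2Gen
import Cfsg.Agent.Lib.H15.UP3B6

set_option autoImplicit false

namespace Cfsg.Agent.Lib.H15.UP3

open Cfsg Cfsg.Geo Cfsg.Agent.Lib.Lead.Asch Cfsg.Agent.Lib.H15.UP2
open scoped MatrixGroups Matrix Kronecker

variable {F : Type*} [Field F] [Fintype F] {n q : ℕ}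

/-- The statement of UP3-B5' in dimension `n`. -/
def B5Stmt (n q : ℕ) (F : Type*) [Field F] [Fintype F] : Prop :=
  ∀ (F₀ : Subfield F) (r : ℕ) (P : GL (Fin n) F), 2 ≤ r → Fintype.card F = Nat.card F₀ ^ r →
    ¬ GU n F q ⊓ specialLinear (Fin n) F ≤ subfieldSubgroup F₀ P

theorem urow_cases' (hF : Fintype.card F = q ^ 2) (hn : 4 ≤ n) (hB5 : B5Stmt n q F) (hmain : UMainStrong n q F)
    (H : Subgroup (GL (Fin n) F)) (hH : IsMaximalIn (GU n F q ⊓ specialLinear (Fin n) F) H) :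
    UNF n q F H ∨ InUnitaryResidualClass H := by
  have hHGU : H ≤ GU n F q := hH.1.le.trans inf_le_left
  rcases hmain H hHGU with hS | hres
  swap
  · exact Or.inr hres
  left
  have hq2 : 2 ≤ q := Cfsg.Agent.Lib.H2.Herm.two_le_q hF
  have c1 : ∀ W : Submodule F (Fin n → F), W ≠ ⊥ → W ≠ ⊤ → H ≤ subspaceStabilizer W →
      H = subspaceStabilizer W ⊓ (GU n F q ⊓ specialLinear (Fin n) F) := by
    intro W h0 h1 hle
    exact eq_inf_of_maximal hH hle (Cfsg.Agent.Lib.H2.UP2.not_su_le_subspaceStabilizer hF (by omega) W h0 h1)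
  have c2a : ∀ (t k : ℕ) (D : Fin t → Submodule F (Fin n → F)),
      IsNondegenerateMDecomposition (hermForm n F q) k D → H ≤ decompositionStabilizer D → UNF n q F H := by
    intro t k D hD hle
    have htk := Cfsg.Agent.Lib.H2.AschP2.mul_eq_of_isMDecomposition D hD.decomp
    by_cases hk2 : k = 2 ∧ q = 2
    · obtain ⟨rfl, hq⟩ := hk2
      obtain ⟨D', hD', hle'⟩ := Cfsg.Agent.Lib.H23.UP2.c2_k2_q2 hF hq D hD
      have hle2 : H ≤ decompositionStabilizer D' := (le_inf hle hHGU).trans hle'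
      exact Or.inr (Or.inr (Or.inl ⟨n, 1, D', by omega, by omega, fun h => by omega, hD',
        eq_inf_of_maximal hH hle2 (Cfsg.Agent.Lib.H2.UP2.not_su_le_decompositionStabilizer_one hF (by omega) D' hD')⟩))
    · have hne : ¬ GU n F q ⊓ specialLinear (Fin n) F ≤ decompositionStabilizer D := by
        by_cases hk : 2 ≤ k
        · exact Cfsg.Agent.Lib.H2.UP2.not_su_le_decompositionStabilizer hF (by omega) D hD.decomp hk
        · have hk1 : k = 1 := by have := hD.decomp.pos; omega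
          subst hk1
          exact Cfsg.Agent.Lib.H2.UP2.not_su_le_decompositionStabilizer_one hF (by omega) D hD
      exact Or.inr (Or.inr (Or.inl ⟨t, k, D, htk, hD.decomp.two_le, fun h => by omega, hD,
        eq_inf_of_maximal hH hle hne⟩))
  have c5 : ∀ (F₀ : Subfield F) (r : ℕ) (P : GL (Fin n) F), 2 ≤ r → Fintype.card F = Nat.card F₀ ^ r →
      H ≤ subfieldSubgroup F₀ P → H = subfieldSubgroup F₀ P ⊓ (GU n F q ⊓ specialLinear (Fin n) F) := by
    intro F₀ r P hr hcard hle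
    exact eq_inf_of_maximal hH hle (hB5 F₀ r P hr hcard)
  rcases hS with (h | h) | (h | h) | h | h | (h | h | h) | h | h
  · -- C1a
    obtain ⟨W, h0, hts, hle⟩ := h
    have h1 : W ≠ ⊤ := by
      rintro rfl
      have := hts (Pi.single ⟨0, by omega⟩ 1) Submodule.mem_top (Pi.single ⟨0, by omega⟩ 1) Submodule.mem_top
      rw [herm_single_self (by omega)] at this
      exact one_ne_zero this
    exact Or.inl ⟨W, h0, hts, c1 W h0 h1 hle⟩
  · -- C1b
    obtain ⟨W, h0, hnd, hdim, hle⟩ := h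
    have h1 : W ≠ ⊤ := by
      rintro rfl
      rw [finrank_top, Module.finrank_fin_fun] at hdim
      omega
    exact Or.inr (Or.inl ⟨W, h0, hnd, hdim, c1 W h0 h1 hle⟩)
  · -- C2a
    obtain ⟨t, k, D, hD, hle⟩ := h
    exact c2a t k D hD hle
  · -- C2b
    obtain ⟨k, D, h2k, hD, hts, hle⟩ := h
    exact Or.inr (Or.inr (Or.inr (Or.inl ⟨k, D, h2k, hD, hts,
      eq_inf_of_maximal hH hle (Cfsg.Agent.Lib.H2.UP2.not_su_le_decompositionStabilizer hF (by omega) D hD (by omega))⟩)))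
  · -- C3
    obtain ⟨r, K, hr, hodd, hK, hadj, hle⟩ := h
    exact Or.inr (Or.inr (Or.inr (Or.inr (Or.inl ⟨r, K, hr, hodd,
      Cfsg.Agent.Lib.H5.AschP2.dvd_of_isFieldSubalgebra (by omega) r K hK, hK, hadj,
      eq_inf_of_maximal hH hle (Cfsg.Agent.Lib.H5.UP2.not_su_le_subalgebraNormalizer hF (by omega) r K hr.two_le hK)⟩))))
  · -- C4
    obtain ⟨n₁, n₂, e, P, f₁, f₂, h1, h2, hf1, hf2, hT, hle⟩ := h
    have hcard : n₁ * n₂ = n := by
      have := Fintype.card_congr e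
      simpa [Fintype.card_prod] using this.symm
    by_cases h2q : n₁ = 2 ∧ q = 2
    · obtain ⟨rfl, hq⟩ := h2q
      obtain ⟨D, hD, hle'⟩ := Cfsg.Agent.Lib.H27.UP2.c4_two_q2 hF hq n₂ e P f₁ f₂ hf1 hf2 hT (by omega)
      exact c2a 2 n₂ D hD ((le_inf hle hHGU).trans hle')
    · exact Or.inr (Or.inr (Or.inr (Or.inr (Or.inr (Or.inl ⟨n₁, n₂, e, P, f₁, f₂, h1, h2, hcard,
        fun h => by omega, hf1, hf2, hT,
        eq_inf_of_maximal hH hle (Cfsg.Agent.Lib.H18.UP2.not_su_le_tensorProductSubgroup hF n₁ n₂ e P h1 (by omega))⟩)))))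
  · -- C5a
    obtain ⟨F₀, r, P, hr, hodd, hcard, hrat, hle⟩ := h
    exact Or.inr (Or.inr (Or.inr (Or.inr (Or.inr (Or.inr (Or.inl ⟨F₀, r, P, hr, hodd, hcard, hrat,
      c5 F₀ r P hr.two_le hcard hle⟩))))))
  · -- C5b
    obtain ⟨F₀, P, hodd, hcard, hrat, hle⟩ := h
    exact Or.inr (Or.inr (Or.inr (Or.inr (Or.inr (Or.inr (Or.inr (Or.inl ⟨F₀, P, hodd, hcard, hrat,
      c5 F₀ 2 P le_rfl hcard hle⟩)))))))
  · -- C5c
    obtain ⟨F₀, P, ζ, hev, hcard, hζ0, hζ, hrat, hiso, hle⟩ := h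
    exact Or.inr (Or.inr (Or.inr (Or.inr (Or.inr (Or.inr (Or.inr (Or.inr (Or.inl ⟨F₀, P, ζ, hev, hcard, hζ0, hζ,
      hrat, hiso, c5 F₀ 2 P le_rfl hcard hle⟩))))))))
  · -- C6
    obtain ⟨r, R, p, e, k, h1, h2, h3, h4, h5, h6, h7, hle⟩ := h
    obtain ⟨hnk, hk1, j, hqj, hej⟩ := uc6_arith hF (by omega) r R p e k h1 h2 h5 h6 h7
    exact Or.inr (Or.inr (Or.inr (Or.inr (Or.inr (Or.inr (Or.inr (Or.inr (Or.inr (Or.inl ⟨r, R, p, e, k, j,
      h1, h2, h3, h4, h5, h6, hnk, hk1, hqj, hej,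
      eq_inf_of_maximal hH hle (not_su_le_subgroupNormalizer' hF hn R h2 h7)⟩)))))))))
  · -- C7
    obtain ⟨k, t, e, P, f₁, h1, h2, h3, h4, h5, hle⟩ := h
    have hcard : k ^ t = n := by
      have := Fintype.card_congr e
      simpa using this.symm
    exact Or.inr (Or.inr (Or.inr (Or.inr (Or.inr (Or.inr (Or.inr (Or.inr (Or.inr (Or.inr ⟨k, t, e, P, f₁,
      h1, h2, hcard, h3, h4, h5, hle⟩)))))))))

end Cfsg.Agent.Lib.H15.UP3
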