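/-
UP3 (unitary phase 3, helper15): the row n = 6 (S5802) from the statement of `umain_strong` and the statements of the UP3 lemmas.
-/
import Cfsg.Agent.Lib.H15.UP3Gen

set_option autoImplicit false
set_option maxHeartbeats 1000000

namespace Cfsg.Agent.Lib.H15.UP3

open Cfsg Cfsg.Geo Cfsg.Agent.Lib.Lead.Asch Cfsg.Agent.Lib.H15.UP2
open scoped MatrixGroups Matrix Kronecker

theorem row6 {F : Type*} [Field F] [Fintype F] (q : ℕ) (hF : Fintype.card F = q ^ 2)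
    (hmain : UMainStrong 6 q F) (hB5 : B5Stmt 6 q F)
    (hE6a : q = 2 → ∀ D : Fin 6 → Submodule F (Fin 6 → F), IsNondegenerateMDecomposition (hermForm 6 F q) 1 D →
      ¬ IsMaximalIn (GU 6 F q ⊓ specialLinear (Fin 6) F)
        (decompositionStabilizer D ⊓ (GU 6 F q ⊓ specialLinear (Fin 6) F)))
    (hE6c : q = 2 → ∀ K : Subalgebra F (Matrix (Fin 6) (Fin 6) F), IsFieldSubalgebra 3 K →
      IsAdjointClosedFor (hermForm 6 F q) K →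
      ∃ (F₀ : Subfield F) (P : GL (Fin 6) F) (ζ : F), Fintype.card F = Nat.card F₀ ^ 2 ∧ ζ ≠ 0 ∧ ζ + ζ ^ q = 0 ∧
        IsFormRationalStructure (hermForm 6 F q) F₀ ζ P ∧
        (∀ u : Fin 6 → F, (∀ i, u i ∈ F₀) →
          hermForm 6 F q ((P : Matrix (Fin 6) (Fin 6) F) *ᵥ u) ((P : Matrix (Fin 6) (Fin 6) F) *ᵥ u) = 0) ∧
        subalgebraNormalizer K ⊓ (GU 6 F q ⊓ specialLinear (Fin 6) F) ≤ subfieldSubgroup F₀ P)
    (H : Subgroup (Matrix.GeneralLinearGroup (Fin 6) F))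
    (hH : Cfsg.Geo.IsMaximalIn (Cfsg.GU 6 F q ⊓ Cfsg.Geo.specialLinear (Fin 6) F) H) :
    (∃ W : Submodule F (Fin 6 → F), W ≠ ⊥ ∧ Cfsg.Geo.IsTotallySingularFor (Cfsg.hermForm 6 F q) W ∧ H = Cfsg.Geo.subspaceStabilizer W ⊓ (Cfsg.GU 6 F q ⊓ Cfsg.Geo.specialLinear (Fin 6) F)) ∨
    (∃ W : Submodule F (Fin 6 → F), W ≠ ⊥ ∧ Cfsg.Geo.IsNondegenerateOn (Cfsg.hermForm 6 F q) W ∧ 2 * Module.finrank F W < 6 ∧ H = Cfsg.Geo.subspaceStabilizer W ⊓ (Cfsg.GU 6 F q ⊓ Cfsg.Geo.specialLinear (Fin 6) F)) ∨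
    (3 ≤ q ∧ ∃ D : Fin 6 → Submodule F (Fin 6 → F), Cfsg.Geo.IsNondegenerateMDecomposition (Cfsg.hermForm 6 F q) 1 D ∧ H = Cfsg.Geo.decompositionStabilizer D ⊓ (Cfsg.GU 6 F q ⊓ Cfsg.Geo.specialLinear (Fin 6) F)) ∨
    (3 ≤ q ∧ ∃ D : Fin 3 → Submodule F (Fin 6 → F), Cfsg.Geo.IsNondegenerateMDecomposition (Cfsg.hermForm 6 F q) 2 D ∧ H = Cfsg.Geo.decompositionStabilizer D ⊓ (Cfsg.GU 6 F q ⊓ Cfsg.Geo.specialLinear (Fin 6) F)) ∨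
    (∃ D : Fin 2 → Submodule F (Fin 6 → F), Cfsg.Geo.IsNondegenerateMDecomposition (Cfsg.hermForm 6 F q) 3 D ∧ H = Cfsg.Geo.decompositionStabilizer D ⊓ (Cfsg.GU 6 F q ⊓ Cfsg.Geo.specialLinear (Fin 6) F)) ∨
    (∃ D : Fin 2 → Submodule F (Fin 6 → F), Cfsg.Geo.IsMDecomposition 3 D ∧ (∀ i, Cfsg.Geo.IsTotallySingularFor (Cfsg.hermForm 6 F q) (D i)) ∧ H = Cfsg.Geo.decompositionStabilizer D ⊓ (Cfsg.GU 6 F q ⊓ Cfsg.Geo.specialLinear (Fin 6) F)) ∨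
    (3 ≤ q ∧ ∃ K : Subalgebra F (Matrix (Fin 6) (Fin 6) F), Cfsg.Geo.IsFieldSubalgebra 3 K ∧ Cfsg.Geo.IsAdjointClosedFor (Cfsg.hermForm 6 F q) K ∧ H = Cfsg.Geo.subalgebraNormalizer K ⊓ (Cfsg.GU 6 F q ⊓ Cfsg.Geo.specialLinear (Fin 6) F)) ∨
    (3 ≤ q ∧ ∃ (e : Fin 6 ≃ Fin 2 × Fin 3) (P : Matrix.GeneralLinearGroup (Fin 6) F) (f₁ : (Fin 2 → F) → (Fin 2 → F) → F) (f₂ : (Fin 3 → F) → (Fin 3 → F) → F), Cfsg.Geo.IsUnitaryFormPow q f₁ ∧ Cfsg.Geo.IsUnitaryFormPow q f₂ ∧ Cfsg.Geo.IsTensorFormStructure (fun x : F => x ^ q) (Cfsg.hermForm 6 F q) f₁ f₂ e P ∧ H = Cfsg.Geo.tensorProductSubgroup 2 3 e P ⊓ (Cfsg.GU 6 F q ⊓ Cfsg.Geo.specialLinear (Fin 6) F)) ∨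
    (∃ (F₀ : Subfield F) (r : ℕ) (P : Matrix.GeneralLinearGroup (Fin 6) F), r.Prime ∧ Odd r ∧ Fintype.card F = Nat.card F₀ ^ r ∧ Cfsg.Geo.IsFormRationalStructure (Cfsg.hermForm 6 F q) F₀ 1 P ∧ H = Cfsg.Geo.subfieldSubgroup F₀ P ⊓ (Cfsg.GU 6 F q ⊓ Cfsg.Geo.specialLinear (Fin 6) F)) ∨
    (∃ (F₀ : Subfield F) (P : Matrix.GeneralLinearGroup (Fin 6) F) (ζ : F), Fintype.card F = Nat.card F₀ ^ 2 ∧ ζ ≠ 0 ∧ ζ + ζ ^ q = 0 ∧ Cfsg.Geo.IsFormRationalStructure (Cfsg.hermForm 6 F q) F₀ ζ P ∧ (∀ u : Fin 6 → F, (∀ i, u i ∈ F₀) → (Cfsg.hermForm 6 F q) (Matrix.mulVec (P : Matrix (Fin 6) (Fin 6) F) u) (Matrix.mulVec (P : Matrix (Fin 6) (Fin 6) F) u) = 0) ∧ H = Cfsg.Geo.subfieldSubgroup F₀ P ⊓ (Cfsg.GU 6 F q ⊓ Cfsg.Geo.specialLinear (Fin 6) F)) ∨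
    (Odd q ∧ ∃ (F₀ : Subfield F) (P : Matrix.GeneralLinearGroup (Fin 6) F), Fintype.card F = Nat.card F₀ ^ 2 ∧ Cfsg.Geo.IsFormRationalStructure (Cfsg.hermForm 6 F q) F₀ 1 P ∧ H = Cfsg.Geo.subfieldSubgroup F₀ P ⊓ (Cfsg.GU 6 F q ⊓ Cfsg.Geo.specialLinear (Fin 6) F)) ∨
    Cfsg.Geo.InUnitaryResidualClass H := by
  have hq2 : 2 ≤ q := Cfsg.Agent.Lib.H2.Herm.two_le_q hF
  rcases urow_cases' hF (by norm_num) hB5 hmain H hH with h | h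
  swap
  · exact Or.inr (Or.inr (Or.inr (Or.inr (Or.inr (Or.inr (Or.inr (Or.inr (Or.inr (Or.inr (Or.inr (h)))))))))))
  rcases h with h | h | h | h | h | h | h | h | h | h | h
  · exact Or.inl (h)
  · exact Or.inr (Or.inl (h))
  · -- C2a
    obtain ⟨t, k, D, htk, ht2, hk2, hD, hHeq⟩ := h
    have ht9 : t ≤ 6 := Nat.le_of_dvd (by norm_num) (Dvd.intro _ htk)
    interval_cases t
    · have hk : k = 3 := by omega
      subst hk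
      exact Or.inr (Or.inr (Or.inr (Or.inr (Or.inl (⟨D, hD, hHeq⟩)))))
    · have hk : k = 2 := by omega
      subst hk
      exact Or.inr (Or.inr (Or.inr (Or.inl (⟨hk2 rfl, D, hD, hHeq⟩))))
    · omega
    · omega
    · have hk : k = 1 := by omega
      subst hk
      by_cases hq3 : 3 ≤ q
      · exact Or.inr (Or.inr (Or.inl (⟨hq3, D, hD, hHeq⟩)))
      · exact absurd (hHeq ▸ hH) (hE6a (by omega) D hD)
  · -- C2b
    obtain ⟨k, D, h2k, hD, hts, hHeq⟩ := h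
    have hk : k = 3 := by omega
    subst hk
    exact Or.inr (Or.inr (Or.inr (Or.inr (Or.inr (Or.inl (⟨D, hD, hts, hHeq⟩))))))
  · -- C3
    obtain ⟨r, K, hr, hodd, hdvd, hK, hadj, hHeq⟩ := h
    have hr3 : r = 3 := by
      have h6 : r ∣ 2 * 3 := hdvd
      rcases (Nat.Prime.dvd_mul hr).1 h6 with h | h
      · have := (Nat.prime_dvd_prime_iff_eq hr Nat.prime_two).1 h
        subst this
        exact absurd hodd (by decide)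
      · exact (Nat.prime_dvd_prime_iff_eq hr Nat.prime_three).1 h
    subst hr3
    by_cases hq3 : 3 ≤ q
    · exact Or.inr (Or.inr (Or.inr (Or.inr (Or.inr (Or.inr (Or.inl (⟨hq3, K, hK, hadj, hHeq⟩)))))))
    · obtain ⟨F₀, P, ζ, hcard, hζ0, hζ, hrat, hiso, hle⟩ := hE6c (by omega) K hK hadj
      have hHeq' := eq_inf_of_maximal hH (hHeq.le.trans hle) (hB5 F₀ 2 P le_rfl hcard)
      exact Or.inr (Or.inr (Or.inr (Or.inr (Or.inr (Or.inr (Or.inr (Or.inr (Or.inr (Or.inl (⟨F₀, P, ζ, hcard, hζ0, hζ, hrat, hiso, hHeq'⟩))))))))))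
  · -- C4
    obtain ⟨n₁, n₂, e, P, f₁, f₂, h1, h2, hmul, hq3, hf1, hf2, hT, hHeq⟩ := h
    have h9 : n₁ ≤ 6 := Nat.le_of_dvd (by norm_num) (Dvd.intro _ hmul)
    have hn1 : n₁ = 2 := by interval_cases n₁ <;> omega
    subst hn1
    have hn2 : n₂ = 3 := by omega
    subst hn2
    exact Or.inr (Or.inr (Or.inr (Or.inr (Or.inr (Or.inr (Or.inr (Or.inl (⟨hq3 rfl, e, P, f₁, f₂, hf1, hf2, hT, hHeq⟩))))))))
  · exact Or.inr (Or.inr (Or.inr (Or.inr (Or.inr (Or.inr (Or.inr (Or.inr (Or.inl (h)))))))))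
  · -- C5b
    obtain ⟨F₀, P, hodd, hcard, hrat, hHeq⟩ := h
    exact Or.inr (Or.inr (Or.inr (Or.inr (Or.inr (Or.inr (Or.inr (Or.inr (Or.inr (Or.inr (Or.inl (⟨hodd, F₀, P, hcard, hrat, hHeq⟩)))))))))))
  · -- C5c
    obtain ⟨F₀, P, ζ, hev, hcard, hζ0, hζ, hrat, hiso, hHeq⟩ := h
    exact Or.inr (Or.inr (Or.inr (Or.inr (Or.inr (Or.inr (Or.inr (Or.inr (Or.inr (Or.inl (⟨F₀, P, ζ, hcard, hζ0, hζ, hrat, hiso, hHeq⟩))))))))))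
  · -- C6
    obtain ⟨r, R, p, e, k, j, h1, h2, h3, h4, h5, h6, hnk, hk1, hqj, hej, hHeq⟩ := h
    exfalso
    have hrp := h1.prime
    have hd : r ∣ 6 := by
      have : r ∣ r ^ k := dvd_pow_self r (by omega)
      rwa [← hnk] at this
    have hr6 : r ≤ 6 := Nat.le_of_dvd (by norm_num) hd
    have hk6 : k ≤ 2 := by
      by_contra hk
      have : r ^ 3 ≤ r ^ k := Nat.pow_le_pow_right hrp.pos (by omega)
      have h8 : 2 ^ 3 ≤ r ^ 3 := Nat.pow_le_pow_left hrp.two_le 3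
      omega
    have hk0 : 1 ≤ k := hk1
    clear h2 h3 h4 h5 h6 hHeq hH hmain hB5 hE6a hE6c
    interval_cases k
    · rw [pow_one] at hnk
      subst hnk
      exact absurd hrp (by norm_num)
    · interval_cases r <;> omega
  · -- C7
    obtain ⟨k, t, e, P, f₁, h1, h2, hkt, _⟩ := h
    exfalso
    have h9 : 3 ^ 2 ≤ k ^ t := (Nat.pow_le_pow_left h1 2).trans (Nat.pow_le_pow_right (by omega) h2)
    omega

end Cfsg.Agent.Lib.H15.UP3
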