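import Mathlib

/-!
# S0720 piece CNT (`exists_bipartite`) (helper15)

Counting: the stabiliser of `a` in `N(⟨x⟩)` (of order `e`) acts freely on `⟨x⟩a ∖ {a}` and preserves the
suborbits; `s + 1` non-trivial suborbits and `s e = p - 1` points: one suborbit misses `⟨x⟩a`.
-/

set_option autoImplicit false

namespace Cfsg.Agent.Lib.H15.W2P

/-- a free action of a finite group: the order of the group divides the number of points -/
theorem card_dvd_of_free {G X : Type*} [Group G] [Finite G] [MulAction G X] [Finite X]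
    (h : ∀ (g : G) (x : X), g • x = x → g = 1) : Nat.card G ∣ Nat.card X := by
  classical
  have : Fintype G := Fintype.ofFinite G
  have : Fintype X := Fintype.ofFinite X
  have : Fintype (Quotient (MulAction.orbitRel G X)) := Fintype.ofFinite _
  have key := MulAction.card_eq_sum_card_group_div_card_stabilizer G X
  have h1 : ∀ ω : Quotient (MulAction.orbitRel G X),
      Fintype.card G / Fintype.card (MulAction.stabilizer G ω.out) = Fintype.card G := by
    intro ω
    have hb : MulAction.stabilizer G ω.out = ⊥ := by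
      rw [Subgroup.eq_bot_iff_forall]
      intro g hg
      exact h g _ (MulAction.mem_stabilizer_iff.1 hg)
    have h2 : Fintype.card (MulAction.stabilizer G ω.out) = 1 := by
      rw [← Nat.card_eq_fintype_card, hb, Subgroup.card_bot]
    rw [h2, Nat.div_one]
  rw [Nat.card_eq_fintype_card, Nat.card_eq_fintype_card, key]
  simp_rw [h1]
  rw [Finset.sum_const, smul_eq_mul]
  exact Dvd.intro_left _ rfl

theorem exists_bipartite {L : Type*} [Group L] [Fintype L] {Ω : Type*} [Fintype Ω] [DecidableEq Ω]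
    [MulAction L Ω] {p : ℕ} (hp : p.Prime) (hΩ : Fintype.card Ω = 2 * p) (x : L)
    (hox : orderOf x = p) (hfpf : ∀ a : Ω, x • a ≠ a)
    (hcent : ∀ c : L, c * x = x * c → c ∈ Subgroup.zpowers x) (e s : ℕ)
    (he : Nat.card (Subgroup.normalizer ((Subgroup.zpowers x : Subgroup L) : Set L)) = p * e)
    (hs : s * e = p - 1) (a : Ω)
    (hns : ∀ n : L, n * x * n⁻¹ ∈ Subgroup.zpowers x → n • a ∈ MulAction.orbit (Subgroup.zpowers x) a)
    (hrank : Nat.card (MulAction.orbitRel.Quotient (MulAction.stabilizer L a) Ω) = s + 2) :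
    ∃ b : Ω, b ≠ a ∧
      ∀ h ∈ MulAction.stabilizer L a, h • b ∉ MulAction.orbit (Subgroup.zpowers x) a := by
  classical
  have hfact : Fact p.Prime := ⟨hp⟩
  set P : Subgroup L := Subgroup.zpowers x with hP
  set N : Subgroup L := Subgroup.normalizer (P : Set L) with hN
  set H : Subgroup L := MulAction.stabilizer L a with hH
  have hcardP : Nat.card P = p := by rw [hP, Nat.card_zpowers, hox]
  have hxP : x ∈ P := Subgroup.mem_zpowers x
  -- a non-trivial element of `P` generates `x`
  have hgen : ∀ g ∈ P, g ≠ 1 → ∃ k : ℤ, g ^ k = x := by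
    intro g hg hne
    have hne' : (⟨g, hg⟩ : P) ≠ 1 := fun h => hne (congrArg Subtype.val h)
    have htop := zpowers_eq_top_of_prime_card hcardP hne'
    have hx' : (⟨x, hxP⟩ : P) ∈ Subgroup.zpowers (⟨g, hg⟩ : P) := by
      rw [htop]; exact Subgroup.mem_top _
    obtain ⟨k, hk⟩ := Subgroup.mem_zpowers_iff.1 hx'
    refine ⟨k, ?_⟩
    have := congrArg Subtype.val hk
    simpa using this
  -- `P` acts freely
  have hfree : ∀ g ∈ P, ∀ ω : Ω, g • ω = ω → g = 1 := by
    intro g hg ω hfix
    by_contra hne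
    obtain ⟨k, hk⟩ := hgen g hg hne
    apply hfpf ω
    rw [← hk]
    have : g ∈ MulAction.stabilizer L ω := MulAction.mem_stabilizer_iff.2 hfix
    exact MulAction.mem_stabilizer_iff.1 (Subgroup.zpow_mem _ this k)
  have hPN : P ≤ N := Subgroup.le_normalizer
  have hconj : ∀ n ∈ N, ∀ g ∈ P, n * g * n⁻¹ ∈ P := by
    intro n hn g hg
    exact (Subgroup.mem_set_normalizer_iff.1 hn g).1 hg
  have hNa : ∀ n ∈ N, n • a ∈ MulAction.orbit P a := fun n hn => hns n (hconj n hn x hxP)
  have hmemO : ∀ ω : Ω, ω ∈ MulAction.orbit P a ↔ ∃ g ∈ P, g • a = ω := by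
    intro ω
    rw [MulAction.mem_orbit_iff]
    constructor
    · rintro ⟨g, hg⟩
      exact ⟨g.1, g.2, hg⟩
    · rintro ⟨g, hg, h⟩
      exact ⟨⟨g, hg⟩, h⟩
  -- elements of `N` fixing `a`
  have hSinv : ∀ n ∈ N, n • a = a → ∀ ω ∈ MulAction.orbit P a, n • ω ∈ MulAction.orbit P a := by
    intro n hn hna ω hω
    obtain ⟨g, hg, rfl⟩ := (hmemO ω).1 hω
    rw [hmemO]
    refine ⟨n * g * n⁻¹, hconj n hn g hg, ?_⟩
    have hinv : n⁻¹ • a = a := by rw [inv_smul_eq_iff, hna]
    rw [mul_smul, mul_smul, hinv]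
  have hSfree : ∀ n ∈ N, n • a = a → ∀ ω ∈ MulAction.orbit P a, ω ≠ a → n • ω = ω → n = 1 := by
    intro n hn hna ω hω hωa hfix
    obtain ⟨g, hg, rfl⟩ := (hmemO ω).1 hω
    have hg1 : g ≠ 1 := by
      rintro rfl
      exact hωa (one_smul _ _)
    have h1 : (n * g * n⁻¹) • a = g • a := by
      have hinv : n⁻¹ • a = a := by rw [inv_smul_eq_iff, hna]
      rw [mul_smul, mul_smul, hinv, hfix]
    have h2 : g⁻¹ * (n * g * n⁻¹) = 1 := by
      apply hfree _ (P.mul_mem (P.inv_mem hg) (hconj n hn g hg)) a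
      rw [mul_smul, h1, ← mul_smul, inv_mul_cancel, one_smul]
    have h3 : n * g = g * n := by
      have : n * g * n⁻¹ = g := by
        rw [← mul_right_inj g⁻¹, h2, inv_mul_cancel]
      calc n * g = (n * g * n⁻¹) * n := by group
        _ = g * n := by rw [this]
    obtain ⟨k, hk⟩ := hgen g hg hg1
    have h4 : n * x = x * n := by
      rw [← hk]
      exact (Commute.zpow_right (show Commute n g from h3) k).eq
    have h5 : n ∈ P := hcent n h4
    exact hfree n h5 a hna
  -- the orbit of `a` under `P` has `p` points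
  have hncardP : (MulAction.orbit P a).ncard = p := by
    rw [← MulAction.index_stabilizer]
    have hb : MulAction.stabilizer P a = ⊥ := by
      rw [Subgroup.eq_bot_iff_forall]
      intro g hg
      have := hfree g.1 g.2 a (MulAction.mem_stabilizer_iff.1 hg)
      exact Subtype.ext this
    rw [hb, Subgroup.index_bot, hcardP]
  -- the stabiliser of `a` in `N` has order `e`
  have horbN : MulAction.orbit N a = MulAction.orbit P a := by
    ext ω
    constructor
    · rintro ⟨n, rfl⟩
      exact hNa n.1 n.2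
    · intro hω
      obtain ⟨g, hg, rfl⟩ := (hmemO ω).1 hω
      exact ⟨⟨g, hPN hg⟩, rfl⟩
  set S : Subgroup N := MulAction.stabilizer N a with hS
  have hcardS : Nat.card S = e := by
    have h1 := Subgroup.card_mul_index S
    rw [hS, MulAction.index_stabilizer, horbN, hncardP, he] at h1
    have hp0 : 0 < p := hp.pos
    rw [mul_comm] at h1
    exact Nat.eq_of_mul_eq_mul_left hp0 h1
  have hSmem : ∀ n : S, (n.1.1) ∈ N ∧ (n.1.1) • a = a := by
    intro n
    exact ⟨n.1.2, MulAction.mem_stabilizer_iff.1 n.2⟩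
  -- the suborbits
  let Q := MulAction.orbitRel.Quotient H Ω
  let mk : Ω → Q := fun ω => Quotient.mk'' ω
  have hmk_smul : ∀ h ∈ H, ∀ ω : Ω, mk (h • ω) = mk ω := by
    intro h hh ω
    apply Quotient.sound'
    rw [MulAction.orbitRel_apply]
    exact ⟨⟨h, hh⟩, rfl⟩
  have hmk_a : ∀ ω : Ω, mk ω = mk a → ω = a := by
    intro ω h
    have h1 := Quotient.exact' h
    rw [MulAction.orbitRel_apply] at h1
    obtain ⟨g, rfl⟩ := h1
    exact MulAction.mem_stabilizer_iff.1 g.2
  have : Fintype Q := Fintype.ofFinite Q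
  have hcardQ : Fintype.card Q = s + 2 := by
    rw [← Nat.card_eq_fintype_card]; exact hrank
  set T : Finset Ω := Finset.univ.filter (fun ω => ω ∈ MulAction.orbit P a) with hT
  have hTcard : T.card = p := by
    rw [← hncardP, Set.ncard_eq_toFinset_card']
    congr 1
    ext ω
    simp [hT]
  let c : Q → ℕ := fun q => (T.filter (fun ω => mk ω = q)).card
  have hsum : T.card = ∑ q : Q, c q :=
    Finset.card_eq_sum_card_fiberwise (f := mk) (s := T) (t := Finset.univ)
      (fun ω _ => Finset.mem_univ _)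
  have haT : a ∈ T := by
    rw [hT, Finset.mem_filter]
    exact ⟨Finset.mem_univ _, MulAction.mem_orbit_self a⟩
  have hca : c (mk a) = 1 := by
    have : T.filter (fun ω => mk ω = mk a) = {a} := by
      ext ω
      rw [Finset.mem_filter, Finset.mem_singleton]
      constructor
      · rintro ⟨_, h⟩
        exact hmk_a ω h
      · rintro rfl
        exact ⟨haT, rfl⟩
    show (T.filter (fun ω => mk ω = mk a)).card = 1
    rw [this, Finset.card_singleton]
  -- divisibility
  have hdvd : ∀ q : Q, q ≠ mk a → e ∣ c q := by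
    intro q hq
    let sub : SubMulAction S Ω :=
      { carrier := {ω | ω ∈ MulAction.orbit P a ∧ mk ω = q}
        smul_mem' := by
          rintro n ω ⟨h1, h2⟩
          obtain ⟨hnN, hna⟩ := hSmem n
          refine ⟨hSinv _ hnN hna ω h1, ?_⟩
          rw [← h2]
          exact hmk_smul _ (MulAction.mem_stabilizer_iff.2 hna) ω }
    have hfreeS : ∀ (n : S) (ω : sub), n • ω = ω → n = 1 := by
      intro n ω h
      obtain ⟨hnN, hna⟩ := hSmem n
      have hω : (ω : Ω) ∈ MulAction.orbit P a ∧ mk (ω : Ω) = q := ω.2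
      have hωa : (ω : Ω) ≠ a := by
        intro h'
        apply hq
        rw [← hω.2, h']
      have h' : (n.1.1) • (ω : Ω) = (ω : Ω) := congrArg Subtype.val h
      have := hSfree _ hnN hna _ hω.1 hωa h'
      apply Subtype.ext
      apply Subtype.ext
      exact this
    have h1 := card_dvd_of_free hfreeS
    rw [hcardS] at h1
    have h2 : Nat.card sub = c q := by
      rw [Nat.card_eq_fintype_card]
      apply Fintype.card_of_subtype
      intro ω
      rw [Finset.mem_filter, hT, Finset.mem_filter]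
      constructor
      · rintro ⟨⟨_, h1⟩, h2⟩
        exact ⟨h1, h2⟩
      · rintro ⟨h1, h2⟩
        exact ⟨⟨Finset.mem_univ _, h1⟩, h2⟩
    rw [h2] at h1
    exact h1
  -- conclusion
  by_contra hcon
  push Not at hcon
  have hpos : ∀ q : Q, q ≠ mk a → e ≤ c q := by
    intro q hq
    apply Nat.le_of_dvd _ (hdvd q hq)
    obtain ⟨b, rfl⟩ := Quotient.exists_rep q
    have hba : b ≠ a := by
      rintro rfl
      exact hq rfl
    obtain ⟨h, hh, hmem⟩ := hcon b hba
    apply Finset.card_pos.2
    refine ⟨h • b, ?_⟩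
    rw [Finset.mem_filter, hT, Finset.mem_filter]
    exact ⟨⟨Finset.mem_univ _, hmem⟩, hmk_smul h hh b⟩
  have hsum2 : ∑ q : Q, c q = c (mk a) + ∑ q ∈ Finset.univ.erase (mk a), c q :=
    (Finset.add_sum_erase _ _ (Finset.mem_univ _)).symm
  have hge : (Finset.univ.erase (mk a)).card • e ≤ ∑ q ∈ Finset.univ.erase (mk a), c q := by
    apply Finset.card_nsmul_le_sum
    intro q hq
    exact hpos q (Finset.ne_of_mem_erase hq)
  have hcard_erase : (Finset.univ.erase (mk a)).card = s + 1 := by
    rw [Finset.card_erase_of_mem (Finset.mem_univ _), Finset.card_univ, hcardQ]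
    rfl
  rw [hcard_erase, smul_eq_mul] at hge
  rw [hTcard, hsum2, hca] at hsum
  have hp2 : 2 ≤ p := hp.two_le
  have : (s + 1) * e = s * e + e := by ring
  have he0 : e = 0 := by omega
  rw [he0, mul_zero] at hs
  omega

end Cfsg.Agent.Lib.H15.W2P
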