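import Mathlib

/-!
# S0720 piece SGN (`sign_of_swap`) (helper15)

An element normalising `⟨x⟩` (`x` fixed-point-free of odd prime order `p`, degree `2p`) and interchanging the
two orbits of `⟨x⟩` is an odd permutation.  Proof: coordinates `ZMod p × Bool`, `(k, b) ↦ x ^ k (a or n a)`;
in these coordinates `n` is `(k, b) ↦ (r k (+ c), !b)`, whose sign is computed with
`sign_prodCongrLeft` / `sign_prodCongrRight`.
-/

set_option autoImplicit false

namespace Cfsg.Agent.Lib.H15.W2P

open Equiv

section model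

variable {p : ℕ} [Fact p.Prime]

/-- the model: `(k, b) ↦ (r k (+ c if b), !b)` -/
noncomputable def modelPerm (r : ZMod p) (hr : r ≠ 0) (c : ZMod p) : Perm (ZMod p × Bool) :=
  (Equiv.prodCongrRight (fun _ : ZMod p => Equiv.swap false true)) *
  (Equiv.prodCongrLeft (fun b : Bool =>
    if b then (Equiv.mulLeft₀ r hr).trans (Equiv.addRight c) else Equiv.mulLeft₀ r hr))

theorem modelPerm_false (r : ZMod p) (hr : r ≠ 0) (c k : ZMod p) :
    modelPerm r hr c (k, false) = (r * k, true) := by
  simp [modelPerm, Equiv.Perm.mul_apply, Equiv.prodCongrLeft_apply, Equiv.prodCongrRight_apply]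

theorem modelPerm_true (r : ZMod p) (hr : r ≠ 0) (c k : ZMod p) :
    modelPerm r hr c (k, true) = (r * k + c, false) := by
  simp [modelPerm, Equiv.Perm.mul_apply, Equiv.prodCongrLeft_apply, Equiv.prodCongrRight_apply]

theorem sign_addRight (hp2 : p ≠ 2) (c : ZMod p) : Equiv.Perm.sign (Equiv.addRight c) = 1 := by
  have hp : p.Prime := Fact.out
  have hodd : Odd p := hp.odd_of_ne_two hp2
  have h0 : ∀ m : ℕ, (Equiv.addRight c) ^ m = Equiv.addRight (m • c) := by
    intro m
    induction m with
    | zero => ext k; simp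
    | succ m ih =>
      rw [pow_succ, ih]
      ext k
      simp only [Equiv.Perm.mul_apply, Equiv.coe_addRight, succ_nsmul]
      ring
  have h1 : (Equiv.addRight c) ^ p = 1 := by
    rw [h0]
    have : p • c = 0 := by
      rw [nsmul_eq_mul, ZMod.natCast_self, zero_mul]
    rw [this]
    ext k; simp
  have h2 : (Equiv.Perm.sign (Equiv.addRight c)) ^ p = 1 := by
    rw [← map_pow, h1, map_one]
  rcases Int.units_eq_one_or (Equiv.Perm.sign (Equiv.addRight c)) with h | h
  · exact h
  · rw [h, Odd.neg_one_pow hodd] at h2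
    exact absurd h2 (by decide)

theorem sign_modelPerm (hp2 : p ≠ 2) (r : ZMod p) (hr : r ≠ 0) (c : ZMod p) :
    Equiv.Perm.sign (modelPerm r hr c) = -1 := by
  have hp : p.Prime := Fact.out
  have hodd : Odd p := hp.odd_of_ne_two hp2
  unfold modelPerm
  rw [Equiv.Perm.sign_mul, Equiv.Perm.sign_prodCongrRight, Equiv.Perm.sign_prodCongrLeft]
  rw [Finset.prod_const, Finset.card_univ, ZMod.card, Equiv.Perm.sign_swap (by decide : false ≠ true),
    Odd.neg_one_pow hodd, Fintype.prod_bool]
  simp only [if_true, Bool.false_eq_true, if_false]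
  rw [Equiv.Perm.sign_trans, sign_addRight hp2, one_mul, Int.units_mul_self, mul_one]

end model

theorem sign_of_swap {α : Type*} [Fintype α] [DecidableEq α] {p : ℕ} (hp : p.Prime) (hp2 : p ≠ 2)
    (hα : Fintype.card α = 2 * p) (x n : Equiv.Perm α) (hox : orderOf x = p)
    (hfpf : ∀ a : α, x a ≠ a) (hn : n * x * n⁻¹ ∈ Subgroup.zpowers x) (a : α)
    (hswap : n a ∉ MulAction.orbit (Subgroup.zpowers x) a) : Equiv.Perm.sign n = -1 := by
  classical
  have : Fact p.Prime := ⟨hp⟩
  have hxp : x ^ p = 1 := by rw [← hox]; exact pow_orderOf_eq_one x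
  -- powers of `x` indexed by `ZMod p`
  have hval : ∀ m : ℕ, x ^ ((m : ZMod p)).val = x ^ m := by
    intro m
    rw [ZMod.val_natCast, ← hox, pow_mod_orderOf]
  have hadd : ∀ k l : ZMod p, x ^ (k + l).val = x ^ k.val * x ^ l.val := by
    intro k l
    rw [← pow_add, ← hval (k.val + l.val)]
    congr 2
    rw [Nat.cast_add, ZMod.natCast_zmod_val, ZMod.natCast_zmod_val]
  -- non-trivial powers have no fixed points
  have hfree : ∀ k : ZMod p, k ≠ 0 → ∀ pt : α, (x ^ k.val) pt ≠ pt := by
    intro k hk pt hfix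
    have hkinv : k⁻¹ * k = 1 := inv_mul_cancel₀ hk
    have h1 : x ^ (k.val * (k⁻¹).val) = x := by
      rw [← hval (k.val * (k⁻¹).val)]
      have : ((k.val * (k⁻¹).val : ℕ) : ZMod p) = 1 := by
        rw [Nat.cast_mul, ZMod.natCast_zmod_val, ZMod.natCast_zmod_val, mul_comm]; exact hkinv
      rw [this, ZMod.val_one, pow_one]
    have h2 : ∀ j : ℕ, ((x ^ k.val) ^ j) pt = pt := by
      intro j
      induction j with
      | zero => simp
      | succ j ih => rw [pow_succ, Equiv.Perm.mul_apply, hfix, ih]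
    have h3 := h2 (k⁻¹).val
    rw [← pow_mul, h1] at h3
    exact hfpf pt h3
  -- the exponent of the conjugation
  obtain ⟨z, hz⟩ := Subgroup.mem_zpowers_iff.1 hn
  obtain ⟨ρ, hρ⟩ : ∃ ρ : ℕ, x ^ ρ = n * x * n⁻¹ := by
    refine ⟨(z % (p : ℤ)).toNat, ?_⟩
    have hpos : (0 : ℤ) ≤ z % (p : ℤ) := Int.emod_nonneg _ (by exact_mod_cast hp.ne_zero)
    rw [← zpow_natCast, Int.toNat_of_nonneg hpos, ← hz, ← hox, zpow_mod_orderOf]
  have hconj : ∀ j : ℕ, n * x ^ j = x ^ (ρ * j) * n := by
    intro j
    have : n * x ^ j * n⁻¹ = x ^ (ρ * j) := by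
      rw [← conj_pow, ← hρ, ← pow_mul]
    rw [← this]; group
  set r : ZMod p := (ρ : ZMod p) with hr
  have hr0 : r ≠ 0 := by
    intro h0
    have hdvd : p ∣ ρ := (ZMod.natCast_eq_zero_iff ρ p).1 h0
    obtain ⟨t, rfl⟩ := hdvd
    rw [pow_mul, hxp, one_pow] at hρ
    have hx1 : x = 1 := by
      have : n * x * n⁻¹ = 1 := hρ.symm
      have h2 : x = n⁻¹ * (n * x * n⁻¹) * n := by group
      rw [h2, this]; group
    exact hfpf a (by rw [hx1]; rfl)
  have hnx : ∀ (k : ZMod p) (pt : α), n ((x ^ k.val) pt) = (x ^ (r * k).val) (n pt) := by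
    intro k pt
    have h1 : n ((x ^ k.val) pt) = (n * x ^ k.val) pt := rfl
    rw [h1, hconj, Equiv.Perm.mul_apply]
    congr 1
    rw [← hval (ρ * k.val)]
    congr 2
    rw [Nat.cast_mul, ZMod.natCast_zmod_val]
  -- coordinates
  let e0 : ZMod p × Bool → α := fun z => (x ^ z.1.val) (if z.2 then n a else a)
  have he0_inj : Function.Injective e0 := by
    rintro ⟨k, b⟩ ⟨k', b'⟩ h
    simp only [e0] at h
    have key : ∀ (k k' : ZMod p) (pt pt' : α), (x ^ k.val) pt = (x ^ k'.val) pt' →
        (x ^ (k - k').val) pt = pt' := by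
      intro k k' pt pt' h
      have h1 : (x ^ (k - k').val) pt = (x ^ (-k').val) ((x ^ k.val) pt) := by
        rw [← Equiv.Perm.mul_apply, ← hadd]
        congr 3
        ring
      rw [h1, h, ← Equiv.Perm.mul_apply, ← hadd]
      have : -k' + k' = 0 := by ring
      rw [this, ZMod.val_zero, pow_zero]; rfl
    by_cases hb : b = b'
    · subst hb
      have h2 := key k k' _ _ h
      have hk : k - k' = 0 := by
        by_contra hne
        exact hfree _ hne _ h2
      rw [sub_eq_zero] at hk
      rw [hk]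
    · exfalso
      cases b <;> cases b' <;> simp only [if_true, Bool.false_eq_true, if_false] at h
      · exact hb rfl
      · apply hswap
        have h2 := key k k' _ _ h
        rw [MulAction.mem_orbit_iff]
        exact ⟨⟨x ^ (k - k').val, Subgroup.pow_mem _ (Subgroup.mem_zpowers x) _⟩, h2⟩
      · apply hswap
        have h2 := key k' k _ _ h.symm
        rw [MulAction.mem_orbit_iff]
        exact ⟨⟨x ^ (k' - k).val, Subgroup.pow_mem _ (Subgroup.mem_zpowers x) _⟩, h2⟩
      · exact hb rfl
  have he0_bij : Function.Bijective e0 := by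
    rw [Fintype.bijective_iff_injective_and_card]
    refine ⟨he0_inj, ?_⟩
    rw [Fintype.card_prod, ZMod.card, Fintype.card_bool, hα, mul_comm]
  let e : ZMod p × Bool ≃ α := Equiv.ofBijective e0 he0_bij
  have he : ∀ z, e z = (x ^ z.1.val) (if z.2 then n a else a) := fun z => rfl
  -- `n (n a)` lies in the orbit of `a`
  obtain ⟨c, hc⟩ : ∃ c : ZMod p, n (n a) = (x ^ c.val) a := by
    obtain ⟨⟨k', b'⟩, hk'⟩ := he0_bij.2 (n (n a))
    cases b'
    · exact ⟨k', by simpa [e0] using hk'.symm⟩
    · exfalso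
      simp only [e0, if_true] at hk'
      -- `n (e (r⁻¹ k', false)) = e (k', true) = n (n a)`
      have h1 := hnx (r⁻¹ * k') a
      have h2 : r * (r⁻¹ * k') = k' := by
        rw [← mul_assoc, mul_inv_cancel₀ hr0, one_mul]
      rw [h2, hk'] at h1
      have h3 := n.injective h1
      have h4 : e0 (r⁻¹ * k', false) = e0 (0, true) := by
        simp only [e0, if_true, Bool.false_eq_true, if_false, ZMod.val_zero, pow_zero]
        rw [h3]; rfl
      have := he0_inj h4
      simp at this
  -- `n` in coordinates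
  have hmodel : ∀ z, e (modelPerm r hr0 c z) = n (e z) := by
    rintro ⟨k, b⟩
    cases b
    · rw [modelPerm_false, he, he]
      simp only [if_true, Bool.false_eq_true, if_false]
      rw [hnx]
    · rw [modelPerm_true, he, he]
      simp only [if_true, Bool.false_eq_true, if_false]
      rw [hnx, hc, ← Equiv.Perm.mul_apply, ← hadd]
  rw [← Equiv.Perm.sign_eq_sign_of_equiv (modelPerm r hr0 c) n e hmodel]
  exact sign_modelPerm hp2 r hr0 c

end Cfsg.Agent.Lib.H15.W2P
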