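import Mathlib

/-!
# Extraspecial `3^{1+2}` in `GL_3`: cube roots of unity, diagonalisation, commutators central
-/

set_option autoImplicit false

namespace Cfsg.Agent.Lib.H15.X3

open Matrix

variable {F : Type*} [Field F]

/-- `ω` is a primitive cube root of unity. -/
structure Cube (ω : F) : Prop where
  cube : ω ^ 3 = 1
  ne_one : ω ≠ 1

namespace Cube

variable {ω : F}

lemma sum_eq (h : Cube ω) : 1 + ω + ω ^ 2 = 0 := by
  have h1 : (ω - 1) * (1 + ω + ω ^ 2) = 0 := by
    have := h.cube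
    linear_combination this
  rcases mul_eq_zero.1 h1 with h2 | h2
  · exact absurd (sub_eq_zero.1 h2) h.ne_one
  · exact h2

lemma ne_zero (h : Cube ω) : ω ≠ 0 := by
  intro h0
  have := h.cube
  rw [h0] at this
  simp at this

lemma three_ne (h : Cube ω) : (3 : F) ≠ 0 := by
  intro h3
  have h1 : (ω - 1) ^ 3 = 0 := by
    have := h.cube
    linear_combination this - (ω ^ 2 - ω) * h3
  exact h.ne_one (sub_eq_zero.1 (pow_eq_zero_iff (by norm_num) |>.1 h1))

lemma roots (h : Cube ω) {x : F} (hx : x ^ 3 = 1) : x = 1 ∨ x = ω ∨ x = ω ^ 2 := by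
  have hs := h.sum_eq
  have hc := h.cube
  have h1 : (x - 1) * ((x - ω) * (x - ω ^ 2)) = 0 := by
    linear_combination hx - (x - 1) * x * hs + (x - 1) * hc
  rcases mul_eq_zero.1 h1 with h2 | h2
  · exact Or.inl (sub_eq_zero.1 h2)
  · rcases mul_eq_zero.1 h2 with h3 | h3
    · exact Or.inr (Or.inl (sub_eq_zero.1 h3))
    · exact Or.inr (Or.inr (sub_eq_zero.1 h3))

lemma pow_four (h : Cube ω) : ω ^ 4 = ω := by
  rw [pow_succ, h.cube, one_mul]

lemma sq_ne_one (h : Cube ω) : ω ^ 2 ≠ 1 := by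
  intro h2
  apply h.ne_one
  have := h.cube
  rw [pow_succ, h2, one_mul] at this
  exact this

lemma sq_ne_self (h : Cube ω) : ω ^ 2 ≠ ω := by
  intro h2
  apply h.ne_one
  have : ω * ω = ω * 1 := by rw [← pow_two, h2, mul_one]
  exact mul_left_cancel₀ h.ne_zero this

lemma sq_cube (h : Cube ω) : Cube (ω ^ 2) :=
  ⟨by rw [← pow_mul, mul_comm, pow_mul, h.cube, one_pow], h.sq_ne_one⟩

lemma inv_eq (h : Cube ω) : ω⁻¹ = ω ^ 2 := by
  apply inv_eq_of_mul_eq_one_right
  rw [← pow_succ', h.cube]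

lemma exists_pow (h : Cube ω) {x : F} (hx : x ^ 3 = 1) : ∃ k : ℕ, x = ω ^ k := by
  rcases h.roots hx with h1 | h1 | h1
  · exact ⟨0, by rw [h1, pow_zero]⟩
  · exact ⟨1, by rw [h1, pow_one]⟩
  · exact ⟨2, h1⟩

end Cube

/-- If the eigenvectors of `M` with eigenvalues satisfying `Λ` span `F^3`, then `M` is
diagonalisable with diagonal entries satisfying `Λ`. -/
theorem exists_diag (M : Matrix (Fin 3) (Fin 3) F) (Λ : F → Prop)
    (hspan : ∀ v : Fin 3 → F,
      v ∈ Submodule.span F {u : Fin 3 → F | ∃ l, Λ l ∧ M *ᵥ u = l • u}) :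
    ∃ (P : GL (Fin 3) F) (d : Fin 3 → F), (∀ i, Λ (d i)) ∧
      M * (P : Matrix (Fin 3) (Fin 3) F) = (P : Matrix (Fin 3) (Fin 3) F) * Matrix.diagonal d := by
  classical
  set E : Set (Fin 3 → F) := {u | u ≠ 0 ∧ ∃ l, Λ l ∧ M *ᵥ u = l • u} with hE
  have hE' : Submodule.span F E = ⊤ := by
    rw [eq_top_iff]
    intro v _
    refine (Submodule.span_le.2 ?_) (hspan v)
    rintro u ⟨l, hl, hu⟩
    by_cases h0 : u = 0
    · rw [h0]; exact Submodule.zero_mem _
    · exact Submodule.subset_span ⟨h0, l, hl, hu⟩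
  obtain ⟨b, hbE, hbspan, hbli⟩ := exists_linearIndependent F E
  have hb_top : ⊤ ≤ Submodule.span F (Set.range (Subtype.val : b → Fin 3 → F)) := by
    rw [Subtype.range_coe, hbspan, hE']
  let B : Module.Basis b F (Fin 3 → F) := Module.Basis.mk hbli hb_top
  let e : b ≃ Fin 3 := B.indexEquiv (Pi.basisFun F (Fin 3))
  let v : Fin 3 → (Fin 3 → F) := fun j => ((e.symm j : b) : Fin 3 → F)
  have hvli : LinearIndependent F v := hbli.comp e.symm e.symm.injective
  have hvE : ∀ j, v j ∈ E := fun j => hbE (e.symm j).2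
  choose hv0 d hd hMv using hvE
  let Pm : Matrix (Fin 3) (Fin 3) F := Matrix.of (fun i j => v j i)
  have hPunit : IsUnit Pm := by
    rw [← Matrix.linearIndependent_cols_iff_isUnit]
    exact hvli
  refine ⟨hPunit.unit, d, hd, ?_⟩
  rw [IsUnit.unit_spec]
  ext i j
  rw [Matrix.mul_diagonal]
  have h1 := congrFun (hMv j) i
  simp only [Matrix.mulVec, dotProduct, Pi.smul_apply, smul_eq_mul] at h1
  simp only [Matrix.mul_apply, Pm, Matrix.of_apply]
  rw [h1, mul_comm]

/-- In a non-abelian group of order 27 all commutators are central. -/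
theorem comm_mem_center {G : Type*} [Group G] (hG : Nat.card G = 27)
    (hna : ¬ ∀ a b : G, a * b = b * a) (a b : G) :
    a * b * a⁻¹ * b⁻¹ ∈ Subgroup.center G := by
  haveI : Finite G := Nat.finite_of_card_ne_zero (by rw [hG]; norm_num)
  haveI : Fact (Nat.Prime 3) := ⟨Nat.prime_three⟩
  have hp : IsPGroup 3 G := IsPGroup.of_card (n := 3) (by rw [hG]; norm_num)
  haveI : Nontrivial G := by
    rw [← Finite.one_lt_card_iff_nontrivial, hG]; norm_num
  have hZnt : Nontrivial (Subgroup.center G) := hp.center_nontrivial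
  have hmul : Nat.card (G ⧸ Subgroup.center G) * Nat.card (Subgroup.center G) = 27 := by
    rw [← hG]; exact (Subgroup.card_eq_card_quotient_mul_card_subgroup _).symm
  have hdvd : Nat.card (Subgroup.center G) ∣ 3 ^ 3 := by
    rw [show (3 : ℕ) ^ 3 = 27 by norm_num, ← hG]; exact Subgroup.card_subgroup_dvd_card _
  obtain ⟨k, hk, hkc⟩ := (Nat.dvd_prime_pow Nat.prime_three).1 hdvd
  have hk0 : k ≠ 0 := by
    rintro rfl
    rw [pow_zero] at hkc
    have := (Finite.one_lt_card_iff_nontrivial (α := Subgroup.center G)).2 hZnt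
    omega
  have hk3 : k ≠ 3 := by
    rintro rfl
    apply hna
    intro a b
    have htop : Subgroup.center G = ⊤ := by
      apply Subgroup.eq_top_of_card_eq
      rw [hkc, hG]; norm_num
    have hb : b ∈ Subgroup.center G := by rw [htop]; trivial
    exact ((Subgroup.mem_center_iff.1 hb) a)
  have hk2 : k ≠ 2 := by
    rintro rfl
    apply hna
    have hq : Nat.card (G ⧸ Subgroup.center G) = 3 := by
      rw [hkc] at hmul
      have : Nat.card (G ⧸ Subgroup.center G) * 9 = 3 * 9 := by omega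
      exact Nat.eq_of_mul_eq_mul_right (by norm_num) this
    haveI : IsCyclic (G ⧸ Subgroup.center G) := isCyclic_of_prime_card hq
    exact (MonoidHom.isMulCommutative_of_isCyclic_of_ker_le_center
      (QuotientGroup.mk' (Subgroup.center G)) (by rw [QuotientGroup.ker_mk'])).is_comm.comm
  have hk1 : k = 1 := by omega
  subst hk1
  have hq : Nat.card (G ⧸ Subgroup.center G) = 3 ^ 2 := by
    rw [hkc] at hmul
    have : Nat.card (G ⧸ Subgroup.center G) * 3 = 9 * 3 := by omega
    have := Nat.eq_of_mul_eq_mul_right (by norm_num) this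
    rw [this]; norm_num
  have hcomm := (IsPGroup.isMulCommutative_of_card_eq_prime_sq hq).is_comm.comm
  rw [← QuotientGroup.eq_one_iff]
  have : ((a * b * a⁻¹ * b⁻¹ : G) : G ⧸ Subgroup.center G) =
      (a : G ⧸ Subgroup.center G) * b * (a : G ⧸ Subgroup.center G)⁻¹ *
        (b : G ⧸ Subgroup.center G)⁻¹ := by
    simp
  rw [this, hcomm (a : G ⧸ Subgroup.center G) b]
  group

end Cfsg.Agent.Lib.H15.X3
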