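import Cfsg.Agent.Lib.H15.X3A

/-!
# The standard extraspecial group `R0 u = ⟨diag(1,u,u²), cyclic permutation⟩` in `GL_3`
-/

set_option autoImplicit false

namespace Cfsg.Agent.Lib.H15.X3

open Matrix

variable {F : Type*} [Field F]

/-- Diagonal matrices as a homomorphism `(Fˣ)^3 → GL_3(F)`. -/
def dgH : (Fin 3 → Fˣ) →* GL (Fin 3) F where
  toFun d := ⟨diagonal (fun i => (d i : F)), diagonal (fun i => ((d i)⁻¹ : Fˣ)),
    by rw [diagonal_mul_diagonal]; simp, by rw [diagonal_mul_diagonal]; simp⟩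
  map_one' := Units.ext (by simp)
  map_mul' d e := Units.ext (by simp [diagonal_mul_diagonal])

@[simp] lemma dgH_val (d : Fin 3 → Fˣ) :
    ((dgH d : GL (Fin 3) F) : Matrix (Fin 3) (Fin 3) F) = diagonal (fun i => (d i : F)) := rfl

def Bg : Matrix (Fin 3) (Fin 3) F := !![0,0,1;1,0,0;0,1,0]
def Bi : Matrix (Fin 3) (Fin 3) F := !![0,1,0;0,0,1;1,0,0]
def Tg : Matrix (Fin 3) (Fin 3) F := !![-1,0,0;0,0,-1;0,-1,0]

lemma Bg_mul_Bi : (Bg : Matrix (Fin 3) (Fin 3) F) * Bi = 1 := by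
  ext i j
  fin_cases i <;> fin_cases j <;> simp [Matrix.mul_apply, Fin.sum_univ_three, Bg, Bi]

lemma Bi_mul_Bg : (Bi : Matrix (Fin 3) (Fin 3) F) * Bg = 1 := by
  ext i j
  fin_cases i <;> fin_cases j <;> simp [Matrix.mul_apply, Fin.sum_univ_three, Bg, Bi]

lemma Tg_mul_Tg : (Tg : Matrix (Fin 3) (Fin 3) F) * Tg = 1 := by
  ext i j
  fin_cases i <;> fin_cases j <;> simp [Matrix.mul_apply, Fin.sum_univ_three, Tg]

def BgU : GL (Fin 3) F := ⟨Bg, Bi, Bg_mul_Bi, Bi_mul_Bg⟩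
def TgU : GL (Fin 3) F := ⟨Tg, Tg, Tg_mul_Tg, Tg_mul_Tg⟩

@[simp] lemma BgU_val : ((BgU : GL (Fin 3) F) : Matrix (Fin 3) (Fin 3) F) = Bg := rfl
@[simp] lemma TgU_val : ((TgU : GL (Fin 3) F) : Matrix (Fin 3) (Fin 3) F) = Tg := rfl
lemma BgU_inv_val : (((BgU : GL (Fin 3) F)⁻¹ : GL (Fin 3) F) : Matrix (Fin 3) (Fin 3) F) = Bi := rfl
lemma TgU_inv : (TgU : GL (Fin 3) F)⁻¹ = TgU := rfl

/-- the diagonal generator `diag(1,u,u²)` -/
def AgU (u : Fˣ) : GL (Fin 3) F := dgH ![1, u, u ^ 2]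

/-- the standard extraspecial group -/
def R0 (u : Fˣ) : Subgroup (GL (Fin 3) F) := Subgroup.closure {AgU u, BgU}

lemma AgU_mem (u : Fˣ) : AgU u ∈ R0 u := Subgroup.subset_closure (by simp)
lemma BgU_mem (u : Fˣ) : (BgU : GL (Fin 3) F) ∈ R0 u := Subgroup.subset_closure (by simp)

/-- moving a diagonal matrix across the cyclic permutation -/
lemma dgH_mul_BgU (d : Fin 3 → Fˣ) :
    dgH d * (BgU : GL (Fin 3) F) = BgU * dgH (fun i => d (![1, 2, 0] i)) := by
  apply Units.ext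
  rw [Units.val_mul, Units.val_mul, dgH_val, dgH_val, BgU_val]
  ext i j
  rw [Matrix.diagonal_mul, Matrix.mul_diagonal]
  fin_cases i <;> fin_cases j <;> simp [Bg]

lemma scalar_eq_dgH (u : Fˣ) :
    Matrix.GeneralLinearGroup.scalar (Fin 3) u = dgH (fun _ => u) := by
  apply Units.ext
  rw [Matrix.GeneralLinearGroup.coe_scalar, dgH_val, Matrix.scalar_apply]

/-- the commutator of the generators is the scalar `u` -/
lemma comm_eq (u : Fˣ) (hu : u ^ 3 = 1) :
    AgU u * (BgU : GL (Fin 3) F) * (AgU u)⁻¹ * BgU⁻¹ = dgH (fun _ => u) := by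
  have h1 : (fun i => (![1, u, u ^ 2] : Fin 3 → Fˣ) (![1, 2, 0] i)) * (![1, u, u ^ 2])⁻¹
      = fun _ => u := by
    funext i
    have h4 : (u ^ 2)⁻¹ = u := by
      rw [inv_eq_iff_eq_inv, eq_inv_iff_mul_eq_one, ← pow_succ, hu]
    fin_cases i
    · simp
    · simp [pow_two]
    · simp [h4]
  have h2 : dgH (fun _ => u) * (BgU : GL (Fin 3) F) = BgU * dgH (fun _ => u) := by
    rw [dgH_mul_BgU]
  unfold AgU
  rw [dgH_mul_BgU, mul_assoc BgU, ← map_inv, ← map_mul, h1, ← h2, mul_inv_cancel_right]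

lemma scalar_mem (u : Fˣ) (hu : u ^ 3 = 1) : (dgH (fun _ => u) : GL (Fin 3) F) ∈ R0 u := by
  rw [← comm_eq u hu]
  exact (R0 u).mul_mem ((R0 u).mul_mem ((R0 u).mul_mem (AgU_mem u) (BgU_mem u))
    ((R0 u).inv_mem (AgU_mem u))) ((R0 u).inv_mem (BgU_mem u))

lemma units_cube_roots (u : Fˣ) (hu : u ^ 3 = 1) (hu1 : u ≠ 1) :
    Cube (u : F) := by
  refine ⟨?_, ?_⟩
  · rw [← Units.val_pow_eq_pow_val, hu, Units.val_one]
  · intro h
    exact hu1 (Units.ext h)

lemma units_exists_pow (u : Fˣ) (hu : u ^ 3 = 1) (hu1 : u ≠ 1) (x : Fˣ) (hx : x ^ 3 = 1) :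
    ∃ k : ℕ, x = u ^ k := by
  have hx' : (x : F) ^ 3 = 1 := by rw [← Units.val_pow_eq_pow_val, hx, Units.val_one]
  obtain ⟨k, hk⟩ := (units_cube_roots u hu hu1).exists_pow hx'
  exact ⟨k, Units.ext (by rw [hk, Units.val_pow_eq_pow_val])⟩

/-- diagonal matrices with entries cube roots of unity and determinant one lie in `R0 u` -/
lemma diag_mem (u : Fˣ) (hu : u ^ 3 = 1) (hu1 : u ≠ 1) (d : Fin 3 → Fˣ)
    (hd : ∀ i, d i ^ 3 = 1) (hp : d 0 * d 1 * d 2 = 1) : (dgH d : GL (Fin 3) F) ∈ R0 u := by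
  obtain ⟨k, hk⟩ := units_exists_pow u hu hu1 (d 0) (hd 0)
  obtain ⟨k1, hk1⟩ := units_exists_pow u hu hu1 (d 1) (hd 1)
  have h2 : d 2 = u ^ (5 * k + 2 * k1) := by
    have h3 : d 2 = (d 0 * d 1)⁻¹ := by
      rw [eq_inv_iff_mul_eq_one, mul_comm]; exact hp
    rw [h3, hk, hk1, ← pow_add, inv_eq_iff_eq_inv, eq_inv_iff_mul_eq_one, ← pow_add]
    have : k + k1 + (5 * k + 2 * k1) = 3 * (2 * k + k1) := by ring
    rw [this, pow_mul, hu, one_pow]
  have hdd : d = (fun _ => u) ^ k * (![1, u, u ^ 2] : Fin 3 → Fˣ) ^ (k1 + 2 * k) := by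
    funext i
    fin_cases i
    · simp [hk]
    · simp only [Fin.mk_one, Pi.mul_apply, Pi.pow_apply, Matrix.cons_val_one,
        Matrix.cons_val_zero, Fin.isValue]
      rw [hk1, ← pow_add]
      have : k + (k1 + 2 * k) = k1 + 3 * k := by ring
      rw [this, pow_add, pow_mul, hu, one_pow, mul_one]
    · simp only [Fin.reduceFinMk, Pi.mul_apply, Pi.pow_apply, Matrix.cons_val_two,
        Matrix.tail_cons, Matrix.head_cons, Fin.isValue]
      rw [h2, ← pow_mul, ← pow_add]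
      congr 1
      ring
  rw [hdd, map_mul, map_pow, map_pow]
  exact (R0 u).mul_mem ((R0 u).pow_mem (scalar_mem u hu) _) ((R0 u).pow_mem (AgU_mem u) _)

/-- conjugating the generators by a diagonal matrix with cube-root entries stays in `R0 u` -/
lemma dg_conj_mem (u : Fˣ) (hu : u ^ 3 = 1) (hu1 : u ≠ 1) (d : Fin 3 → Fˣ)
    (hd : ∀ i, d i ^ 3 = 1) :
    ∀ s ∈ ({AgU u, BgU} : Set (GL (Fin 3) F)), dgH d * s * (dgH d)⁻¹ ∈ R0 u := by
  intro s hs
  rcases hs with rfl | hs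
  · have : dgH d * AgU u * (dgH d)⁻¹ = AgU u := by
      unfold AgU
      rw [← map_mul, ← map_inv, ← map_mul, mul_comm d, mul_inv_cancel_right]
    rw [this]; exact AgU_mem u
  · rw [Set.mem_singleton_iff] at hs
    subst hs
    rw [dgH_mul_BgU, mul_assoc, ← map_inv, ← map_mul]
    refine (R0 u).mul_mem (BgU_mem u) (diag_mem u hu hu1 _ ?_ ?_)
    · intro i
      simp only [Pi.mul_apply, Pi.inv_apply, mul_pow, inv_pow, hd, inv_one, mul_one]
    · simp only [Pi.mul_apply, Pi.inv_apply, Matrix.cons_val_zero, Matrix.cons_val_one,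
        Matrix.cons_val_two, Matrix.tail_cons, Matrix.head_cons]
      have : d 1 * (d 0)⁻¹ * (d 2 * (d 1)⁻¹) * (d 0 * (d 2)⁻¹) = 1 := by
        rw [mul_comm (d 1), mul_comm (d 2), mul_comm (d 0)]
        group
      exact this

/-- criterion for membership in the normaliser of a closure -/
lemma mem_normalizer_closure {G : Type*} [Group G] (X : Set G) (g : G)
    (h1 : ∀ s ∈ X, g * s * g⁻¹ ∈ Subgroup.closure X)
    (h2 : ∀ s ∈ X, g⁻¹ * s * g ∈ Subgroup.closure X) :
    g ∈ Subgroup.normalizer (Subgroup.closure X : Set G) := by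
  have key : ∀ k : G, (∀ s ∈ X, k * s * k⁻¹ ∈ Subgroup.closure X) →
      ∀ h ∈ Subgroup.closure X, k * h * k⁻¹ ∈ Subgroup.closure X := by
    intro k hk h hh
    have : Subgroup.closure X ≤ (Subgroup.closure X).comap (MulAut.conj k).toMonoidHom := by
      rw [Subgroup.closure_le]
      intro s hs
      exact hk s hs
    exact this hh
  rw [Subgroup.mem_set_normalizer_iff]
  intro h
  constructor
  · exact key g h1 h
  · intro hh
    have := key g⁻¹ (by simpa using h2) _ hh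
    simpa [mul_assoc] using this

lemma dgH_mem_normalizer (u : Fˣ) (hu : u ^ 3 = 1) (hu1 : u ≠ 1) (d : Fin 3 → Fˣ)
    (hd : ∀ i, d i ^ 3 = 1) :
    (dgH d : GL (Fin 3) F) ∈ Subgroup.normalizer (R0 u : Set (GL (Fin 3) F)) := by
  apply mem_normalizer_closure
  · exact dg_conj_mem u hu hu1 d hd
  · have := dg_conj_mem u hu hu1 d⁻¹ (by intro i; simp [hd])
    intro s hs
    have h := this s hs
    rwa [map_inv, inv_inv] at h

lemma AgU_val (u : Fˣ) : ((AgU u : GL (Fin 3) F) : Matrix (Fin 3) (Fin 3) F) =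
    !![1,0,0;0,(u:F),0;0,0,(u:F)^2] := by
  unfold AgU
  rw [dgH_val]
  ext i j
  fin_cases i <;> fin_cases j <;> simp

lemma TgU_conj_AgU (u : Fˣ) (hu : u ^ 3 = 1) :
    (TgU : GL (Fin 3) F) * AgU u * TgU = AgU u ^ 2 := by
  have h4 : (u : F) ^ 4 = u := by
    rw [← Units.val_pow_eq_pow_val, pow_succ, hu, one_mul]
  apply Units.ext
  rw [Units.val_mul, Units.val_mul, Units.val_pow_eq_pow_val, TgU_val, AgU_val,
    pow_two (Matrix.of _)]
  ext i j
  fin_cases i <;> fin_cases j <;>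
    simp [Matrix.mul_apply, Fin.sum_univ_three, Tg]
  · ring
  · rw [← pow_two, ← pow_mul]; exact h4.symm

lemma TgU_conj_BgU : (TgU : GL (Fin 3) F) * BgU * TgU = BgU⁻¹ := by
  apply Units.ext
  rw [Units.val_mul, Units.val_mul, TgU_val, BgU_val, BgU_inv_val]
  ext i j
  fin_cases i <;> fin_cases j <;>
    simp [Matrix.mul_apply, Fin.sum_univ_three, Tg, Bg, Bi]

lemma TgU_mem_normalizer (u : Fˣ) (hu : u ^ 3 = 1) :
    (TgU : GL (Fin 3) F) ∈ Subgroup.normalizer (R0 u : Set (GL (Fin 3) F)) := by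
  have h : ∀ s ∈ ({AgU u, BgU} : Set (GL (Fin 3) F)), TgU * s * TgU ∈ R0 u := by
    intro s hs
    rcases hs with rfl | hs
    · rw [TgU_conj_AgU u hu]; exact (R0 u).pow_mem (AgU_mem u) 2
    · rw [Set.mem_singleton_iff] at hs
      subst hs
      rw [TgU_conj_BgU]; exact (R0 u).inv_mem (BgU_mem u)
  apply mem_normalizer_closure
  · intro s hs; rw [TgU_inv]; exact h s hs
  · intro s hs; rw [TgU_inv]; exact h s hs

lemma scalar_mem_normalizer (X : Set (GL (Fin 3) F)) (v : Fˣ) :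
    (dgH (fun _ => v) : GL (Fin 3) F) ∈ Subgroup.normalizer X := by
  rw [Subgroup.mem_set_normalizer_iff]
  intro h
  rw [← scalar_eq_dgH, Matrix.GeneralLinearGroup.scalar_commute, mul_inv_cancel_right]

/-- the determinant of `dgH d` -/
lemma det_dgH (d : Fin 3 → Fˣ) :
    Matrix.GeneralLinearGroup.det (dgH d : GL (Fin 3) F) = d 0 * d 1 * d 2 := by
  apply Units.ext
  rw [Matrix.GeneralLinearGroup.val_det_apply, dgH_val, Matrix.det_diagonal, Fin.prod_univ_three]
  simp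

lemma det_BgU : Matrix.GeneralLinearGroup.det (BgU : GL (Fin 3) F) = 1 := by
  apply Units.ext
  rw [Matrix.GeneralLinearGroup.val_det_apply, BgU_val, Matrix.det_fin_three]
  simp [Bg]

lemma det_TgU : Matrix.GeneralLinearGroup.det (TgU : GL (Fin 3) F) = 1 := by
  apply Units.ext
  rw [Matrix.GeneralLinearGroup.val_det_apply, TgU_val, Matrix.det_fin_three]
  simp [Tg]

lemma R0_le_ker (u : Fˣ) (hu : u ^ 3 = 1) :
    R0 u ≤ (Matrix.GeneralLinearGroup.det : GL (Fin 3) F →* Fˣ).ker := by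
  unfold R0
  rw [Subgroup.closure_le]
  intro s hs
  rcases hs with rfl | hs
  · rw [SetLike.mem_coe, MonoidHom.mem_ker]
    unfold AgU
    rw [det_dgH]
    simp only [Matrix.cons_val_zero, Matrix.cons_val_one, Matrix.cons_val_two, Matrix.tail_cons,
      Matrix.head_cons, one_mul]
    rw [← pow_succ', hu]
  · rw [Set.mem_singleton_iff] at hs
    subst hs
    rw [SetLike.mem_coe, MonoidHom.mem_ker]
    exact det_BgU

/-- the centraliser of `R0 u` in `GL_3` consists of scalars -/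
lemma scalar_of_commute (u : Fˣ) (hu : u ^ 3 = 1) (hu1 : u ≠ 1) (g : GL (Fin 3) F)
    (hA : g * AgU u = AgU u * g) (hB : g * BgU = BgU * g) :
    ∃ z : F, (g : Matrix (Fin 3) (Fin 3) F) = z • (1 : Matrix (Fin 3) (Fin 3) F) := by
  have hc := units_cube_roots u hu hu1
  have hA' := congrArg Units.val hA
  have hB' := congrArg Units.val hB
  rw [Units.val_mul, Units.val_mul] at hA' hB'
  unfold AgU at hA'
  rw [dgH_val] at hA'
  rw [BgU_val] at hB'
  set M := (g : Matrix (Fin 3) (Fin 3) F) with hM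
  have e : ∀ i j, M i j * ((![1, u, u ^ 2] : Fin 3 → Fˣ) j : F) =
      ((![1, u, u ^ 2] : Fin 3 → Fˣ) i : F) * M i j := by
    intro i j
    have := congrFun (congrFun hA' i) j
    rwa [Matrix.mul_diagonal, Matrix.diagonal_mul] at this
  have hu0 : (u : F) ≠ 0 := hc.ne_zero
  have h01 : M 0 1 = 0 := by
    have := e 0 1
    simp at this
    have h : M 0 1 * ((u : F) - 1) = 0 := by linear_combination this
    rcases mul_eq_zero.1 h with h | h
    · exact h
    · exact absurd (sub_eq_zero.1 h) hc.ne_one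
  have h02 : M 0 2 = 0 := by
    have := e 0 2
    simp at this
    have h : M 0 2 * ((u : F) ^ 2 - 1) = 0 := by linear_combination this
    rcases mul_eq_zero.1 h with h | h
    · exact h
    · exact absurd (sub_eq_zero.1 h) hc.sq_ne_one
  have h10 : M 1 0 = 0 := by
    have := e 1 0
    simp at this
    have h : M 1 0 * ((u : F) - 1) = 0 := by linear_combination -this
    rcases mul_eq_zero.1 h with h | h
    · exact h
    · exact absurd (sub_eq_zero.1 h) hc.ne_one
  have h12 : M 1 2 = 0 := by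
    have := e 1 2
    simp at this
    have h : M 1 2 * ((u : F) ^ 2 - u) = 0 := by linear_combination this
    rcases mul_eq_zero.1 h with h | h
    · exact h
    · exact absurd (sub_eq_zero.1 h) hc.sq_ne_self
  have h20 : M 2 0 = 0 := by
    have := e 2 0
    simp at this
    have h : M 2 0 * ((u : F) ^ 2 - 1) = 0 := by linear_combination -this
    rcases mul_eq_zero.1 h with h | h
    · exact h
    · exact absurd (sub_eq_zero.1 h) hc.sq_ne_one
  have h21 : M 2 1 = 0 := by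
    have := e 2 1
    simp at this
    have h : M 2 1 * ((u : F) ^ 2 - u) = 0 := by linear_combination -this
    rcases mul_eq_zero.1 h with h | h
    · exact h
    · exact absurd (sub_eq_zero.1 h) hc.sq_ne_self
  have b10 := congrFun (congrFun hB' 1) 0
  have b21 := congrFun (congrFun hB' 2) 1
  simp [Matrix.mul_apply, Fin.sum_univ_three, Bg] at b10 b21
  refine ⟨M 0 0, ?_⟩
  ext i j
  fin_cases i <;> fin_cases j <;> simp [h01, h02, h10, h12, h20, h21, b10, b21]

end Cfsg.Agent.Lib.H15.X3
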