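import Cfsg.Agent.Lib.H15.X3B

/-!
# Standard form of a non-abelian subgroup of order 27 and exponent 3 of `GL_3(F)`
-/

set_option autoImplicit false

namespace Cfsg.Agent.Lib.H15.X3

open Matrix

variable {F : Type*} [Field F]

/-- the `ρ`-eigen-component of `v` for a matrix with `M^3 = 1` (times 3) -/
def eu (M : Matrix (Fin 3) (Fin 3) F) (ρ : F) (v : Fin 3 → F) : Fin 3 → F :=
  v + ρ ^ 2 • (M *ᵥ v) + ρ • (M *ᵥ (M *ᵥ v))

lemma mulVec_cube (M : Matrix (Fin 3) (Fin 3) F) (hM : M ^ 3 = 1) (v : Fin 3 → F) :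
    M *ᵥ (M *ᵥ (M *ᵥ v)) = v := by
  have : M * M * M = 1 := by rw [← pow_two, ← pow_succ, hM]
  rw [Matrix.mulVec_mulVec, Matrix.mulVec_mulVec, this, Matrix.one_mulVec]

lemma mulVec_eu (M : Matrix (Fin 3) (Fin 3) F) (hM : M ^ 3 = 1) (ρ : F) (hρ : ρ ^ 3 = 1)
    (v : Fin 3 → F) : M *ᵥ eu M ρ v = ρ • eu M ρ v := by
  unfold eu
  rw [Matrix.mulVec_add, Matrix.mulVec_add, Matrix.mulVec_smul, Matrix.mulVec_smul,
    mulVec_cube M hM, smul_add, smul_add, smul_smul, smul_smul, ← pow_succ', hρ, one_smul,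
    ← pow_two]
  abel

lemma eu_sum {ω : F} (hω : Cube ω) (M : Matrix (Fin 3) (Fin 3) F) (v : Fin 3 → F) :
    eu M 1 v + eu M ω v + eu M (ω ^ 2) v = (3 : F) • v := by
  have hs := hω.sum_eq
  have hc := hω.cube
  ext i
  simp only [eu, Pi.add_apply, Pi.smul_apply, smul_eq_mul]
  linear_combination ((M *ᵥ v) i + (M *ᵥ (M *ᵥ v)) i) * hs + (M *ᵥ v) i * ω * hc

lemma exists_eu_ne_zero {ω : F} (hω : Cube ω) (M : Matrix (Fin 3) (Fin 3) F) (v : Fin 3 → F)
    (hv : v ≠ 0) : eu M 1 v ≠ 0 ∨ eu M ω v ≠ 0 ∨ eu M (ω ^ 2) v ≠ 0 := by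
  by_contra h
  push Not at h
  obtain ⟨h1, h2, h3⟩ := h
  have := eu_sum hω M v
  rw [h1, h2, h3, add_zero, add_zero] at this
  exact hv ((smul_eq_zero.1 this.symm).resolve_left hω.three_ne)

/-- a matrix with `C^3 = 1`, `C ≠ 1` has an eigenvector for a primitive cube root of unity -/
lemma exists_eigen_ne_one {ω : F} (hω : Cube ω) (C : Matrix (Fin 3) (Fin 3) F) (hC : C ^ 3 = 1)
    (hC1 : C ≠ 1) : ∃ (w : Fin 3 → F) (κ : F), w ≠ 0 ∧ Cube κ ∧ C *ᵥ w = κ • w := by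
  have hv : ∃ v : Fin 3 → F, C *ᵥ v ≠ v := by
    by_contra h
    push Not at h
    apply hC1
    ext i j
    have := congrFun (h (Pi.single j 1)) i
    rw [Matrix.mulVec_single_one] at this
    rw [Matrix.one_apply, ← Pi.single_apply]
    simpa using this
  obtain ⟨v, hv⟩ := hv
  by_cases h1 : eu C ω v = 0
  · by_cases h2 : eu C (ω ^ 2) v = 0
    · exfalso
      have h3 := eu_sum hω C v
      rw [h1, h2, add_zero, add_zero] at h3
      have h4 := mulVec_eu C hC 1 (one_pow 3) v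
      rw [h3, one_smul, Matrix.mulVec_smul] at h4
      apply hv
      have h5 : (3 : F) • (C *ᵥ v - v) = 0 := by rw [smul_sub, h4, sub_self]
      exact sub_eq_zero.1 ((smul_eq_zero.1 h5).resolve_left hω.three_ne)
    · exact ⟨_, ω ^ 2, h2, hω.sq_cube, mulVec_eu C hC _ hω.sq_cube.cube v⟩
  · exact ⟨_, ω, h1, hω, mulVec_eu C hC _ hω.cube v⟩

/-- a joint eigenvector -/
lemma exists_joint_eigen {ω : F} (hω : Cube ω) (A C : Matrix (Fin 3) (Fin 3) F) (hA : A ^ 3 = 1)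
    (hCA : C * A = A * C) (w : Fin 3 → F) (κ : F) (hw : w ≠ 0) (hCw : C *ᵥ w = κ • w) :
    ∃ (w' : Fin 3 → F) (l : F), w' ≠ 0 ∧ l ^ 3 = 1 ∧ A *ᵥ w' = l • w' ∧ C *ᵥ w' = κ • w' := by
  have hCAv : ∀ x : Fin 3 → F, C *ᵥ x = κ • x → C *ᵥ (A *ᵥ x) = κ • (A *ᵥ x) := by
    intro x hx
    rw [Matrix.mulVec_mulVec, hCA, ← Matrix.mulVec_mulVec, hx, Matrix.mulVec_smul]
  have hCe : ∀ ρ : F, C *ᵥ eu A ρ w = κ • eu A ρ w := by
    intro ρ
    unfold eu
    rw [Matrix.mulVec_add, Matrix.mulVec_add, Matrix.mulVec_smul, Matrix.mulVec_smul,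
      hCAv _ (hCAv _ hCw), hCAv _ hCw, hCw, smul_add, smul_add, smul_comm κ, smul_comm κ]
  rcases exists_eu_ne_zero hω A w hw with h | h | h
  · exact ⟨_, 1, h, one_pow 3, mulVec_eu A hA 1 (one_pow 3) w, hCe 1⟩
  · exact ⟨_, ω, h, hω.cube, mulVec_eu A hA ω hω.cube w, hCe ω⟩
  · exact ⟨_, ω ^ 2, h, hω.sq_cube.cube, mulVec_eu A hA _ hω.sq_cube.cube w, hCe _⟩

/-- the standard basis for an extraspecial configuration of matrices -/
theorem std_basis {ω : F} (hω : Cube ω) (A B C : Matrix (Fin 3) (Fin 3) F)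
    (hA : A ^ 3 = 1) (hB : B ^ 3 = 1) (hC : C ^ 3 = 1) (hC1 : C ≠ 1)
    (hAB : A * B = C * B * A) (hCA : C * A = A * C) (hCB : C * B = B * C) :
    ∃ (P : GL (Fin 3) F) (κ l : F), Cube κ ∧ l ^ 3 = 1 ∧
      A * (P : Matrix (Fin 3) (Fin 3) F) =
        (P : Matrix (Fin 3) (Fin 3) F) * Matrix.diagonal ![l, l * κ, l * κ * κ] ∧
      B * (P : Matrix (Fin 3) (Fin 3) F) = (P : Matrix (Fin 3) (Fin 3) F) * Bg ∧
      C * (P : Matrix (Fin 3) (Fin 3) F) =
        (P : Matrix (Fin 3) (Fin 3) F) * (κ • (1 : Matrix (Fin 3) (Fin 3) F)) := by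
  obtain ⟨w, κ, hw, hκ, hCw⟩ := exists_eigen_ne_one hω C hC hC1
  obtain ⟨w', l, hw', hl, hAw', hCw'⟩ := exists_joint_eigen hω A C hA hCA w κ hw hCw
  have hCv : ∀ x : Fin 3 → F, C *ᵥ x = κ • x → C *ᵥ (B *ᵥ x) = κ • (B *ᵥ x) := by
    intro x hx
    rw [Matrix.mulVec_mulVec, hCB, ← Matrix.mulVec_mulVec, hx, Matrix.mulVec_smul]
  have hAv : ∀ (x : Fin 3 → F) (m : F), A *ᵥ x = m • x → C *ᵥ x = κ • x →
      A *ᵥ (B *ᵥ x) = (m * κ) • (B *ᵥ x) := by
    intro x m hx hcx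
    rw [Matrix.mulVec_mulVec, hAB, ← Matrix.mulVec_mulVec, hx, Matrix.mulVec_smul,
      ← Matrix.mulVec_mulVec, hCv x hcx, smul_smul]
  have hl0 : l ≠ 0 := by
    intro h
    rw [h] at hl
    simp at hl
  set v0 := w' with hv0
  set v1 := B *ᵥ w' with hv1
  set v2 := B *ᵥ v1 with hv2
  have hB2 : B *ᵥ v2 = v0 := mulVec_cube B hB w'
  have hv1ne : v1 ≠ 0 := by
    intro h
    apply hw'
    rw [← hB2, hv2, h, Matrix.mulVec_zero, Matrix.mulVec_zero]
  have hv2ne : v2 ≠ 0 := by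
    intro h
    apply hw'
    rw [← hB2, h, Matrix.mulVec_zero]
  have hC1' : C *ᵥ v1 = κ • v1 := hCv _ hCw'
  have hC2' : C *ᵥ v2 = κ • v2 := hCv _ hC1'
  have hA1 : A *ᵥ v1 = (l * κ) • v1 := hAv _ _ hAw' hCw'
  have hA2 : A *ᵥ v2 = (l * κ * κ) • v2 := hAv _ _ hA1 hC1'
  let μs : Fin 3 → F := ![l, l * κ, l * κ * κ]
  let vs : Fin 3 → (Fin 3 → F) := ![v0, v1, v2]
  have hμinj : Function.Injective μs := by
    have e1 : l * κ ≠ l := by
      intro h
      apply hκ.ne_one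
      exact mul_left_cancel₀ hl0 (by rw [h, mul_one])
    have e2 : l * κ * κ ≠ l := by
      intro h
      apply hκ.sq_ne_one
      apply mul_left_cancel₀ hl0
      rw [mul_one, pow_two, ← mul_assoc, h]
    have e3 : l * κ * κ ≠ l * κ := by
      intro h
      apply hκ.ne_one
      have hlk : l * κ ≠ 0 := mul_ne_zero hl0 hκ.ne_zero
      exact mul_left_cancel₀ hlk (by rw [h, mul_one])
    intro i j hij
    fin_cases i <;> fin_cases j
    · rfl
    · exact absurd hij.symm e1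
    · exact absurd hij.symm e2
    · exact absurd hij e1
    · rfl
    · exact absurd hij.symm e3
    · exact absurd hij e2
    · exact absurd hij e3
    · rfl
  have hli : LinearIndependent F vs := by
    apply Module.End.eigenvectors_linearIndependent' (Matrix.mulVecLin A) μs hμinj vs
    intro i
    rw [Module.End.hasEigenvector_iff, Module.End.mem_eigenspace_iff, Matrix.mulVecLin_apply]
    fin_cases i
    · exact ⟨hAw', hw'⟩
    · exact ⟨hA1, hv1ne⟩
    · exact ⟨hA2, hv2ne⟩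
  let Pm : Matrix (Fin 3) (Fin 3) F := Matrix.of (fun i j => vs j i)
  have hPunit : IsUnit Pm := by
    rw [← Matrix.linearIndependent_cols_iff_isUnit]
    exact hli
  have hcol : ∀ (M : Matrix (Fin 3) (Fin 3) F) (i j : Fin 3), (M * Pm) i j = (M *ᵥ vs j) i := by
    intro M i j
    simp only [Matrix.mul_apply, Matrix.mulVec, dotProduct, Pm, Matrix.of_apply]
  refine ⟨hPunit.unit, κ, l, hκ, hl, ?_, ?_, ?_⟩
  · rw [IsUnit.unit_spec]
    ext i j
    rw [hcol, Matrix.mul_diagonal]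
    fin_cases j
    · simp only [vs, Pm, Matrix.of_apply, Fin.zero_eta, Matrix.cons_val_zero]
      rw [hAw', Pi.smul_apply, smul_eq_mul, mul_comm]
    · simp only [vs, Pm, Matrix.of_apply, Fin.mk_one, Matrix.cons_val_one, Matrix.cons_val_zero]
      rw [hA1, Pi.smul_apply, smul_eq_mul, mul_comm]
    · simp only [vs, Pm, Matrix.of_apply, Fin.reduceFinMk, Matrix.cons_val_two, Matrix.tail_cons,
        Matrix.head_cons]
      rw [hA2, Pi.smul_apply, smul_eq_mul, mul_comm]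
  · rw [IsUnit.unit_spec]
    ext i j
    rw [hcol]
    fin_cases j
    · simp [vs, Pm, Matrix.mul_apply, Fin.sum_univ_three, Bg] <;> rfl
    · simp [vs, Pm, Matrix.mul_apply, Fin.sum_univ_three, Bg] <;> rfl
    · simp [vs, Pm, Matrix.mul_apply, Fin.sum_univ_three, Bg, hB2]
  · rw [IsUnit.unit_spec]
    ext i j
    rw [hcol, Matrix.mul_smul, Matrix.mul_one, Matrix.smul_apply, smul_eq_mul]
    fin_cases j
    · simp only [vs, Pm, Matrix.of_apply, Fin.zero_eta, Matrix.cons_val_zero]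
      rw [hCw', Pi.smul_apply, smul_eq_mul]
    · simp only [vs, Pm, Matrix.of_apply, Fin.mk_one, Matrix.cons_val_one, Matrix.cons_val_zero]
      rw [hC1', Pi.smul_apply, smul_eq_mul]
    · simp only [vs, Pm, Matrix.of_apply, Fin.reduceFinMk, Matrix.cons_val_two, Matrix.tail_cons,
        Matrix.head_cons]
      rw [hC2', Pi.smul_apply, smul_eq_mul]

end Cfsg.Agent.Lib.H15.X3
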