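import Cfsg.Agent.Lib.H15.X3C

/-!
# Standard form (group level): a non-abelian subgroup of order 27 and exponent 3 of `GL_3(F)`
is conjugate to `R0 u`.
-/

set_option autoImplicit false

namespace Cfsg.Agent.Lib.H15.X3

open Matrix

variable {F : Type*} [Field F]

/-- a subgroup of a group of order 27 containing two non-commuting elements is everything -/
lemma eq_of_noncomm {G : Type*} [Group G] (R H : Subgroup G) (hR : Nat.card R = 27)
    (hHR : H ≤ R) (x y : G) (hx : x ∈ H) (hy : y ∈ H) (hxy : x * y ≠ y * x) : H = R := by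
  haveI : Finite R := Nat.finite_of_card_ne_zero (by rw [hR]; norm_num)
  haveI : Fact (Nat.Prime 3) := ⟨Nat.prime_three⟩
  have hdvd : Nat.card H ∣ 3 ^ 3 := by
    rw [show (3 : ℕ) ^ 3 = 27 by norm_num, ← hR]; exact Subgroup.card_dvd_of_le hHR
  obtain ⟨k, hk, hkc⟩ := (Nat.dvd_prime_pow Nat.prime_three).1 hdvd
  have hcomm : IsMulCommutative H → False := by
    intro h
    apply hxy
    have := h.is_comm.comm ⟨x, hx⟩ ⟨y, hy⟩
    exact congrArg Subtype.val this
  interval_cases k
  · exfalso; apply hxy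
    have hb : H = ⊥ := Subgroup.eq_bot_of_card_eq H (by rw [hkc]; norm_num)
    rw [hb, Subgroup.mem_bot] at hx hy
    rw [hx, hy]
  · exfalso; apply hcomm
    haveI : IsCyclic H := isCyclic_of_prime_card (p := 3) (by rw [hkc]; norm_num)
    infer_instance
  · exfalso; apply hcomm
    exact IsPGroup.isMulCommutative_of_card_eq_prime_sq (p := 3) hkc
  · exact Subgroup.eq_of_le_of_card_ge hHR (by rw [hR, hkc]; norm_num)

theorem exists_std_form {ω : F} (hω : Cube ω) (R : Subgroup (GL (Fin 3) F))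
    (hR : Nat.card R = 27) (hRe : Monoid.exponent R = 3) (hRna : ¬ IsMulCommutative R) :
    ∃ (u : Fˣ) (P : GL (Fin 3) F), u ^ 3 = 1 ∧ u ≠ 1 ∧
      R = (R0 u).map (MulAut.conj P).toMonoidHom := by
  have hna : ¬ ∀ a b : R, a * b = b * a := fun h => hRna ⟨⟨h⟩⟩
  have hna' := hna
  push Not at hna'
  obtain ⟨a, b, hab⟩ := hna'
  set c : R := a * b * a⁻¹ * b⁻¹ with hc
  have hcZ : c ∈ Subgroup.center R := comm_mem_center hR hna a b
  have hpow : ∀ x : R, x ^ 3 = 1 := by
    intro x
    have := Monoid.pow_exponent_eq_one x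
    rwa [hRe] at this
  have hc1 : c ≠ 1 := by
    intro h
    apply hab
    have : a * b * a⁻¹ * b⁻¹ = 1 := h
    rw [mul_inv_eq_one, mul_inv_eq_iff_eq_mul] at this
    exact this
  have hcab : a * b = c * b * a := by rw [hc]; group
  have hca : c * a = a * c := ((Subgroup.mem_center_iff.1 hcZ) a).symm
  have hcb : c * b = b * c := ((Subgroup.mem_center_iff.1 hcZ) b).symm
  let mat : R → Matrix (Fin 3) (Fin 3) F :=
    fun x => ((x : GL (Fin 3) F) : Matrix (Fin 3) (Fin 3) F)
  have mat_mul : ∀ x y : R, mat (x * y) = mat x * mat y := fun x y => rfl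
  have mat_one : mat 1 = 1 := rfl
  have mat_pow3 : ∀ x : R, mat x ^ 3 = 1 := by
    intro x
    have := congrArg mat (hpow x)
    rw [pow_succ, pow_two, mat_mul, mat_mul, mat_one] at this
    rw [pow_succ, pow_two]; exact this
  have mat_inj : Function.Injective mat := fun x y h => Subtype.ext (Units.ext h)
  obtain ⟨P, κ, l, hκ, hl, hAP, hBP, hCP⟩ := std_basis hω (mat a) (mat b) (mat c) (mat_pow3 a)
    (mat_pow3 b) (mat_pow3 c) (fun h => hc1 (mat_inj (h.trans mat_one.symm)))
    (by rw [← mat_mul, hcab, mat_mul, mat_mul]) (by rw [← mat_mul, hca, mat_mul])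
    (by rw [← mat_mul, hcb, mat_mul])
  obtain ⟨j, hj⟩ : ∃ j : ℕ, κ ^ j * l = 1 := by
    rcases hκ.roots hl with h | h | h
    · exact ⟨0, by rw [h]; simp⟩
    · exact ⟨2, by rw [h, ← pow_succ, hκ.cube]⟩
    · exact ⟨1, by rw [h, pow_one, ← pow_succ', hκ.cube]⟩
  let u : Fˣ := Units.mk0 κ hκ.ne_zero
  have huv : (u : F) = κ := rfl
  have hu : u ^ 3 = 1 :=
    Units.ext (by rw [Units.val_pow_eq_pow_val, Units.val_one]; exact hκ.cube)
  have hu1 : u ≠ 1 := fun h => hκ.ne_one (by rw [← huv, h, Units.val_one])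
  have hPP : (P : Matrix (Fin 3) (Fin 3) F) * ((P⁻¹ : GL (Fin 3) F) : Matrix (Fin 3) (Fin 3) F)
      = 1 := by rw [← Units.val_mul, mul_inv_cancel, Units.val_one]
  have hCs : mat c = κ • (1 : Matrix (Fin 3) (Fin 3) F) := by
    have h1 : mat c * (P : Matrix (Fin 3) (Fin 3) F) *
        ((P⁻¹ : GL (Fin 3) F) : Matrix (Fin 3) (Fin 3) F) = mat c := by
      rw [Matrix.mul_assoc, hPP, Matrix.mul_one]
    rw [← h1, hCP, Matrix.mul_smul, Matrix.mul_one, Matrix.smul_mul, hPP]
  let a' : R := c ^ j * a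
  have hmatpow : ∀ n : ℕ, mat (c ^ n) = mat c ^ n := by
    intro n
    induction n with
    | zero => rw [pow_zero, pow_zero]; rfl
    | succ n ih => rw [pow_succ, pow_succ, mat_mul, ih]
  have ha'P : mat a' * (P : Matrix (Fin 3) (Fin 3) F) =
      (P : Matrix (Fin 3) (Fin 3) F) * ((AgU u : GL (Fin 3) F) : Matrix (Fin 3) (Fin 3) F) := by
    have h1 : mat a' = κ ^ j • mat a := by
      show mat (c ^ j * a) = _
      rw [mat_mul, hmatpow, hCs, smul_pow, one_pow, Matrix.smul_mul, Matrix.one_mul]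
    rw [h1, Matrix.smul_mul, hAP, ← Matrix.mul_smul]
    congr 1
    unfold AgU
    rw [dgH_val, ← Matrix.diagonal_smul]
    congr 1
    funext i
    fin_cases i
    · simp only [Pi.smul_apply, smul_eq_mul, Fin.zero_eta, Matrix.cons_val_zero, Units.val_one]
      exact hj
    · simp only [Pi.smul_apply, smul_eq_mul, Fin.mk_one, Matrix.cons_val_one,
        Matrix.cons_val_zero, huv]
      linear_combination κ * hj
    · simp only [Pi.smul_apply, smul_eq_mul, Fin.reduceFinMk, Matrix.cons_val_two,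
        Matrix.tail_cons, Matrix.head_cons, Units.val_pow_eq_pow_val, huv]
      linear_combination κ ^ 2 * hj
  have ha'G : ((a' : R) : GL (Fin 3) F) = P * AgU u * P⁻¹ := by
    apply Units.ext
    rw [Units.val_mul, Units.val_mul, ← ha'P, Matrix.mul_assoc, hPP, Matrix.mul_one]
  have hbG : ((b : R) : GL (Fin 3) F) = P * BgU * P⁻¹ := by
    apply Units.ext
    rw [Units.val_mul, Units.val_mul, BgU_val, ← hBP, Matrix.mul_assoc, hPP, Matrix.mul_one]
  have hmap : (R0 u).map (MulAut.conj P).toMonoidHom =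
      Subgroup.closure {((a' : R) : GL (Fin 3) F), ((b : R) : GL (Fin 3) F)} := by
    unfold R0
    rw [MonoidHom.map_closure, Set.image_pair, ha'G, hbG]
    rfl
  refine ⟨u, P, hu, hu1, ?_⟩
  rw [hmap]
  symm
  apply eq_of_noncomm R _ hR _ (a' : GL (Fin 3) F) (b : GL (Fin 3) F)
    (Subgroup.subset_closure (by simp)) (Subgroup.subset_closure (by simp))
  · intro h
    apply hab
    have h1 : a' * b = b * a' := Subtype.ext h
    have hcj : c ^ j ∈ Subgroup.center R := Subgroup.pow_mem _ hcZ j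
    have h2 : b * c ^ j = c ^ j * b := (Subgroup.mem_center_iff.1 hcj) b
    have h3 : c ^ j * (a * b) = c ^ j * (b * a) := by
      calc c ^ j * (a * b) = a' * b := by simp only [a', mul_assoc]
        _ = b * a' := h1
        _ = b * c ^ j * a := by simp only [a', mul_assoc]
        _ = c ^ j * (b * a) := by rw [h2, mul_assoc]
    exact mul_left_cancel h3
  · rw [Subgroup.closure_le]
    intro s hs
    rcases hs with rfl | hs
    · exact a'.2
    · rw [Set.mem_singleton_iff] at hs
      rw [hs]; exact b.2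

end Cfsg.Agent.Lib.H15.X3
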