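import Cfsg.Agent.Lib.H15.X3D
import Cfsg.Agent.Lib.H2.SLCard
import Cfsg.Agent.Lib.H12.CardSL

/-!
# Elements of prime order `r ≥ 5` normalising `R0 u` are scalar; the `3`-part of `|SL_3(p)|`
-/

set_option autoImplicit false

namespace Cfsg.Agent.Lib.H15.X3

open Matrix

variable {F : Type*} [Field F]

lemma prime_eq_two_or_three (r : ℕ) (hr : r.Prime) (h : r ∣ 24 ∨ r ∣ 18) : r = 2 ∨ r = 3 := by
  have key : r ∣ 2 ∨ r ∣ 3 := by
    rcases h with h | h
    · have h' : r ∣ 2 ^ 3 * 3 := by norm_num; exact h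
      rcases (Nat.Prime.dvd_mul hr).1 h' with h1 | h1
      · exact Or.inl (hr.dvd_of_dvd_pow h1)
      · exact Or.inr h1
    · have h' : r ∣ 2 * 3 ^ 2 := by norm_num; exact h
      rcases (Nat.Prime.dvd_mul hr).1 h' with h1 | h1
      · exact Or.inl h1
      · exact Or.inr (hr.dvd_of_dvd_pow h1)
  rcases key with h1 | h1
  · exact Or.inl ((Nat.prime_dvd_prime_iff_eq hr Nat.prime_two).1 h1)
  · exact Or.inr ((Nat.prime_dvd_prime_iff_eq hr Nat.prime_three).1 h1)

/-- an element of `r`-power-free order `r ∉ {2,3}` normalising `R0 u` is a scalar -/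
theorem scalar_of_normalizer_pow (u : Fˣ) (hu : u ^ 3 = 1) (hu1 : u ≠ 1)
    (hcard : Nat.card (R0 u) = 27) (r : ℕ) [hr : Fact r.Prime] (hr2 : r ≠ 2) (hr3 : r ≠ 3)
    (y : GL (Fin 3) F) (hyN : y ∈ Subgroup.normalizer (R0 u : Set (GL (Fin 3) F)))
    (hyr : y ^ r = 1) :
    ∃ z : F, (y : Matrix (Fin 3) (Fin 3) F) = z • (1 : Matrix (Fin 3) (Fin 3) F) := by
  classical
  haveI : Finite (R0 u) := Nat.finite_of_card_ne_zero (by rw [hcard]; norm_num)
  haveI : Fintype (R0 u) := Fintype.ofFinite _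
  have hmem : ∀ (k : ℕ) (t : GL (Fin 3) F), t ∈ R0 u → y ^ k * t * (y ^ k)⁻¹ ∈ R0 u := by
    intro k t ht
    have : y ^ k ∈ Subgroup.normalizer (R0 u : Set (GL (Fin 3) F)) := Subgroup.pow_mem _ hyN k
    exact (Subgroup.mem_set_normalizer_iff.1 this t).1 ht
  let f : Function.End (R0 u) := fun t => ⟨y * t * y⁻¹, by simpa using hmem 1 t t.2⟩
  have hfk : ∀ (k : ℕ) (t : R0 u), ((f ^ k) t : GL (Fin 3) F) = y ^ k * t * (y ^ k)⁻¹ := by
    intro k
    induction k with
    | zero => intro t; simp [Function.End.one_def]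
    | succ k ih =>
      intro t
      have h1 : (f ^ (k + 1)) t = f ((f ^ k) t) := by rw [pow_succ']; rfl
      rw [h1]
      show y * ((f ^ k) t : GL (Fin 3) F) * y⁻¹ = _
      rw [ih t, pow_succ']
      group
  have hfr : f ^ r = 1 := by
    funext t
    apply Subtype.ext
    rw [hfk r t, hyr, Function.End.one_def]
    simp
  let Cy : Subgroup (R0 u) := (Subgroup.centralizer {y}).subgroupOf (R0 u)
  have hCy : ∀ t : R0 u, t ∈ Cy ↔ y * (t : GL (Fin 3) F) = (t : GL (Fin 3) F) * y := by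
    intro t
    rw [Subgroup.mem_subgroupOf, Subgroup.mem_centralizer_iff]
    constructor
    · intro h; exact h y rfl
    · intro h s hs; rw [Set.mem_singleton_iff] at hs; rw [hs]; exact h
  have hfix : ∀ t : R0 u, t ∈ Function.fixedPoints f ↔ t ∈ Cy := by
    intro t
    rw [Function.mem_fixedPoints, Function.IsFixedPt, hCy]
    constructor
    · intro h
      have h1 : y * (t : GL (Fin 3) F) * y⁻¹ = t := congrArg Subtype.val h
      rw [mul_inv_eq_iff_eq_mul] at h1
      exact h1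
    · intro h
      apply Subtype.ext
      show y * (t : GL (Fin 3) F) * y⁻¹ = t
      rw [mul_inv_eq_iff_eq_mul]
      exact h
  have hmod : Nat.card (R0 u) ≡ Nat.card Cy [MOD r] := by
    have h1 := Equiv.Perm.card_fixedPoints_modEq (f := f) (p := r) (n := 1)
      (by rw [pow_one]; exact hfr)
    rw [← Nat.card_eq_fintype_card, ← Nat.card_eq_fintype_card] at h1
    rwa [Nat.card_congr (Equiv.subtypeEquivRight hfix)] at h1
  have hdvd : Nat.card Cy ∣ 3 ^ 3 := by
    rw [show (3 : ℕ) ^ 3 = 27 by norm_num, ← hcard]; exact Subgroup.card_subgroup_dvd_card _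
  obtain ⟨k, hk, hkc⟩ := (Nat.dvd_prime_pow Nat.prime_three).1 hdvd
  rw [hcard, hkc] at hmod
  have hz0 : (⟨dgH (fun _ => u), scalar_mem u hu⟩ : R0 u) ∈ Cy := by
    rw [hCy]
    show y * dgH (fun _ => u) = dgH (fun _ => u) * y
    rw [← scalar_eq_dgH, Matrix.GeneralLinearGroup.scalar_commute]
  have hz1 : (⟨dgH (fun _ => u), scalar_mem u hu⟩ : R0 u) ≠ 1 := by
    intro h
    have h1 : (dgH (fun _ => u) : GL (Fin 3) F) = 1 := congrArg Subtype.val h
    have h2 := congrArg (fun g : GL (Fin 3) F => (g : Matrix (Fin 3) (Fin 3) F) 0 0) h1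
    simp at h2
    exact hu1 h2
  have hk0 : k ≠ 0 := by
    rintro rfl
    have hb : Cy = ⊥ := Subgroup.eq_bot_of_card_eq Cy (by rw [hkc]; norm_num)
    rw [hb, Subgroup.mem_bot] at hz0
    exact hz1 hz0
  have hk3 : k = 3 := by
    by_contra hne
    have hk12 : k = 1 ∨ k = 2 := by omega
    have hdv : r ∣ 24 ∨ r ∣ 18 := by
      rcases hk12 with rfl | rfl
      · left
        have := (Nat.modEq_iff_dvd' (by norm_num : 3 ^ 1 ≤ 27)).1 hmod.symm
        simpa using this
      · right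
        have := (Nat.modEq_iff_dvd' (by norm_num : 3 ^ 2 ≤ 27)).1 hmod.symm
        simpa using this
    rcases prime_eq_two_or_three r hr.out hdv with h | h
    · exact hr2 h
    · exact hr3 h
  subst hk3
  have htop : Cy = ⊤ := Subgroup.eq_top_of_card_eq Cy (by rw [hkc, hcard]; norm_num)
  have hall : ∀ t : R0 u, y * (t : GL (Fin 3) F) = (t : GL (Fin 3) F) * y :=
    fun t => (hCy t).1 (by rw [htop]; trivial)
  have hA := hall ⟨AgU u, AgU_mem u⟩
  have hB := hall ⟨BgU, BgU_mem u⟩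
  exact scalar_of_commute u hu hu1 y hA hB

end Cfsg.Agent.Lib.H15.X3
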