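import Cfsg.Agent.Lib.H15.X3E

/-!
# The `3`-part of `|SL_3(q)|`, cube roots in a finite field
-/

set_option autoImplicit false

namespace Cfsg.Agent.Lib.H15.X3

open Matrix

variable {F : Type*} [Field F]

lemma not_81_dvd (q : ℕ) (hq : q % 9 = 3 ∨ q % 9 = 6) :
    ¬ 81 ∣ q ^ 2 * (q + 1) ^ 3 * (q + 2) * (q ^ 2 + 3 * q + 3) := by
  have key : ∀ a : Fin 81, (a.val % 9 = 3 ∨ a.val % 9 = 6) →
      ¬ 81 ∣ a.val ^ 2 * (a.val + 1) ^ 3 * (a.val + 2) * (a.val ^ 2 + 3 * a.val + 3) := by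
    decide
  intro h
  have h1 : q % 81 ≡ q [MOD 81] := Nat.mod_modEq q 81
  have h2 := (((h1.pow 2).mul ((h1.add_right 1).pow 3)).mul (h1.add_right 2)).mul
    (((h1.pow 2).add (h1.mul_left 3)).add_right 3)
  have h3 := (Nat.modEq_zero_iff_dvd.1 (h2.trans (Nat.modEq_zero_iff_dvd.2 h)))
  have hlt : q % 81 < 81 := Nat.mod_lt _ (by norm_num)
  have h9 : (q % 81) % 9 = q % 9 := Nat.mod_mod_of_dvd q (by norm_num : 9 ∣ 81)
  exact key ⟨q % 81, hlt⟩ (by rw [h9]; exact hq) h3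

lemma card_ker_det [Fintype F] (q : ℕ) (hq : 0 < q) (hF : Fintype.card F = q + 1) :
    Nat.card (Matrix.GeneralLinearGroup.det : GL (Fin 3) F →* Fˣ).ker =
      q ^ 2 * (q + 1) ^ 3 * (q + 2) * (q ^ 2 + 3 * q + 3) := by
  rw [← Cfsg.Agent.Lib.H2.card_SL_eq_card_ker_det]
  have h := Cfsg.Agent.Lib.H12.card_SL_mul (F := F) 3 (by norm_num)
  rw [Fin.prod_univ_three, hF] at h
  simp only [Fin.val_zero, Fin.val_one, Fin.val_two, pow_zero, pow_one, Nat.add_sub_cancel] at h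
  have e1 : (q + 1) ^ 3 - 1 = q * (q ^ 2 + 3 * q + 3) := Nat.sub_eq_of_eq_add (by ring)
  have e2 : (q + 1) ^ 3 - (q + 1) = q * ((q + 1) * (q + 2)) := Nat.sub_eq_of_eq_add (by ring)
  have e3 : (q + 1) ^ 3 - (q + 1) ^ 2 = q * (q + 1) ^ 2 := Nat.sub_eq_of_eq_add (by ring)
  rw [e1, e2, e3] at h
  apply Nat.eq_of_mul_eq_mul_left hq
  rw [h]; ring

theorem three_not_dvd [Fintype F] (u : Fˣ) (hu : u ^ 3 = 1) (hcard : Nat.card (R0 u) = 27)
    (q : ℕ) (hF : Fintype.card F = q + 1) (hq : q % 9 = 3 ∨ q % 9 = 6) :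
    ¬ 3 ∣ (Subgroup.normalizer (R0 u : Set (GL (Fin 3) F))).relIndex
      (Matrix.GeneralLinearGroup.det : GL (Fin 3) F →* Fˣ).ker := by
  intro h3
  set S := (Matrix.GeneralLinearGroup.det : GL (Fin 3) F →* Fˣ).ker with hS
  set N := Subgroup.normalizer (R0 u : Set (GL (Fin 3) F)) with hN
  rw [← Subgroup.inf_relIndex_right] at h3
  have h1 : Nat.card (N ⊓ S : Subgroup (GL (Fin 3) F)) * (N ⊓ S).relIndex S = Nat.card S := by
    have := Subgroup.relIndex_mul_relIndex (H := ⊥) (K := N ⊓ S) (L := S) bot_le inf_le_right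
    rwa [Subgroup.relIndex_bot_left, Subgroup.relIndex_bot_left] at this
  have h2 : 27 ∣ Nat.card (N ⊓ S : Subgroup (GL (Fin 3) F)) := by
    rw [← hcard]
    exact Subgroup.card_dvd_of_le (le_inf Subgroup.le_normalizer (R0_le_ker u hu))
  have h81 : 81 ∣ Nat.card S := by
    rw [← h1]
    exact (by norm_num : 81 = 27 * 3) ▸ Nat.mul_dvd_mul h2 h3
  have hq0 : 0 < q := by omega
  rw [card_ker_det q hq0 hF] at h81
  exact not_81_dvd q hq h81

lemma exists_cube_root [Fintype F] (m : ℕ) (hF : Fintype.card F = 9 * m + 1) (z : F)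
    (hz : z ^ 3 = 1) : ∃ ν : F, ν ^ 3 = z := by
  have hz0 : z ≠ 0 := by
    intro h
    rw [h] at hz
    simp at hz
  let zU : Fˣ := Units.mk0 z hz0
  have hzU : zU ^ 3 = 1 := Units.ext (by rw [Units.val_pow_eq_pow_val, Units.val_one]; exact hz)
  obtain ⟨g, hg⟩ := IsCyclic.exists_generator (α := Fˣ)
  have hord : orderOf g = 9 * m := by
    rw [orderOf_eq_card_of_forall_mem_zpowers hg, Nat.card_units, Nat.card_eq_fintype_card, hF,
      Nat.add_sub_cancel]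
  have hmem : zU ∈ Submonoid.powers g := mem_powers_iff_mem_zpowers.2 (hg zU)
  obtain ⟨k, hk⟩ := (Submonoid.mem_powers_iff _ _).1 hmem
  have h1 : g ^ (k * 3) = 1 := by rw [pow_mul, hk, hzU]
  have h2 : 9 * m ∣ k * 3 := hord ▸ orderOf_dvd_of_pow_eq_one h1
  obtain ⟨c, hc⟩ := h2
  have hk' : k = 3 * (m * c) := by
    have : k * 3 = 9 * (m * c) := by rw [hc, mul_assoc]
    omega
  refine ⟨((g ^ (m * c) : Fˣ) : F), ?_⟩
  rw [← Units.val_pow_eq_pow_val, ← pow_mul, mul_comm, ← hk', hk]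
  rfl

end Cfsg.Agent.Lib.H15.X3
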