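import Cfsg.Agent.Lib.H15.X3F

/-!
# Elements `x` of `SL_3` with `x^2` or `x^3` scalar are conjugate into the normaliser of `R0 u`
-/

set_option autoImplicit false

namespace Cfsg.Agent.Lib.H15.X3

open Matrix

variable {F : Type*} [Field F]

/-- two elements of `GL_3` diagonalisable to the same diagonal matrix are conjugate under the
kernel of the determinant -/
theorem conj_SL (y T P K : GL (Fin 3) F) (d : Fin 3 → F)
    (hy : (y : Matrix (Fin 3) (Fin 3) F) * (P : Matrix (Fin 3) (Fin 3) F) =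
      (P : Matrix (Fin 3) (Fin 3) F) * diagonal d)
    (hT : (T : Matrix (Fin 3) (Fin 3) F) * (K : Matrix (Fin 3) (Fin 3) F) =
      (K : Matrix (Fin 3) (Fin 3) F) * diagonal d) :
    ∃ g : GL (Fin 3) F, g ∈ (Matrix.GeneralLinearGroup.det : GL (Fin 3) F →* Fˣ).ker ∧
      g⁻¹ * y * g = T := by
  let δ : Fˣ := (Matrix.GeneralLinearGroup.det P)⁻¹ * Matrix.GeneralLinearGroup.det K
  let e : GL (Fin 3) F := dgH ![δ, 1, 1]
  have hD : ∀ (a Q : GL (Fin 3) F), (a : Matrix (Fin 3) (Fin 3) F) * (Q : Matrix (Fin 3) (Fin 3) F)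
      = (Q : Matrix (Fin 3) (Fin 3) F) * diagonal d →
      ((Q⁻¹ * a * Q : GL (Fin 3) F) : Matrix (Fin 3) (Fin 3) F) = diagonal d := by
    intro a Q h
    rw [Units.val_mul, Units.val_mul, Matrix.mul_assoc, h, ← Matrix.mul_assoc, ← Units.val_mul,
      inv_mul_cancel, Units.val_one, Matrix.one_mul]
  have hD1 := hD y P hy
  have hD2 := hD T K hT
  have hDD : P⁻¹ * y * P = K⁻¹ * T * K := Units.ext (hD1.trans hD2.symm)
  have hcomm : e * (P⁻¹ * y * P) = (P⁻¹ * y * P) * e := by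
    apply Units.ext
    rw [Units.val_mul e, Units.val_mul _ e, hD1, dgH_val, diagonal_mul_diagonal,
      diagonal_mul_diagonal]
    congr 1
    funext i
    exact mul_comm _ _
  refine ⟨P * e * K⁻¹, ?_, ?_⟩
  · rw [MonoidHom.mem_ker, map_mul, map_mul, map_inv, det_dgH]
    simp only [Matrix.cons_val_zero, Matrix.cons_val_one, Matrix.cons_val_two, Matrix.tail_cons,
      Matrix.head_cons, mul_one, δ]
    rw [mul_inv_cancel_left, mul_inv_cancel]
  · have h1 : (P * e * K⁻¹)⁻¹ * y * (P * e * K⁻¹) = K * (e⁻¹ * ((P⁻¹ * y * P) * e)) * K⁻¹ := by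
      group
    rw [h1, ← hcomm, inv_mul_cancel_left, hDD]
    group

/-- scalar multiple of an element of the normaliser -/
lemma scalar_mul_mem_normalizer (X : Set (GL (Fin 3) F)) (v : Fˣ) (n : GL (Fin 3) F)
    (hn : n ∈ Subgroup.normalizer X) :
    dgH (fun _ => v) * n ∈ Subgroup.normalizer X :=
  Subgroup.mul_mem _ (scalar_mem_normalizer X v) hn

lemma dgH_const_val (v : Fˣ) : ((dgH (fun _ => v) : GL (Fin 3) F) : Matrix (Fin 3) (Fin 3) F) =
    (v : F) • (1 : Matrix (Fin 3) (Fin 3) F) := by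
  rw [dgH_val, Matrix.smul_one_eq_diagonal]

/-- the common final step: `x = ν • y` with `y` conjugate (under `SL`) to `T ∈ N(R0 u)` -/
lemma finish (u : Fˣ) (x : GL (Fin 3) F) (ν : Fˣ) (T P K : GL (Fin 3) F) (d : Fin 3 → F)
    (hT : T ∈ Subgroup.normalizer (R0 u : Set (GL (Fin 3) F)))
    (hy : ((ν⁻¹ : Fˣ) : F) • (x : Matrix (Fin 3) (Fin 3) F) * (P : Matrix (Fin 3) (Fin 3) F) =
      (P : Matrix (Fin 3) (Fin 3) F) * diagonal d)
    (hTK : (T : Matrix (Fin 3) (Fin 3) F) * (K : Matrix (Fin 3) (Fin 3) F) =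
      (K : Matrix (Fin 3) (Fin 3) F) * diagonal d) :
    ∃ g ∈ (Matrix.GeneralLinearGroup.det : GL (Fin 3) F →* Fˣ).ker,
      g⁻¹ * x * g ∈ Subgroup.normalizer (R0 u : Set (GL (Fin 3) F)) := by
  let y : GL (Fin 3) F := dgH (fun _ => ν⁻¹) * x
  have hyv : (y : Matrix (Fin 3) (Fin 3) F) = ((ν⁻¹ : Fˣ) : F) • (x : Matrix (Fin 3) (Fin 3) F) := by
    rw [Units.val_mul, dgH_const_val, Matrix.smul_mul, Matrix.one_mul]
  obtain ⟨g, hg, hgy⟩ := conj_SL y T P K d (by rw [hyv]; exact hy) hTK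
  refine ⟨g, hg, ?_⟩
  have hx : x = dgH (fun _ => ν) * y := by
    show x = dgH (fun _ => ν) * (dgH (fun _ => ν⁻¹) * x)
    rw [← mul_assoc, ← map_mul]
    have : ((fun _ => ν) * (fun _ => ν⁻¹) : Fin 3 → Fˣ) = 1 := by
      funext i; simp
    rw [this, map_one, one_mul]
  have h2 : g⁻¹ * x * g = dgH (fun _ => ν) * T := by
    rw [hx, ← hgy, ← scalar_eq_dgH]
    rw [← mul_assoc g⁻¹, ← Matrix.GeneralLinearGroup.scalar_commute]
    group
  rw [h2]
  exact scalar_mul_mem_normalizer _ ν T hT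

end Cfsg.Agent.Lib.H15.X3
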