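import Cfsg.Agent.Lib.H15.X3G

/-!
# The two positive cases `r = 2` and `r = 3`
-/

set_option autoImplicit false

namespace Cfsg.Agent.Lib.H15.X3

open Matrix

variable {F : Type*} [Field F]

def K1 : Matrix (Fin 3) (Fin 3) F := !![0,1,0; 1,0,1; -1,0,1]
def K2 : Matrix (Fin 3) (Fin 3) F := !![1,0,0; 0,1,1; 0,-1,1]
def K3 : Matrix (Fin 3) (Fin 3) F := !![1,0,0; 0,1,1; 0,1,-1]

lemma det_K1 : (K1 : Matrix (Fin 3) (Fin 3) F).det = -2 := by
  rw [Matrix.det_fin_three]
  simp [K1]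
  norm_num

lemma det_K2 : (K2 : Matrix (Fin 3) (Fin 3) F).det = 2 := by
  rw [Matrix.det_fin_three]
  simp [K2]
  norm_num

lemma det_K3 : (K3 : Matrix (Fin 3) (Fin 3) F).det = -2 := by
  rw [Matrix.det_fin_three]
  simp [K3]
  norm_num

theorem three_case (u : Fˣ) (hu : u ^ 3 = 1) (hu1 : u ≠ 1) (x : GL (Fin 3) F) (z : F)
    (hz : ((x ^ 3 : GL (Fin 3) F) : Matrix (Fin 3) (Fin 3) F) =
      z • (1 : Matrix (Fin 3) (Fin 3) F))
    (ν : F) (hν0 : ν ≠ 0) (hν : ν ^ 3 = z) :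
    ∃ g ∈ (Matrix.GeneralLinearGroup.det : GL (Fin 3) F →* Fˣ).ker,
      g⁻¹ * x * g ∈ Subgroup.normalizer (R0 u : Set (GL (Fin 3) F)) := by
  set M := (x : Matrix (Fin 3) (Fin 3) F) with hM
  have hM3 : M ^ 3 = z • (1 : Matrix (Fin 3) (Fin 3) F) := by
    rw [← hz, Units.val_pow_eq_pow_val]
  let νU : Fˣ := Units.mk0 ν hν0
  have hνinv : ((νU⁻¹ : Fˣ) : F) = ν⁻¹ := by rw [Units.val_inv_eq_inv_val]; rfl
  set Y := ((νU⁻¹ : Fˣ) : F) • M with hY
  have hY3 : Y ^ 3 = 1 := by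
    rw [hY, hνinv, smul_pow, hM3, smul_smul, inv_pow, hν]
    have hz0 : z ≠ 0 := by rw [← hν]; exact pow_ne_zero 3 hν0
    rw [inv_mul_cancel₀ hz0, one_smul]
  have hω := units_cube_roots u hu hu1
  have hspan : ∀ v : Fin 3 → F,
      v ∈ Submodule.span F {w : Fin 3 → F | ∃ l : F, l ^ 3 = 1 ∧ Y *ᵥ w = l • w} := by
    intro v
    have hv : v = (3 : F)⁻¹ • (eu Y 1 v + eu Y (u : F) v + eu Y ((u : F) ^ 2) v) := by
      rw [eu_sum hω, smul_smul, inv_mul_cancel₀ hω.three_ne, one_smul]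
    rw [hv]
    apply Submodule.smul_mem
    apply Submodule.add_mem
    · apply Submodule.add_mem
      · exact Submodule.subset_span ⟨1, one_pow 3, mulVec_eu Y hY3 1 (one_pow 3) v⟩
      · exact Submodule.subset_span ⟨_, hω.cube, mulVec_eu Y hY3 _ hω.cube v⟩
    · exact Submodule.subset_span ⟨_, hω.sq_cube.cube, mulVec_eu Y hY3 _ hω.sq_cube.cube v⟩
  obtain ⟨P, d, hd, hYP⟩ := exists_diag Y (fun l => l ^ 3 = 1) hspan
  have hd0 : ∀ i, d i ≠ 0 := by
    intro i h
    have := hd i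
    rw [h] at this
    simp at this
  let dU : Fin 3 → Fˣ := fun i => Units.mk0 (d i) (hd0 i)
  have hT : (dgH dU : GL (Fin 3) F) ∈ Subgroup.normalizer (R0 u : Set (GL (Fin 3) F)) :=
    dgH_mem_normalizer u hu hu1 dU
      (fun i => Units.ext (by rw [Units.val_pow_eq_pow_val, Units.val_one]; exact hd i))
  exact finish u x νU (dgH dU) P 1 d hT hYP
    (by rw [Units.val_one, Matrix.mul_one, Matrix.one_mul, dgH_val]; rfl)

theorem two_case (u : Fˣ) (hu : u ^ 3 = 1) (h2 : (2 : F) ≠ 0) (x : GL (Fin 3) F)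
    (hx : x ∈ (Matrix.GeneralLinearGroup.det : GL (Fin 3) F →* Fˣ).ker) (z : F)
    (hz : ((x ^ 2 : GL (Fin 3) F) : Matrix (Fin 3) (Fin 3) F) =
      z • (1 : Matrix (Fin 3) (Fin 3) F))
    (hns : ∀ z : F, (x : Matrix (Fin 3) (Fin 3) F) ≠ z • (1 : Matrix (Fin 3) (Fin 3) F)) :
    ∃ g ∈ (Matrix.GeneralLinearGroup.det : GL (Fin 3) F →* Fˣ).ker,
      g⁻¹ * x * g ∈ Subgroup.normalizer (R0 u : Set (GL (Fin 3) F)) := by
  set M := (x : Matrix (Fin 3) (Fin 3) F) with hM
  have hdet : M.det = 1 := by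
    have := congrArg Units.val (MonoidHom.mem_ker.1 hx)
    rwa [Matrix.GeneralLinearGroup.val_det_apply, Units.val_one] at this
  have hMM : M * M = z • (1 : Matrix (Fin 3) (Fin 3) F) := by
    rw [← hz, Units.val_pow_eq_pow_val, pow_two]
  have hz3 : z ^ 3 = 1 := by
    have := congrArg Matrix.det hMM
    rw [Matrix.det_mul, hdet, mul_one, Matrix.det_smul, Matrix.det_one, mul_one,
      Fintype.card_fin] at this
    exact this.symm
  have hz0 : z ≠ 0 := by
    rintro rfl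
    simp at hz3
  let ν : Fˣ := Units.mk0 (z ^ 2) (pow_ne_zero 2 hz0)
  have hν : (ν : F) = z ^ 2 := rfl
  have hνinv : ((ν⁻¹ : Fˣ) : F) = z := by
    rw [Units.val_inv_eq_inv_val, hν]
    exact inv_eq_of_mul_eq_one_right (by rw [← pow_succ, hz3])
  set Y := ((ν⁻¹ : Fˣ) : F) • M with hY
  have hYY : Y * Y = 1 := by
    rw [hY, hνinv, Matrix.smul_mul, Matrix.mul_smul, hMM, smul_smul, smul_smul, ← pow_two,
      ← pow_succ, hz3, one_smul]
  have hYdet : Y.det = 1 := by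
    rw [hY, hνinv, Matrix.det_smul, hdet, mul_one, Fintype.card_fin, hz3]
  have hspan : ∀ v : Fin 3 → F,
      v ∈ Submodule.span F {w : Fin 3 → F | ∃ l : F, (l = 1 ∨ l = -1) ∧ Y *ᵥ w = l • w} := by
    intro v
    have hv : v = (2 : F)⁻¹ • ((v + Y *ᵥ v) + (v - Y *ᵥ v)) := by
      rw [add_add_sub_cancel, ← two_smul F v, smul_smul, inv_mul_cancel₀ h2, one_smul]
    rw [hv]
    apply Submodule.smul_mem
    apply Submodule.add_mem
    · apply Submodule.subset_span
      refine ⟨1, Or.inl rfl, ?_⟩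
      rw [Matrix.mulVec_add, Matrix.mulVec_mulVec, hYY, Matrix.one_mulVec, one_smul, add_comm]
    · apply Submodule.subset_span
      refine ⟨-1, Or.inr rfl, ?_⟩
      rw [Matrix.mulVec_sub, Matrix.mulVec_mulVec, hYY, Matrix.one_mulVec, neg_one_smul, neg_sub]
  obtain ⟨P, d, hd, hYP⟩ := exists_diag Y (fun l => l = 1 ∨ l = -1) hspan
  have hP0 : (P : Matrix (Fin 3) (Fin 3) F).det ≠ 0 :=
    ((Matrix.isUnit_iff_isUnit_det _).1 P.isUnit).ne_zero
  have hprod : d 0 * d 1 * d 2 = 1 := by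
    have := congrArg Matrix.det hYP
    rw [Matrix.det_mul, Matrix.det_mul, hYdet, one_mul, Matrix.det_diagonal,
      Fin.prod_univ_three] at this
    exact (mul_left_cancel₀ hP0 (by rw [mul_one]; exact this)).symm
  have hne : (-1 : F) ≠ 1 := by
    intro h
    apply h2
    have : (2 : F) = 1 - (-1) := by norm_num
    rw [this, h, sub_self]
  have fin : ∀ (K : Matrix (Fin 3) (Fin 3) F), K.det ≠ 0 → Tg * K = K * diagonal d →
      ∃ g ∈ (Matrix.GeneralLinearGroup.det : GL (Fin 3) F →* Fˣ).ker,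
        g⁻¹ * x * g ∈ Subgroup.normalizer (R0 u : Set (GL (Fin 3) F)) := by
    intro K hK hTK
    exact finish u x ν TgU P (Matrix.GeneralLinearGroup.mkOfDetNeZero K hK) d
      (TgU_mem_normalizer u hu) hYP hTK
  have hn2 : (-2 : F) ≠ 0 := neg_ne_zero.2 h2
  rcases hd 0 with h0 | h0 <;> rcases hd 1 with h1 | h1 <;> rcases hd 2 with h2' | h2'
  · -- (1,1,1)
    exfalso
    have hd1 : d = fun _ => 1 := by
      funext i; fin_cases i <;> assumption
    have hY1 : Y = 1 := by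
      have h3 : Y * (P : Matrix (Fin 3) (Fin 3) F) *
          ((P⁻¹ : GL (Fin 3) F) : Matrix (Fin 3) (Fin 3) F) = Y := by
        rw [Matrix.mul_assoc, ← Units.val_mul, mul_inv_cancel, Units.val_one, Matrix.mul_one]
      rw [← h3, hYP, hd1, Matrix.diagonal_one, Matrix.mul_one, ← Units.val_mul, mul_inv_cancel,
        Units.val_one]
    apply hns (ν : F)
    have : (ν : F) • Y = M := by
      rw [hY, smul_smul, ← Units.val_mul, mul_inv_cancel, Units.val_one, one_smul]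
    rw [← this, hY1]
  · exfalso; rw [h0, h1, h2'] at hprod; apply hne; simpa using hprod
  · exfalso; rw [h0, h1, h2'] at hprod; apply hne; simpa using hprod
  · -- (1,-1,-1)
    apply fin K1 (by rw [det_K1]; exact hn2)
    ext i j
    rw [Matrix.mul_diagonal]
    fin_cases i <;> fin_cases j <;>
      simp [Matrix.mul_apply, Fin.sum_univ_three, Tg, K1, h0, h1, h2']
  · exfalso; rw [h0, h1, h2'] at hprod; apply hne; simpa using hprod
  · -- (-1,1,-1)
    apply fin K2 (by rw [det_K2]; exact h2)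
    ext i j
    rw [Matrix.mul_diagonal]
    fin_cases i <;> fin_cases j <;>
      simp [Matrix.mul_apply, Fin.sum_univ_three, Tg, K2, h0, h1, h2']
  · -- (-1,-1,1)
    apply fin K3 (by rw [det_K3]; exact hn2)
    ext i j
    rw [Matrix.mul_diagonal]
    fin_cases i <;> fin_cases j <;>
      simp [Matrix.mul_apply, Fin.sum_univ_three, Tg, K3, h0, h1, h2']
  · exfalso; rw [h0, h1, h2'] at hprod; apply hne; simpa using hprod

end Cfsg.Agent.Lib.H15.X3
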