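import Cfsg.Agent.Lib.H15.X3H

/-!
# Main theorem: prime order elements of `SL_3(p)` and the normaliser of `3^{1+2}`
-/

set_option autoImplicit false

namespace Cfsg.Agent.Lib.H15.X3

open Matrix

variable {F : Type*} [Field F]

/-- the kernel of the determinant -/
abbrev SLk (F : Type*) [Field F] : Subgroup (GL (Fin 3) F) :=
  (Matrix.GeneralLinearGroup.det : GL (Fin 3) F →* Fˣ).ker

/-- every non-scalar `x ∈ SL_3` with `x^r` scalar is `SL_3`-conjugate into `N(R)` -/
def Hyp (R : Subgroup (GL (Fin 3) F)) (r : ℕ) : Prop :=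
  ∀ x ∈ SLk F,
    (∃ z : F, ((x ^ r : GL (Fin 3) F) : Matrix (Fin 3) (Fin 3) F) =
      z • (1 : Matrix (Fin 3) (Fin 3) F)) →
    (∀ z : F, (x : Matrix (Fin 3) (Fin 3) F) ≠ z • (1 : Matrix (Fin 3) (Fin 3) F)) →
    ∃ g ∈ SLk F, g⁻¹ * x * g ∈ Subgroup.normalizer (R : Set (GL (Fin 3) F))

lemma conj_scalar (g : GL (Fin 3) F) (z : F) :
    (g : Matrix (Fin 3) (Fin 3) F) * (z • (1 : Matrix (Fin 3) (Fin 3) F)) *
      ((g⁻¹ : GL (Fin 3) F) : Matrix (Fin 3) (Fin 3) F) = z • (1 : Matrix (Fin 3) (Fin 3) F) := by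
  rw [Matrix.mul_smul, Matrix.mul_one, Matrix.smul_mul, ← Units.val_mul, mul_inv_cancel,
    Units.val_one]

theorem big_prime_false [Fintype F] (u : Fˣ) (hu : u ^ 3 = 1) (hu1 : u ≠ 1)
    (hcard : Nat.card (R0 u) = 27) (r : ℕ) [hr : Fact r.Prime] (hr2 : r ≠ 2) (hr3 : r ≠ 3)
    (hdvd : r ∣ Nat.card (SLk F)) (hyp : Hyp (R0 u) r) : False := by
  obtain ⟨x, hx⟩ := exists_prime_orderOf_dvd_card' r hdvd
  have hxr : (x : GL (Fin 3) F) ^ r = 1 := by
    have := pow_orderOf_eq_one x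
    rw [hx] at this
    exact congrArg Subtype.val this
  have hx1 : (x : GL (Fin 3) F) ≠ 1 := by
    intro h
    have : x = 1 := Subtype.ext h
    rw [this, orderOf_one] at hx
    exact hr.out.one_lt.ne hx
  have hns : ∀ z : F, ((x : GL (Fin 3) F) : Matrix (Fin 3) (Fin 3) F) ≠
      z • (1 : Matrix (Fin 3) (Fin 3) F) := by
    intro z hz
    have hdet : ((x : GL (Fin 3) F) : Matrix (Fin 3) (Fin 3) F).det = 1 := by
      have := congrArg Units.val (MonoidHom.mem_ker.1 x.2)
      rwa [Matrix.GeneralLinearGroup.val_det_apply, Units.val_one] at this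
    have hz3 : z ^ 3 = 1 := by
      rw [hz, Matrix.det_smul, Matrix.det_one, mul_one, Fintype.card_fin] at hdet
      exact hdet
    have hzr : z ^ r = 1 := by
      have h1 := congrArg Units.val hxr
      rw [Units.val_pow_eq_pow_val, hz, smul_pow, one_pow, Units.val_one] at h1
      have h2 := congrFun (congrFun h1 0) 0
      simpa using h2
    have hcop : Nat.Coprime 3 r := (Nat.coprime_primes Nat.prime_three hr.out).2 (Ne.symm hr3)
    have hz1 : z = 1 := (pow_eq_one_iff_of_coprime hcop).1 ⟨hz3, hzr⟩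
    apply hx1
    apply Units.ext
    rw [hz, hz1, one_smul, Units.val_one]
  obtain ⟨g, hg, hN⟩ := hyp (x : GL (Fin 3) F) x.2 ⟨1, by rw [hxr, one_smul, Units.val_one]⟩ hns
  have hyr : (g⁻¹ * (x : GL (Fin 3) F) * g) ^ r = 1 := by
    have := conj_pow (a := g⁻¹) (b := (x : GL (Fin 3) F)) (i := r)
    rw [inv_inv] at this
    rw [this, hxr, mul_one, inv_mul_cancel]
  obtain ⟨z, hz⟩ := scalar_of_normalizer_pow u hu hu1 hcard r hr2 hr3 _ hN hyr
  apply hns z
  have hxg : (x : GL (Fin 3) F) = g * (g⁻¹ * (x : GL (Fin 3) F) * g) * g⁻¹ := by group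
  rw [hxg, Units.val_mul, Units.val_mul, hz, conj_scalar]

theorem main_R0 [Fintype F] {p : ℕ} [hp : Fact p.Prime] [CharP F p] (hF : Fintype.card F = p)
    (hp3 : p % 3 = 1) (u : Fˣ) (hu : u ^ 3 = 1) (hu1 : u ≠ 1) (hcard : Nat.card (R0 u) = 27)
    (r : ℕ) [hr : Fact r.Prime]
    (hΩ : r ∣ (Subgroup.normalizer (R0 u : Set (GL (Fin 3) F))).relIndex (SLk F)) :
    Hyp (R0 u) r ↔ (r = 2 ∨ (r = 3 ∧ p % 9 = 1)) := by
  constructor
  · intro hyp
    by_cases hr2 : r = 2
    · exact Or.inl hr2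
    by_cases hr3 : r = 3
    · right
      refine ⟨hr3, ?_⟩
      by_contra hp9
      subst hr3
      have hp1 : 1 ≤ p := hp.out.one_lt.le
      exact three_not_dvd u hu hcard (p - 1) (by rw [hF]; omega) (by omega) hΩ
    · exfalso
      exact big_prime_false u hu hu1 hcard r hr2 hr3
        (hΩ.trans (Subgroup.relIndex_dvd_card _ _)) hyp
  · rintro (rfl | ⟨rfl, hp9⟩)
    · intro x hx hz hns
      obtain ⟨z, hz⟩ := hz
      have h2 : (2 : F) ≠ 0 := by
        intro h
        have h' : ((2 : ℕ) : F) = 0 := by exact_mod_cast h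
        rw [CharP.cast_eq_zero_iff F p] at h'
        have := (Nat.prime_dvd_prime_iff_eq hp.out Nat.prime_two).1 h'
        omega
      exact two_case u hu h2 x hx z hz hns
    · intro x hx hz hns
      obtain ⟨z, hz⟩ := hz
      have hdet : (x : Matrix (Fin 3) (Fin 3) F).det = 1 := by
        have := congrArg Units.val (MonoidHom.mem_ker.1 hx)
        rwa [Matrix.GeneralLinearGroup.val_det_apply, Units.val_one] at this
      have hz3 : z ^ 3 = 1 := by
        have := congrArg Matrix.det hz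
        rw [Units.val_pow_eq_pow_val, Matrix.det_pow, hdet, one_pow, Matrix.det_smul,
          Matrix.det_one, mul_one, Fintype.card_fin] at this
        exact this.symm
      obtain ⟨ν, hν⟩ := exists_cube_root ((p - 1) / 9) (by rw [hF]; omega) z hz3
      have hν0 : ν ≠ 0 := by
        rintro rfl
        rw [← hν] at hz3
        simp at hz3
      exact three_case u hu hu1 x z hz ν hν0 hν

/-- transport of `Hyp` along conjugation -/
lemma Hyp_map (R : Subgroup (GL (Fin 3) F)) (r : ℕ) (P : GL (Fin 3) F) (h : Hyp R r) :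
    Hyp (R.map (MulAut.conj P).toMonoidHom) r := by
  intro x hx hz hns
  have hnorm : (SLk F).Normal := MonoidHom.normal_ker _
  have hx' : P⁻¹ * x * P ∈ SLk F := by
    have := hnorm.conj_mem x hx P⁻¹
    rwa [inv_inv] at this
  have hz' : ∃ z : F, (((P⁻¹ * x * P) ^ r : GL (Fin 3) F) : Matrix (Fin 3) (Fin 3) F) =
      z • (1 : Matrix (Fin 3) (Fin 3) F) := by
    obtain ⟨z, hz⟩ := hz
    refine ⟨z, ?_⟩
    have := conj_pow (a := P⁻¹) (b := x) (i := r)
    rw [inv_inv] at this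
    rw [this, Units.val_mul, Units.val_mul, hz]
    have := conj_scalar P⁻¹ z
    rwa [inv_inv] at this
  have hns' : ∀ z : F, ((P⁻¹ * x * P : GL (Fin 3) F) : Matrix (Fin 3) (Fin 3) F) ≠
      z • (1 : Matrix (Fin 3) (Fin 3) F) := by
    intro z hz
    apply hns z
    have hxg : x = P * (P⁻¹ * x * P) * P⁻¹ := by group
    rw [hxg, Units.val_mul, Units.val_mul, hz, conj_scalar]
  obtain ⟨g, hg, hN⟩ := h _ hx' hz' hns'
  refine ⟨P * g * P⁻¹, hnorm.conj_mem g hg P, ?_⟩
  rw [← Subgroup.map_equiv_normalizer_eq]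
  refine ⟨g⁻¹ * (P⁻¹ * x * P) * g, hN, ?_⟩
  show P * (g⁻¹ * (P⁻¹ * x * P) * g) * P⁻¹ = _
  group

theorem main [Fintype F] {p : ℕ} [hp : Fact p.Prime] [CharP F p] (hF : Fintype.card F = p)
    (hp3 : p % 3 = 1) (R : Subgroup (GL (Fin 3) F)) (hR : Nat.card R = 27)
    (hRe : Monoid.exponent R = 3) (hRna : ¬ IsMulCommutative R) (r : ℕ) [hr : Fact r.Prime]
    (hΩ : r ∣ (Subgroup.normalizer (R : Set (GL (Fin 3) F))).relIndex (SLk F)) :
    Hyp R r ↔ (r = 2 ∨ (r = 3 ∧ p % 9 = 1)) := by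
  -- a primitive cube root of unity
  have h3 : 3 ∣ Nat.card Fˣ := by
    rw [Nat.card_units, Nat.card_eq_fintype_card, hF]
    omega
  haveI : Fact (Nat.Prime 3) := ⟨Nat.prime_three⟩
  obtain ⟨w, hw⟩ := exists_prime_orderOf_dvd_card' 3 h3
  have hw3 : w ^ 3 = 1 := by rw [← hw]; exact pow_orderOf_eq_one w
  have hw1 : w ≠ 1 := by
    intro h
    rw [h, orderOf_one] at hw
    omega
  have hω : Cube (w : F) := units_cube_roots w hw3 hw1
  obtain ⟨u, P, hu, hu1, hRP⟩ := exists_std_form hω R hR hRe hRna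
  have hnorm : (SLk F).Normal := MonoidHom.normal_ker _
  have hcard : Nat.card (R0 u) = 27 := by
    rw [← hR, hRP]
    exact Nat.card_congr
      ((R0 u).equivMapOfInjective _ (MulAut.conj P).injective).toEquiv
  have hSmap : (SLk F).map (MulAut.conj P).toMonoidHom = SLk F := by
    haveI := hnorm
    exact Subgroup.Normal.map_conj_eq (SLk F) P
  have hΩ' : r ∣ (Subgroup.normalizer (R0 u : Set (GL (Fin 3) F))).relIndex (SLk F) := by
    have h1 : (Subgroup.normalizer (R : Set (GL (Fin 3) F))).relIndex (SLk F) =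
        (Subgroup.normalizer (R0 u : Set (GL (Fin 3) F))).relIndex (SLk F) := by
      rw [hRP, ← Subgroup.map_equiv_normalizer_eq]
      conv_lhs => rw [← hSmap]
      exact Subgroup.relIndex_map_map_of_injective _ _ (MulAut.conj P).injective
    rw [← h1]; exact hΩ
  have hmain := main_R0 hF hp3 u hu hu1 hcard r hΩ'
  rw [← hmain]
  constructor
  · intro h
    have := Hyp_map R r P⁻¹ h
    rw [hRP, Subgroup.map_map] at this
    have hid : ((MulAut.conj P⁻¹).toMonoidHom.comp (MulAut.conj P).toMonoidHom) =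
        MonoidHom.id (GL (Fin 3) F) := by
      ext1 g
      simp [MulAut.conj_apply, mul_assoc]
    rwa [hid, Subgroup.map_id] at this
  · intro h
    rw [hRP]
    exact Hyp_map (R0 u) r P h

end Cfsg.Agent.Lib.H15.X3
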