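import Mathlib

set_option autoImplicit false

/-!
# Powers with exponents in `ZMod p` and coordinates on elementary abelian groups of order `p²`
-/

namespace Cfsg.Agent.Lib.H15.Xsp

variable {p : ℕ} [Fact p.Prime]

section Pow

variable {V : Type*} [Group V]

theorem pow_val_add {w : V} (hw : w ^ p = 1) (s t : ZMod p) :
    w ^ (s + t).val = w ^ s.val * w ^ t.val := by
  rw [← pow_add, ZMod.val_add, ← pow_eq_pow_mod _ hw]

theorem pow_val_mul {w : V} (hw : w ^ p = 1) (s t : ZMod p) :
    w ^ (s * t).val = (w ^ s.val) ^ t.val := by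
  rw [← pow_mul, ZMod.val_mul, ← pow_eq_pow_mod _ hw]

theorem pow_val_one (w : V) : w ^ (1 : ZMod p).val = w := by
  haveI : Fact (1 < p) := ⟨(Fact.out : p.Prime).one_lt⟩
  rw [ZMod.val_one, pow_one]

theorem pow_val_zero (w : V) : w ^ (0 : ZMod p).val = 1 := by
  rw [ZMod.val_zero, pow_zero]

theorem pow_val_neg {w : V} (hw : w ^ p = 1) (t : ZMod p) :
    w ^ (-t).val = (w ^ t.val)⁻¹ := by
  rw [eq_inv_iff_mul_eq_one, ← pow_val_add hw, neg_add_cancel, pow_val_zero]

theorem pow_val_sub {w : V} (hw : w ^ p = 1) (s t : ZMod p) :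
    w ^ (s - t).val = w ^ s.val * (w ^ t.val)⁻¹ := by
  rw [sub_eq_add_neg, pow_val_add hw, pow_val_neg hw]

theorem pow_val_natCast {w : V} (hw : w ^ p = 1) (n : ℕ) :
    w ^ ((n : ZMod p)).val = w ^ n := by
  rw [ZMod.val_natCast, ← pow_eq_pow_mod _ hw]

theorem pow_val_pow_p {w : V} (hw : w ^ p = 1) (t : ZMod p) : (w ^ t.val) ^ p = 1 := by
  rw [← pow_mul, mul_comm, pow_mul, hw, one_pow]

theorem pow_val_injective {w : V} (hw : w ^ p = 1) (hw1 : w ≠ 1) {s t : ZMod p}
    (h : w ^ s.val = w ^ t.val) : s = t := by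
  have ho : orderOf w = p := orderOf_eq_prime hw hw1
  rw [pow_eq_pow_iff_modEq, ho] at h
  apply ZMod.val_injective
  exact Nat.ModEq.eq_of_lt_of_lt h (ZMod.val_lt s) (ZMod.val_lt t)

theorem pow_val_inv_cancel {w : V} (hw : w ^ p = 1) {t : ZMod p} (ht : t ≠ 0) :
    (w ^ t.val) ^ (t⁻¹).val = w := by
  rw [← pow_val_mul hw, mul_inv_cancel₀ ht, pow_val_one]

theorem pow_val_eq_one_iff {w : V} (hw : w ^ p = 1) (hw1 : w ≠ 1) {s : ZMod p} :
    w ^ s.val = 1 ↔ s = 0 := by
  constructor
  · intro h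
    apply pow_val_injective hw hw1
    rw [h, pow_val_zero]
  · rintro rfl
    exact pow_val_zero w

end Pow

section Coord

variable {V : Type*} [Group V] [Finite V]

theorem exists_coord (hcard : Nat.card V = p ^ 2)
    (hcomm : ∀ a b : V, a * b = b * a) (hexp : ∀ a : V, a ^ p = 1)
    {z y : V} (hz : z ≠ 1) (hy : y ∉ Subgroup.zpowers z) :
    ∃ e : Multiplicative (ZMod p × ZMod p) ≃* V,
      ∀ u v : ZMod p, e (Multiplicative.ofAdd (u, v)) = z ^ u.val * y ^ v.val := by
  classical
  let f : Multiplicative (ZMod p × ZMod p) →* V :=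
    { toFun := fun w => z ^ (Multiplicative.toAdd w).1.val * y ^ (Multiplicative.toAdd w).2.val
      map_one' := by
        show z ^ (0 : ZMod p).val * y ^ (0 : ZMod p).val = 1
        rw [pow_val_zero, pow_val_zero, one_mul]
      map_mul' := by
        intro a b
        show z ^ ((Multiplicative.toAdd a).1 + (Multiplicative.toAdd b).1).val *
          y ^ ((Multiplicative.toAdd a).2 + (Multiplicative.toAdd b).2).val = _
        rw [pow_val_add (hexp z), pow_val_add (hexp y)]
        rw [mul_assoc, ← mul_assoc (z ^ _) (y ^ _) (y ^ _),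
          hcomm (z ^ (Multiplicative.toAdd b).1.val) (y ^ (Multiplicative.toAdd a).2.val)]
        simp only [mul_assoc] }
  have hf : ∀ u v : ZMod p, f (Multiplicative.ofAdd (u, v)) = z ^ u.val * y ^ v.val :=
    fun u v => rfl
  have hinj : Function.Injective f := by
    rw [injective_iff_map_eq_one]
    intro w hw
    obtain ⟨⟨u, v⟩, rfl⟩ : ∃ q : ZMod p × ZMod p, Multiplicative.ofAdd q = w := ⟨_, rfl⟩
    rw [hf] at hw
    have hv : v = 0 := by
      by_contra hv
      apply hy
      have h1 : y ^ v.val = (z ^ u.val)⁻¹ := eq_inv_of_mul_eq_one_right hw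
      have h2 : y ^ v.val ∈ Subgroup.zpowers z := by
        rw [h1]
        exact inv_mem (pow_mem (Subgroup.mem_zpowers z) _)
      have := pow_mem h2 (v⁻¹).val
      rwa [pow_val_inv_cancel (hexp y) hv] at this
    subst hv
    rw [pow_val_zero, mul_one, pow_val_eq_one_iff (hexp z) hz] at hw
    subst hw
    rfl
  have hbij : Function.Bijective f := by
    rw [Nat.bijective_iff_injective_and_card]
    refine ⟨hinj, ?_⟩
    rw [hcard, Nat.card_congr (Multiplicative.toAdd (α := ZMod p × ZMod p)), Nat.card_prod,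
      Nat.card_zmod, pow_two]
  exact ⟨MulEquiv.ofBijective f hbij, hf⟩

end Coord

end Cfsg.Agent.Lib.H15.Xsp
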