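import Mathlib
import Cfsg.Prelude.Def_Transfer
import Cfsg.Agent.Lib.H15.Xsp1

set_option autoImplicit false

/-!
# Extraspecial groups of order `p³` and exponent `p`: coordinates and the commutator pairing
-/

namespace Cfsg.Agent.Lib.H15.Xsp

open scoped commutatorElement

variable {p : ℕ} [Fact p.Prime]

section Class2

variable {Q : Type*} [Group Q]

theorem comm_mul_left (hc : ∀ x y : Q, ⁅x, y⁆ ∈ Subgroup.center Q) (a b c : Q) :
    ⁅a * b, c⁆ = ⁅a, c⁆ * ⁅b, c⁆ := by
  rw [commutatorElement_mul_left_eq_conj_mul]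
  have h1 : a * ⁅b, c⁆ * a⁻¹ = ⁅b, c⁆ := by
    rw [(Subgroup.mem_center_iff.mp (hc b c)) a, mul_inv_cancel_right]
  rw [h1]
  exact ((Subgroup.mem_center_iff.mp (hc b c)) ⁅a, c⁆).symm

theorem comm_mul_right (hc : ∀ x y : Q, ⁅x, y⁆ ∈ Subgroup.center Q) (a b c : Q) :
    ⁅a, b * c⁆ = ⁅a, b⁆ * ⁅a, c⁆ := by
  rw [commutatorElement_mul_right_eq_mul_conj]
  have h1 : b * ⁅a, c⁆ * b⁻¹ = ⁅a, c⁆ := by
    rw [(Subgroup.mem_center_iff.mp (hc a c)) b, mul_inv_cancel_right]
  rw [mul_assoc, mul_assoc, ← mul_assoc b, h1]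

theorem comm_pow_left (hc : ∀ x y : Q, ⁅x, y⁆ ∈ Subgroup.center Q) (a c : Q) (n : ℕ) :
    ⁅a ^ n, c⁆ = ⁅a, c⁆ ^ n := by
  induction n with
  | zero => simp
  | succ n ih => rw [pow_succ, comm_mul_left hc, ih, pow_succ]

theorem comm_pow_right (hc : ∀ x y : Q, ⁅x, y⁆ ∈ Subgroup.center Q) (a c : Q) (n : ℕ) :
    ⁅a, c ^ n⁆ = ⁅a, c⁆ ^ n := by
  induction n with
  | zero => simp
  | succ n ih => rw [pow_succ, comm_mul_right hc, ih, pow_succ]

theorem comm_central_left {c : Q} (h : c ∈ Subgroup.center Q) (v : Q) : ⁅c, v⁆ = 1 := by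
  rw [commutatorElement_eq_one_iff_mul_comm]
  exact ((Subgroup.mem_center_iff.mp h) v).symm

theorem comm_central_right {c : Q} (h : c ∈ Subgroup.center Q) (v : Q) : ⁅v, c⁆ = 1 := by
  rw [commutatorElement_eq_one_iff_mul_comm]
  exact (Subgroup.mem_center_iff.mp h) v

end Class2

/-- the hypotheses on an extraspecial group of order `p³` and exponent `p`, unbundled -/
structure Hyp (p : ℕ) (Q : Type*) [Group Q] : Prop where
  comm_mem : ∀ x y : Q, ⁅x, y⁆ ∈ Subgroup.center Q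
  pow_p : ∀ x : Q, x ^ p = 1
  card_center : Nat.card (Subgroup.center Q) = p
  card : Nat.card Q = p ^ 3

theorem Hyp.of_extraspecial {Q : Type*} [Group Q] (hE : Cfsg.IsExtraspecial p Q)
    (hcard : Nat.card Q = p ^ 3) (hexp : Monoid.exponent Q = p) : Hyp p Q where
  comm_mem x y := by
    rw [← hE.1.2.2, commutator_def]
    exact Subgroup.commutator_mem_commutator (Subgroup.mem_top x) (Subgroup.mem_top y)
  pow_p x := by
    rw [← hexp]
    exact Monoid.pow_exponent_eq_one x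
  card_center := hE.2
  card := hcard

/-- the coordinate vector of an element under `κ` -/
def kv {Q : Type*} [Group Q] (κ : Q →* Multiplicative (ZMod p × ZMod p)) (x : Q) :
    ZMod p × ZMod p := Multiplicative.toAdd (κ x)

section Kv

variable {Q : Type*} [Group Q] (κ : Q →* Multiplicative (ZMod p × ZMod p))

theorem kv_mul (x y : Q) : kv κ (x * y) = kv κ x + kv κ y := by
  unfold kv; rw [map_mul]; rfl

theorem kv_one : kv κ (1 : Q) = 0 := by
  unfold kv; rw [map_one]; rfl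

theorem kv_inv (x : Q) : kv κ x⁻¹ = - kv κ x := by
  unfold kv; rw [map_inv]; rfl

theorem kv_pow (x : Q) (n : ℕ) : kv κ (x ^ n) = n • kv κ x := by
  unfold kv; rw [map_pow]; rfl

theorem kv_pow_val (x : Q) (t : ZMod p) :
    kv κ (x ^ t.val) = (t * (kv κ x).1, t * (kv κ x).2) := by
  rw [kv_pow]
  ext
  · rw [Prod.smul_fst, nsmul_eq_mul, ZMod.natCast_zmod_val]
  · rw [Prod.smul_snd, nsmul_eq_mul, ZMod.natCast_zmod_val]

theorem kv_eq_zero_iff (x : Q) : kv κ x = 0 ↔ x ∈ κ.ker := by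
  rw [MonoidHom.mem_ker]
  unfold kv
  constructor
  · intro h
    exact Multiplicative.toAdd.injective h
  · intro h
    rw [h]; rfl

theorem kv_conj (g x : Q) : kv κ (g * x * g⁻¹) = kv κ x := by
  rw [kv_mul, kv_mul, kv_inv]; abel

end Kv

/-- a coordinate frame on an extraspecial group of order `p³` -/
structure Frame (p : ℕ) [Fact p.Prime] (Q : Type*) [Group Q] where
  κ : Q →* Multiplicative (ZMod p × ZMod p)
  surj : Function.Surjective κ
  ker_eq : κ.ker = Subgroup.center Q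
  x₀ : Q
  y₀ : Q
  hx₀ : kv κ x₀ = (1, 0)
  hy₀ : kv κ y₀ = (0, 1)

section Frame

variable {Q : Type*} [Group Q]

theorem exists_frame [Finite Q] (h : Hyp p Q) : Nonempty (Frame p Q) := by
  classical
  have hp : p.Prime := Fact.out
  -- the quotient
  have hV : Nat.card (Q ⧸ Subgroup.center Q) = p ^ 2 := by
    have h1 := Subgroup.card_eq_card_quotient_mul_card_subgroup (Subgroup.center Q)
    rw [h.card, h.card_center] at h1
    have : p ^ 2 * p = Nat.card (Q ⧸ Subgroup.center Q) * p := by rw [← h1]; ring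
    exact (Nat.eq_of_mul_eq_mul_right hp.pos this).symm
  have hcomm : ∀ a b : Q ⧸ Subgroup.center Q, a * b = b * a := by
    intro a b
    induction a using QuotientGroup.induction_on with | H x =>
    induction b using QuotientGroup.induction_on with | H y =>
    rw [← QuotientGroup.mk_mul, ← QuotientGroup.mk_mul]
    symm
    rw [QuotientGroup.eq]
    have : (y * x)⁻¹ * (x * y) = ⁅x⁻¹, y⁻¹⁆ := by
      rw [commutatorElement_def]; group
    rw [this]
    exact h.comm_mem _ _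
  have hexp : ∀ a : Q ⧸ Subgroup.center Q, a ^ p = 1 := by
    intro a
    induction a using QuotientGroup.induction_on with | H x =>
    rw [← QuotientGroup.mk_pow, h.pow_p, QuotientGroup.mk_one]
  haveI : Nontrivial (Q ⧸ Subgroup.center Q) := by
    rw [← Finite.one_lt_card_iff_nontrivial, hV]
    exact Nat.one_lt_pow (by norm_num) hp.one_lt
  obtain ⟨z, hz⟩ := exists_ne (1 : Q ⧸ Subgroup.center Q)
  obtain ⟨y, hy⟩ : ∃ y, y ∉ Subgroup.zpowers z := by
    by_contra hcon
    push Not at hcon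
    have htop : Subgroup.zpowers z = ⊤ := by
      rw [eq_top_iff]; intro y _; exact hcon y
    have hc1 : Nat.card (Subgroup.zpowers z) = p := by
      rw [Nat.card_zpowers, orderOf_eq_prime (hexp z) hz]
    rw [htop, Subgroup.card_top, hV] at hc1
    have : p ^ 2 = p ^ 1 := by rw [hc1, pow_one]
    have := Nat.pow_right_injective hp.two_le this
    omega
  obtain ⟨e, he⟩ := exists_coord hV hcomm hexp hz hy
  let κ : Q →* Multiplicative (ZMod p × ZMod p) :=
    (e.symm : (Q ⧸ Subgroup.center Q) →* Multiplicative (ZMod p × ZMod p)).comp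
      (QuotientGroup.mk' (Subgroup.center Q))
  have hκ : ∀ x : Q, κ x = e.symm (QuotientGroup.mk x) := fun x => rfl
  have hsurj : Function.Surjective κ := by
    intro w
    obtain ⟨x, hx⟩ := QuotientGroup.mk_surjective (e w)
    refine ⟨x, ?_⟩
    rw [hκ, hx, MulEquiv.symm_apply_apply]
  have hker : κ.ker = Subgroup.center Q := by
    ext x
    rw [MonoidHom.mem_ker, hκ, MulEquiv.map_eq_one_iff, QuotientGroup.eq_one_iff]
  obtain ⟨x₀, hx₀⟩ := hsurj (Multiplicative.ofAdd (1, 0))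
  obtain ⟨y₀, hy₀⟩ := hsurj (Multiplicative.ofAdd (0, 1))
  exact ⟨⟨κ, hsurj, hker, x₀, y₀, by unfold kv; rw [hx₀]; rfl, by unfold kv; rw [hy₀]; rfl⟩⟩

variable (F : Frame p Q)

/-- the distinguished generator of the centre -/
def Frame.z : Q := ⁅F.x₀, F.y₀⁆

theorem Frame.kv_eq_zero_iff (x : Q) : kv F.κ x = 0 ↔ x ∈ Subgroup.center Q := by
  rw [Xsp.kv_eq_zero_iff, F.ker_eq]

theorem Frame.z_mem (h : Hyp p Q) : F.z ∈ Subgroup.center Q := h.comm_mem _ _

theorem Frame.decomp (u : Q) :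
    ∃ c ∈ Subgroup.center Q, u = F.x₀ ^ (kv F.κ u).1.val * F.y₀ ^ (kv F.κ u).2.val * c := by
  refine ⟨(F.x₀ ^ (kv F.κ u).1.val * F.y₀ ^ (kv F.κ u).2.val)⁻¹ * u, ?_, ?_⟩
  · rw [← F.kv_eq_zero_iff, kv_mul, kv_inv, kv_mul, kv_pow_val, kv_pow_val, F.hx₀, F.hy₀]
    ext <;> simp
  · rw [mul_inv_cancel_left]

theorem Frame.comm_formula (h : Hyp p Q) (u v : Q) :
    ⁅u, v⁆ = F.z ^ ((kv F.κ u).1 * (kv F.κ v).2 - (kv F.κ u).2 * (kv F.κ v).1).val := by
  have hc := h.comm_mem
  obtain ⟨c, hcc, hu⟩ := F.decomp u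
  obtain ⟨c', hcc', hv⟩ := F.decomp v
  set a := (kv F.κ u).1
  set b := (kv F.κ u).2
  set a' := (kv F.κ v).1
  set b' := (kv F.κ v).2
  have hz : F.z ^ p = 1 := h.pow_p _
  have h1 : ∀ w : Q, ⁅w, v⁆ = ⁅w, F.x₀⁆ ^ a'.val * ⁅w, F.y₀⁆ ^ b'.val := by
    intro w
    conv_lhs => rw [hv]
    rw [comm_mul_right hc, comm_mul_right hc, comm_central_right hcc', mul_one,
      comm_pow_right hc, comm_pow_right hc]
  have h2 : ⁅F.y₀, F.x₀⁆ = F.z⁻¹ := by
    unfold Frame.z; rw [commutatorElement_inv]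
  conv_lhs => rw [hu]
  rw [comm_mul_left hc, comm_mul_left hc, comm_central_left hcc, mul_one,
    comm_pow_left hc, comm_pow_left hc, h1 F.x₀, h1 F.y₀, commutatorElement_self,
    commutatorElement_self, one_pow, one_pow, one_mul, mul_one, h2]
  show (F.z ^ b'.val) ^ a.val * ((F.z⁻¹) ^ a'.val) ^ b.val = _
  rw [pow_val_sub hz, pow_val_mul hz, pow_val_mul hz, inv_pow, inv_pow, ← pow_mul, ← pow_mul,
    ← pow_mul, ← pow_mul, mul_comm b'.val, mul_comm a'.val]

theorem Frame.z_ne_one [Finite Q] (h : Hyp p Q) : F.z ≠ 1 := by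
  intro hz
  have hp : p.Prime := Fact.out
  have hab : ∀ u v : Q, u * v = v * u := by
    intro u v
    rw [← commutatorElement_eq_one_iff_mul_comm, F.comm_formula h, hz, one_pow]
  have htop : Subgroup.center Q = ⊤ := by
    rw [eq_top_iff]
    intro x _
    rw [Subgroup.mem_center_iff]
    intro g
    exact hab g x
  have h1 := h.card_center
  rw [htop, Subgroup.card_top, h.card] at h1
  have : p ^ 3 = p ^ 1 := by rw [h1, pow_one]
  have := Nat.pow_right_injective hp.two_le this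
  omega

theorem Frame.center_eq [Finite Q] (h : Hyp p Q) : Subgroup.center Q = Subgroup.zpowers F.z := by
  symm
  apply Subgroup.eq_of_le_of_card_ge
  · rw [Subgroup.zpowers_le]; exact F.z_mem h
  · rw [Nat.card_zpowers, orderOf_eq_prime (h.pow_p _) (F.z_ne_one h), h.card_center]

theorem Frame.exists_pow_of_mem_center [Finite Q] (h : Hyp p Q) {c : Q}
    (hc : c ∈ Subgroup.center Q) : ∃ t : ZMod p, c = F.z ^ t.val := by
  rw [F.center_eq h, Subgroup.mem_zpowers_iff] at hc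
  obtain ⟨k, rfl⟩ := hc
  refine ⟨(k : ZMod p), ?_⟩
  have ho : orderOf F.z = p := orderOf_eq_prime (h.pow_p _) (F.z_ne_one h)
  rw [← zpow_natCast, ZMod.val_intCast]
  have := zpow_mod_orderOf F.z k
  rw [ho] at this
  exact this.symm

end Frame

end Cfsg.Agent.Lib.H15.Xsp
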