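import Mathlib
import Cfsg.Agent.Lib.H15.Xsp2

set_option autoImplicit false

/-!
# The action of automorphisms of an extraspecial group of order `p³` on its Frattini quotient,
in coordinates
-/

namespace Cfsg.Agent.Lib.H15.Xsp

open scoped commutatorElement

variable {p : ℕ} [Fact p.Prime]

/-- the action of a `2 × 2` matrix on a pair -/
def act (M : Matrix (Fin 2) (Fin 2) (ZMod p)) (w : ZMod p × ZMod p) : ZMod p × ZMod p :=
  (M 0 0 * w.1 + M 0 1 * w.2, M 1 0 * w.1 + M 1 1 * w.2)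

theorem act_mul (M N : Matrix (Fin 2) (Fin 2) (ZMod p)) (w : ZMod p × ZMod p) :
    act (M * N) w = act M (act N w) := by
  unfold act
  ext
  · simp only [Matrix.mul_apply, Fin.sum_univ_two]; ring
  · simp only [Matrix.mul_apply, Fin.sum_univ_two]; ring

theorem act_one (w : ZMod p × ZMod p) : act (1 : Matrix (Fin 2) (Fin 2) (ZMod p)) w = w := by
  unfold act
  ext <;> simp

theorem act_smul (M : Matrix (Fin 2) (Fin 2) (ZMod p)) (t : ZMod p) (w : ZMod p × ZMod p) :
    act M (t * w.1, t * w.2) = (t * (act M w).1, t * (act M w).2) := by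
  unfold act
  ext <;> simp only <;> ring

theorem mat_ext {M N : Matrix (Fin 2) (Fin 2) (ZMod p)} (h1 : act M (1, 0) = act N (1, 0))
    (h2 : act M (0, 1) = act N (0, 1)) : M = N := by
  unfold act at h1 h2
  simp only [mul_one, mul_zero, add_zero, zero_add, Prod.mk.injEq] at h1 h2
  ext i j
  fin_cases i <;> fin_cases j
  · exact h1.1
  · exact h2.1
  · exact h1.2
  · exact h2.2

section Frame

variable {Q : Type*} [Group Q] (F : Frame p Q)

/-- the matrix of an automorphism on the Frattini quotient -/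
def Frame.mat (φ : MulAut Q) : Matrix (Fin 2) (Fin 2) (ZMod p) :=
  !![(kv F.κ (φ F.x₀)).1, (kv F.κ (φ F.y₀)).1; (kv F.κ (φ F.x₀)).2, (kv F.κ (φ F.y₀)).2]

theorem map_mem_center (φ : MulAut Q) {c : Q} (hc : c ∈ Subgroup.center Q) :
    φ c ∈ Subgroup.center Q := by
  rw [Subgroup.mem_center_iff] at hc ⊢
  intro g
  have := congrArg φ (hc (φ⁻¹ g))
  rw [map_mul, map_mul] at this
  have h1 : φ (φ⁻¹ g) = g := MulEquiv.apply_symm_apply φ g
  rwa [h1] at this

theorem Frame.kv_apply (φ : MulAut Q) (x : Q) :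
    kv F.κ (φ x) = act (F.mat φ) (kv F.κ x) := by
  obtain ⟨c, hc, hx⟩ := F.decomp x
  have hφc : kv F.κ (φ c) = 0 := (F.kv_eq_zero_iff _).mpr (map_mem_center φ hc)
  conv_lhs => rw [hx]
  rw [map_mul, map_mul, map_pow, map_pow, kv_mul, kv_mul, kv_pow_val, kv_pow_val, hφc, add_zero]
  unfold act Frame.mat
  ext
  · simp only [Prod.fst_add, Matrix.of_apply, Matrix.cons_val', Matrix.cons_val_zero,
      Matrix.cons_val_one, Matrix.cons_val_fin_one]
    ring
  · simp only [Prod.snd_add, Matrix.of_apply, Matrix.cons_val', Matrix.cons_val_zero,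
      Matrix.cons_val_one, Matrix.cons_val_fin_one]
    ring

theorem Frame.act_mat_e1 (φ : MulAut Q) : act (F.mat φ) (1, 0) = kv F.κ (φ F.x₀) := by
  rw [F.kv_apply, F.hx₀]

theorem Frame.act_mat_e2 (φ : MulAut Q) : act (F.mat φ) (0, 1) = kv F.κ (φ F.y₀) := by
  rw [F.kv_apply, F.hy₀]

/-- the matrix representation as a monoid homomorphism -/
def Frame.matHom : MulAut Q →* Matrix (Fin 2) (Fin 2) (ZMod p) where
  toFun := F.mat
  map_one' := by
    apply mat_ext
    · rw [F.act_mat_e1, act_one]; exact F.hx₀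
    · rw [F.act_mat_e2, act_one]; exact F.hy₀
  map_mul' φ ψ := by
    apply mat_ext
    · rw [F.act_mat_e1, act_mul, F.act_mat_e1, ← F.kv_apply]; rfl
    · rw [F.act_mat_e2, act_mul, F.act_mat_e2, ← F.kv_apply]; rfl

/-- the representation on the Frattini quotient -/
def Frame.toGL : MulAut Q →* GL (Fin 2) (ZMod p) := F.matHom.toHomUnits

theorem Frame.coe_toGL (φ : MulAut Q) :
    ((F.toGL φ : GL (Fin 2) (ZMod p)) : Matrix (Fin 2) (Fin 2) (ZMod p)) = F.mat φ := rfl

theorem Frame.map_z (h : Hyp p Q) (φ : MulAut Q) :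
    φ F.z = F.z ^ (Matrix.det (F.mat φ)).val := by
  unfold Frame.z
  rw [map_commutatorElement]
  show ⁅φ F.x₀, φ F.y₀⁆ = F.z ^ _
  rw [F.comm_formula h]
  congr 2
  unfold Frame.mat
  rw [Matrix.det_fin_two_of]
  ring

end Frame

end Cfsg.Agent.Lib.H15.Xsp
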