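import Mathlib
import Cfsg.Agent.Lib.H15.Xsp3

set_option autoImplicit false

/-!
# The normalizer of an extraspecial Sylow subgroup acting on the Frattini quotient;
Frattini elements; torus elements from two transvections
-/

namespace Cfsg.Agent.Lib.H15.Xsp

open scoped commutatorElement Pointwise

variable {p : ℕ} [Fact p.Prime]

section Rho

variable {G : Type*} [Group G] (P : Sylow p G) (F : Frame p ↥P)

/-- the representation of `N_G(P)` on `P / Z(P)` -/
def rho : ↥(Subgroup.normalizer ((P : Subgroup G) : Set G)) →* GL (Fin 2) (ZMod p) :=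
  F.toGL.comp (P : Subgroup G).normalizerMonoidHom

theorem rho_act (n : ↥(Subgroup.normalizer ((P : Subgroup G) : Set G))) (x : ↥P) :
    kv F.κ ((P : Subgroup G).normalizerMonoidHom n x) =
      act ((rho P F n : GL (Fin 2) (ZMod p)) : Matrix (Fin 2) (Fin 2) (ZMod p)) (kv F.κ x) :=
  F.kv_apply _ x

theorem rho_z (h : Hyp p ↥P) (n : ↥(Subgroup.normalizer ((P : Subgroup G) : Set G))) :
    (n : G) * (F.z : G) * (n : G)⁻¹ = (F.z : G) ^
      (Matrix.det ((rho P F n : GL (Fin 2) (ZMod p)) : Matrix (Fin 2) (Fin 2) (ZMod p))).val := by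
  have h1 := F.map_z h ((P : Subgroup G).normalizerMonoidHom n)
  have h2 : (((P : Subgroup G).normalizerMonoidHom n F.z : ↥P) : G) =
      ((F.z ^ (Matrix.det (F.mat ((P : Subgroup G).normalizerMonoidHom n))).val : ↥P) : G) :=
    congrArg Subtype.val h1
  rw [Subgroup.normalizerMonoidHom_apply_apply_coe, Subgroup.coe_pow] at h2
  exact h2

theorem rho_eq_one_of_mem (n : ↥(Subgroup.normalizer ((P : Subgroup G) : Set G)))
    (hn : (n : G) ∈ (P : Subgroup G)) : rho P F n = 1 := by
  apply Units.ext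
  show F.mat ((P : Subgroup G).normalizerMonoidHom n) = 1
  have key : ∀ x : ↥P, (P : Subgroup G).normalizerMonoidHom n x = ⟨n, hn⟩ * x * ⟨n, hn⟩⁻¹ := by
    intro x
    apply Subtype.ext
    rw [Subgroup.normalizerMonoidHom_apply_apply_coe]
    rfl
  apply mat_ext
  · rw [F.act_mat_e1, key, kv_conj, act_one, F.hx₀]
  · rw [F.act_mat_e2, key, kv_conj, act_one, F.hy₀]

theorem rho_coprime [Finite G] : ¬ p ∣ Nat.card (rho P F).range := by
  have h1 : ((P : Subgroup G).subgroupOf (Subgroup.normalizer ((P : Subgroup G) : Set G))) ≤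
      (rho P F).ker := by
    intro n hn
    rw [MonoidHom.mem_ker]
    exact rho_eq_one_of_mem P F n (Subgroup.mem_subgroupOf.mp hn)
  have h2 := Subgroup.index_dvd_of_le h1
  rw [Subgroup.index_ker] at h2
  have h3 : ((P : Subgroup G).subgroupOf (Subgroup.normalizer ((P : Subgroup G) : Set G))).index ∣
      (P : Subgroup G).index :=
    Subgroup.relIndex_dvd_index_of_le Subgroup.le_normalizer
  intro hdvd
  exact P.not_dvd_index (hdvd.trans (h2.trans h3))

end Rho

section Frattini

variable {G : Type*} [Group G] [Finite G]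

theorem frattini_elt (P : Sylow p G) (M : Subgroup G) (hPM : (P : Subgroup G) ≤ M) (h : G)
    (hh : ∀ c ∈ M, h * c * h⁻¹ ∈ M) :
    ∃ c ∈ M, c * h ∈ Subgroup.normalizer ((P : Subgroup G) : Set G) := by
  have h1 : ((h • P : Sylow p G) : Subgroup G) ≤ M := by
    intro x hx
    rw [Sylow.coe_subgroup_smul, Subgroup.mem_pointwise_smul_iff_inv_smul_mem] at hx
    have h2 := hh _ (hPM hx)
    have h3 : h * ((MulAut.conj h)⁻¹ • x) * h⁻¹ = x := by
      rw [MulAut.smul_def, ← map_inv, MulAut.conj_apply]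
      group
    rwa [h3] at h2
  obtain ⟨c, hc⟩ := MulAction.exists_smul_eq ↥M ((h • P).subtype h1) (P.subtype hPM)
  rw [Sylow.smul_subtype] at hc
  have h4 := Sylow.subtype_injective hc
  refine ⟨c, c.2, ?_⟩
  have h5 : ((c : G) * h) • P = P := by
    rw [mul_smul]; exact h4
  exact Sylow.smul_eq_iff_mem_normalizer.mp h5

end Frattini

section Torus

variable {G : Type*} [Group G]

/-- the element with coordinates `w` in the plane spanned by `z` and `y` -/
def pt (z y : G) (w : ZMod p × ZMod p) : G := z ^ w.1.val * y ^ w.2.val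

/-- `h` acts on the plane spanned by `z`, `y` through `T` -/
def Acts (z y : G) (h : G) (T : ZMod p × ZMod p → ZMod p × ZMod p) : Prop :=
  ∀ w, h * pt z y w * h⁻¹ = pt z y (T w)

theorem Acts.mul {z y h h' : G} {T T' : ZMod p × ZMod p → ZMod p × ZMod p}
    (hT : Acts z y h T) (hT' : Acts z y h' T') : Acts z y (h * h') (T ∘ T') := by
  intro w
  have : h * h' * pt z y w * (h * h')⁻¹ = h * (h' * pt z y w * h'⁻¹) * h⁻¹ := by group
  rw [this, hT' w, hT (T' w)]
  rfl

theorem Acts.one (z y : G) : Acts (p := p) z y 1 id := by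
  intro w; simp

theorem Acts.pow {z y h : G} {T : ZMod p × ZMod p → ZMod p × ZMod p}
    (hT : Acts z y h T) (k : ℕ) : Acts z y (h ^ k) (T^[k]) := by
  induction k with
  | zero => rw [pow_zero]; exact Acts.one z y
  | succ k ih =>
    rw [pow_succ', Function.iterate_succ']
    exact hT.mul ih

/-- upper transvection -/
def tX (t : ZMod p) (w : ZMod p × ZMod p) : ZMod p × ZMod p := (w.1 + t * w.2, w.2)

/-- lower transvection -/
def tY (t : ZMod p) (w : ZMod p × ZMod p) : ZMod p × ZMod p := (w.1, w.2 + t * w.1)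

theorem tX_iterate (k : ℕ) : (tX (1 : ZMod p))^[k] = tX (k : ZMod p) := by
  induction k with
  | zero => funext w; simp [tX]
  | succ k ih =>
    rw [Function.iterate_succ', ih]
    funext w
    simp only [tX, Function.comp_apply, Nat.cast_succ]
    ext <;> simp only <;> ring

theorem tY_iterate (k : ℕ) : (tY (1 : ZMod p))^[k] = tY (k : ZMod p) := by
  induction k with
  | zero => funext w; simp [tY]
  | succ k ih =>
    rw [Function.iterate_succ', ih]
    funext w
    simp only [tY, Function.comp_apply, Nat.cast_succ]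
    ext <;> simp only <;> ring

theorem Acts.pow_val_X {z y h : G} (hT : Acts z y h (tX (1 : ZMod p))) (t : ZMod p) :
    Acts z y (h ^ t.val) (tX t) := by
  have := hT.pow t.val
  rwa [tX_iterate, ZMod.natCast_zmod_val] at this

theorem Acts.pow_val_Y {z y h : G} (hT : Acts z y h (tY (1 : ZMod p))) (t : ZMod p) :
    Acts z y (h ^ t.val) (tY t) := by
  have := hT.pow t.val
  rwa [tY_iterate, ZMod.natCast_zmod_val] at this

theorem conj_pt (z y h : G) (w : ZMod p × ZMod p) :
    h * pt z y w * h⁻¹ = (h * z * h⁻¹) ^ w.1.val * (h * y * h⁻¹) ^ w.2.val := by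
  unfold pt
  rw [conj_pow, conj_pow]
  group

theorem acts_X {z y x : G} (hz : z ^ p = 1) (hzy : z * y = y * z)
    (hxz : x * z * x⁻¹ = z) (hxy : x * y * x⁻¹ = z * y) : Acts z y x (tX (1 : ZMod p)) := by
  intro w
  rw [conj_pt, hxz, hxy, (show Commute z y from hzy).mul_pow]
  unfold pt tX
  simp only [one_mul]
  rw [pow_val_add hz, mul_assoc]

theorem acts_Y {z y g : G} (hy : y ^ p = 1) (hzy : z * y = y * z)
    (hgz : g * z * g⁻¹ = z * y) (hgy : g * y * g⁻¹ = y) : Acts z y g (tY (1 : ZMod p)) := by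
  intro w
  rw [conj_pt, hgz, hgy, (show Commute z y from hzy).mul_pow]
  unfold pt tY
  simp only [one_mul]
  rw [pow_val_add hy, mul_assoc]
  congr 1
  rw [← pow_add, ← pow_add, add_comm]

/-- from an upper and a lower transvection, a torus element -/
theorem exists_torus {z y x g : G} (hz : z ^ p = 1) (hy : y ^ p = 1) (hzy : z * y = y * z)
    (hxz : x * z * x⁻¹ = z) (hxy : x * y * x⁻¹ = z * y)
    (hgz : g * z * g⁻¹ = z * y) (hgy : g * y * g⁻¹ = y) (a : (ZMod p)ˣ) :
    ∃ h : G, h * z * h⁻¹ = z ^ (a : ZMod p).val ∧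
      h * y * h⁻¹ = y ^ ((a⁻¹ : (ZMod p)ˣ) : ZMod p).val := by
  have hX := acts_X hz hzy hxz hxy
  have hY := acts_Y hy hzy hgz hgy
  set α : ZMod p := (a : ZMod p) with hα
  set β : ZMod p := ((a⁻¹ : (ZMod p)ˣ) : ZMod p) with hβ
  have hαβ : α * β = 1 := by rw [hα, hβ, ← Units.val_mul, mul_inv_cancel, Units.val_one]
  have hT := ((((hX.pow_val_X α).mul (hY.pow_val_Y (-β))).mul (hX.pow_val_X α)).mul
    (hX.pow_val_X (-1))).mul ((hY.pow_val_Y 1).mul (hX.pow_val_X (-1)))
  have hcomp : ∀ w : ZMod p × ZMod p,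
      ((((tX α ∘ tY (-β)) ∘ tX α) ∘ tX (-1)) ∘ (tY 1 ∘ tX (-1))) w = (α * w.1, β * w.2) := by
    intro w
    simp only [Function.comp_apply, tX, tY]
    ext
    · simp only
      linear_combination (w.2 - α * w.1) * hαβ
    · simp only
      linear_combination (-w.1) * hαβ
  obtain ⟨h, hh⟩ : ∃ h : G, Acts z y h
      (((((tX α ∘ tY (-β)) ∘ tX α) ∘ tX (-1)) ∘ (tY 1 ∘ tX (-1)))) := ⟨_, hT⟩
  refine ⟨h, ?_, ?_⟩
  · have := hh (1, 0)
    rw [hcomp] at this
    unfold pt at this
    simp only [mul_one, mul_zero, ZMod.val_zero, pow_zero, one_mul] at this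
    rw [pow_val_one] at this
    exact this
  · have := hh (0, 1)
    rw [hcomp] at this
    unfold pt at this
    simp only [mul_one, mul_zero, ZMod.val_zero, pow_zero, one_mul] at this
    rw [pow_val_one] at this
    exact this

/-- from an upper and a lower transvection, a torus element (in `Acts` form) -/
theorem exists_torus' {z y x g : G} (hz : z ^ p = 1) (hy : y ^ p = 1) (hzy : z * y = y * z)
    (hxz : x * z * x⁻¹ = z) (hxy : x * y * x⁻¹ = z * y)
    (hgz : g * z * g⁻¹ = z * y) (hgy : g * y * g⁻¹ = y) (a : (ZMod p)ˣ) :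
    ∃ h : G, Acts z y h (fun w => ((a : ZMod p) * w.1, ((a⁻¹ : (ZMod p)ˣ) : ZMod p) * w.2)) := by
  have hX := acts_X hz hzy hxz hxy
  have hY := acts_Y hy hzy hgz hgy
  set α : ZMod p := (a : ZMod p) with hα
  set β : ZMod p := ((a⁻¹ : (ZMod p)ˣ) : ZMod p) with hβ
  have hαβ : α * β = 1 := by rw [hα, hβ, ← Units.val_mul, mul_inv_cancel, Units.val_one]
  have hT := ((((hX.pow_val_X α).mul (hY.pow_val_Y (-β))).mul (hX.pow_val_X α)).mul
    (hX.pow_val_X (-1))).mul ((hY.pow_val_Y 1).mul (hX.pow_val_X (-1)))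
  obtain ⟨h, hh⟩ : ∃ h : G, Acts z y h
      (((((tX α ∘ tY (-β)) ∘ tX α) ∘ tX (-1)) ∘ (tY 1 ∘ tX (-1)))) := ⟨_, hT⟩
  refine ⟨h, fun w => ?_⟩
  rw [hh w]
  congr 1
  simp only [Function.comp_apply, tX, tY]
  ext
  · simp only
    linear_combination (w.2 - α * w.1) * hαβ
  · simp only
    linear_combination (-w.1) * hαβ

end Torus

end Cfsg.Agent.Lib.H15.Xsp
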