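import Mathlib
import Cfsg.Agent.Lib.H15.Xsp4

set_option autoImplicit false

/-!
# Good elements give torus elements in the normalizer of the Sylow subgroup
-/

namespace Cfsg.Agent.Lib.H15.Xsp

open scoped commutatorElement Pointwise

variable {p : ℕ} [Fact p.Prime]

section Acts

variable {G : Type*} [Group G]

theorem Acts.inv {z y h : G} {T T' : ZMod p × ZMod p → ZMod p × ZMod p}
    (hT : Acts z y h T) (hTT' : ∀ w, T (T' w) = w) : Acts z y h⁻¹ T' := by
  intro w
  have := hT (T' w)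
  rw [hTT'] at this
  rw [← this]
  group

theorem Acts.congr {z y h : G} {T T' : ZMod p × ZMod p → ZMod p × ZMod p}
    (hT : Acts z y h T) (hTT' : ∀ w, T w = T' w) : Acts z y h T' := by
  intro w
  rw [hT w, hTT']

theorem acts_X' {z y x : G} (hz : z ^ p = 1) (hzy : z * y = y * z) {t : ZMod p}
    (hxz : x * z * x⁻¹ = z) (hxy : x * y * x⁻¹ = z ^ t.val * y) : Acts z y x (tX t) := by
  intro w
  have hc : Commute (z ^ t.val) y := (show Commute z y from hzy).pow_left _
  rw [conj_pt, hxz, hxy, hc.mul_pow]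
  unfold pt tX
  simp only
  rw [pow_val_add hz, pow_val_mul hz, mul_assoc]

/-- the subgroup of elements acting on the plane of `z`, `y` as upper transvections -/
def stabSub (z y : G) (p : ℕ) [Fact p.Prime] : Subgroup G where
  carrier := {c | ∃ t : ZMod p, Acts z y c (tX t)}
  one_mem' := ⟨0, (Acts.one z y).congr (fun w => by simp [tX])⟩
  mul_mem' := by
    rintro c c' ⟨t, ht⟩ ⟨t', ht'⟩
    refine ⟨t + t', (ht.mul ht').congr ?_⟩
    intro w
    simp only [Function.comp_apply, tX]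
    ext
    · simp only; ring
    · rfl
  inv_mem' := by
    rintro c ⟨t, ht⟩
    refine ⟨-t, ht.inv ?_⟩
    intro w
    simp only [tX]
    ext
    · simp only; ring
    · rfl

theorem mem_stabSub {z y c : G} : c ∈ stabSub z y p ↔ ∃ t : ZMod p, Acts z y c (tX t) := Iff.rfl

theorem conj_mem_stabSub {z y h : G} {α β : ZMod p} (hαβ : α * β = 1)
    (hh : Acts z y h (fun w => (α * w.1, β * w.2))) {c : G} (hc : c ∈ stabSub z y p) :
    h * c * h⁻¹ ∈ stabSub z y p := by
  obtain ⟨t, ht⟩ := hc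
  have hinv : Acts z y h⁻¹ (fun w => (β * w.1, α * w.2)) := by
    apply hh.inv
    intro w
    ext
    · simp only
      linear_combination w.1 * hαβ
    · simp only
      linear_combination w.2 * hαβ
  refine ⟨α * α * t, ((hh.mul ht).mul hinv).congr ?_⟩
  intro w
  simp only [Function.comp_apply, tX]
  ext
  · simp only
    linear_combination w.1 * hαβ
  · simp only
    linear_combination w.2 * hαβ

end Acts

section Good

variable {G : Type*} [Group G] [Finite G] (P : Sylow p G) (F : Frame p ↥P)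

/-- `y ∈ P ∖ Z(P)` is good when some element of `G` acts on the plane spanned by the centre and `y`
as a transvection with centre `y` -/
def Good (y : ↥P) : Prop :=
  y ∉ Subgroup.center ↥P ∧
    ∃ g : G, g * (F.z : G) * g⁻¹ = (F.z : G) * (y : G) ∧ g * (y : G) * g⁻¹ = (y : G)

theorem z_conj (h : Hyp p ↥P) (c : ↥P) : (c : G) * (F.z : G) * (c : G)⁻¹ = (F.z : G) := by
  have h1 := (Subgroup.mem_center_iff.mp (F.z_mem h)) c
  have h2 : c * F.z * c⁻¹ = F.z := by rw [h1, mul_inv_cancel_right]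
  exact congrArg Subtype.val h2

theorem conj_eq_pow_mul (h : Hyp p ↥P) (c y : ↥P) :
    (c : G) * (y : G) * (c : G)⁻¹ =
      (F.z : G) ^ ((kv F.κ c).1 * (kv F.κ y).2 - (kv F.κ c).2 * (kv F.κ y).1).val * (y : G) := by
  have h1 := F.comm_formula h c y
  rw [commutatorElement_def] at h1
  have h2 : c * y * c⁻¹ =
      F.z ^ ((kv F.κ c).1 * (kv F.κ y).2 - (kv F.κ c).2 * (kv F.κ y).1).val * y := by
    rw [← h1]; group
  exact congrArg Subtype.val h2

theorem le_stabSub (h : Hyp p ↥P) (y : ↥P) :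
    (P : Subgroup G) ≤ stabSub (F.z : G) (y : G) p := by
  intro c hc
  have hz : (F.z : G) ^ p = 1 := by
    rw [← Subgroup.coe_pow, h.pow_p]; rfl
  have hzy : (F.z : G) * (y : G) = (y : G) * (F.z : G) := by
    have := (Subgroup.mem_center_iff.mp (F.z_mem h)) y
    exact (congrArg Subtype.val this).symm
  exact ⟨_, acts_X' hz hzy (z_conj P F h ⟨c, hc⟩) (conj_eq_pow_mul P F h ⟨c, hc⟩ y)⟩

theorem exists_torus_normalizer (h : Hyp p ↥P) {y : ↥P} (hy : Good P F y) (a : (ZMod p)ˣ) :
    ∃ n : ↥(Subgroup.normalizer ((P : Subgroup G) : Set G)),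
      act ((rho P F n : GL (Fin 2) (ZMod p)) : Matrix (Fin 2) (Fin 2) (ZMod p)) (kv F.κ y) =
        (((a⁻¹ : (ZMod p)ˣ) : ZMod p) * (kv F.κ y).1,
          ((a⁻¹ : (ZMod p)ˣ) : ZMod p) * (kv F.κ y).2) ∧
      Matrix.det ((rho P F n : GL (Fin 2) (ZMod p)) : Matrix (Fin 2) (Fin 2) (ZMod p)) =
        (a : ZMod p) := by
  obtain ⟨hyZ, g, hgz, hgy⟩ := hy
  have hz : (F.z : G) ^ p = 1 := by
    rw [← Subgroup.coe_pow, h.pow_p]; rfl
  have hyp : (y : G) ^ p = 1 := by
    rw [← Subgroup.coe_pow, h.pow_p]; rfl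
  have hzy : (F.z : G) * (y : G) = (y : G) * (F.z : G) := by
    have := (Subgroup.mem_center_iff.mp (F.z_mem h)) y
    exact (congrArg Subtype.val this).symm
  -- an element of `P` acting as the upper transvection
  have hky : kv F.κ y ≠ 0 := fun h0 => hyZ ((F.kv_eq_zero_iff y).mp h0)
  obtain ⟨x, hx⟩ : ∃ x : ↥P, (kv F.κ x).1 * (kv F.κ y).2 - (kv F.κ x).2 * (kv F.κ y).1 = 1 := by
    by_cases hd : (kv F.κ y).2 = 0
    · have hc : (kv F.κ y).1 ≠ 0 := by
        intro hc
        apply hky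
        ext
        · exact hc
        · exact hd
      obtain ⟨x, hx⟩ := F.surj (Multiplicative.ofAdd (0, -((kv F.κ y).1)⁻¹))
      refine ⟨x, ?_⟩
      have : kv F.κ x = (0, -((kv F.κ y).1)⁻¹) := by unfold kv; rw [hx]; rfl
      rw [this]
      simp only
      field_simp
      ring
    · obtain ⟨x, hx⟩ := F.surj (Multiplicative.ofAdd (((kv F.κ y).2)⁻¹, 0))
      refine ⟨x, ?_⟩
      have : kv F.κ x = (((kv F.κ y).2)⁻¹, 0) := by unfold kv; rw [hx]; rfl
      rw [this]
      simp only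
      field_simp
      ring
  have hxz := z_conj P F h x
  have hxy := conj_eq_pow_mul P F h x y
  rw [hx, pow_val_one] at hxy
  -- the torus element
  set α : ZMod p := (a : ZMod p) with hα
  set β : ZMod p := ((a⁻¹ : (ZMod p)ˣ) : ZMod p) with hβ
  have hαβ : α * β = 1 := by rw [hα, hβ, ← Units.val_mul, mul_inv_cancel, Units.val_one]
  obtain ⟨t0, ht0⟩ := exists_torus' hz hyp hzy hxz hxy hgz hgy a
  -- Frattini
  obtain ⟨c, hcM, hcn⟩ := frattini_elt P (stabSub (F.z : G) (y : G) p) (le_stabSub P F h y) t0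
    (fun c hc => conj_mem_stabSub hαβ ht0 hc)
  obtain ⟨t, ht⟩ := hcM
  have hn : Acts (F.z : G) (y : G) (c * t0) (fun w => (α * w.1 + t * (β * w.2), β * w.2)) :=
    (ht.mul ht0).congr (fun w => rfl)
  refine ⟨⟨c * t0, hcn⟩, ?_, ?_⟩
  · rw [← rho_act]
    have h1 : (((P : Subgroup G).normalizerMonoidHom ⟨c * t0, hcn⟩ y : ↥P) : G) =
        ((F.z ^ (t * β).val * y ^ β.val : ↥P) : G) := by
      rw [Subgroup.normalizerMonoidHom_apply_apply_coe]
      have := hn (0, 1)
      unfold pt at this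
      simp only [mul_one, mul_zero, ZMod.val_zero, pow_zero, one_mul, zero_add] at this
      rw [pow_val_one] at this
      rw [Subgroup.coe_mul, Subgroup.coe_pow, Subgroup.coe_pow]
      exact this
    rw [Subtype.ext h1, kv_mul, kv_pow_val, kv_pow_val, (F.kv_eq_zero_iff F.z).mpr (F.z_mem h)]
    ext <;> simp
  · have h1 := rho_z P F h ⟨c * t0, hcn⟩
    have h2 := hn (1, 0)
    unfold pt at h2
    simp only [mul_one, mul_zero, ZMod.val_zero, pow_zero, add_zero] at h2
    rw [pow_val_one] at h2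
    have h3 : (c * t0) * (F.z : G) * (c * t0)⁻¹ = (F.z : G) ^ α.val := h2
    have h4 : (F.z : G) ^ (Matrix.det ((rho P F ⟨c * t0, hcn⟩ : GL (Fin 2) (ZMod p)) :
        Matrix (Fin 2) (Fin 2) (ZMod p))).val = (F.z : G) ^ α.val := by
      rw [← h1]; exact h3
    have hz1 : (F.z : G) ≠ 1 := by
      intro h0
      exact F.z_ne_one h (Subtype.ext h0)
    exact pow_val_injective hz hz1 h4

end Good

end Cfsg.Agent.Lib.H15.Xsp
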