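import Mathlib

set_option autoImplicit false

/-!
# Small group facts for the Dickson endgame: cyclic, dihedral, `A₄`, `S₄`, `A₅`
-/

namespace Cfsg.Agent.Lib.H15.Xsp

section Cyclic

variable {D : Type*} [Group D] [Finite D]

theorem mem_zpowers_of_orderOf_dvd [IsCyclic D] {x y : D} (h : orderOf x ∣ orderOf y) :
    x ∈ Subgroup.zpowers y := by
  classical
  haveI := Fintype.ofFinite D
  obtain ⟨m, hm⟩ : ∃ m, m = orderOf y := ⟨_, rfl⟩
  have hm0 : 0 < m := hm ▸ orderOf_pos y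
  have hle := IsCyclic.card_pow_eq_one_le (α := D) hm0
  let T : Finset D := (Finset.range m).image (fun k => y ^ k)
  have hTcard : T.card = m := by
    rw [Finset.card_image_of_injOn, Finset.card_range]
    intro a ha b hb hab
    have ha' : a ∈ Set.Iio (orderOf y) := by
      rw [← hm]; simpa using ha
    have hb' : b ∈ Set.Iio (orderOf y) := by
      rw [← hm]; simpa using hb
    exact pow_injOn_Iio_orderOf ha' hb' hab
  have hTS : T ⊆ Finset.univ.filter (fun a : D => a ^ m = 1) := by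
    intro d hd
    obtain ⟨k, _, rfl⟩ := Finset.mem_image.mp hd
    rw [Finset.mem_filter]
    refine ⟨Finset.mem_univ _, ?_⟩
    rw [← pow_mul, mul_comm, pow_mul, hm, pow_orderOf_eq_one, one_pow]
  have heq := Finset.eq_of_subset_of_card_le hTS (by rw [hTcard]; exact hle)
  have hx : x ∈ Finset.univ.filter (fun a : D => a ^ m = 1) := by
    rw [Finset.mem_filter]
    exact ⟨Finset.mem_univ _, orderOf_dvd_iff_pow_eq_one.mp (hm ▸ h)⟩
  rw [← heq] at hx
  obtain ⟨k, _, rfl⟩ := Finset.mem_image.mp hx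
  exact pow_mem (Subgroup.mem_zpowers y) k

theorem mem_zpowers_of_orderOf_dvd' (R : Subgroup D) [IsCyclic R] {x y : D} (hx : x ∈ R)
    (hy : y ∈ R) (h : orderOf x ∣ orderOf y) : x ∈ Subgroup.zpowers y := by
  have h1 : (⟨x, hx⟩ : ↥R) ∈ Subgroup.zpowers (⟨y, hy⟩ : ↥R) := by
    apply mem_zpowers_of_orderOf_dvd
    rwa [Subgroup.orderOf_mk, Subgroup.orderOf_mk]
  obtain ⟨k, hk⟩ := Subgroup.mem_zpowers_iff.mp h1
  refine Subgroup.mem_zpowers_iff.mpr ⟨k, ?_⟩
  have := congrArg Subtype.val hk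
  simpa using this

/-- three elements of a cyclic subgroup whose cyclic subgroups intersect trivially:
no common divisor of the orders -/
theorem cyc_core (R : Subgroup D) [IsCyclic R] (c : Fin 3 → D) (hc : ∀ i, c i ∈ R)
    (H2 : ∀ d : D, (∀ i, d ∈ Subgroup.zpowers (c i)) → d = 1) (m₀ : ℕ)
    (hm : ∀ i, m₀ ∣ orderOf (c i)) : m₀ = 1 := by
  have ho0 : orderOf (c 0) ≠ 0 := (orderOf_pos (c 0)).ne'
  have hm0 : m₀ ≠ 0 := by
    intro h
    have := hm 0
    rw [h, zero_dvd_iff] at this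
    exact ho0 this
  obtain ⟨n, hn⟩ := hm 0
  have hn0 : n ≠ 0 := by
    rintro rfl
    rw [mul_zero] at hn
    exact ho0 hn
  have hox : orderOf ((c 0) ^ n) = m₀ := by
    rw [orderOf_pow_of_dvd hn0 ⟨m₀, by rw [hn, mul_comm]⟩, hn,
      Nat.mul_div_cancel _ (Nat.pos_of_ne_zero hn0)]
  have hxR : (c 0) ^ n ∈ R := pow_mem (hc 0) n
  have h1 : (c 0) ^ n = 1 := by
    apply H2
    intro i
    apply mem_zpowers_of_orderOf_dvd' R hxR (hc i)
    rw [hox]
    exact hm i
  rw [← hox, h1, orderOf_one]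

end Cyclic

section Dihedral

theorem dih_core {k : ℕ} [NeZero k] (c : Fin 3 → DihedralGroup k)
    (H2 : ∀ d : DihedralGroup k, (∀ i, d ∈ Subgroup.zpowers (c i)) → d = 1) (m₀ : ℕ)
    (hm : ∀ i, m₀ ∣ orderOf (c i)) : m₀ ≤ 2 := by
  by_cases hall : ∀ i, ∃ t, c i = DihedralGroup.r t
  · have h1 : m₀ = 1 := by
      apply cyc_core (Subgroup.zpowers (DihedralGroup.r (1 : ZMod k))) c _ H2 m₀ hm
      intro i
      obtain ⟨t, ht⟩ := hall i
      rw [ht, Subgroup.mem_zpowers_iff]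
      refine ⟨(t.cast : ℤ), ?_⟩
      rw [DihedralGroup.r_one_zpow, ZMod.intCast_zmod_cast]
    omega
  · push Not at hall
    obtain ⟨i, hi⟩ := hall
    cases hci : c i with
    | r t => exact absurd hci (hi t)
    | sr t =>
      have h1 : orderOf (c i) = 2 := by rw [hci]; exact DihedralGroup.orderOf_sr t
      have h2 := hm i
      rw [h1] at h2
      exact Nat.le_of_dvd two_pos h2

end Dihedral

section Transport

variable {D D' : Type*} [Group D] [Group D']

theorem zpowers_transport (ψ : D ≃* D') {x : D} {d' : D'}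
    (h : d' ∈ Subgroup.zpowers (ψ x)) : ψ.symm d' ∈ Subgroup.zpowers x := by
  obtain ⟨n, rfl⟩ := Subgroup.mem_zpowers_iff.mp h
  rw [map_zpow, MulEquiv.symm_apply_apply]
  exact zpow_mem (Subgroup.mem_zpowers x) n

theorem cycdih_bound [Finite D]
    (hD : IsCyclic D ∨ ∃ k : ℕ, Nonempty (D ≃* DihedralGroup k)) (c : Fin 3 → D)
    (H2 : ∀ d : D, (∀ i, d ∈ Subgroup.zpowers (c i)) → d = 1) (m₀ : ℕ)
    (hm : ∀ i, m₀ ∣ orderOf (c i)) : m₀ ≤ 2 := by
  rcases hD with hcyc | ⟨k, ⟨ψ⟩⟩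
  · haveI : IsCyclic (⊤ : Subgroup D) := (Subgroup.topEquiv (G := D)).isCyclic.mpr hcyc
    have := cyc_core (⊤ : Subgroup D) c (fun i => Subgroup.mem_top _) H2 m₀ hm
    omega
  · have hk : k ≠ 0 := by
      rintro rfl
      have h1 : Nat.card D = Nat.card (DihedralGroup 0) := Nat.card_congr ψ.toEquiv
      rw [DihedralGroup.nat_card, mul_zero] at h1
      exact Nat.card_pos.ne' h1
    haveI : NeZero k := ⟨hk⟩
    apply dih_core (fun i => ψ (c i))
    · intro d' hd'
      have h1 : ψ.symm d' = 1 := H2 _ (fun i => zpowers_transport ψ (hd' i))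
      rw [← ψ.apply_symm_apply d', h1, map_one]
    · intro i
      rw [MulEquiv.orderOf_eq]
      exact hm i

end Transport

section Exceptional

set_option maxRecDepth 100000 in
theorem s4_pow : ∀ σ : Equiv.Perm (Fin 4), σ ^ 3 = 1 ∨ σ ^ 4 = 1 := by decide

set_option maxRecDepth 100000 in
theorem a4_pow : ∀ σ : Equiv.Perm (Fin 4), Equiv.Perm.sign σ = 1 → σ ^ 2 = 1 ∨ σ ^ 3 = 1 := by
  decide

set_option maxRecDepth 1000000 in
theorem a5_pow : ∀ σ : Equiv.Perm (Fin 5), Equiv.Perm.sign σ = 1 →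
    σ ^ 2 = 1 ∨ σ ^ 3 = 1 ∨ σ ^ 5 = 1 := by decide

set_option maxRecDepth 100000 in
theorem s4_sq_zero : ∀ σ : Equiv.Perm (Fin 4), σ ^ 4 = 1 → σ ^ 2 ≠ 1 → (σ ^ 2) 0 ≠ 0 := by
  decide

set_option maxRecDepth 1000000 in
theorem s4_same : ∀ σ τ : Equiv.Perm (Fin 4), σ ^ 4 = 1 → σ ^ 2 ≠ 1 → τ ^ 4 = 1 → τ ^ 2 ≠ 1 →
    (σ ^ 2) 0 = (τ ^ 2) 0 → σ = τ ∨ σ = τ⁻¹ := by decide

variable {D : Type*} [Group D]

/-- in a group isomorphic to `A₄`, `S₄` or `A₅`, all element orders are at most `5` -/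
theorem exc_orderOf_le
    (hD : Nonempty (D ≃* alternatingGroup (Fin 4)) ∨ Nonempty (D ≃* Equiv.Perm (Fin 4)) ∨
      Nonempty (D ≃* alternatingGroup (Fin 5))) (x : D) : 0 < orderOf x ∧ orderOf x ≤ 5 := by
  have key : ∃ j : ℕ, 0 < j ∧ j ≤ 5 ∧ x ^ j = 1 := by
    rcases hD with ⟨⟨ψ⟩⟩ | ⟨⟨ψ⟩⟩ | ⟨⟨ψ⟩⟩
    · have h1 := a4_pow (ψ x : Equiv.Perm (Fin 4)) (Equiv.Perm.mem_alternatingGroup.mp (ψ x).2)
      rcases h1 with h1 | h1
      · refine ⟨2, by norm_num, by norm_num, ?_⟩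
        apply ψ.injective
        apply Subtype.ext
        rw [map_pow, Subgroup.coe_pow, h1, map_one]; rfl
      · refine ⟨3, by norm_num, by norm_num, ?_⟩
        apply ψ.injective
        apply Subtype.ext
        rw [map_pow, Subgroup.coe_pow, h1, map_one]; rfl
    · rcases s4_pow (ψ x) with h1 | h1
      · refine ⟨3, by norm_num, by norm_num, ?_⟩
        apply ψ.injective
        rw [map_pow, h1, map_one]
      · refine ⟨4, by norm_num, by norm_num, ?_⟩
        apply ψ.injective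
        rw [map_pow, h1, map_one]
    · have h1 := a5_pow (ψ x : Equiv.Perm (Fin 5)) (Equiv.Perm.mem_alternatingGroup.mp (ψ x).2)
      rcases h1 with h1 | h1 | h1
      · refine ⟨2, by norm_num, by norm_num, ?_⟩
        apply ψ.injective
        apply Subtype.ext
        rw [map_pow, Subgroup.coe_pow, h1, map_one]; rfl
      · refine ⟨3, by norm_num, by norm_num, ?_⟩
        apply ψ.injective
        apply Subtype.ext
        rw [map_pow, Subgroup.coe_pow, h1, map_one]; rfl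
      · refine ⟨5, by norm_num, by norm_num, ?_⟩
        apply ψ.injective
        apply Subtype.ext
        rw [map_pow, Subgroup.coe_pow, h1, map_one]; rfl
  obtain ⟨j, hj0, hj5, hj⟩ := key
  have hd := orderOf_dvd_of_pow_eq_one hj
  have hpos : 0 < orderOf x := Nat.pos_of_dvd_of_pos hd hj0
  exact ⟨hpos, (Nat.le_of_dvd hj0 hd).trans hj5⟩

/-- `A₄` and `A₅` have no elements of order divisible by `4` -/
theorem alt_not_four
    (hD : Nonempty (D ≃* alternatingGroup (Fin 4)) ∨ Nonempty (D ≃* alternatingGroup (Fin 5)))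
    (x : D) : ¬ 4 ∣ orderOf x := by
  have key : x ^ 2 = 1 ∨ x ^ 3 = 1 ∨ x ^ 5 = 1 := by
    rcases hD with ⟨⟨ψ⟩⟩ | ⟨⟨ψ⟩⟩
    · have h1 := a4_pow (ψ x : Equiv.Perm (Fin 4)) (Equiv.Perm.mem_alternatingGroup.mp (ψ x).2)
      rcases h1 with h1 | h1
      · left
        apply ψ.injective
        apply Subtype.ext
        rw [map_pow, Subgroup.coe_pow, h1, map_one]; rfl
      · right; left
        apply ψ.injective
        apply Subtype.ext
        rw [map_pow, Subgroup.coe_pow, h1, map_one]; rfl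
    · have h1 := a5_pow (ψ x : Equiv.Perm (Fin 5)) (Equiv.Perm.mem_alternatingGroup.mp (ψ x).2)
      rcases h1 with h1 | h1 | h1
      · left
        apply ψ.injective
        apply Subtype.ext
        rw [map_pow, Subgroup.coe_pow, h1, map_one]; rfl
      · right; left
        apply ψ.injective
        apply Subtype.ext
        rw [map_pow, Subgroup.coe_pow, h1, map_one]; rfl
      · right; right
        apply ψ.injective
        apply Subtype.ext
        rw [map_pow, Subgroup.coe_pow, h1, map_one]; rfl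
  intro h4
  rcases key with h | h | h
  · have := h4.trans (orderOf_dvd_of_pow_eq_one h); omega
  · have := h4.trans (orderOf_dvd_of_pow_eq_one h); omega
  · have := h4.trans (orderOf_dvd_of_pow_eq_one h); omega

/-- seven elements of order divisible by `4` in `S₄`: three of them generate the same subgroup -/
theorem s4_seven (c : Fin 7 → Equiv.Perm (Fin 4)) (h4 : ∀ i, 4 ∣ orderOf (c i)) :
    ∃ i₁ i₂ i₃ : Fin 7, i₁ ≠ i₂ ∧ i₁ ≠ i₃ ∧ i₂ ≠ i₃ ∧
      c i₁ ∈ Subgroup.zpowers (c i₂) ∧ c i₁ ∈ Subgroup.zpowers (c i₃) := by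
  classical
  have hc4 : ∀ i, (c i) ^ 4 = 1 := by
    intro i
    rcases s4_pow (c i) with h | h
    · have := (h4 i).trans (orderOf_dvd_of_pow_eq_one h); omega
    · exact h
  have hc2 : ∀ i, (c i) ^ 2 ≠ 1 := by
    intro i h
    have := (h4 i).trans (orderOf_dvd_of_pow_eq_one h); omega
  have hmaps : ∀ i ∈ (Finset.univ : Finset (Fin 7)),
      ((c i) ^ 2) 0 ∈ ({1, 2, 3} : Finset (Fin 4)) := by
    intro i _
    have h0 := s4_sq_zero (c i) (hc4 i) (hc2 i)
    generalize ((c i) ^ 2) 0 = v at h0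
    fin_cases v <;> simp at h0 ⊢
  obtain ⟨v, _, hv⟩ := Finset.exists_lt_card_fiber_of_mul_lt_card_of_maps_to
    (n := 2) hmaps (by decide)
  obtain ⟨i₁, hi₁, i₂, hi₂, i₃, hi₃, h12, h13, h23⟩ := Finset.two_lt_card.mp hv
  rw [Finset.mem_filter] at hi₁ hi₂ hi₃
  refine ⟨i₁, i₂, i₃, h12, h13, h23, ?_, ?_⟩
  · rcases s4_same (c i₁) (c i₂) (hc4 _) (hc2 _) (hc4 _) (hc2 _) (by rw [hi₁.2, hi₂.2]) with h | h
    · rw [h]; exact Subgroup.mem_zpowers _
    · rw [h]; exact inv_mem (Subgroup.mem_zpowers _)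
  · rcases s4_same (c i₁) (c i₃) (hc4 _) (hc2 _) (hc4 _) (hc2 _) (by rw [hi₁.2, hi₃.2]) with h | h
    · rw [h]; exact Subgroup.mem_zpowers _
    · rw [h]; exact inv_mem (Subgroup.mem_zpowers _)

end Exceptional

end Cfsg.Agent.Lib.H15.Xsp
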