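import Mathlib
import Cfsg.Agent.Lib.H15.Xsp3
import Cfsg.Agent.Lib.H15.Xsp6
import Cfsg.Agent.Lib.H5.PSL2PPrime
import Cfsg.Agent.S0805

set_option autoImplicit false

/-!
# Subgroups of `GL₂(p)` of order prime to `p` containing torus elements at three points
-/

namespace Cfsg.Agent.Lib.H15.Xsp

open Matrix

variable {p : ℕ} [Fact p.Prime]

/-- cyclic, dihedral, `A₄`, `S₄` or `A₅` -/
def FiveType (D : Type*) [Group D] : Prop :=
  IsCyclic D ∨ (∃ k : ℕ, Nonempty (D ≃* DihedralGroup k)) ∨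
    Nonempty (D ≃* alternatingGroup (Fin 4)) ∨ Nonempty (D ≃* Equiv.Perm (Fin 4)) ∨
    Nonempty (D ≃* alternatingGroup (Fin 5))

theorem FiveType.congr {D D' : Type*} [Group D] [Group D'] (ψ : D ≃* D') (h : FiveType D) :
    FiveType D' := by
  rcases h with h | ⟨k, ⟨e⟩⟩ | ⟨⟨e⟩⟩ | ⟨⟨e⟩⟩ | ⟨⟨e⟩⟩
  · exact Or.inl (ψ.isCyclic.mp h)
  · exact Or.inr (Or.inl ⟨k, ⟨ψ.symm.trans e⟩⟩)
  · exact Or.inr (Or.inr (Or.inl ⟨ψ.symm.trans e⟩))
  · exact Or.inr (Or.inr (Or.inr (Or.inl ⟨ψ.symm.trans e⟩)))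
  · exact Or.inr (Or.inr (Or.inr (Or.inr ⟨ψ.symm.trans e⟩)))

theorem fiveType_of_pgl (hp2 : p ≠ 2) (D : Subgroup (Matrix.ProjGenLinGroup (Fin 2) (ZMod p)))
    (hD : ¬ p ∣ Nat.card D) : FiveType ↥D := by
  classical
  letI : Fintype (GaloisField p 2) := Fintype.ofFinite _
  have hp : p.Prime := Fact.out
  have hcardF : Fintype.card (GaloisField p 2) = p ^ 2 := by
    rw [← Nat.card_eq_fintype_card, GaloisField.card p 2 (by norm_num)]
  have hodd : Odd (p ^ 2) := (hp.odd_of_ne_two hp2).pow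
  obtain ⟨-, h2⟩ := Cfsg.Agent.S0805.result (F := GaloisField p 2) (K := ZMod p) hcardF hodd 2
    (by norm_num) (by rw [ZMod.card])
  obtain ⟨H₀, ⟨ε⟩⟩ := h2.mpr even_two
  let K₀ : Subgroup ↥H₀ := D.comap ε.toMonoidHom
  have e1 : ↥K₀ ≃* ↥(K₀.map H₀.subtype) :=
    K₀.equivMapOfInjective H₀.subtype (Subgroup.subtype_injective _)
  have hmap : K₀.map ε.toMonoidHom = D :=
    Subgroup.map_comap_eq_self_of_surjective ε.surjective D
  have e2 : ↥K₀ ≃* ↥D := (ε.subgroupMap K₀).trans (MulEquiv.subgroupCongr hmap)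
  have ψ : ↥(K₀.map H₀.subtype) ≃* ↥D := e1.symm.trans e2
  have hH : ¬ p ∣ Nat.card ↥(K₀.map H₀.subtype) := by
    rw [Nat.card_congr ψ.toEquiv]; exact hD
  have hoddF : Odd (Fintype.card (GaloisField p 2)) := by rw [hcardF]; exact hodd
  have hcl := Cfsg.Agent.Lib.H5.PSL2PPrime.classify_of_coprime (F := GaloisField p 2) p hoddF
    (K₀.map H₀.subtype) hH
  apply FiveType.congr ψ
  rcases hcl with ⟨h, -⟩ | ⟨k, -, h⟩ | h | h | h
  · exact Or.inl h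
  · exact Or.inr (Or.inl ⟨k, h⟩)
  · exact Or.inr (Or.inr (Or.inl h))
  · exact Or.inr (Or.inr (Or.inr (Or.inl h)))
  · exact Or.inr (Or.inr (Or.inr (Or.inr h)))

/-! ### eigenvectors -/

theorem act_pow_eig {M : Matrix (Fin 2) (Fin 2) (ZMod p)} {w : ZMod p × ZMod p} {μ : ZMod p}
    (h : act M w = (μ * w.1, μ * w.2)) (j : ℕ) : act (M ^ j) w = (μ ^ j * w.1, μ ^ j * w.2) := by
  induction j with
  | zero => simp [act_one]
  | succ j ih =>
    rw [pow_succ, act_mul, h, act_smul, ih]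
    ext <;> simp only <;> ring

theorem act_scalar (u : ZMod p) (w : ZMod p × ZMod p) :
    act (Matrix.scalar (Fin 2) u) w = (u * w.1, u * w.2) := by
  unfold act
  simp [Matrix.scalar_apply, Matrix.diagonal_apply]

/-- `w` is an eigenvector of `M` -/
def IsEig (M : Matrix (Fin 2) (Fin 2) (ZMod p)) (w : ZMod p × ZMod p) : Prop :=
  ∃ μ : ZMod p, act M w = (μ * w.1, μ * w.2)

theorem IsEig.mul {M N : Matrix (Fin 2) (Fin 2) (ZMod p)} {w : ZMod p × ZMod p}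
    (hM : IsEig M w) (hN : IsEig N w) : IsEig (M * N) w := by
  obtain ⟨μ, hμ⟩ := hM
  obtain ⟨ν, hν⟩ := hN
  refine ⟨ν * μ, ?_⟩
  rw [act_mul, hν, act_smul, hμ]
  ext <;> simp only <;> ring

theorem IsEig.pow {M : Matrix (Fin 2) (Fin 2) (ZMod p)} {w : ZMod p × ZMod p}
    (hM : IsEig M w) (j : ℕ) : IsEig (M ^ j) w := by
  obtain ⟨μ, hμ⟩ := hM
  exact ⟨μ ^ j, act_pow_eig hμ j⟩

theorem isEig_scalar (u : ZMod p) (w : ZMod p × ZMod p) : IsEig (Matrix.scalar (Fin 2) u) w :=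
  ⟨u, act_scalar u w⟩

theorem scalar_of_three_eig {M : Matrix (Fin 2) (Fin 2) (ZMod p)}
    (w : Fin 3 → ZMod p × ZMod p)
    (hw : ∀ i j, i ≠ j → (w i).1 * (w j).2 - (w i).2 * (w j).1 ≠ 0)
    (he : ∀ i, IsEig M (w i)) : M 0 1 = 0 ∧ M 1 0 = 0 ∧ M 0 0 = M 1 1 := by
  have hq : ∀ i, M 1 0 * (w i).1 ^ 2 + (M 1 1 - M 0 0) * ((w i).1 * (w i).2) +
      (- M 0 1) * (w i).2 ^ 2 = 0 := by
    intro i
    obtain ⟨μ, hμ⟩ := he i
    unfold act at hμ
    have h1 := congrArg Prod.fst hμ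
    have h2 := congrArg Prod.snd hμ
    simp only at h1 h2
    linear_combination (w i).1 * h2 - (w i).2 * h1
  have E1 := hq 0
  have E2 := hq 1
  have E3 := hq 2
  have h12 := hw 0 1 (by decide)
  have h13 := hw 0 2 (by decide)
  have h23 := hw 1 2 (by decide)
  set x1 := (w 0).1
  set y1 := (w 0).2
  set x2 := (w 1).1
  set y2 := (w 1).2
  set x3 := (w 2).1
  set y3 := (w 2).2
  have hD : (x1 * y2 - y1 * x2) * (x1 * y3 - y1 * x3) * (x2 * y3 - y2 * x3) ≠ 0 :=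
    mul_ne_zero (mul_ne_zero h12 h13) h23
  have hA : M 1 0 * ((x1 * y2 - y1 * x2) * (x1 * y3 - y1 * x3) * (x2 * y3 - y2 * x3)) = 0 := by
    linear_combination (y2 * y3 * (x2 * y3 - y2 * x3)) * E1 -
      (y1 * y3 * (x1 * y3 - y1 * x3)) * E2 + (y1 * y2 * (x1 * y2 - y1 * x2)) * E3
  have hB : (M 1 1 - M 0 0) *
      ((x1 * y2 - y1 * x2) * (x1 * y3 - y1 * x3) * (x2 * y3 - y2 * x3)) = 0 := by
    linear_combination (-(x2 ^ 2 * y3 ^ 2 - y2 ^ 2 * x3 ^ 2)) * E1 +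
      (x1 ^ 2 * y3 ^ 2 - y1 ^ 2 * x3 ^ 2) * E2 - (x1 ^ 2 * y2 ^ 2 - y1 ^ 2 * x2 ^ 2) * E3
  have hC : (- M 0 1) *
      ((x1 * y2 - y1 * x2) * (x1 * y3 - y1 * x3) * (x2 * y3 - y2 * x3)) = 0 := by
    linear_combination (x2 * x3 * (x2 * y3 - y2 * x3)) * E1 -
      (x1 * x3 * (x1 * y3 - y1 * x3)) * E2 + (x1 * x2 * (x1 * y2 - y1 * x2)) * E3
  have hA' := (mul_eq_zero.mp hA).resolve_right hD
  have hB' := (mul_eq_zero.mp hB).resolve_right hD
  have hC' := (mul_eq_zero.mp hC).resolve_right hD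
  refine ⟨neg_eq_zero.mp hC', hA', ?_⟩
  exact (sub_eq_zero.mp hB').symm

theorem mk_eq_one_of_three_eig {g : GL (Fin 2) (ZMod p)} (w : Fin 3 → ZMod p × ZMod p)
    (hw : ∀ i j, i ≠ j → (w i).1 * (w j).2 - (w i).2 * (w j).1 ≠ 0)
    (he : ∀ i, IsEig (g : Matrix (Fin 2) (Fin 2) (ZMod p)) (w i)) :
    Matrix.ProjGenLinGroup.mk g = 1 := by
  obtain ⟨h01, h10, h00⟩ := scalar_of_three_eig w hw he
  rw [Matrix.ProjGenLinGroup.mk_eq_one, Matrix.GeneralLinearGroup.center_eq_range_scalar]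
  have hdet : (g : Matrix (Fin 2) (Fin 2) (ZMod p)).det ≠ 0 := by
    have := (Matrix.isUnit_iff_isUnit_det _).mp g.isUnit
    exact this.ne_zero
  have h0 : (g : Matrix (Fin 2) (Fin 2) (ZMod p)) 0 0 ≠ 0 := by
    intro h0
    apply hdet
    rw [Matrix.det_fin_two, h0, h01]
    ring
  refine ⟨Units.mk0 _ h0, ?_⟩
  apply Units.ext
  rw [Matrix.GeneralLinearGroup.coe_scalar]
  ext i j
  fin_cases i <;> fin_cases j
  · simp [Matrix.scalar_apply]
  · simp [Matrix.scalar_apply, h01]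
  · simp [Matrix.scalar_apply, h10]
  · simp [Matrix.scalar_apply, h00]

instance : Finite (Matrix.ProjGenLinGroup (Fin 2) (ZMod p)) :=
  inferInstanceAs (Finite (GL (Fin 2) (ZMod p) ⧸ Subgroup.center (GL (Fin 2) (ZMod p))))

theorem eq_one_of_mem_zpowers_three {g : Fin 3 → GL (Fin 2) (ZMod p)}
    (w : Fin 3 → ZMod p × ZMod p)
    (hw : ∀ i j, i ≠ j → (w i).1 * (w j).2 - (w i).2 * (w j).1 ≠ 0)
    (he : ∀ i, IsEig ((g i : GL (Fin 2) (ZMod p)) : Matrix (Fin 2) (Fin 2) (ZMod p)) (w i))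
    (d : Matrix.ProjGenLinGroup (Fin 2) (ZMod p))
    (hd : ∀ i, d ∈ Subgroup.zpowers (Matrix.ProjGenLinGroup.mk (g i))) : d = 1 := by
  have hk : ∀ i, ∃ k : ℕ, (Matrix.ProjGenLinGroup.mk (g i)) ^ k = d := by
    intro i
    have := mem_powers_iff_mem_zpowers.mpr (hd i)
    exact Submonoid.mem_powers_iff _ _ |>.mp this
  choose k hk using hk
  have h0 : d = Matrix.ProjGenLinGroup.mk (g 0 ^ k 0) := by rw [map_pow, hk 0]
  rw [h0]
  apply mk_eq_one_of_three_eig w hw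
  intro i
  have h1 : Matrix.ProjGenLinGroup.mk (g i ^ k i) = Matrix.ProjGenLinGroup.mk (g 0 ^ k 0) := by
    rw [map_pow, map_pow, hk i, hk 0]
  rw [Matrix.ProjGenLinGroup.mk_eq_mk_iff] at h1
  obtain ⟨u, hu⟩ := h1
  rw [← hu, Units.val_mul, Matrix.GeneralLinearGroup.coe_scalar, Units.val_pow_eq_pow_val]
  exact ((he i).pow (k i)).mul (isEig_scalar _ _)

theorem pow_three_of_mk_pow_eq_one {g : GL (Fin 2) (ZMod p)} {w : ZMod p × ZMod p} (hw : w ≠ 0)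
    {a : (ZMod p)ˣ}
    (hgw : act (g : Matrix (Fin 2) (Fin 2) (ZMod p)) w =
      (((a⁻¹ : (ZMod p)ˣ) : ZMod p) * w.1, ((a⁻¹ : (ZMod p)ˣ) : ZMod p) * w.2))
    (hdet : Matrix.det (g : Matrix (Fin 2) (Fin 2) (ZMod p)) = (a : ZMod p)) {j : ℕ}
    (hj : (Matrix.ProjGenLinGroup.mk g) ^ j = 1) : a ^ (3 * j) = 1 := by
  rw [← map_pow, Matrix.ProjGenLinGroup.mk_eq_one,
    Matrix.GeneralLinearGroup.center_eq_range_scalar] at hj
  obtain ⟨u, hu⟩ := hj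
  have hu' : Matrix.scalar (Fin 2) (u : ZMod p) = (g : Matrix (Fin 2) (Fin 2) (ZMod p)) ^ j := by
    have := congrArg (fun x : GL (Fin 2) (ZMod p) => (x : Matrix (Fin 2) (Fin 2) (ZMod p))) hu
    simp only [Matrix.GeneralLinearGroup.coe_scalar, Units.val_pow_eq_pow_val] at this
    exact this
  have h1 := act_pow_eig hgw j
  rw [← hu', act_scalar] at h1
  have hu1 : (u : ZMod p) = ((a⁻¹ : (ZMod p)ˣ) : ZMod p) ^ j := by
    by_cases h0 : w.1 = 0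
    · have h2 : w.2 ≠ 0 := by
        intro h2
        apply hw
        ext
        · exact h0
        · exact h2
      exact mul_right_cancel₀ h2 (congrArg Prod.snd h1)
    · exact mul_right_cancel₀ h0 (congrArg Prod.fst h1)
  have hdet' : (a : ZMod p) ^ j = (u : ZMod p) ^ 2 := by
    rw [← hdet, ← Matrix.det_pow, ← hu', Matrix.scalar_apply, Matrix.det_diagonal,
      Fin.prod_univ_two, pow_two]
  have h3 : a ^ j = (a⁻¹) ^ (2 * j) := by
    apply Units.ext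
    rw [Units.val_pow_eq_pow_val, Units.val_pow_eq_pow_val, hdet', hu1, ← pow_mul, mul_comm]
  calc a ^ (3 * j) = a ^ j * a ^ (2 * j) := by rw [← pow_add]; congr 1; ring
    _ = (a⁻¹) ^ (2 * j) * a ^ (2 * j) := by rw [h3]
    _ = 1 := by rw [← mul_pow, inv_mul_cancel, one_pow]

end Cfsg.Agent.Lib.H15.Xsp
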