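import Mathlib
import Cfsg.Agent.Lib.H15.Xsp7

set_option autoImplicit false

/-!
# The Dickson endgame: torus elements at three (resp. seven) points
-/

namespace Cfsg.Agent.Lib.H15.Xsp

open Matrix

variable {p : ℕ} [Fact p.Prime]

theorem setup {ι : Type*} (hp2 : p ≠ 2) (𝒟 : Subgroup (GL (Fin 2) (ZMod p)))
    (h𝒟 : ¬ p ∣ Nat.card 𝒟) (a : (ZMod p)ˣ) (w : ι → ZMod p × ZMod p) (hwne : ∀ i, w i ≠ 0)
    (hg : ∀ i, ∃ g ∈ 𝒟, act (g : Matrix (Fin 2) (Fin 2) (ZMod p)) (w i) =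
      (((a⁻¹ : (ZMod p)ˣ) : ZMod p) * (w i).1, ((a⁻¹ : (ZMod p)ˣ) : ZMod p) * (w i).2) ∧
      Matrix.det (g : Matrix (Fin 2) (Fin 2) (ZMod p)) = (a : ZMod p)) :
    ∃ (D : Type) (_ : Group D) (_ : Finite D), FiveType D ∧ ∃ c : ι → D,
      (∀ i, orderOf (a ^ 3) ∣ orderOf (c i)) ∧
      ∀ t : Fin 3 → ι,
        (∀ k l, k ≠ l → (w (t k)).1 * (w (t l)).2 - (w (t k)).2 * (w (t l)).1 ≠ 0) →
        ∀ d : D, (∀ k, d ∈ Subgroup.zpowers (c (t k))) → d = 1 := by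
  classical
  choose g hg𝒟 hgw hgdet using hg
  obtain ⟨Dbar, hDbar⟩ : ∃ Dbar : Subgroup (Matrix.ProjGenLinGroup (Fin 2) (ZMod p)),
    Dbar = 𝒟.map (Matrix.ProjGenLinGroup.mk) := ⟨_, rfl⟩
  have hcop : ¬ p ∣ Nat.card Dbar := by
    intro h
    apply h𝒟
    rw [hDbar] at h
    exact h.trans (Subgroup.card_dvd_of_surjective _
      (MonoidHom.subgroupMap_surjective Matrix.ProjGenLinGroup.mk 𝒟))
  have hfive := fiveType_of_pgl hp2 Dbar hcop
  have hmem : ∀ i, Matrix.ProjGenLinGroup.mk (g i) ∈ Dbar := by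
    intro i
    rw [hDbar]
    exact Subgroup.mem_map_of_mem _ (hg𝒟 i)
  refine ⟨↥Dbar, inferInstance, inferInstance, hfive, fun i => ⟨_, hmem i⟩, ?_, ?_⟩
  · intro i
    apply orderOf_dvd_of_pow_eq_one
    rw [← pow_mul]
    apply pow_three_of_mk_pow_eq_one (hwne i) (hgw i) (hgdet i)
    have h1 := pow_orderOf_eq_one (⟨_, hmem i⟩ : ↥Dbar)
    have h2 := congrArg Subtype.val h1
    rw [Subgroup.coe_pow] at h2
    exact h2
  · intro t ht d hd
    apply Subtype.ext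
    apply eq_one_of_mem_zpowers_three (g := fun k => g (t k)) (fun k => w (t k)) ht
      (fun k => ⟨_, hgw (t k)⟩) d.1
    intro k
    obtain ⟨n, hn⟩ := Subgroup.mem_zpowers_iff.mp (hd k)
    rw [Subgroup.mem_zpowers_iff]
    refine ⟨n, ?_⟩
    have := congrArg Subtype.val hn
    rw [Subgroup.coe_zpow] at this
    exact this

/-- three points with torus elements: the order of `a³` is at most `5` -/
theorem main3 (hp2 : p ≠ 2) (𝒟 : Subgroup (GL (Fin 2) (ZMod p)))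
    (h𝒟 : ¬ p ∣ Nat.card 𝒟) (a : (ZMod p)ˣ) (w : Fin 3 → ZMod p × ZMod p)
    (hw : ∀ i j, i ≠ j → (w i).1 * (w j).2 - (w i).2 * (w j).1 ≠ 0)
    (hg : ∀ i, ∃ g ∈ 𝒟, act (g : Matrix (Fin 2) (Fin 2) (ZMod p)) (w i) =
      (((a⁻¹ : (ZMod p)ˣ) : ZMod p) * (w i).1, ((a⁻¹ : (ZMod p)ˣ) : ZMod p) * (w i).2) ∧
      Matrix.det (g : Matrix (Fin 2) (Fin 2) (ZMod p)) = (a : ZMod p)) :
    orderOf (a ^ 3) ≤ 5 := by
  have hwne : ∀ i, w i ≠ 0 := by
    intro i h0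
    have := hw i (i + 1) (by fin_cases i <;> decide)
    rw [h0] at this
    simp at this
  obtain ⟨D, _, _, hfive, c, hA, hB⟩ := setup hp2 𝒟 h𝒟 a w hwne hg
  have hB' : ∀ d : D, (∀ i, d ∈ Subgroup.zpowers (c i)) → d = 1 :=
    fun d hd => hB id hw d hd
  rcases hfive with h | h | h
  · have := cycdih_bound (Or.inl h) c hB' _ hA; omega
  · have := cycdih_bound (Or.inr h) c hB' _ hA; omega
  · have h5 := exc_orderOf_le h (c 0)
    exact (Nat.le_of_dvd h5.1 (hA 0)).trans h5.2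

/-- seven points with torus elements: the order of `a³` is not divisible by `4` -/
theorem main7 (hp2 : p ≠ 2) (𝒟 : Subgroup (GL (Fin 2) (ZMod p)))
    (h𝒟 : ¬ p ∣ Nat.card 𝒟) (a : (ZMod p)ˣ) (h4 : 4 ∣ orderOf (a ^ 3))
    (w : Fin 7 → ZMod p × ZMod p)
    (hw : ∀ i j, i ≠ j → (w i).1 * (w j).2 - (w i).2 * (w j).1 ≠ 0)
    (hg : ∀ i, ∃ g ∈ 𝒟, act (g : Matrix (Fin 2) (Fin 2) (ZMod p)) (w i) =
      (((a⁻¹ : (ZMod p)ˣ) : ZMod p) * (w i).1, ((a⁻¹ : (ZMod p)ˣ) : ZMod p) * (w i).2) ∧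
      Matrix.det (g : Matrix (Fin 2) (Fin 2) (ZMod p)) = (a : ZMod p)) : False := by
  have hwne : ∀ i, w i ≠ 0 := by
    intro i h0
    have := hw i (i + 1) (by fin_cases i <;> decide)
    rw [h0] at this
    simp at this
  obtain ⟨D, _, _, hfive, c, hA, hB⟩ := setup hp2 𝒟 h𝒟 a w hwne hg
  have hA4 : ∀ i, 4 ∣ orderOf (c i) := fun i => h4.trans (hA i)
  have hcd : IsCyclic D ∨ (∃ k : ℕ, Nonempty (D ≃* DihedralGroup k)) → False := by
    intro h
    have hinj : Function.Injective (![0, 1, 2] : Fin 3 → Fin 7) := by decide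
    have := cycdih_bound h (fun k => c ((![0, 1, 2] : Fin 3 → Fin 7) k))
      (fun d hd => hB _ (fun k l hkl => hw _ _ (hinj.ne hkl)) d hd) 4 (fun k => hA4 _)
    omega
  rcases hfive with h | h | h | h | h
  · exact hcd (Or.inl h)
  · exact hcd (Or.inr h)
  · exact alt_not_four (Or.inl h) (c 0) (hA4 0)
  · obtain ⟨ψ⟩ := h
    obtain ⟨i₁, i₂, i₃, h12, h13, h23, hm2, hm3⟩ := s4_seven (fun i => ψ (c i))
      (fun i => by rw [MulEquiv.orderOf_eq]; exact hA4 i)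
    have hm2' : c i₁ ∈ Subgroup.zpowers (c i₂) := by
      have := zpowers_transport ψ hm2
      rwa [MulEquiv.symm_apply_apply] at this
    have hm3' : c i₁ ∈ Subgroup.zpowers (c i₃) := by
      have := zpowers_transport ψ hm3
      rwa [MulEquiv.symm_apply_apply] at this
    have hne : ∀ k l : Fin 3, k ≠ l → (![i₁, i₂, i₃] : Fin 3 → Fin 7) k ≠ ![i₁, i₂, i₃] l := by
      intro k l hkl
      fin_cases k <;> fin_cases l <;> simp at hkl ⊢ <;> first | exact h12 | exact h13 | exact h23 | exact h12.symm | exact h13.symm | exact h23.symm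
    have h1 : c i₁ = 1 := by
      apply hB ![i₁, i₂, i₃] (fun k l hkl => hw _ _ (hne k l hkl))
      intro k
      fin_cases k
      · exact Subgroup.mem_zpowers _
      · exact hm2'
      · exact hm3'
    have := hA4 i₁
    rw [h1, orderOf_one] at this
    omega
  · exact alt_not_four (Or.inr h) (c 0) (hA4 0)

end Cfsg.Agent.Lib.H15.Xsp
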