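import Mathlib
import Cfsg.Agent.Lib.H15.Xsp5
import Cfsg.Agent.Lib.H15.Xsp8

set_option autoImplicit false

/-!
# Extraspecial Sylow subgroups of order `p³`: bounds on `p` from good elements
-/

namespace Cfsg.Agent.Lib.H15.Xsp

open scoped commutatorElement Pointwise

variable {p : ℕ} [Fact p.Prime]

section Core

variable {G : Type*} [Group G] [Finite G] (P : Sylow p G) (F : Frame p ↥P)

theorem bound3 (hp2 : p ≠ 2) (h : Hyp p ↥P) (y : Fin 3 → ↥P) (hy : ∀ i, Good P F (y i))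
    (hind : ∀ i j, i ≠ j →
      (kv F.κ (y i)).1 * (kv F.κ (y j)).2 - (kv F.κ (y i)).2 * (kv F.κ (y j)).1 ≠ 0)
    (a : (ZMod p)ˣ) : orderOf (a ^ 3) ≤ 5 := by
  apply main3 hp2 (rho P F).range (rho_coprime P F) a (fun i => kv F.κ (y i)) hind
  intro i
  obtain ⟨n, hn1, hn2⟩ := exists_torus_normalizer P F h (hy i) a
  exact ⟨rho P F n, ⟨n, rfl⟩, hn1, hn2⟩

theorem bound7 (hp2 : p ≠ 2) (h : Hyp p ↥P) (y : Fin 7 → ↥P) (hy : ∀ i, Good P F (y i))
    (hind : ∀ i j, i ≠ j →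
      (kv F.κ (y i)).1 * (kv F.κ (y j)).2 - (kv F.κ (y i)).2 * (kv F.κ (y j)).1 ≠ 0)
    (a : (ZMod p)ˣ) (h4 : 4 ∣ orderOf (a ^ 3)) : False := by
  apply main7 hp2 (rho P F).range (rho_coprime P F) a h4 (fun i => kv F.κ (y i)) hind
  intro i
  obtain ⟨n, hn1, hn2⟩ := exists_torus_normalizer P F h (hy i) a
  exact ⟨rho P F n, ⟨n, rfl⟩, hn1, hn2⟩

end Core

section Arith

theorem exists_gen : ∃ a : (ZMod p)ˣ, orderOf a = p - 1 := by
  obtain ⟨a, ha⟩ := IsCyclic.exists_ofOrder_eq_natCard (α := (ZMod p)ˣ)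
  refine ⟨a, ?_⟩
  rw [ha, Nat.card_eq_fintype_card, ZMod.card_units]

theorem orderOf_cube {a : (ZMod p)ˣ} (ha : orderOf a = p - 1) :
    orderOf (a ^ 3) = (p - 1) / (p - 1).gcd 3 := by
  rw [orderOf_pow, ha]

/-- the arithmetic conclusion from three good elements -/
theorem prime_cases (hle : (p - 1) / (p - 1).gcd 3 ≤ 5) :
    p = 2 ∨ p = 3 ∨ p = 5 ∨ p = 7 ∨ p = 13 := by
  have hp : p.Prime := Fact.out
  have hp16 : p ≤ 16 := by
    by_contra hcon
    push Not at hcon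
    have hg : (p - 1).gcd 3 ∣ 3 := Nat.gcd_dvd_right _ _
    have hg0 : 0 < (p - 1).gcd 3 := Nat.gcd_pos_of_pos_right _ (by norm_num)
    have hdvd : (p - 1).gcd 3 ∣ p - 1 := Nat.gcd_dvd_left _ _
    have h6 : 6 ≤ (p - 1) / (p - 1).gcd 3 := by
      rw [Nat.le_div_iff_mul_le hg0]
      rcases (Nat.dvd_prime Nat.prime_three).mp hg with h1 | h3
      · rw [h1]; omega
      · rw [h3] at hdvd ⊢
        obtain ⟨q, hq⟩ := hdvd
        omega
    omega
  have hp2 := hp.two_le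
  interval_cases p <;>
    first
    | (exfalso; revert hp; norm_num; done)
    | (exfalso; revert hle; decide)
    | simp

end Arith

section Conj

variable {G : Type*} [Group G] [Finite G]

/-- a `p`-subgroup of `M` is contained in an `M`-conjugate of a Sylow subgroup lying in `M` -/
theorem sylow_conj_in (M : Subgroup G) (Q : Sylow p G) (hQM : (Q : Subgroup G) ≤ M)
    (R : Subgroup G) (hRM : R ≤ M) (hR : IsPGroup p R) :
    ∃ c ∈ M, ∀ r ∈ R, c⁻¹ * r * c ∈ (Q : Subgroup G) := by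
  have hR' : IsPGroup p (R.subgroupOf M) :=
    hR.of_injective (R.subgroupOfEquivOfLe hRM).toMonoidHom (R.subgroupOfEquivOfLe hRM).injective
  obtain ⟨S, hS⟩ := hR'.exists_le_sylow
  obtain ⟨c, hc⟩ := MulAction.exists_smul_eq ↥M (Q.subtype hQM) S
  refine ⟨c, c.2, ?_⟩
  intro r hr
  have h1 : (⟨r, hRM hr⟩ : ↥M) ∈ (S : Subgroup ↥M) := hS (Subgroup.mem_subgroupOf.mpr hr)
  rw [← hc, Sylow.smul_def, Sylow.pointwise_smul_def,
    Subgroup.mem_pointwise_smul_iff_inv_smul_mem, Sylow.coe_subtype,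
    Subgroup.mem_subgroupOf] at h1
  have h2 : (((MulAut.conj c)⁻¹ • (⟨r, hRM hr⟩ : ↥M) : ↥M) : G) = (c : G)⁻¹ * r * (c : G) := by
    rw [MulAut.smul_def, ← map_inv, MulAut.conj_apply]
    simp
  rwa [h2] at h1

variable (P : Sylow p G) (F : Frame p ↥P)

/-- if `v ∈ P ∖ Z(P)` is conjugate to the generator of the centre then `v` is good -/
theorem good_of_conj (h : Hyp p ↥P) (v : ↥P) (hv : v ∉ Subgroup.center ↥P)
    (hconj : ∃ g : G, g * (F.z : G) * g⁻¹ = (v : G)) : Good P F v := by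
  refine ⟨hv, ?_⟩
  obtain ⟨g₀, hg₀⟩ := hconj
  have hzv : (F.z : G) * (v : G) = (v : G) * (F.z : G) := by
    have := (Subgroup.mem_center_iff.mp (F.z_mem h)) v
    exact (congrArg Subtype.val this).symm
  -- the Sylow subgroup g₀ P g₀⁻¹ centralizes v
  have hQC : ((g₀ • P : Sylow p G) : Subgroup G) ≤ Subgroup.centralizer {(v : G)} := by
    intro x hx
    rw [Sylow.coe_subgroup_smul, Subgroup.mem_pointwise_smul_iff_inv_smul_mem] at hx
    rw [MulAut.smul_def, ← map_inv, MulAut.conj_apply, inv_inv] at hx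
    rw [Subgroup.mem_centralizer_singleton_iff, ← hg₀]
    have h1 := z_conj P F h ⟨_, hx⟩
    simp only at h1
    have h2 : g₀⁻¹ * x * g₀ * (F.z : G) = (F.z : G) * (g₀⁻¹ * x * g₀) :=
      mul_inv_eq_iff_eq_mul.mp h1
    calc x * (g₀ * (F.z : G) * g₀⁻¹) = g₀ * (g₀⁻¹ * x * g₀ * (F.z : G)) * g₀⁻¹ := by group
      _ = g₀ * ((F.z : G) * (g₀⁻¹ * x * g₀)) * g₀⁻¹ := by rw [h2]
      _ = g₀ * (F.z : G) * g₀⁻¹ * x := by group
  have hRC : (P : Subgroup G) ⊓ Subgroup.centralizer {(v : G)} ≤ Subgroup.centralizer {(v : G)} :=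
    inf_le_right
  have hR : IsPGroup p ↥((P : Subgroup G) ⊓ Subgroup.centralizer {(v : G)}) :=
    P.2.to_le inf_le_left
  obtain ⟨c, hcC, hc⟩ := sylow_conj_in (Subgroup.centralizer {(v : G)}) (g₀ • P) hQC _ hRC hR
  -- k = c g₀ : k⁻¹ C_P(v) k ≤ P, k z k⁻¹ = v
  have hcv : c * (v : G) * c⁻¹ = (v : G) := by
    rw [Subgroup.mem_centralizer_singleton_iff] at hcC
    rw [hcC, mul_inv_cancel_right]
  have hk : ∀ r ∈ (P : Subgroup G) ⊓ Subgroup.centralizer {(v : G)},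
      (c * g₀)⁻¹ * r * (c * g₀) ∈ (P : Subgroup G) := by
    intro r hr
    have h1 := hc r hr
    rw [Sylow.coe_subgroup_smul, Subgroup.mem_pointwise_smul_iff_inv_smul_mem,
      MulAut.smul_def, ← map_inv, MulAut.conj_apply, inv_inv] at h1
    have : (c * g₀)⁻¹ * r * (c * g₀) = g₀⁻¹ * (c⁻¹ * r * c) * g₀ := by group
    rw [this]; exact h1
  have hkz : (c * g₀) * (F.z : G) * (c * g₀)⁻¹ = (v : G) := by
    have : (c * g₀) * (F.z : G) * (c * g₀)⁻¹ = c * (g₀ * (F.z : G) * g₀⁻¹) * c⁻¹ := by group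
    rw [this, hg₀, hcv]
  set k := c * g₀ with hkdef
  have hzmem : (F.z : G) ∈ (P : Subgroup G) ⊓ Subgroup.centralizer {(v : G)} := by
    refine Subgroup.mem_inf.2 ⟨F.z.2, ?_⟩
    rw [Subgroup.mem_centralizer_singleton_iff]
    exact hzv
  -- z' = k⁻¹ z k ∈ P ∖ Z
  obtain ⟨z', hz'⟩ : ∃ z' : ↥P, (z' : G) = k⁻¹ * (F.z : G) * k := ⟨⟨_, hk _ hzmem⟩, rfl⟩
  have hz : (F.z : G) ^ p = 1 := by
    rw [← Subgroup.coe_pow, h.pow_p]; rfl
  have hz'Z : z' ∉ Subgroup.center ↥P := by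
    intro hcen
    obtain ⟨s, hs⟩ := F.exists_pow_of_mem_center h hcen
    have h1 : (z' : G) = (F.z : G) ^ s.val := by rw [hs]; rfl
    -- z = k z' k⁻¹ = v^s
    have h2 : (F.z : G) = (v : G) ^ s.val := by
      have : (F.z : G) = k * (z' : G) * k⁻¹ := by rw [hz']; group
      rw [this, h1, ← conj_pow, hkz]
    have hs0 : s ≠ 0 := by
      rintro rfl
      rw [ZMod.val_zero, pow_zero] at h2
      exact F.z_ne_one h (Subtype.ext h2)
    apply hv
    have h3 : (v : G) = (F.z : G) ^ (s⁻¹).val := by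
      have hvp : (v : G) ^ p = 1 := by
        rw [← Subgroup.coe_pow, h.pow_p]; rfl
      rw [h2, pow_val_inv_cancel hvp hs0]
    have h4 : v = F.z ^ (s⁻¹).val := Subtype.ext (by rw [h3]; rfl)
    rw [h4]
    exact pow_mem (F.z_mem h) _
  have hkz' : kv F.κ z' ≠ 0 := fun h0 => hz'Z ((F.kv_eq_zero_iff z').mp h0)
  -- x ∈ P with x z' x⁻¹ = z z'
  obtain ⟨x, hx⟩ : ∃ x : ↥P,
      (kv F.κ x).1 * (kv F.κ z').2 - (kv F.κ x).2 * (kv F.κ z').1 = 1 := by
    by_cases hd : (kv F.κ z').2 = 0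
    · have hc : (kv F.κ z').1 ≠ 0 := by
        intro hc
        apply hkz'
        ext
        · exact hc
        · exact hd
      obtain ⟨x, hx⟩ := F.surj (Multiplicative.ofAdd (0, -((kv F.κ z').1)⁻¹))
      refine ⟨x, ?_⟩
      have : kv F.κ x = (0, -((kv F.κ z').1)⁻¹) := by unfold kv; rw [hx]; rfl
      rw [this]
      simp only
      field_simp
      ring
    · obtain ⟨x, hx⟩ := F.surj (Multiplicative.ofAdd (((kv F.κ z').2)⁻¹, 0))
      refine ⟨x, ?_⟩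
      have : kv F.κ x = (((kv F.κ z').2)⁻¹, 0) := by unfold kv; rw [hx]; rfl
      rw [this]
      simp only
      field_simp
      ring
  have hxz := z_conj P F h x
  have hxz' := conj_eq_pow_mul P F h x z'
  rw [hx, pow_val_one] at hxz'
  refine ⟨k * (x : G) * k⁻¹, ?_, ?_⟩
  · -- (k x k⁻¹) z (k x k⁻¹)⁻¹ = k (x z' x⁻¹) k⁻¹ = k z z' k⁻¹ = v z
    have h1 : k * (x : G) * k⁻¹ * (F.z : G) * (k * (x : G) * k⁻¹)⁻¹ =
        k * ((x : G) * (z' : G) * (x : G)⁻¹) * k⁻¹ := by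
      rw [hz']; group
    rw [h1, hxz']
    have h2 : k * ((F.z : G) * (z' : G)) * k⁻¹ = (k * (F.z : G) * k⁻¹) * (k * (z' : G) * k⁻¹) := by
      group
    rw [h2, hkz, hz']
    have h3 : k * (k⁻¹ * (F.z : G) * k) * k⁻¹ = (F.z : G) := by group
    rw [h3, hzv]
  · have h1 : k * (x : G) * k⁻¹ * (v : G) * (k * (x : G) * k⁻¹)⁻¹ =
        k * ((x : G) * (k⁻¹ * (v : G) * k) * (x : G)⁻¹) * k⁻¹ := by group
    have h2 : k⁻¹ * (v : G) * k = (F.z : G) := by rw [← hkz]; group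
    rw [h1, h2, hxz, hkz]

end Conj

end Cfsg.Agent.Lib.H15.Xsp
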