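import Mathlib
import Cfsg.Agent.Lib.H15.Xsp9

set_option autoImplicit false

/-!
# Planes of an extraspecial Sylow subgroup with `SL₂` acting give good elements
-/

namespace Cfsg.Agent.Lib.H15.Xsp

open scoped commutatorElement Pointwise

variable {p : ℕ} [Fact p.Prime]

theorem exists_proportional {w w' : ZMod p × ZMod p} (hw' : w' ≠ 0)
    (hdet : w.1 * w'.2 - w.2 * w'.1 = 0) : ∃ t : ZMod p, w = (t * w'.1, t * w'.2) := by
  by_cases h1 : w'.1 = 0
  · have h2 : w'.2 ≠ 0 := by
      intro h2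
      apply hw'
      ext
      · exact h1
      · exact h2
    rw [h1, mul_zero, sub_zero] at hdet
    have hw1 : w.1 = 0 := (mul_eq_zero.mp hdet).resolve_right h2
    refine ⟨w.2 / w'.2, ?_⟩
    ext
    · simp only; rw [h1, mul_zero, hw1]
    · simp only; field_simp
  · refine ⟨w.1 / w'.1, ?_⟩
    ext
    · simp only; field_simp
    · simp only
      field_simp
      linear_combination -hdet

/-- the lower transvection as an additive automorphism -/
def tYe (p : ℕ) [Fact p.Prime] : (ZMod p × ZMod p) ≃+ (ZMod p × ZMod p) where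
  toFun := tY 1
  invFun := tY (-1)
  left_inv w := by
    simp only [tY]
    ext
    · rfl
    · simp only; ring
  right_inv w := by
    simp only [tY]
    ext
    · rfl
    · simp only; ring
  map_add' w w' := by
    simp only [tY]
    ext
    · rfl
    · simp only [Prod.fst_add, Prod.snd_add]; ring

section Coatom

variable {Q : Type*} [Group Q] [Finite Q]

theorem center_le_of_card (h : Hyp p Q) (hfrat : frattini Q = Subgroup.center Q)
    (A : Subgroup Q) (hA : Nat.card A = p ^ 2) : Subgroup.center Q ≤ A := by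
  have hp : p.Prime := Fact.out
  rw [← hfrat]
  apply frattini_le_coatom
  constructor
  · intro htop
    rw [htop, Subgroup.card_top, h.card] at hA
    have := Nat.pow_right_injective hp.two_le hA
    omega
  · intro L hL
    have h1 : Nat.card A ∣ Nat.card L := Subgroup.card_dvd_of_le hL.le
    have h2 : Nat.card L ∣ p ^ 3 := h.card ▸ Subgroup.card_subgroup_dvd_card L
    obtain ⟨k, hk3, hk⟩ := (Nat.dvd_prime_pow hp).mp h2
    rw [hA, hk] at h1
    have hk2 : 2 ≤ k := (Nat.pow_dvd_pow_iff_le_right hp.one_lt).mp h1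
    have hk' : k = 2 ∨ k = 3 := by omega
    rcases hk' with rfl | rfl
    · exfalso
      have := Subgroup.eq_of_le_of_card_ge hL.le (by rw [hA, hk])
      exact hL.ne this
    · apply Subgroup.eq_top_of_card_eq
      rw [hk, h.card]

end Coatom

section SL

variable {G : Type*} [Group G] [Finite G] (P : Sylow p G) (F : Frame p ↥P)

theorem good_of_SL (h : Hyp p ↥P) (hfrat : frattini ↥P = Subgroup.center ↥P)
    (A : Subgroup G) (hAP : A ≤ (P : Subgroup G)) (hAcard : Nat.card A = p ^ 2)
    (hSL : ∀ φ : MulAut ↥A, orderOf φ = p →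
      ∃ g : G, ∀ a : ↥A, (φ a : G) = g * (a : G) * g⁻¹) :
    ∃ y : ↥P, (y : G) ∈ A ∧ (F.z : G) ∈ A ∧ Good P F y ∧
      ∀ x ∈ A, ∃ u v : ZMod p, x = (F.z : G) ^ u.val * (y : G) ^ v.val := by
  classical
  have hp : p.Prime := Fact.out
  -- the centre lies in `A`
  have hA'card : Nat.card (A.subgroupOf (P : Subgroup G)) = p ^ 2 := by
    rw [Nat.card_congr (Subgroup.subgroupOfEquivOfLe hAP).toEquiv, hAcard]
  have hcen := center_le_of_card h hfrat (A.subgroupOf (P : Subgroup G)) hA'card
  have hzA : (F.z : G) ∈ A := Subgroup.mem_subgroupOf.mp (hcen (F.z_mem h))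
  -- an element of `A` outside the centre
  obtain ⟨y, hyA', hyZ⟩ : ∃ y ∈ A.subgroupOf (P : Subgroup G), y ∉ Subgroup.center ↥P := by
    by_contra hcon
    push Not at hcon
    have hle : A.subgroupOf (P : Subgroup G) ≤ Subgroup.center ↥P := hcon
    have h3 : p ^ 2 ≤ p := by
      calc p ^ 2 = Nat.card ↥(A.subgroupOf (P : Subgroup G)) := hA'card.symm
        _ ≤ Nat.card ↥(Subgroup.center ↥P) := Subgroup.card_le_of_le hle
        _ = p := h.card_center
    have h2 : p ^ 1 < p ^ 2 := Nat.pow_lt_pow_right hp.one_lt (by norm_num)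
    rw [pow_one] at h2
    omega
  have hyA : (y : G) ∈ A := Subgroup.mem_subgroupOf.mp hyA'
  -- coordinates on `A`
  have hcomm : ∀ a b : ↥A, a * b = b * a := by
    intro a b
    exact (IsPGroup.isMulCommutative_of_card_eq_prime_sq hAcard).is_comm.comm a b
  have hexp : ∀ a : ↥A, a ^ p = 1 := by
    intro a
    apply Subtype.ext
    have h1 := h.pow_p ⟨(a : G), hAP a.2⟩
    have h2 := congrArg Subtype.val h1
    rw [Subgroup.coe_pow] at h2 ⊢
    exact h2
  have hz1 : (⟨(F.z : G), hzA⟩ : ↥A) ≠ 1 := by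
    intro h0
    have h1 := congrArg Subtype.val h0
    exact F.z_ne_one h (Subtype.ext h1)
  have hyz : (⟨(y : G), hyA⟩ : ↥A) ∉ Subgroup.zpowers (⟨(F.z : G), hzA⟩ : ↥A) := by
    intro hmem
    obtain ⟨k, hk⟩ := Subgroup.mem_zpowers_iff.mp hmem
    apply hyZ
    have h1 := congrArg Subtype.val hk
    rw [Subgroup.coe_zpow] at h1
    have h2 : y = F.z ^ k := by
      apply Subtype.ext
      rw [Subgroup.coe_zpow]
      exact h1.symm
    rw [h2]
    exact zpow_mem (F.z_mem h) k
  obtain ⟨e, he⟩ := exists_coord hAcard hcomm hexp hz1 hyz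
  -- the automorphism
  let φ : MulAut ↥A := e.symm.trans ((AddEquiv.toMultiplicative (tYe p)).trans e)
  have hφ : ∀ w : ZMod p × ZMod p,
      φ (e (Multiplicative.ofAdd w)) = e (Multiplicative.ofAdd (tY 1 w)) := by
    intro w
    show e ((AddEquiv.toMultiplicative (tYe p)) (e.symm (e (Multiplicative.ofAdd w)))) = _
    rw [MulEquiv.symm_apply_apply]
    rfl
  have hφk : ∀ (k : ℕ) (w : ZMod p × ZMod p),
      (φ ^ k) (e (Multiplicative.ofAdd w)) = e (Multiplicative.ofAdd (tY (k : ZMod p) w)) := by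
    intro k
    induction k with
    | zero =>
      intro w
      rw [pow_zero, MulAut.one_apply]
      congr 2
      simp [tY]
    | succ k ih =>
      intro w
      rw [pow_succ', MulAut.mul_apply, ih, hφ]
      congr 2
      simp only [tY, Nat.cast_succ]
      ext
      · rfl
      · simp only; ring
  have hφp : φ ^ p = 1 := by
    apply MulEquiv.ext
    intro x
    obtain ⟨w, rfl⟩ := e.surjective x
    obtain ⟨w, rfl⟩ : ∃ w' : ZMod p × ZMod p, Multiplicative.ofAdd w' = w := ⟨_, rfl⟩
    rw [hφk, MulAut.one_apply]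
    congr 2
    simp [tY]
  have hφ1 : φ ≠ 1 := by
    intro h1
    have h2 := hφ (1, 0)
    rw [h1, MulAut.one_apply] at h2
    have h3 := e.injective h2
    have h4 : ((1 : ZMod p), (0 : ZMod p)) = tY 1 (1, 0) := Multiplicative.ofAdd.injective h3
    simp only [tY, mul_one, zero_add] at h4
    have h5 := congrArg Prod.snd h4
    simp only at h5
    exact zero_ne_one h5
  obtain ⟨g, hg⟩ := hSL φ (orderOf_eq_prime hφp hφ1)
  have hez : e (Multiplicative.ofAdd ((1 : ZMod p), (0 : ZMod p))) = ⟨(F.z : G), hzA⟩ := by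
    rw [he, pow_val_one, pow_val_zero, mul_one]
  have hey : e (Multiplicative.ofAdd ((0 : ZMod p), (1 : ZMod p))) = ⟨(y : G), hyA⟩ := by
    rw [he, pow_val_one, pow_val_zero, one_mul]
  refine ⟨y, hyA, hzA, ⟨hyZ, g, ?_, ?_⟩, ?_⟩
  · have h1 := hg ⟨(F.z : G), hzA⟩
    rw [← hez, hφ] at h1
    simp only [tY, mul_one, zero_add] at h1
    rw [he, pow_val_one, pow_val_one] at h1
    rw [hez] at h1
    rw [← h1]
    rfl
  · have h1 := hg ⟨(y : G), hyA⟩
    rw [← hey, hφ] at h1
    simp only [tY, mul_zero, add_zero] at h1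
    rw [hey] at h1
    exact h1.symm
  · intro x hx
    obtain ⟨w, hw⟩ := e.surjective ⟨x, hx⟩
    obtain ⟨w, rfl⟩ : ∃ w' : ZMod p × ZMod p, Multiplicative.ofAdd w' = w := ⟨_, rfl⟩
    refine ⟨w.1, w.2, ?_⟩
    have h1 := congrArg Subtype.val hw
    rw [he] at h1
    exact h1.symm

end SL

end Cfsg.Agent.Lib.H15.Xsp
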